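import Groth.Agent.BorelLib.BaseChange

/-!
# Maximal tori over an algebraically closed field
-/

set_option autoImplicit false
set_option linter.style.haveILetI false
set_option linter.unusedSectionVars false
set_option backward.isDefEq.respectTransparency false

universe u

open CategoryTheory CategoryTheory.Limits MonoidalCategory CartesianMonoidalCategory AlgebraicGeometry
open scoped MonObj

noncomputable section

attribute [-instance] CategoryTheory.Hom.commGroup

namespace Groth.Agent.BorelLib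

section bcId

variable {S : Scheme.{u}} (G : Over S) [GrpObj G]

/-- Base change along the identity. -/
def bcIdHom : Red.bc (𝟙 S) G ⟶ G :=
  Over.homMk (pullback.fst G.hom (𝟙 S)) (by
    show pullback.fst G.hom (𝟙 S) ≫ G.hom = pullback.snd G.hom (𝟙 S)
    rw [pullback.condition, Category.comp_id])

lemma bcIdHom_naturality {H : Over S} (φ : H ⟶ G) :
    (Over.pullback (𝟙 S)).map φ ≫ bcIdHom G =
      (Over.homMk (pullback.fst H.hom (𝟙 S)) (by
        show pullback.fst H.hom (𝟙 S) ≫ H.hom = pullback.snd H.hom (𝟙 S)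
        rw [pullback.condition, Category.comp_id]) : Red.bc (𝟙 S) H ⟶ H) ≫ φ :=
  Over.OverMorphism.ext (pullback.lift_fst _ _ _)

instance isIso_bcIdHom : IsIso (bcIdHom G) := by
  haveI : IsIso (bcIdHom G).left := inferInstanceAs (IsIso (pullback.fst G.hom (𝟙 S)))
  haveI : IsIso ((Over.forget S).map (bcIdHom G)) := ‹IsIso (bcIdHom G).left›
  exact isIso_of_reflects_iso (bcIdHom G) (Over.forget S)

instance isMonHom_bcIdHom : IsMonHom (bcIdHom G) := by
  have key : ∀ {X₀ : Over S} (a b : X₀ ⟶ Red.bc (𝟙 S) G),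
      (a * b) ≫ bcIdHom G = (a ≫ bcIdHom G) * (b ≫ bcIdHom G) := by
    intro X₀ a b
    let e : X₀ ⟶ (Over.map (𝟙 S)).obj X₀ := Over.homMk (𝟙 _) (by
      show 𝟙 _ ≫ X₀.hom ≫ 𝟙 S = X₀.hom
      rw [Category.id_comp, Category.comp_id])
    have h : ∀ c : X₀ ⟶ Red.bc (𝟙 S) G, c ≫ bcIdHom G = e ≫ (PowEtCentralLib.adjEquiv (𝟙 S) X₀).symm c := by
      intro c
      refine Over.OverMorphism.ext ?_
      show c.left ≫ pullback.fst G.hom (𝟙 S) = 𝟙 _ ≫ _
      rw [Category.id_comp]
      simp [PowEtCentralLib.adjEquiv, Over.mapPullbackAdj]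
    rw [h, h, h, map_mul, MonObj.comp_mul]
  refine { one_hom := ?_, mul_hom := ?_ }
  · have h1 : ((1 : 𝟙_ (Over S) ⟶ Red.bc (𝟙 S) G) ≫ bcIdHom G) = 1 := by
      have := key (1 : 𝟙_ (Over S) ⟶ Red.bc (𝟙 S) G) 1
      rw [_root_.mul_one] at this
      exact mul_left_cancel (this.symm.trans (_root_.mul_one _).symm)
    simpa [Hom.one_def] using h1
  · have := key (fst (Red.bc (𝟙 S) G) (Red.bc (𝟙 S) G)) (snd (Red.bc (𝟙 S) G) (Red.bc (𝟙 S) G))
    rw [show μ[Red.bc (𝟙 S) G] = fst (Red.bc (𝟙 S) G) (Red.bc (𝟙 S) G) * snd (Red.bc (𝟙 S) G) (Red.bc (𝟙 S) G) by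
        rw [Hom.mul_def, lift_fst_snd, Category.id_comp], this, Hom.mul_def]
    congr 1

end bcId

section isoBase

variable {S S' : Scheme.{u}} (t : S' ⟶ S) [IsIso t]

/-- Base change along an isomorphism reflects isomorphisms. -/
theorem isIso_of_isIso_bc {X Y : Over S} (f : X ⟶ Y) [IsIso ((Over.pullback t).map f)] : IsIso f := by
  haveI : IsIso ((Over.pullback t).map f).left := (Over.forget _).map_isIso ((Over.pullback t).map f)
  have h : ((Over.pullback t).map f).left ≫ pullback.fst Y.hom t = pullback.fst X.hom t ≫ f.left :=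
    pullback.lift_fst _ _ _
  haveI : IsIso f.left := by
    haveI : IsIso (pullback.fst X.hom t ≫ f.left) := h ▸ inferInstance
    exact IsIso.of_isIso_comp_left (pullback.fst X.hom t) f.left
  haveI : IsIso ((Over.forget S).map f) := ‹IsIso f.left›
  exact isIso_of_reflects_iso f (Over.forget S)

end isoBase

variable {k : Type u} [Field k] [IsAlgClosed k]

/-- The geometric point of an algebraically closed field is an isomorphism. -/
theorem isIso_geomPt (s : (Spec (CommRingCat.of k) : Scheme.{u})) : IsIso (Red.geomPt s) := by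
  haveI : Subsingleton ↥(Spec (CommRingCat.of k)) := inferInstanceAs (Subsingleton (PrimeSpectrum k))
  haveI : IsAlgClosed ((Spec (CommRingCat.of k)).residueField s) := by
    let e := residueFieldIsoBase (𝟙 (Spec (CommRingCat.of k))) s (isClosed_discrete _)
    exact IsAlgClosed.of_ringEquiv _ _ e.commRingCatIsoToRingEquiv.symm
  have h1 : IsIso ((Spec (CommRingCat.of k)).fromSpecResidueField s) := by
    haveI : IsIso (Spec.map (residueFieldIsoBase (𝟙 (Spec (CommRingCat.of k))) s (isClosed_discrete _)).inv) :=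
      inferInstance
    rwa [SpecMap_residueFieldIsoBase_inv, Category.comp_id] at this
  have h2 : IsIso (CommRingCat.ofHom (algebraMap ((Spec (CommRingCat.of k)).residueField s)
      (AlgebraicClosure ((Spec (CommRingCat.of k)).residueField s)))) :=
    (ConcreteCategory.isIso_iff_bijective _).2 IsAlgClosed.algebraMap_bijective_of_isIntegral
  haveI := h1; haveI := h2
  unfold Red.geomPt
  infer_instance

variable {G T : Over (Spec (CommRingCat.of k))} [GrpObj G] [GrpObj T] {iT : T ⟶ G}

/-- A maximal torus is maximal among subtori over the field. -/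
theorem isMaxTorus_of_isMaximalTorus (hT : Red.IsMaximalTorus iT) : AGF.IsMaxTorus iT := by
  obtain ⟨h1, h2, h3, h4⟩ := hT
  refine ⟨h1, h2, h3, fun T' _ j _ _ f hT' hf => ?_⟩
  let s : ↥(Spec (CommRingCat.of k)) := IsLocalRing.closedPoint k
  haveI := isIso_geomPt s
  haveI := DiagRep.isMonHom_bc_map (Red.geomPt s) j
  haveI := mono_bc (Red.geomPt s) j
  haveI := h4 s _ ((Over.pullback (Red.geomPt s)).map j) ((Over.pullback (Red.geomPt s)).map f)
    (RedRank.isTorus_bc hT' _) (by rw [← Functor.map_comp, hf])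
  exact isIso_of_isIso_bc (Red.geomPt s) f

/-- A torus maximal among subtori over an algebraically closed field is a maximal torus. -/
theorem isMaximalTorus_of_isMaxTorus (hT : AGF.IsMaxTorus iT) : Red.IsMaximalTorus iT := by
  obtain ⟨h1, h2, h3, h4⟩ := hT
  refine ⟨h1, h2, h3, fun s T₀ _ j₀ _ _ f₀ hT₀ hf => ?_⟩
  haveI := isIso_geomPt s
  let t := Red.geomPt s
  let q := CategoryTheory.inv t
  have hq : q ≫ t = 𝟙 _ := IsIso.inv_hom_id t
  let c : ∀ (X : Over (Spec (CommRingCat.of k))) [GrpObj X], Red.bc q (Red.bc t X) ⟶ X := fun X _ =>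
    (ActBC.bcCompIso q t X hq).hom ≫ bcIdHom X
  haveI := DiagRep.isMonHom_bc_map q j₀
  haveI := mono_bc q j₀
  let j' : Red.bc q T₀ ⟶ G := (Over.pullback q).map j₀ ≫ c G
  haveI hm : IsMonHom j' := by
    show IsMonHom ((Over.pullback q).map j₀ ≫ (ActBC.bcCompIso q t G hq).hom ≫ bcIdHom G)
    infer_instance
  haveI : Mono j' := by
    haveI : IsIso (c G) := inferInstanceAs (IsIso ((ActBC.bcCompIso q t G hq).hom ≫ bcIdHom G))
    exact mono_comp _ _
  haveI : IsIso (c T) := inferInstanceAs (IsIso ((ActBC.bcCompIso q t T hq).hom ≫ bcIdHom T))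
  let f' : T ⟶ Red.bc q T₀ := CategoryTheory.inv (c T) ≫ (Over.pullback q).map f₀
  haveI := h4 (Red.bc q T₀) j' f' (RedRank.isTorus_bc hT₀ q) (by
    rw [Category.assoc, IsIso.inv_comp_eq]
    show (Over.pullback q).map f₀ ≫ (Over.pullback q).map j₀ ≫ c G = _
    rw [← Category.assoc, ← Functor.map_comp, hf]
    show (Over.pullback q).map ((Over.pullback t).map iT) ≫ (ActBC.bcCompIso q t G hq).hom ≫ bcIdHom G =
      ((ActBC.bcCompIso q t T hq).hom ≫ bcIdHom T) ≫ iT
    rw [ActBC.bcCompIso_hom_naturality_assoc, Category.assoc, bcIdHom_naturality]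
    rfl)
  haveI : IsIso ((Over.pullback q).map f₀) := by
    have e : (Over.pullback q).map f₀ = c T ≫ f' := (IsIso.hom_inv_id_assoc _ _).symm
    rw [e]; exact IsIso.comp_isIso
  exact isIso_of_isIso_bc q f₀

end Groth.Agent.BorelLib

end
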