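import Groth.Agent.BorelLib.Finite
import Groth.Agent.BorelLib.MaxTorGeom
import Groth.Agent.SemiAbLib.SemiDescent

/-!
# Borel pairs over a finite field
-/

set_option autoImplicit false
set_option linter.style.haveILetI false
set_option linter.unusedSectionVars false
set_option backward.isDefEq.respectTransparency false
set_option synthInstance.maxHeartbeats 400000
set_option maxHeartbeats 1000000

universe u

open CategoryTheory CategoryTheory.Limits MonoidalCategory CartesianMonoidalCategory AlgebraicGeometry WithConv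
open scoped MonObj commutatorElement
open CoactBr (sp)

noncomputable section

attribute [-instance] CategoryTheory.Hom.commGroup

namespace Groth.Agent.BorelLib

attribute [local instance] pTop pTopTensor

section auto

variable {k : Type u} [Field k] [IsAlgClosed k] {A : Type u} [CommRing A] [HopfAlgebra k A] [Algebra.FiniteType k A]
  (e : Pt k A ≃* Pt k A) (he : Continuous e) (he' : Continuous e.symm)

omit [IsAlgClosed k] [Algebra.FiniteType k A] in
lemma isClosed_map_auto (he' : Continuous e.symm) {S : Subgroup (Pt k A)} (hS : IsClosed (S : Set (Pt k A))) :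
    IsClosed (S.map e.toMonoidHom : Set (Pt k A)) := by
  have h : (S.map e.toMonoidHom : Set (Pt k A)) = e.symm ⁻¹' (S : Set (Pt k A)) := by
    ext x
    constructor
    · rintro ⟨y, hy, rfl⟩
      show e.symm (e y) ∈ S
      rwa [e.symm_apply_apply]
    · intro hx
      exact ⟨e.symm x, hx, e.apply_symm_apply x⟩
  rw [h]
  exact hS.preimage he'

omit [IsAlgClosed k] [Algebra.FiniteType k A] in
lemma isPreconnected_map_auto (he : Continuous e) {S : Subgroup (Pt k A)}
    (hS : _root_.IsPreconnected (S : Set (Pt k A))) :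
    _root_.IsPreconnected (S.map e.toMonoidHom : Set (Pt k A)) := by
  rw [Subgroup.coe_map]
  exact hS.image _ he.continuousOn

omit [IsAlgClosed k] [Algebra.FiniteType k A] in
lemma map_symm_map (S : Subgroup (Pt k A)) : (S.map e.toMonoidHom).map e.symm.toMonoidHom = S := by
  rw [Subgroup.map_map]
  convert Subgroup.map_id S
  exact MonoidHom.ext fun x => e.symm_apply_apply x

omit [Algebra.FiniteType k A] in
lemma IsSol.map_auto {S : Subgroup (Pt k A)} (hS : IsSol S) : IsSol (S.map e.toMonoidHom) := by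
  have h := hS.comap (f := e.symm.toMonoidHom) e.symm.injective
  convert h using 1
  exact Subgroup.map_equiv_eq_comap_symm e S

/-- Borel subgroups are preserved by bicontinuous automorphisms. -/
theorem IsBor.map_auto (he : Continuous e) (he' : Continuous e.symm) {B : Subgroup (Pt k A)} (hB : IsBor ⊤ B) :
    IsBor ⊤ (B.map e.toMonoidHom) := by
  refine ⟨le_top, isClosed_map_auto e he' hB.closed, isPreconnected_map_auto e he hB.conn, hB.sol.map_auto e,
    fun H _ hc hp hs hle => ?_⟩
  have h := hB.maximal (H.map e.symm.toMonoidHom) le_top (isClosed_map_auto e.symm he hc)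
    (isPreconnected_map_auto e.symm he' hp) (hs.map_auto e.symm)
    (by rw [← map_symm_map e B]; exact Subgroup.map_mono hle)
  rw [← h]
  exact (map_symm_map e.symm H).symm

omit [Algebra.FiniteType k A] in
/-- Tori are preserved by bicontinuous automorphisms. -/
theorem IsTor.map_auto (he : Continuous e) (he' : Continuous e.symm) {T : Subgroup (Pt k A)} (hT : IsTor T) :
    IsTor (T.map e.toMonoidHom) := by
  refine ⟨isClosed_map_auto e he' hT.closed, isPreconnected_map_auto e he hT.conn, ?_, ?_⟩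
  · rintro _ ⟨a, ha, rfl⟩ _ ⟨b, hb, rfl⟩
    rw [← map_mul, hT.comm a ha b hb, map_mul]
  · rintro _ ⟨a, ha, rfl⟩
    refine closure_mono ?_ (image_closure_subset_closure_image he ⟨a, hT.dense ha, rfl⟩)
    rintro _ ⟨x, ⟨hx, m, hm, hxm⟩, rfl⟩
    exact ⟨⟨x, hx, rfl⟩, m, hm, by rw [← map_pow, hxm, map_one]⟩

/-- Maximal tori are preserved by bicontinuous automorphisms. -/
theorem IsMaxTor.map_auto (he : Continuous e) (he' : Continuous e.symm) {T : Subgroup (Pt k A)}
    (hT : IsMaxTor ⊤ T) : IsMaxTor ⊤ (T.map e.toMonoidHom) := by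
  refine ⟨le_top, hT.tor.map_auto e he he', fun T' _ hT' hle => ?_⟩
  have h := hT.maximal (T'.map e.symm.toMonoidHom) le_top (hT'.map_auto e.symm he' he)
    (by rw [← map_symm_map e T]; exact Subgroup.map_mono hle)
  rw [← h]
  exact (map_symm_map e.symm T').symm

variable {B T : Subgroup (Pt k A)}

/-- Two pairs of a Borel subgroup and a maximal torus in it are conjugate. -/
theorem exists_conj_pair (hconn : _root_.IsPreconnected (Set.univ : Set (Pt k A))) {B' T' : Subgroup (Pt k A)}
    (hB : IsBor ⊤ B) (hT : IsMaxTor ⊤ T) (hTB : T ≤ B) (hB' : IsBor ⊤ B') (hT' : IsMaxTor ⊤ T') (hTB' : T' ≤ B') :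
    ∃ w : Pt k A, conjSub w B = B' ∧ conjSub w T = T' := by
  have hKc : IsClosed ((⊤ : Subgroup (Pt k A)) : Set (Pt k A)) := by rw [Subgroup.coe_top]; exact isClosed_univ
  have hK : _root_.IsPreconnected ((⊤ : Subgroup (Pt k A)) : Set (Pt k A)) := by rwa [Subgroup.coe_top]
  obtain ⟨a, -, ha⟩ := hB.exists_conj hKc hK hB'
  have h1 : conjSub a T ≤ B' := ha ▸ conjSub_mono hTB
  have hm : IsMaxTor B' T' := ⟨hTB', hT'.tor, fun S _ hS hle => hT'.maximal S le_top hS hle⟩
  obtain ⟨b, hb, hle⟩ := hm.exists_conj_le hB'.closed hB'.conn h1 (hT.tor.conjSub a)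
  refine ⟨b * a, by rw [← conjSub_conjSub, ha, conjSub_eq_self hb], ?_⟩
  rw [conjSub_conjSub] at hle
  refine le_antisymm hle ?_
  have h2 := hT.maximal (conjSub (b * a)⁻¹ T') le_top (hT'.tor.conjSub _) (by
    have := conjSub_mono (a := (b * a)⁻¹) hle
    rwa [conjSub_conjSub, inv_mul_cancel, conjSub_one] at this)
  rw [← h2, conjSub_conjSub, mul_inv_cancel, conjSub_one]

/-- An element normalising a Borel subgroup and a torus in it centralises the torus. -/
theorem mem_centralizer_of_normalizes (hconn : _root_.IsPreconnected (Set.univ : Set (Pt k A))) (hB : IsBor ⊤ B)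
    (hT : IsTor T) (hTB : T ≤ B) {x : Pt k A} (hxB : conjSub x B = B) (hxT : conjSub x T = T) :
    x ∈ Subgroup.centralizer (T : Set (Pt k A)) := by
  have hKc : IsClosed ((⊤ : Subgroup (Pt k A)) : Set (Pt k A)) := by rw [Subgroup.coe_top]; exact isClosed_univ
  have hK : _root_.IsPreconnected ((⊤ : Subgroup (Pt k A)) : Set (Pt k A)) := by rwa [Subgroup.coe_top]
  have hx : x ∈ B := hB.mem_of_normalizing hKc hK (Subgroup.mem_top x) hxB
  obtain ⟨V, _, _, _, r, -⟩ := exists_faithful (k := k) (A := A)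
  obtain ⟨D, -, hD⟩ := exists_flag_unip hB.conn hB.sol r
  rw [Subgroup.mem_centralizer_iff]
  intro s hs
  have hc : ⁅x, s⁆ ∈ D.U 1 := D.commutator_mem_U hx (hTB hs)
  have hmem : x * s * x⁻¹ ∈ T := by
    rw [← hxT, mem_conjSub]
    simpa [_root_.mul_assoc] using hs
  have h1 := hD T hT _ (T.mul_mem hmem (T.inv_mem hs)) (by rwa [commutatorElement_def] at hc)
  rw [mul_inv_eq_one, mul_inv_eq_iff_eq_mul] at h1
  exact h1.symm

end auto

namespace FF

variable {k : Type u} [Field k] [Finite k] {K : Type u} [Field K] [Algebra k K] [Algebra.IsAlgebraic k K]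
  [IsAlgClosed K] (t : Spec (CommRingCat.of K) ⟶ Spec (CommRingCat.of k))
  (ht : t = Spec.map (CommRingCat.ofHom (algebraMap k K)))
  {G : Over (Spec (CommRingCat.of k))} [GrpObj G]

/-- The morphism of the point given by an automorphism. -/
def autPt (τ : K ≃ₐ[k] K) : Over.mk t ⟶ Over.mk t :=
  Over.homMk (Spec.map (CommRingCat.ofHom τ.toAlgHom.toRingHom)) (by
    subst ht
    show Spec.map _ ≫ Spec.map _ = Spec.map _
    rw [← Spec.map_comp, ← CommRingCat.ofHom_comp]
    congr 2
    exact τ.toAlgHom.comp_algebraMap)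

omit [Finite k] in
theorem autPt_symm (τ : K ≃ₐ[k] K) : autPt t ht τ ≫ autPt t ht τ.symm = 𝟙 _ := by
  refine Over.OverMorphism.ext ?_
  show Spec.map _ ≫ Spec.map _ = 𝟙 _
  rw [← Spec.map_comp, ← Spec.map_id]
  congr 1
  exact CommRingCat.hom_ext (RingHom.ext fun x => τ.apply_symm_apply x)

/-- The semilinear action on the base change. -/
def semiMap (τ : K ≃ₐ[k] K) : pullback G.hom t ⟶ pullback G.hom t :=
  pullback.lift (pullback.fst G.hom t) (pullback.snd G.hom t ≫ (autPt t ht τ).left) (by
    rw [Category.assoc, pullback.condition]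
    exact congrArg (pullback.snd G.hom t ≫ ·) (Over.w (autPt t ht τ)).symm)

omit [Finite k] in
theorem semiMap_pt (τ : K ≃ₐ[k] K) (a : Over.mk t ⟶ G) :
    semiMap t ht τ.symm ((ptK t G a).left (IsLocalRing.closedPoint K)) =
      (ptK t G (autPt t ht τ ≫ a)).left (IsLocalRing.closedPoint K) := by
  have h : (autPt t ht τ).left ≫ (ptK t G a).left ≫ semiMap t ht τ.symm =
      (ptK t G (autPt t ht τ ≫ a)).left := by
    refine pullback.hom_ext ?_ ?_
    · rw [ptK_left_fst, Category.assoc, Category.assoc, semiMap, pullback.lift_fst, ptK_left_fst]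
      rfl
    · have hs : ∀ b : Over.mk t ⟶ G, (ptK t G b).left ≫ pullback.snd G.hom t = 𝟙 (Spec (CommRingCat.of K)) :=
        fun b => Over.w (ptK t G b)
      rw [hs, Category.assoc, Category.assoc, semiMap, pullback.lift_snd, ← Category.assoc (ptK t G a).left, hs]
      exact congrArg (fun m : Over.mk t ⟶ Over.mk t => CommaMorphism.left m) (autPt_symm t ht τ)
  have h1 := congrArg (fun m : Spec (CommRingCat.of K) ⟶ pullback G.hom t => m (IsLocalRing.closedPoint K)) h
  refine Eq.trans ?_ h1
  show _ = semiMap t ht τ.symm ((ptK t G a).left ((autPt t ht τ).left (IsLocalRing.closedPoint K)))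
  exact congrArg _ (congrArg _ (Subsingleton.elim (α := PrimeSpectrum K) _ _))

variable {A : Type u} [CommRing A] [HopfAlgebra K A] [Algebra.FiniteType K A] (v : sp K A ≅ Red.bc t G)
  [IsMonHom v.hom]

/-- Geometric points as algebra points. -/
def toPt : (Over.mk t ⟶ G) ≃* Pt K A := (ptK t G).trans (ptEquiv v).symm

omit [Finite k] [Algebra.IsAlgebraic k K] in
theorem ptEquiv_toPt (a : Over.mk t ⟶ G) : ptEquiv v (toPt t v a) = ptK t G a := (ptEquiv v).apply_symm_apply _

/-- An automorphism acting on geometric points. -/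
def autEquiv (τ : K ≃ₐ[k] K) : (Over.mk t ⟶ G) ≃* (Over.mk t ⟶ G) where
  toFun a := autPt t ht τ ≫ a
  invFun a := autPt t ht τ.symm ≫ a
  left_inv a := by
    show autPt t ht τ.symm ≫ autPt t ht τ ≫ a = a
    rw [← Category.assoc, show autPt t ht τ.symm ≫ autPt t ht τ = 𝟙 _ from autPt_symm t ht τ.symm, Category.id_comp]
  right_inv a := by
    show autPt t ht τ ≫ autPt t ht τ.symm ≫ a = a
    rw [← Category.assoc, autPt_symm, Category.id_comp]
  map_mul' a b := MonObj.comp_mul _ a b

/-- An automorphism acting on algebra points. -/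
def galPt (τ : K ≃ₐ[k] K) : Pt K A ≃* Pt K A :=
  ((toPt t v).symm.trans (autEquiv t ht τ)).trans (toPt t v)

omit [Finite k] in
theorem galPt_toPt (τ : K ≃ₐ[k] K) (a : Over.mk t ⟶ G) :
    galPt t ht v τ (toPt t v a) = toPt t v (autPt t ht τ ≫ a) := by
  simp only [galPt, MulEquiv.trans_apply, MulEquiv.symm_apply_apply]
  rfl

omit [Finite k] in
theorem galPt_symm (τ : K ≃ₐ[k] K) (x : Pt K A) : (galPt t ht v τ).symm x = galPt t ht v τ.symm x := by
  rw [MulEquiv.symm_apply_eq]
  obtain ⟨a, rfl⟩ := (toPt t v).surjective x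
  rw [galPt_toPt, galPt_toPt, ← Category.assoc, autPt_symm, Category.id_comp]

omit [Finite k] in
theorem hom_toP (a : Over.mk t ⟶ G) :
    v.hom.left (toP (toPt t v a)) = (ptK t G a).left (IsLocalRing.closedPoint K) := by
  rw [← pt_ptEquiv, ptEquiv_toPt]
  rfl

omit [Finite k] in
theorem continuous_galPt (τ : K ≃ₐ[k] K) : Continuous (galPt t ht v τ) := by
  have hind : Topology.IsInducing (v.hom.left : _ → _) :=
    (TopCat.homeoOfIso (Scheme.forgetToTop.mapIso ((Over.forget _).mapIso v))).isInducing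
  rw [(hind.comp isInducing_toP).continuous_iff]
  have e : (fun x => v.hom.left (toP (galPt t ht v τ x))) =
      fun x => semiMap t ht τ.symm (v.hom.left (toP x)) := funext fun x => by
    obtain ⟨a, rfl⟩ := (toPt t v).surjective x
    rw [galPt_toPt, hom_toP, hom_toP]
    exact (semiMap_pt t ht τ a).symm
  show Continuous (fun x => v.hom.left (toP (galPt t ht v τ x)))
  rw [e]
  exact (semiMap t ht τ.symm).continuous.comp (v.hom.left.continuous.comp isInducing_toP.continuous)

omit [Finite k] in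
theorem continuous_galPt_symm (τ : K ≃ₐ[k] K) : Continuous (galPt t ht v τ).symm := by
  rw [show ((galPt t ht v τ).symm : Pt K A → Pt K A) = galPt t ht v τ.symm from funext (galPt_symm t ht v τ)]
  exact continuous_galPt t ht v τ.symm

omit [IsAlgClosed K] in
/-- The Frobenius automorphism. -/
theorem exists_frobAut : ∃ τ : K ≃ₐ[k] K, autPt t ht τ = sigma t ht := by
  haveI := Fintype.ofFinite k
  refine ⟨AlgEquiv.ofBijective (frobA k K) (Algebra.IsAlgebraic.algHom_bijective _), ?_⟩
  rfl

theorem sigma_galPt (τ : K ≃ₐ[k] K) (hτ : autPt t ht τ = sigma t ht) (x : Pt K A) :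
    toPt t v (sigma t ht ≫ (toPt t v).symm x) = galPt t ht v τ x := by
  conv_rhs => rw [← (toPt t v).apply_symm_apply x, galPt_toPt, hτ]

omit [Finite k] [Algebra.IsAlgebraic k K] [IsAlgClosed K] in
theorem isClosedImmersion_map {H : Over (Spec (CommRingCat.of k))} (j : H ⟶ G) [IsClosedImmersion j.left] :
    IsClosedImmersion ((Over.pullback t).map j).left := isClosedImmersion_bc t j

omit [Finite k] [Algebra.IsAlgebraic k K] in
/-- Membership in the points of a subgroup defined over the finite field. -/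
theorem mem_ptsSub_bc {H : Over (Spec (CommRingCat.of k))} [GrpObj H] (j : H ⟶ G) [IsMonHom j]
    (a : Over.mk t ⟶ G) :
    haveI := DiagRep.isMonHom_bc_map t j
    toPt t v a ∈ ptsSub v ((Over.pullback t).map j) ↔ ∃ b : Over.mk t ⟶ H, b ≫ j = a := by
  haveI := DiagRep.isMonHom_bc_map t j
  rw [mem_ptsSub, ptEquiv_toPt]
  constructor
  · rintro ⟨b, hb⟩
    obtain ⟨b, rfl⟩ := (ptK t H).surjective b
    rw [ptK_comp, EquivLike.apply_eq_iff_eq] at hb
    exact ⟨b, hb⟩
  · rintro ⟨b, hb⟩
    exact ⟨ptK t H b, by rw [ptK_comp, hb]⟩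

variable [IsAffine G.left] [Smooth G.hom]

/-- A closed subgroup of points stable under the Frobenius is defined over the finite field. -/
theorem exists_descent_pts {S : Subgroup (Pt K A)} (hS : IsClosed (S : Set (Pt K A)))
    (hst : ∀ a : Over.mk t ⟶ G, toPt t v a ∈ S → toPt t v (sigma t ht ≫ a) ∈ S) :
    ∃ (H : Over (Spec (CommRingCat.of k))) (_ : GrpObj H) (j : H ⟶ G) (_ : IsMonHom j),
      IsClosedImmersion j.left ∧ Smooth H.hom ∧
      (haveI := DiagRep.isMonHom_bc_map t j; ptsSub v ((Over.pullback t).map j) = S) := by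
  haveI : IsAffineHom (Red.bc t G).hom := MorphismProperty.pullback_snd (P := @IsAffineHom) _ _ inferInstance
  haveI : QuasiCompact (Red.bc t G).hom := inferInstance
  haveI : Smooth (Red.bc t G).hom := MorphismProperty.pullback_snd (P := @Smooth) _ _ inferInstance
  obtain ⟨H₁, _, i, hi, hic, hsm, hpts, -, -⟩ := exists_scheme_sub v hS
  haveI := hi; haveI := hic; haveI := hsm
  haveI : AlgebraicGeometry.IsReduced H₁.left := AlgSpLib.isReduced_of_smooth H₁.hom
  have hmem : ∀ a, (∃ b, b ≫ i = ptK t G a) ↔ toPt t v a ∈ S := fun a => by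
    rw [← hpts, mem_ptsSub, ptEquiv_toPt]
  obtain ⟨H, _, j, hj, hjc, hjs, e, he⟩ := exists_descent t ht i fun a ha => (hmem _).2 (hst a ((hmem a).1 ha))
  haveI := hj
  haveI := DiagRep.isMonHom_bc_map t j
  refine ⟨H, inferInstance, j, hj, hjc, hjs, le_antisymm ?_ ?_⟩
  · rw [← hpts]; exact ptsSub_le_of_factor v he
  · rw [← hpts]
    exact ptsSub_le_of_factor v (f := e.inv) (by rw [← he, e.inv_hom_id_assoc])

/-- A Frobenius stable Borel pair. -/
theorem exists_stable_pair [ConnectedSpace G.left] (hconn : _root_.IsPreconnected (Set.univ : Set (Pt K A))) :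
    ∃ B T : Subgroup (Pt K A), IsBor ⊤ B ∧ IsMaxTor ⊤ T ∧ T ≤ B ∧
      (∀ a : Over.mk t ⟶ G, toPt t v a ∈ B → toPt t v (sigma t ht ≫ a) ∈ B) ∧
      ∀ a : Over.mk t ⟶ G, toPt t v a ∈ T → toPt t v (sigma t ht ≫ a) ∈ T := by
  have hKc : IsClosed ((⊤ : Subgroup (Pt K A)) : Set (Pt K A)) := by rw [Subgroup.coe_top]; exact isClosed_univ
  have hK : _root_.IsPreconnected ((⊤ : Subgroup (Pt K A)) : Set (Pt K A)) := by rwa [Subgroup.coe_top]
  obtain ⟨B₀, hB₀, -, -⟩ := IsBor.exists_conj_universal hKc hK
  obtain ⟨T₀, hT₀, -⟩ := exists_isMaxTor hKc hK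
  obtain ⟨g, -, hg⟩ := hB₀.exists_conj_le hKc hK le_top hT₀.tor.conn hT₀.tor.isSol
  have hBor : IsBor ⊤ (conjSub g⁻¹ B₀) := hB₀.conjSub (Subgroup.mem_top _)
  have hTB : T₀ ≤ conjSub g⁻¹ B₀ := by
    have := conjSub_mono (a := g⁻¹) hg
    rwa [conjSub_conjSub, inv_mul_cancel, conjSub_one] at this
  obtain ⟨τ, hτ⟩ := exists_frobAut t ht
  set e := galPt t ht v τ
  have he : Continuous e := continuous_galPt t ht v τ
  have he' : Continuous e.symm := continuous_galPt_symm t ht v τ
  obtain ⟨w, hwB, hwT⟩ := exists_conj_pair hconn (hBor.map_auto e he he') (hT₀.map_auto e he he')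
    (Subgroup.map_mono hTB) hBor hT₀ hTB
  obtain ⟨h, hh⟩ := exists_lang t ht ((toPt t v).symm w)
  set x := toPt t v h
  have hx : x * (e x)⁻¹ = w := by
    rw [← sigma_galPt t ht v τ hτ, MulEquiv.symm_apply_apply, ← map_inv, ← map_mul, hh, MulEquiv.apply_symm_apply]
  have key : ∀ S : Subgroup (Pt K A), conjSub w (S.map e.toMonoidHom) = S → ∀ a : Over.mk t ⟶ G,
      toPt t v a ∈ conjSub x⁻¹ S → toPt t v (sigma t ht ≫ a) ∈ conjSub x⁻¹ S := by
    intro S hS a ha
    rw [mem_conjSub, inv_inv] at ha ⊢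
    rw [← hS, mem_conjSub]
    refine ⟨_, ha, ?_⟩
    show e _ = _
    rw [show toPt t v (sigma t ht ≫ a) = e (toPt t v a) by rw [← hτ, galPt_toPt], map_mul, map_mul, map_inv, ← hx]
    group
  refine ⟨conjSub x⁻¹ (conjSub g⁻¹ B₀), conjSub x⁻¹ T₀, hBor.conjSub (Subgroup.mem_top _), ?_, conjSub_mono hTB,
    key _ hwB, key _ hwT⟩
  refine ⟨le_top, hT₀.tor.conjSub _, fun S _ hS hle => ?_⟩
  have h2 := hT₀.maximal (conjSub x S) le_top (hS.conjSub _) (by
    have := conjSub_mono (a := x) hle
    rwa [conjSub_conjSub, mul_inv_cancel, conjSub_one] at this)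
  rw [← h2, conjSub_conjSub, inv_mul_cancel, conjSub_one]

end FF

/-- The geometric point of a finite field. -/
theorem exists_geomPt_algebra {k : Type u} [Field k] (s : (Spec (CommRingCat.of k) : Scheme.{u})) :
    ∃ _ : Algebra k (AlgebraicClosure ((Spec (CommRingCat.of k)).residueField s)),
      Algebra.IsAlgebraic k (AlgebraicClosure ((Spec (CommRingCat.of k)).residueField s)) ∧
      Red.geomPt s = Spec.map (CommRingCat.ofHom
        (algebraMap k (AlgebraicClosure ((Spec (CommRingCat.of k)).residueField s)))) := by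
  haveI : Subsingleton ↥(Spec (CommRingCat.of k)) := inferInstanceAs (Subsingleton (PrimeSpectrum k))
  have h1 : IsIso ((Spec (CommRingCat.of k)).fromSpecResidueField s) := by
    haveI : IsClosedImmersion ((Spec (CommRingCat.of k)).fromSpecResidueField s) := by
      rw [IsClosedImmersion.iff_isPreimmersion]
      exact ⟨inferInstance, isClosed_discrete _⟩
    haveI : Surjective ((Spec (CommRingCat.of k)).fromSpecResidueField s) :=
      ⟨fun y => ⟨IsLocalRing.closedPoint _, Subsingleton.elim _ _⟩⟩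
    exact isIso_of_isClosedImmersion_of_surjective _
  obtain ⟨g, hg⟩ := Spec.map_surjective ((Spec (CommRingCat.of k)).fromSpecResidueField s)
  haveI : IsIso (Spec.map g) := hg ▸ h1
  haveI : IsIso g := by
    haveI : IsIso (Scheme.Spec.map g.op) := inferInstanceAs (IsIso (Spec.map g))
    haveI := isIso_of_fully_faithful Scheme.Spec g.op
    exact isIso_of_op g
  have hbij := (ConcreteCategory.isIso_iff_bijective g).1 inferInstance
  letI : Algebra k ((Spec (CommRingCat.of k)).residueField s) := g.hom.toAlgebra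
  haveI : Module.Finite k ((Spec (CommRingCat.of k)).residueField s) :=
    Module.Finite.of_surjective (Algebra.linearMap k _) hbij.2
  refine ⟨inferInstance, Algebra.IsAlgebraic.trans k ((Spec (CommRingCat.of k)).residueField s)
    (AlgebraicClosure ((Spec (CommRingCat.of k)).residueField s)), ?_⟩
  show Spec.map _ ≫ _ = _
  rw [← hg, ← Spec.map_comp, IsScalarTower.algebraMap_eq k ((Spec (CommRingCat.of k)).residueField s)
    (AlgebraicClosure ((Spec (CommRingCat.of k)).residueField s))]
  rfl

end Groth.Agent.BorelLib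

end
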