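import Groth.Agent.BorelLib.Reductive
import Groth.Agent.BorelLib.FinitePairs
import Groth.Agent.ChevThmLib.PtSub
import Groth.Agent.SemiAbLib.SemiDescent

/-!
# Reductive group schemes and reductive groups of points
-/

set_option autoImplicit false
set_option linter.style.haveILetI false
set_option linter.unusedSectionVars false
set_option backward.isDefEq.respectTransparency false
set_option maxHeartbeats 1000000
set_option synthInstance.maxHeartbeats 400000

universe u

open CategoryTheory CategoryTheory.Limits MonoidalCategory CartesianMonoidalCategory AlgebraicGeometry WithConv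
open scoped MonObj commutatorElement
open CoactBr (sp)

noncomputable section

attribute [-instance] CategoryTheory.Hom.commGroup

namespace Groth.Agent.BorelLib

attribute [local instance] pTop pTopTensor

lemma isTrivialGrp_iff {S : Scheme.{u}} {H : Over S} [GrpObj H] :
    Red.IsTrivialGrp H ↔ toUnit H ≫ η[H] = 𝟙 H := by
  constructor
  · intro h
    haveI : IsIso H.hom := h
    exact Over.OverMorphism.ext ((cancel_mono H.hom).1 (by rw [Over.w, Over.w]))
  · intro h
    haveI : IsIso (toUnit H) := ⟨η[H], h, toUnit_unique _ _⟩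
    have e : (toUnit H).left = H.hom := Over.toUnit_left
    show IsIso H.hom
    rw [← e]
    exact (Over.forget _).map_isIso (toUnit H)

section closed

variable {k : Type u} [Field k] [IsAlgClosed k] {A : Type u} [CommRing A] [HopfAlgebra k A] [Algebra.FiniteType k A]
  {G : Over (Spec (CommRingCat.of k))} [GrpObj G] (v : sp k A ≅ G) [IsMonHom v.hom]
  {H : Over (Spec (CommRingCat.of k))} [GrpObj H] {i : H ⟶ G} [IsMonHom i]

lemma ptsSub_eq_bot [IsAffine G.left] [Smooth G.hom] [IsClosedImmersion i.left] [Smooth H.hom]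
    (h : ptsSub v i = ⊥) : Red.IsTrivialGrp H := by
  haveI : Mono i := DiagRep.mono_of_isClosedImmersion i inferInstance
  haveI : AlgebraicGeometry.IsReduced H.left := AlgSpLib.isReduced_of_smooth H.hom
  haveI : IsSeparated G.hom := inferInstance
  haveI : IsClosedImmersion (η[G] : 𝟙_ _ ⟶ G).left := by
    haveI : IsClosedImmersion ((η[G] : 𝟙_ _ ⟶ G).left ≫ G.hom) := by rw [Over.w]; exact inferInstanceAs (IsClosedImmersion (𝟙 _))
    exact IsClosedImmersion.of_comp _ G.hom
  obtain ⟨f, hf⟩ := NA.exists_factor_of_pts i (η[G] : 𝟙_ _ ⟶ G) fun a => ⟨𝟙 _, by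
    have hm : (ptEquiv v).symm (a ≫ i) ∈ ptsSub v i := ⟨a, ((ptEquiv v).apply_symm_apply _).symm⟩
    rw [h, Subgroup.mem_bot, ← (ptEquiv v).injective.eq_iff, (ptEquiv v).apply_symm_apply, map_one] at hm
    rw [Category.id_comp, hm]
    exact ChevThmLib.eta_eq_one⟩
  refine isTrivialGrp_iff.2 ((cancel_mono i).1 ?_)
  rw [Category.assoc, IsMonHom.one_hom, Category.id_comp, ← hf, toUnit_unique f (toUnit H)]

lemma ptsSub_of_trivial (h : Red.IsTrivialGrp H) : ptsSub v i = ⊥ := by
  refine le_bot_iff.1 ?_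
  rintro x ⟨b, hb⟩
  replace hb : b ≫ i = ptEquiv v x := hb
  have e := congrArg (fun w => b ≫ w) (isTrivialGrp_iff.1 h)
  simp only [Category.comp_id, ← Category.assoc] at e
  rw [toUnit_unique (b ≫ toUnit H) (𝟙 _), Category.id_comp] at e
  apply Subgroup.mem_bot.2
  apply (ptEquiv v).injective
  rw [map_one, ← hb]
  show b ≫ i = 1
  rw [← e, IsMonHom.one_hom, ChevThmLib.eta_eq_one]

omit [Algebra.FiniteType k A] in
/-- The points of a normal subgroup scheme are normalised. -/
lemma conjSub_le_of_normal (hn : AlgGrp.IsNormalHom i) (g : Pt k A) : conjSub g (ptsSub v i) ≤ ptsSub v i := by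
  rintro _ ⟨x, ⟨b, hb⟩, rfl⟩
  replace hb : b ≫ i = ptEquiv v x := hb
  obtain ⟨b', hb'⟩ := hn _ (ptEquiv v g) b
  refine ⟨b', ?_⟩
  show b' ≫ i = ptEquiv v (g * x * g⁻¹)
  rw [map_mul, map_mul, map_inv, ← hb, ← hb']

/-- Normality can be tested on points. -/
lemma isNormalHom_of_pts [IsAffine G.left] [Smooth G.hom] [IsClosedImmersion i.left] [Smooth H.hom]
    (hn : ∀ g, conjSub g (ptsSub v i) ≤ ptsSub v i) : AlgGrp.IsNormalHom i := by
  haveI : IsSeparated G.hom := inferInstance
  haveI : Smooth (G ⊗ H).hom := inferInstanceAs (Smooth (pullback.fst G.hom H.hom ≫ G.hom))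
  haveI : AlgebraicGeometry.IsReduced (G ⊗ H).left := AlgSpLib.isReduced_of_smooth (G ⊗ H).hom
  obtain ⟨f, hf⟩ := NA.exists_factor_of_pts (fst G H * (snd G H ≫ i) * (fst G H)⁻¹) i fun o => by
    have hx : (ptEquiv v).symm ((o ≫ snd G H) ≫ i) ∈ ptsSub v i :=
      ⟨_, ((ptEquiv v).apply_symm_apply _).symm⟩
    obtain ⟨b, hb⟩ := hn ((ptEquiv v).symm (o ≫ fst G H)) ⟨_, hx, rfl⟩
    refine ⟨b, hb.trans ?_⟩
    show ptEquiv v (_ * _ * _) = _
    rw [map_mul, map_mul, map_inv, (ptEquiv v).apply_symm_apply, (ptEquiv v).apply_symm_apply,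
      MonObj.comp_mul, MonObj.comp_mul, GrpObj.comp_inv, Category.assoc]
  intro T g n
  refine ⟨lift g n ≫ f, ?_⟩
  rw [Category.assoc, hf, MonObj.comp_mul, MonObj.comp_mul, GrpObj.comp_inv, lift_fst, ← Category.assoc, lift_snd]

include v in
lemma isPreconnected_top' [PreconnectedSpace G.left] : _root_.IsPreconnected (Set.univ : Set (Pt k A)) :=
  isPreconnected_univ_of_connected v

variable {C : Over (Spec (CommRingCat.of k))} [GrpObj C] (c : C ⟶ G) [IsMonHom c]

/-- A subgroup scheme is reductive as soon as its group of points is. -/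
theorem isReductiveOver_of_isRedSub [IsAffine G.left] [Smooth G.hom] [IsClosedImmersion c.left] [Smooth C.hom]
    [ConnectedSpace C.left] (hred : IsRedSub (ptsSub v c)) : Red.IsReductiveOver k C := by
  refine ⟨isAffine_of_isAffineHom c.left, inferInstance, inferInstance, ?_⟩
  intro U _ j _ hj hs hconn hnorm hno
  haveI := hj; haveI := hs; haveI := hconn
  haveI : IsClosedImmersion (j ≫ c).left := by rw [Over.comp_left]; infer_instance
  haveI : Mono c := DiagRep.mono_of_isClosedImmersion c inferInstance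
  have hle : ptsSub v (j ≫ c) ≤ ptsSub v c := ptsSub_le_of_factor v (f := j) rfl
  have hn : ∀ g ∈ ptsSub v c, conjSub g (ptsSub v (j ≫ c)) ≤ ptsSub v (j ≫ c) := by
    rintro g ⟨g', hg⟩ _ ⟨x, ⟨b, hb⟩, rfl⟩
    replace hb : b ≫ j ≫ c = ptEquiv v x := hb
    replace hg : g' ≫ c = ptEquiv v g := hg
    obtain ⟨b', hb'⟩ := hnorm _ g' b
    refine ⟨b', ?_⟩
    show b' ≫ j ≫ c = ptEquiv v (g * x * g⁻¹)
    rw [map_mul, map_mul, map_inv, ← hb, ← hg, ← Category.assoc, ← hb', MonObj.mul_comp, MonObj.mul_comp,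
      GrpObj.inv_comp, Category.assoc]
  refine ptsSub_eq_bot v (i := j ≫ c) (hred _ hle (isClosed_ptsSub v) (isPreconnected_ptsSub v) hn ?_)
  refine (uni_of_noTor (isClosed_ptsSub v) (isPreconnected_ptsSub v) fun S hS hT => ?_).2
  obtain ⟨T, _, iT, hi, hm, hcl, hTT, hi', hpts⟩ := exists_torus_sub v hT
  haveI := hi; haveI := hm; haveI := hcl
  obtain ⟨-, hTr⟩ := facts_torus v (iT := iT) inferInstance hTT
  haveI := hTr
  haveI : LocallyOfFiniteType T.hom := by rw [← Over.w iT]; infer_instance
  obtain ⟨f, hf⟩ := NA.exists_factor_of_pts iT (j ≫ c) fun a => by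
    have hm : (ptEquiv v).symm (a ≫ iT) ∈ ptsSub v (j ≫ c) :=
      hS (hpts ▸ ⟨a, ((ptEquiv v).apply_symm_apply _).symm⟩)
    obtain ⟨b, hb⟩ := hm
    exact ⟨b, hb.trans ((ptEquiv v).apply_symm_apply _)⟩
  haveI : Mono (j ≫ c) := DiagRep.mono_of_isClosedImmersion _ inferInstance
  haveI : Mono f := mono_of_mono_fac hf
  haveI : IsMonHom f :=
    { one_hom := (cancel_mono (j ≫ c)).1 (by rw [Category.assoc, hf, IsMonHom.one_hom, IsMonHom.one_hom])
      mul_hom := (cancel_mono (j ≫ c)).1 (by
        rw [Category.assoc, hf, Category.assoc, IsMonHom.mul_hom, IsMonHom.mul_hom (f := j ≫ c), ← Category.assoc,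
          tensorHom_comp_tensorHom, hf]) }
  rw [← hpts]
  exact ptsSub_of_trivial v (hno T f hTT)

lemma isRedSub_top (h : IsRedPts k A) : IsRedSub (⊤ : Subgroup (Pt k A)) :=
  fun N _ hc hp hn hu => h N hc hp (fun g => hn g trivial) hu

lemma ptsSub_id : ptsSub v (𝟙 G) = ⊤ :=
  top_le_iff.1 fun x _ => ⟨ptEquiv v x, Category.comp_id (ptEquiv v x)⟩

include v

/-- A group scheme is reductive as soon as its group of points is. -/
theorem isReductiveOver_of_isRedPts [IsAffine G.left] [Smooth G.hom] [ConnectedSpace G.left] (h : IsRedPts k A) :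
    Red.IsReductiveOver k G := by
  haveI : IsClosedImmersion (𝟙 G : G ⟶ G).left := inferInstanceAs (IsClosedImmersion (𝟙 G.left))
  exact isReductiveOver_of_isRedSub v (𝟙 G) (by rw [ptsSub_id]; exact isRedSub_top h)

/-- The points of a reductive group scheme form a reductive group. -/
theorem isRedPts_of_isReductiveOver (h : Red.IsReductiveOver k G) : IsRedPts k A := by
  obtain ⟨ha, hs, hconn, hU⟩ := h
  haveI := ha; haveI := hs; haveI := hconn
  haveI : QuasiCompact G.hom := inferInstance
  intro N hc hp hn hu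
  obtain ⟨U, _, i, hi, hic, hsm, hpts, hUc, -⟩ := exists_scheme_sub v hc
  haveI := hi; haveI := hic; haveI := hsm
  haveI := hUc hp
  have htriv := hU U i hic hsm inferInstance (isNormalHom_of_pts v (hpts.symm ▸ hn)) fun T _ j _ _ hT => by
    haveI : Mono i := DiagRep.mono_of_isClosedImmersion i hic
    haveI := isClosedImmersion_of_torus v (j ≫ i) hT
    obtain ⟨r, w, -, -, -, -, hl, haf⟩ := torus_facts hT
    haveI : Smooth T.hom := by
      obtain ⟨hsm', -⟩ := AlbLib.smooth_connected_of_isTorus hT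
      exact hsm'
    refine ptsSub_eq_bot v (i := j ≫ i) (eq_bot_of_uni (isTor_ptsSub v (j ≫ i) hT) fun u hu' => hu u ?_)
    rw [← hpts]
    exact ptsSub_le_of_factor v (f := j) rfl hu'
  rw [← hpts]
  exact ptsSub_of_trivial v htriv

/-- A semisimple group of points gives a semisimple group scheme. -/
theorem isSemisimpleOver_of_isSSPts [IsAffine G.left] [Smooth G.hom] [ConnectedSpace G.left] (h : IsSSPts k A) :
    Red.IsSemisimpleOver k G := by
  refine ⟨isReductiveOver_of_isRedPts v h.isRedPts, fun T _ i _ hi hn hT => ?_⟩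
  haveI := hi
  haveI : Mono i := DiagRep.mono_of_isClosedImmersion i hi
  haveI : LocallyOfFiniteType T.hom := by rw [← Over.w i]; infer_instance
  haveI : Smooth T.hom := (AlbLib.smooth_connected_of_isTorus hT).1
  have ht := isTor_ptsSub v i hT
  exact ptsSub_eq_bot v (h _ ht.closed ht.conn (conjSub_le_of_normal v hn) ht.isSol)

/-- The points of a semisimple group scheme form a semisimple group. -/
theorem isSSPts_of_isSemisimpleOver (h : Red.IsSemisimpleOver k G) : IsSSPts k A := by
  obtain ⟨hred, hT⟩ := h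
  obtain ⟨ha, hs, hconn, -⟩ := id hred
  haveI := ha; haveI := hs; haveI := hconn
  have hc := isPreconnected_top' v
  have htor := ((isRedPts_of_isReductiveOver v hred).radSub_central hc).1
  refine isSSPts_of_radSub hc ?_
  obtain ⟨T, _, iT, hi, hm, hcl, hTT, hi', hpts⟩ := exists_torus_sub v htor
  haveI := hi; haveI := hm; haveI := hcl
  haveI : LocallyOfFiniteType T.hom := by rw [← Over.w iT]; infer_instance
  haveI : Smooth T.hom := (AlbLib.smooth_connected_of_isTorus hTT).1
  rw [← hpts]
  exact ptsSub_of_trivial v (hT T iT hcl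
    (isNormalHom_of_pts v (hpts.symm ▸ (radSub_facts hc).2.2.2.1)) hTT)

end closed

section field

variable {S S' : Scheme.{u}} (t : S' ⟶ S) {G H : Over S} [GrpObj G] [GrpObj H]

/-- Normal subgroups stay normal after base change. -/
theorem isNormalHom_bc (i : H ⟶ G) (hn : AlgGrp.IsNormalHom i) :
    AlgGrp.IsNormalHom (N := Red.bc t H) (G := Red.bc t G) ((Over.pullback t).map i) := by
  intro X g₀ n₀
  obtain ⟨g, rfl⟩ := (PowEtCentralLib.adjEquiv t X).surjective g₀
  obtain ⟨n, rfl⟩ := ((Over.mapPullbackAdj t).homEquiv X H).surjective n₀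
  obtain ⟨n', hn'⟩ := hn _ g n
  have h2 : ∀ m, (Over.mapPullbackAdj t).homEquiv X H m ≫ (Over.pullback t).map i =
      PowEtCentralLib.adjEquiv t X (m ≫ i) := fun m =>
    (Adjunction.homEquiv_naturality_right (Over.mapPullbackAdj t) m i).symm
  exact ⟨(Over.mapPullbackAdj t).homEquiv X H n', by rw [h2, h2, ← map_inv, ← map_mul, ← map_mul, hn']⟩

variable {k : Type u} [Field k] (s : (Spec (CommRingCat.of k) : Scheme.{u}))
  {G : Over (Spec (CommRingCat.of k))} [GrpObj G]

theorem isReductive_iff : Red.IsReductive G ↔ IsAffineHom G.hom ∧ Smooth G.hom ∧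
    Red.IsReductiveOver (AlgebraicClosure ((Spec (CommRingCat.of k)).residueField s)) (Red.geomFibre s G) := by
  haveI : Subsingleton ↥(Spec (CommRingCat.of k)) := inferInstanceAs (Subsingleton (PrimeSpectrum k))
  exact ⟨fun h => ⟨h.1, h.2.1, h.2.2 s⟩,
    fun h => ⟨h.1, h.2.1, fun s' => by obtain rfl := Subsingleton.elim s s'; exact h.2.2⟩⟩

theorem isSemisimple_iff : Red.IsSemisimple G ↔ IsAffineHom G.hom ∧ Smooth G.hom ∧
    Red.IsSemisimpleOver (AlgebraicClosure ((Spec (CommRingCat.of k)).residueField s)) (Red.geomFibre s G) := by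
  haveI : Subsingleton ↥(Spec (CommRingCat.of k)) := inferInstanceAs (Subsingleton (PrimeSpectrum k))
  exact ⟨fun h => ⟨h.1, h.2.1, h.2.2 s⟩,
    fun h => ⟨h.1, h.2.1, fun s' => by obtain rfl := Subsingleton.elim s s'; exact h.2.2⟩⟩

/-- A reductive group over a field is affine, smooth and connected, with reductive points over the closure. -/
theorem reductive_data (hG : Red.IsReductive G) :
    IsAffine G.left ∧ Smooth G.hom ∧ ConnectedSpace G.left ∧
      ∃ (A : Type u) (_ : CommRing A)
        (_ : HopfAlgebra (AlgebraicClosure ((Spec (CommRingCat.of k)).residueField s)) A)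
        (v : sp (AlgebraicClosure ((Spec (CommRingCat.of k)).residueField s)) A ≅ Red.geomFibre s G),
        IsMonHom v.hom ∧ Algebra.FiniteType (AlgebraicClosure ((Spec (CommRingCat.of k)).residueField s)) A ∧
          _root_.IsReduced A ∧ IsRedPts (AlgebraicClosure ((Spec (CommRingCat.of k)).residueField s)) A := by
  obtain ⟨ha, hs, hred⟩ := (isReductive_iff s).1 hG
  haveI := ha; haveI := hs
  obtain ⟨haf, hsm, hconn, -⟩ := id hred
  haveI := haf; haveI := hsm
  obtain ⟨A, _, _, v, hv, hA, hA'⟩ := exists_setup (Red.geomFibre s G)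
  haveI := hv; haveI := hA
  exact ⟨isAffine_of_isAffineHom G.hom, hs, connectedSpace_of_geom s G hconn, A, inferInstance, inferInstance, v,
    hv, hA, hA', isRedPts_of_isReductiveOver v hred⟩

/-- Triviality descends from the geometric fibre. -/
theorem isTrivialGrp_of_geom {H : Over (Spec (CommRingCat.of k))}
    (h : Red.IsTrivialGrp (Red.geomFibre s H)) : Red.IsTrivialGrp H := by
  obtain ⟨_, -, ht⟩ := exists_geomPt_algebra s
  refine MorphismProperty.of_pullback_snd_of_descendsAlong (P := MorphismProperty.isomorphisms Scheme.{u})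
    (Q := @Surjective ⊓ @Flat ⊓ @QuasiCompact) (f := H.hom) (g := Red.geomPt s) ?_ h
  refine ⟨⟨surjective_geomPt s, ?_⟩, inferInstance⟩
  rw [ht]
  exact GrpField.flat_field _

/-- A group which is a torus over the geometric point is a torus. -/
theorem isTorus_of_geom {H : Over (Spec (CommRingCat.of k))} [GrpObj H] (h : Red.IsTorus (Red.geomFibre s H)) :
    Red.IsTorus H := by
  obtain ⟨_, -, ht⟩ := exists_geomPt_algebra s
  revert h
  unfold Red.geomFibre
  rw [ht]
  intro h
  let t := Spec.map (CommRingCat.ofHom (algebraMap k (AlgebraicClosure ((Spec (CommRingCat.of k)).residueField s))))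
  exact @SemiAbLib.isTorus_of_bc k _ _ _ _ _ _ _ (Red.bc t H) _ h (Iso.refl _)
    (inferInstanceAs (IsMonHom (𝟙 (Red.bc t H))))

end field

end Groth.Agent.BorelLib

end
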