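import Groth.Agent.BorelLib.TorScheme

/-!
# Maximal tori and their conjugacy
-/

set_option autoImplicit false
set_option linter.style.haveILetI false
set_option backward.isDefEq.respectTransparency false

universe u

open CategoryTheory CategoryTheory.Limits MonoidalCategory CartesianMonoidalCategory AlgebraicGeometry WithConv
open scoped MonObj
open CoactBr (sp)

noncomputable section

attribute [-instance] CategoryTheory.Hom.commGroup

namespace Groth.Agent.BorelLib

attribute [local instance] pTop pTopTensor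

variable {k : Type u} [Field k] [IsAlgClosed k]

lemma facts_conjBy {G H : Over (Spec (CommRingCat.of k))} [GrpObj G] [GrpObj H] (g : RPt G) (i : H ⟶ G) [IsMonHom i]
    [IsClosedImmersion i.left] : IsMonHom (AGF.conjBy g i) ∧ IsClosedImmersion (AGF.conjBy g i).left := by
  haveI := Groth.Agent.DiagRep.isMonHom_conjBy g
  haveI : IsIso (AGF.conjBy g (𝟙 G)).left := (Over.forget _).map_isIso (AGF.conjBy g (𝟙 G))
  rw [Groth.Agent.DiagRep.conjBy_eq_comp g i]
  exact ⟨inferInstance, by rw [Over.comp_left]; infer_instance⟩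

variable {A : Type u} [CommRing A] [HopfAlgebra k A] [Algebra.FiniteType k A]
  {G : Over (Spec (CommRingCat.of k))} [GrpObj G] [Smooth G.hom] [IsAffine G.left] (v : sp k A ≅ G) [IsMonHom v.hom]

omit [Algebra.FiniteType k A] in
/-- Conjugate point groups give conjugate subgroup schemes. -/
theorem exists_iso_conj {H H' : Over (Spec (CommRingCat.of k))} [GrpObj H] [GrpObj H'] {i : H ⟶ G} {i' : H' ⟶ G}
    [IsMonHom i] [IsMonHom i'] [IsClosedImmersion i.left] [IsClosedImmersion i'.left]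
    [AlgebraicGeometry.IsReduced H.left] [AlgebraicGeometry.IsReduced H'.left] {x : Pt k A}
    (h : conjSub x (ptsSub v i) = ptsSub v i') :
    ∃ f : H ≅ H', f.hom ≫ i' = AGF.conjBy (ptEquiv v x) i := by
  obtain ⟨h1, h2⟩ := facts_conjBy (ptEquiv v x) i
  haveI := h1; haveI := h2
  exact exists_iso_of_eq v (i := AGF.conjBy (ptEquiv v x) i) ((ptsSub_conjBy v x).trans h)

variable {T : Over (Spec (CommRingCat.of k))} [GrpObj T] {iT : T ⟶ G} [IsMonHom iT]

/-- A maximal torus gives a maximal torus of points. -/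
theorem eq_of_isMaxTorus (hT : AGF.IsMaxTorus iT) {S : Subgroup (Pt k A)} (hS : IsTor S) (hle : ptsSub v iT ≤ S) :
    ptsSub v iT = S := by
  haveI := hT.2.1
  obtain ⟨T', _, j, hj, hjm, hjc, hT', hj₂, hpts⟩ := exists_torus_sub v hS
  haveI := hj; haveI := hjm; haveI := hjc
  obtain ⟨r, w, -, -, hred, -, hl, -⟩ := torus_facts hT.2.2.1
  haveI := hred; haveI := hl
  obtain ⟨f, hf⟩ := exists_factor_of_le v (i := iT) (i' := j) (hpts.symm ▸ hle)
  haveI := hT.2.2.2 T' j f hT' hf
  refine le_antisymm hle fun x hx => ?_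
  rw [← hpts] at hx
  obtain ⟨b, hb⟩ := (mem_ptsSub v).1 hx
  exact (mem_ptsSub v).2 ⟨b ≫ inv f, by rw [← hb, ← hf, Category.assoc, IsIso.inv_hom_id_assoc]⟩

/-- Two maximal tori inside a subgroup with a universal torus are conjugate in it. -/
theorem exists_conj_of_universal (hT : AGF.IsMaxTorus iT) {T' : Over (Spec (CommRingCat.of k))} [GrpObj T']
    {iT' : T' ⟶ G} [IsMonHom iT'] (hT' : AGF.IsMaxTorus iT') {K S : Subgroup (Pt k A)} (hS : IsTor S)
    (hu : ∀ T : Subgroup (Pt k A), T ≤ K → IsTor T → ∃ g ∈ K, conjSub g T ≤ S)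
    (hle : ptsSub v iT ≤ K) (hle' : ptsSub v iT' ≤ K) :
    ∃ x ∈ K, conjSub x (ptsSub v iT) = ptsSub v iT' := by
  haveI := hT.2.1; haveI := hT'.2.1
  obtain ⟨g, hg, hgS⟩ := hu _ hle (isTor_ptsSub v iT hT.2.2.1)
  obtain ⟨g', hg', hgS'⟩ := hu _ hle' (isTor_ptsSub v iT' hT'.2.2.1)
  have key : ∀ {T : Over (Spec (CommRingCat.of k))} [GrpObj T] {iT : T ⟶ G} [IsMonHom iT],
      AGF.IsMaxTorus iT → ∀ g, conjSub g (ptsSub v iT) ≤ S → ptsSub v iT = conjSub g⁻¹ S := by
    intro T _ iT _ h g hgS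
    refine eq_of_isMaxTorus v h (hS.conjSub _) ?_
    have := conjSub_mono (a := g⁻¹) hgS
    rwa [conjSub_conjSub, inv_mul_cancel, conjSub_one] at this
  refine ⟨g'⁻¹ * g, K.mul_mem (inv_mem hg') hg, ?_⟩
  rw [key hT g hgS, key hT' g' hgS', conjSub_conjSub, mul_inv_cancel_right]

omit [Algebra.FiniteType k A] in
include v in
/-- Tori are closed and reduced. -/
lemma facts_torus (hm : Mono iT) (hT : Red.IsTorus T) :
    IsClosedImmersion iT.left ∧ AlgebraicGeometry.IsReduced T.left := by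
  haveI := hm
  obtain ⟨r, w, -, -, hred, -, -, -⟩ := torus_facts hT
  exact ⟨isClosedImmersion_of_torus v iT hT, hred⟩

end Groth.Agent.BorelLib

end
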