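import Groth.Agent.BorelLib.Schemes
import Groth.Agent.PowEtCentralLib.Transport
import Groth.Agent.CommSubLib.Main
import Groth.Agent.RedRankLib.CommRel
import Groth.Agent.ClassBoundLib.Locus

/-!
# Base change of centralisers; passage to the geometric fibre over a field
-/

set_option autoImplicit false
set_option linter.style.haveILetI false
set_option backward.isDefEq.respectTransparency false

universe u

open CategoryTheory CategoryTheory.Limits MonoidalCategory CartesianMonoidalCategory AlgebraicGeometry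
open scoped MonObj

noncomputable section

attribute [-instance] CategoryTheory.Hom.commGroup

namespace Groth.Agent.BorelLib

section bc

variable {S S' : Scheme.{u}} (t : S' ⟶ S) {G H Z : Over S} [GrpObj G] [GrpObj H] [GrpObj Z]

/-- Base change of a monomorphism. -/
theorem mono_bc {X Y : Over S} (f : X ⟶ Y) [Mono f] : Mono ((Over.pullback t).map f) := by
  haveI : (Over.pullback t).IsRightAdjoint := (Over.mapPullbackAdj t).isRightAdjoint
  infer_instance

/-- Centralisers commute with base change. -/
theorem isCentralizerOf_bc {i : H ⟶ G} {j : Z ⟶ G} (hc : Red.IsCentralizerOf i j) :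
    Red.IsCentralizerOf (G := Red.bc t G) (H := Red.bc t H) (Z := Red.bc t Z)
      ((Over.pullback t).map i) ((Over.pullback t).map j) := by
  haveI := hc.1; haveI := hc.2.1
  refine ⟨DiagRep.isMonHom_bc_map t j, mono_bc t j, fun X₀ g₀ => ?_⟩
  obtain ⟨g, rfl⟩ := (PowEtCentralLib.adjEquiv t X₀).surjective g₀
  constructor
  · rintro ⟨z₀, hz⟩ X₁ x₁ h₁
    obtain ⟨z, rfl⟩ := ((Over.mapPullbackAdj t).homEquiv X₀ Z).surjective z₀
    rw [← Adjunction.homEquiv_naturality_right] at hz
    obtain ⟨h, rfl⟩ := ((Over.mapPullbackAdj t).homEquiv X₁ H).surjective h₁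
    have h1 : (x₁ ≫ PowEtCentralLib.adjEquiv t X₀ g) =
        PowEtCentralLib.adjEquiv t X₁ ((Over.map t).map x₁ ≫ g) :=
      (Adjunction.homEquiv_naturality_left (Over.mapPullbackAdj t) x₁ g).symm
    have h2 : (Over.mapPullbackAdj t).homEquiv X₁ H h ≫ (Over.pullback t).map i =
        PowEtCentralLib.adjEquiv t X₁ (h ≫ i) :=
      (Adjunction.homEquiv_naturality_right (Over.mapPullbackAdj t) h i).symm
    rw [h1, h2, ← map_mul, ← map_mul]
    congr 1
    exact (hc.2.2 _ g).1 ⟨z, ((Over.mapPullbackAdj t).homEquiv X₀ G).injective hz⟩ _ ((Over.map t).map x₁) h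
  · intro hcomm
    obtain ⟨z, hz⟩ := (hc.2.2 _ g).2 fun X' x h => by
      let X₁ : Over S' := Over.mk (x.left ≫ X₀.hom)
      let x₁ : X₁ ⟶ X₀ := Over.homMk x.left rfl
      let e : (Over.map t).obj X₁ ≅ X' := Over.isoMk (Iso.refl _) (by
        show 𝟙 _ ≫ X'.hom = (x.left ≫ X₀.hom) ≫ t
        rw [Category.id_comp, Category.assoc]
        exact (Over.w x).symm)
      have hx : (Over.map t).map x₁ = e.hom ≫ x := Over.OverMorphism.ext (Category.id_comp _).symm
      have := hcomm X₁ x₁ ((Over.mapPullbackAdj t).homEquiv X₁ H (e.hom ≫ h))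
      have h1 : (x₁ ≫ PowEtCentralLib.adjEquiv t X₀ g) =
          PowEtCentralLib.adjEquiv t X₁ ((Over.map t).map x₁ ≫ g) :=
        (Adjunction.homEquiv_naturality_left (Over.mapPullbackAdj t) x₁ g).symm
      have h2 : (Over.mapPullbackAdj t).homEquiv X₁ H (e.hom ≫ h) ≫ (Over.pullback t).map i =
          PowEtCentralLib.adjEquiv t X₁ ((e.hom ≫ h) ≫ i) :=
        (Adjunction.homEquiv_naturality_right (Over.mapPullbackAdj t) (e.hom ≫ h) i).symm
      rw [h1, h2, ← map_mul, ← map_mul, hx, Category.assoc, Category.assoc, ← MonObj.comp_mul,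
        ← MonObj.comp_mul] at this
      exact (cancel_epi e.hom).1 ((PowEtCentralLib.adjEquiv t X₁).injective this)
    exact ⟨(Over.mapPullbackAdj t).homEquiv X₀ Z z, by
      rw [← Adjunction.homEquiv_naturality_right, hz]; rfl⟩

end bc

section field

variable {k : Type u} [Field k] (s : (Spec (CommRingCat.of k) : Scheme.{u}))

/-- The geometric point of a field is surjective. -/
theorem surjective_geomPt : Surjective (Red.geomPt s) :=
  ⟨fun y => ⟨IsLocalRing.closedPoint _, (Subsingleton.elim (α := PrimeSpectrum k) _ _)⟩⟩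

variable (G : Over (Spec (CommRingCat.of k)))

theorem surjective_fst : Surjective (pullback.fst G.hom (Red.geomPt s)) := by
  haveI := surjective_geomPt s
  infer_instance

/-- The geometric fibre of a connected smooth affine group. -/
theorem geom_facts [GrpObj G] [IsAffine G.left] [Smooth G.hom] [ConnectedSpace G.left] :
    IsAffine (Red.geomFibre s G).left ∧ Smooth (Red.geomFibre s G).hom ∧ ConnectedSpace (Red.geomFibre s G).left := by
  haveI := CommSubLib.geometricallyIrreducible_of_connected G
  haveI : IsAffineHom (Red.geomFibre s G).hom := by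
    haveI : IsAffineHom G.hom := inferInstance
    exact MorphismProperty.pullback_snd (P := @IsAffineHom) _ _ inferInstance
  refine ⟨isAffine_of_isAffineHom (Red.geomFibre s G).hom, MorphismProperty.pullback_snd (P := @Smooth) _ _ inferInstance, ?_⟩
  haveI : IrreducibleSpace ↥(pullback G.hom (Red.geomPt s)) :=
    GeometricallyIrreducible.geometrically_irreducibleSpace (f := G.hom) (Red.geomPt s) _ _
      (IsPullback.of_hasPullback G.hom (Red.geomPt s))
  show ConnectedSpace ↥(pullback G.hom (Red.geomPt s))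
  infer_instance

/-- Connectedness descends from the geometric fibre. -/
theorem connectedSpace_of_geom (h : ConnectedSpace (Red.geomFibre s G).left) : ConnectedSpace G.left := by
  haveI : ConnectedSpace ↥(pullback G.hom (Red.geomPt s)) := h
  exact (surjective_fst s G).surj.connectedSpace (pullback.fst G.hom (Red.geomPt s)).continuous

variable {G} [GrpObj G] [IsAffine G.left] [Smooth G.hom]

omit s in
/-- Centralisers of tori over a field are smooth and closed. -/
theorem centralizer_smooth {T C : Over (Spec (CommRingCat.of k))} [GrpObj T] [GrpObj C] (iT : T ⟶ G) [IsMonHom iT]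
    [Mono iT] (hT : Red.IsTorus T) {c : C ⟶ G} (hc : Red.IsCentralizerOf iT c) :
    Smooth C.hom ∧ IsClosedImmersion c.left := by
  haveI : QuasiCompact G.hom := inferInstance
  have hMT : SGA3x.IsMultTypeFT T := by
    obtain ⟨S', f, hflat, hsurj, hcov, hloc⟩ := hT
    refine ⟨S', f, hflat, hsurj, hcov, fun x => ?_⟩
    obtain ⟨U, hU, r, hr⟩ := hloc x
    exact ⟨U, hU, (Fin r → ℤ), inferInstance, inferInstance, hr⟩
  haveI := Groth.Agent.MultEq.isAffineHom_of_isMultTypeFT hMT
  haveI := Groth.Agent.MultEq.lfp_of_isMultTypeFT hMT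
  haveI : IsAffine T.left := isAffine_of_isAffineHom T.hom
  haveI : LocallyOfFiniteType T.hom := inferInstance
  have hcl : IsClosedImmersion iT.left := GrpHom.isClosedImmersion_of_mono iT
  obtain ⟨⟨Z, _, z, hz, hzc, hzs⟩, -⟩ := Groth.Agent.S3006.result _ G T iT hcl hT
  obtain ⟨a, ha⟩ := (hz.2.2 C c).2 ((hc.2.2 C c).1 ⟨𝟙 C, Category.id_comp c⟩)
  obtain ⟨b, hb⟩ := (hc.2.2 Z z).2 ((hz.2.2 Z z).1 ⟨𝟙 Z, Category.id_comp z⟩)
  haveI := hz.2.1; haveI := hc.2.1
  haveI : IsIso a := ⟨b, by rw [← cancel_mono c, Category.assoc, hb, ha, Category.id_comp],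
    by rw [← cancel_mono z, Category.assoc, ha, hb, Category.id_comp]⟩
  haveI : IsIso a.left := (Over.forget _).map_isIso a
  haveI := hzc; haveI := hzs
  exact ⟨by rw [← Over.w a]; infer_instance, by rw [← ha, Over.comp_left]; infer_instance⟩

omit [IsAffine G.left] [Smooth G.hom] in
/-- Maximal tori give maximal tori of the geometric fibre. -/
theorem isMaxTorus_geom {T : Over (Spec (CommRingCat.of k))} [GrpObj T] {iT : T ⟶ G} (hT : Red.IsMaximalTorus iT) :
    AGF.IsMaxTorus (T := Red.geomFibre s T) (G := Red.geomFibre s G) ((Over.pullback (Red.geomPt s)).map iT) := by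
  haveI := hT.1; haveI := hT.2.1
  exact ⟨DiagRep.isMonHom_bc_map _ iT, mono_bc _ iT, RedRank.isTorus_bc hT.2.2.1 _,
    fun T' _ j _ _ f hT' hf => hT.2.2.2 s T' j f hT' hf⟩

/-- A factorisation descends from the geometric fibre. -/
theorem exists_factor_of_geom {C B : Over (Spec (CommRingCat.of k))} [AlgebraicGeometry.IsReduced C.left]
    (c : C ⟶ G) (iB : B ⟶ G) [IsClosedImmersion iB.left]
    (h : ∃ f : Red.geomFibre s C ⟶ Red.geomFibre s B,
      f ≫ (Over.pullback (Red.geomPt s)).map iB = (Over.pullback (Red.geomPt s)).map c) :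
    ∃ f : C ⟶ B, f ≫ iB = c := by
  obtain ⟨f, hf⟩ := h
  have hw : ∀ {X : Over (Spec (CommRingCat.of k))} (g : X ⟶ G),
      ((Over.pullback (Red.geomPt s)).map g).left ≫ pullback.fst G.hom (Red.geomPt s) =
        pullback.fst X.hom (Red.geomPt s) ≫ g.left := fun g => pullback.lift_fst _ _ _
  have hr : Set.range c.left ⊆ Set.range iB.left := by
    rintro _ ⟨z, rfl⟩
    obtain ⟨z', rfl⟩ := (surjective_fst s C).surj z
    refine ⟨pullback.fst B.hom (Red.geomPt s) (f.left z'), ?_⟩
    have h1 : (f.left ≫ ((Over.pullback (Red.geomPt s)).map iB).left) ≫ pullback.fst G.hom (Red.geomPt s) =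
        pullback.fst C.hom (Red.geomPt s) ≫ c.left := by
      rw [← Over.comp_left, hf, hw]
    rw [Category.assoc, hw] at h1
    have h2 := congrArg (fun m : pullback C.hom (Red.geomPt s) ⟶ G.left => m z') h1
    simp only [Scheme.Hom.comp_apply] at h2
    exact h2
  obtain ⟨l, hl⟩ := AVAmpleLib.exists_lift_of_reduced iB.left c.left hr
  exact ⟨Over.homMk l (by rw [← Over.w c, ← hl, Category.assoc, Over.w iB]), Over.OverMorphism.ext hl⟩

end field

end Groth.Agent.BorelLib

end
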