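import Groth.Agent.BorelLib.Bridge

/-!
# Borel subgroup schemes and their points
-/

set_option autoImplicit false
set_option linter.style.haveILetI false
set_option backward.isDefEq.respectTransparency false

universe u

open CategoryTheory CategoryTheory.Limits MonoidalCategory CartesianMonoidalCategory AlgebraicGeometry WithConv
open scoped MonObj
open CoactBr (sp)

noncomputable section

attribute [-instance] CategoryTheory.Hom.commGroup

namespace Groth.Agent.BorelLib

attribute [local instance] pTop pTopTensor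

variable {k : Type u} [Field k] [IsAlgClosed k]

omit [IsAlgClosed k] in
/-- The coordinate Hopf algebra of a smooth affine group. -/
theorem exists_setup (G : Over (Spec (CommRingCat.of k))) [GrpObj G] [IsAffine G.left] [Smooth G.hom] :
    ∃ (A : Type u) (_ : CommRing A) (_ : HopfAlgebra k A) (v : sp k A ≅ G) (_ : IsMonHom v.hom),
      Algebra.FiniteType k A ∧ _root_.IsReduced A := by
  obtain ⟨A, _, _, v, hv, -⟩ := DeligneKillLib.exists_sp G
  haveI : IsIso v.hom.left := (Over.forget _).map_isIso v.hom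
  have hlft : LocallyOfFiniteType (sp k A).hom := by
    rw [← Over.w v.hom]; infer_instance
  change LocallyOfFiniteType (Spec.map (CommRingCat.ofHom (algebraMap k A))) at hlft
  rw [HasRingHomProperty.Spec_iff (P := @LocallyOfFiniteType), CommRingCat.hom_ofHom,
    RingHom.finiteType_algebraMap] at hlft
  haveI : AlgebraicGeometry.IsReduced G.left := AlgSpLib.isReduced_of_smooth G.hom
  haveI : AlgebraicGeometry.IsReduced (Spec (CommRingCat.of A)) := isReduced_of_isOpenImmersion v.hom.left
  exact ⟨A, _, _, v, hv, hlft, (affine_isReduced_iff (CommRingCat.of A)).mp inferInstance⟩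

variable {A : Type u} [CommRing A] [HopfAlgebra k A] [Algebra.FiniteType k A]
  {G : Over (Spec (CommRingCat.of k))} [GrpObj G] (v : sp k A ≅ G) [IsMonHom v.hom]

omit [GrpObj G] [IsMonHom v.hom] in
lemma isPreconnected_univ_of_connected [PreconnectedSpace G.left] (v : sp k A ≅ G) :
    _root_.IsPreconnected (Set.univ : Set (Pt k A)) := by
  have e : Set.range v.inv.left = Set.univ := Set.eq_univ_of_forall fun y => ⟨v.hom.left y, by
    rw [← Scheme.Hom.comp_apply, ← Over.comp_left, v.hom_inv_id]
    rfl⟩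
  exact isPreconnected_preimage_toP (R := A) isClosed_univ (e ▸ isPreconnected_range v.inv.left.continuous)

variable {H H' : Over (Spec (CommRingCat.of k))} [GrpObj H] [GrpObj H'] {i : H ⟶ G} [IsMonHom i]
  {i' : H' ⟶ G} [IsMonHom i'] [IsClosedImmersion i'.left] [LocallyOfFiniteType G.hom]

omit [Algebra.FiniteType k A] in
/-- A reduced subgroup with smaller point group factors through a closed one. -/
lemma exists_factor_of_le [LocallyOfFiniteType H.hom] [AlgebraicGeometry.IsReduced H.left]
    (h : ptsSub v i ≤ ptsSub v i') : ∃ f : H ⟶ H', f ≫ i' = i := by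
  have hr : Set.range i.left ⊆ Set.range i'.left :=
    AVAmpleLib.range_subset_of_points i i'.left.isClosedEmbedding.isClosed_range fun z => by
      obtain ⟨x, hx⟩ := (ptEquiv v).surjective (z ≫ i)
      have := (mem_ptsSub_iff v).1 (h ((mem_ptsSub v).2 ⟨z, hx.symm⟩))
      rwa [← pt_ptEquiv, hx] at this
  obtain ⟨l, hl⟩ := AVAmpleLib.exists_lift_of_reduced i'.left i.left hr
  exact ⟨Over.homMk l (by rw [← Over.w i, ← hl, Category.assoc, Over.w i']), Over.OverMorphism.ext hl⟩

omit [Algebra.FiniteType k A] in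
/-- Two reduced closed subgroups with the same points are isomorphic over the group. -/
lemma exists_iso_of_eq [IsClosedImmersion i.left] [AlgebraicGeometry.IsReduced H.left] [AlgebraicGeometry.IsReduced H'.left]
    (h : ptsSub v i = ptsSub v i') : ∃ f : H ≅ H', f.hom ≫ i' = i := by
  haveI : LocallyOfFiniteType H.hom := by rw [← Over.w i]; infer_instance
  haveI : LocallyOfFiniteType H'.hom := by rw [← Over.w i']; infer_instance
  obtain ⟨f, hf⟩ := exists_factor_of_le v (i := i) (i' := i') h.le
  obtain ⟨g, hg⟩ := exists_factor_of_le v (i := i') (i' := i) h.ge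
  haveI : Mono i := Groth.Agent.DiagRep.mono_of_isClosedImmersion i inferInstance
  haveI : Mono i' := Groth.Agent.DiagRep.mono_of_isClosedImmersion i' inferInstance
  exact ⟨⟨f, g, by rw [← cancel_mono i, Category.assoc, hg, hf, Category.id_comp],
    by rw [← cancel_mono i', Category.assoc, hf, hg, Category.id_comp]⟩, hf⟩

/-- The points of a Borel subgroup scheme form a Borel subgroup of the points. -/
theorem isBor_ptsSub [Smooth G.hom] [QuasiCompact G.hom] {B : Over (Spec (CommRingCat.of k))} [GrpObj B]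
    {iB : B ⟶ G} [IsMonHom iB] [IsClosedImmersion iB.left] (hB : Red.IsBorelOver k iB) :
    IsBor (⊤ : Subgroup (Pt k A)) (ptsSub v iB) := by
  obtain ⟨-, -, hsm, hconn, hsol, hmax⟩ := hB
  haveI := hsm; haveI := hconn
  refine ⟨le_top, isClosed_ptsSub v, isPreconnected_ptsSub v, isSol_ptsSub v hsol,
    fun S _ hSc hS hSs hle => le_antisymm ?_ hle⟩
  obtain ⟨B', _, i', hi', hic', hsm', hpts, hconn', hsol'⟩ := exists_scheme_sub v hSc
  haveI := hi'; haveI := hic'
  haveI : AlgebraicGeometry.IsReduced B.left := AlgSpLib.isReduced_of_smooth B.hom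
  obtain ⟨f, hf⟩ := exists_factor_of_le v (i := iB) (i' := i') (hpts.symm ▸ hle)
  haveI := hmax B' i' f hic' hsm' (hconn' hS) (hsol' hSs) hf
  intro x hx
  rw [← hpts, mem_ptsSub] at hx
  obtain ⟨b, hb⟩ := hx
  exact (mem_ptsSub v).2 ⟨b ≫ inv f, by rw [← hb, ← hf, Category.assoc, IsIso.inv_hom_id_assoc]⟩

omit [Algebra.FiniteType k A] [LocallyOfFiniteType G.hom] in
lemma ptsSub_conjBy (x : Pt k A) [IsMonHom (AGF.conjBy (ptEquiv v x) i)] :
    ptsSub v (AGF.conjBy (ptEquiv v x) i) = conjSub x (ptsSub v i) := by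
  have hc : ∀ b : RPt H, b ≫ AGF.conjBy (ptEquiv v x) i = ptEquiv v x * (b ≫ i) * (ptEquiv v x)⁻¹ := fun b => by
    simp only [AGF.conjBy, MonObj.comp_mul, GrpObj.comp_inv, ← Category.assoc]
    rw [toUnit_unique (b ≫ toUnit H) (𝟙 _), Category.id_comp]
  ext y
  rw [mem_ptsSub, mem_conjSub, mem_ptsSub]
  refine exists_congr fun b => ?_
  rw [hc, map_mul, map_mul, map_inv]
  constructor
  · intro h
    rw [← h]; group
  · intro h
    rw [h]; group

end Groth.Agent.BorelLib

namespace Groth.Agent.BorelLib

attribute [local instance] pTop pTopTensor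

variable {k : Type u} [Field k] [IsAlgClosed k] {A : Type u} [CommRing A] [HopfAlgebra k A] [Algebra.FiniteType k A]
  {G : Over (Spec (CommRingCat.of k))} [GrpObj G] [Smooth G.hom] [QuasiCompact G.hom] (v : sp k A ≅ G)
  [IsMonHom v.hom]

/-- A Borel subgroup of the points is the point group of a Borel subgroup scheme. -/
theorem exists_borel_of_isBor {S : Subgroup (Pt k A)} (hS : IsBor ⊤ S) :
    ∃ (B : Over (Spec (CommRingCat.of k))) (_ : GrpObj B) (iB : B ⟶ G) (_ : IsMonHom iB),
      Red.IsBorelOver k iB ∧ ptsSub v iB = S := by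
  obtain ⟨B, _, i, hi, hic, hsm, hpts, hconn, hsol⟩ := exists_scheme_sub v hS.closed
  refine ⟨B, inferInstance, i, hi, ⟨hi, hic, hsm, hconn hS.conn, hsol hS.sol, ?_⟩, hpts⟩
  intro B' _ i' _ f hic' hsm' hconn' hsol' hf
  haveI := hic'; haveI := hsm'; haveI := hconn'; haveI := hsm
  have hle : ptsSub v i ≤ ptsSub v i' := fun x hx => by
    obtain ⟨b, hb⟩ := (mem_ptsSub v).1 hx
    exact (mem_ptsSub v).2 ⟨b ≫ f, by rw [Category.assoc, hf, hb]⟩
  have heq : ptsSub v i = ptsSub v i' := by
    rw [hpts]
    exact (hS.maximal _ le_top (isClosed_ptsSub v) (isPreconnected_ptsSub v) (isSol_ptsSub v hsol') (hpts ▸ hle)).symm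
  haveI : AlgebraicGeometry.IsReduced B.left := AlgSpLib.isReduced_of_smooth B.hom
  haveI : AlgebraicGeometry.IsReduced B'.left := AlgSpLib.isReduced_of_smooth B'.hom
  obtain ⟨e, he⟩ := exists_iso_of_eq v (i := i) (i' := i') heq
  haveI : Mono i' := Groth.Agent.DiagRep.mono_of_isClosedImmersion i' hic'
  rw [show f = e.hom by rw [← cancel_mono i', hf, he]]
  infer_instance

include v in
/-- Borel subgroup schemes exist. -/
theorem exists_borel [PreconnectedSpace G.left] :
    ∃ (B : Over (Spec (CommRingCat.of k))) (_ : GrpObj B) (iB : B ⟶ G) (_ : IsMonHom iB), Red.IsBorelOver k iB := by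
  obtain ⟨S, hS, -, -⟩ := IsBor.exists_conj_universal (K := (⊤ : Subgroup (Pt k A)))
    (by rw [Subgroup.coe_top]; exact isClosed_univ)
    (by rw [Subgroup.coe_top]; exact isPreconnected_univ_of_connected v)
  obtain ⟨B, _, iB, hi, hB, -⟩ := exists_borel_of_isBor v hS
  exact ⟨B, inferInstance, iB, hi, hB⟩

end Groth.Agent.BorelLib

end
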