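import Groth.Agent.BorelLib.Core
import Groth.Agent.HopfPointsLib.Scheme
import Groth.Agent.DenseSubLib.Basic
import Groth.Agent.ChevThmLib.QuasiCompl
import Groth.Agent.AVAmpleLib.HomDiv
import Groth.Prelude

/-!
# From affine group schemes to their groups of points
-/

set_option autoImplicit false
set_option linter.style.haveILetI false
set_option backward.isDefEq.respectTransparency false

universe u

open CategoryTheory CategoryTheory.Limits MonoidalCategory CartesianMonoidalCategory AlgebraicGeometry WithConv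
open scoped MonObj commutatorElement
open CoactBr (sp)

noncomputable section

attribute [-instance] CategoryTheory.Hom.commGroup

namespace Groth.Agent.BorelLib

attribute [local instance] pTop pTopTensor

section group

variable {k : Type u} [Field k] {A : Type u} [CommRing A] [HopfAlgebra k A]

lemma der_eq_map (S : Subgroup (Pt k A)) : ∀ n, der S n = (derivedSeries S n).map S.subtype
  | 0 => by rw [der_zero, derivedSeries_zero, ← MonoidHom.range_eq_map, Subgroup.range_subtype]
  | n + 1 => by rw [der_succ, der_eq_map S n, derivedSeries_succ, Subgroup.map_commutator]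

end group

/-- Points of a scheme over the base. -/
abbrev RPt {k : Type u} [Field k] (G : Over (Spec (CommRingCat.of k))) : Type u :=
  𝟙_ (Over (Spec (CommRingCat.of k))) ⟶ G

section points

variable {k : Type u} [Field k] {G H : Over (Spec (CommRingCat.of k))} [GrpObj G] [GrpObj H]

/-- Composition with a homomorphism, on points. -/
def ptHom (i : H ⟶ G) [IsMonHom i] : RPt H →* RPt G :=
  MonoidHom.mk' (fun x => x ≫ i) fun _ _ => MonObj.mul_comp _ _ i

@[simp] lemma ptHom_apply (i : H ⟶ G) [IsMonHom i] (x : RPt H) : ptHom i x = x ≫ i := rfl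

end points

section derived

variable {k : Type u} [Field k] {H : Over (Spec (CommRingCat.of k))} [GrpObj H]

/-- Generators of the derived series. -/
def wordSet (X : Over (Spec (CommRingCat.of k))) : ℕ → Set (X ⟶ H)
  | 0 => Set.univ
  | n + 1 => {g | ∃ a ∈ wordSet X n, ∃ b ∈ wordSet X n, ⁅a, b⁆ = g}

lemma wordSet_conj (X : Over (Spec (CommRingCat.of k))) : ∀ (n : ℕ) (g a : X ⟶ H),
    a ∈ wordSet X n → g * a * g⁻¹ ∈ wordSet X n
  | 0, _, _, _ => trivial
  | n + 1, g, a, ha => by
    obtain ⟨x, hx, y, hy, rfl⟩ := ha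
    exact ⟨_, wordSet_conj X n g x hx, _, wordSet_conj X n g y hy, by simp [commutatorElement_def, mul_assoc]⟩

lemma derivedSeries_le_wordSet (X : Over (Spec (CommRingCat.of k))) :
    ∀ n, derivedSeries (X ⟶ H) n ≤ Subgroup.closure (wordSet (H := H) X n)
  | 0 => fun g _ => Subgroup.subset_closure trivial
  | n + 1 => by
    rw [derivedSeries_succ]
    refine (Subgroup.commutator_mono (derivedSeries_le_wordSet X n) (derivedSeries_le_wordSet X n)).trans ?_
    set S := Subgroup.closure (wordSet (H := H) X (n + 1)) with hS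
    have hnormal : S.Normal := ⟨fun s hs g => by
      rw [hS] at hs ⊢
      induction hs using Subgroup.closure_induction with
      | mem s hs => exact Subgroup.subset_closure (wordSet_conj X (n + 1) g s hs)
      | one => simpa using Subgroup.one_mem _
      | mul a b _ _ ha hb => simpa [mul_assoc] using Subgroup.mul_mem _ ha hb
      | inv a _ ha => simpa [mul_assoc] using Subgroup.inv_mem _ ha⟩
    refine Subgroup.commutator_le.2 fun a ha b hb => ?_
    induction ha using Subgroup.closure_induction with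
    | mem a ha =>
      induction hb using Subgroup.closure_induction with
      | mem b hb => exact Subgroup.subset_closure ⟨a, ha, b, hb, rfl⟩
      | one => simp
      | mul b b' _ _ h h' =>
        rw [show ⁅a, b * b'⁆ = ⁅a, b⁆ * (b * ⁅a, b'⁆ * b⁻¹) by simp [commutatorElement_def, mul_assoc]]
        exact S.mul_mem h (hnormal.conj_mem _ h' b)
      | inv b _ h =>
        rw [show ⁅a, b⁻¹⁆ = b⁻¹ * ⁅a, b⁆⁻¹ * (b⁻¹)⁻¹ by simp [commutatorElement_def, mul_assoc]]
        exact hnormal.conj_mem _ (S.inv_mem h) _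
    | one => simp
    | mul a a' _ _ h h' =>
      rw [show ⁅a * a', b⁆ = (a * ⁅a', b⁆ * a⁻¹) * ⁅a, b⁆ by simp [commutatorElement_def, mul_assoc]]
      exact S.mul_mem (hnormal.conj_mem _ h' a) h
    | inv a _ h =>
      rw [show ⁅a⁻¹, b⁆ = a⁻¹ * ⁅a, b⁆⁻¹ * (a⁻¹)⁻¹ by simp [commutatorElement_def, mul_assoc]]
      exact hnormal.conj_mem _ (S.inv_mem h) _

lemma exists_word : ∀ n : ℕ, ∃ (P : Over (Spec (CommRingCat.of k))) (w : P ⟶ H),
    (∀ (X : Over (Spec (CommRingCat.of k))), ∀ g ∈ wordSet (H := H) X n, ∃ f : X ⟶ P, f ≫ w = g) ∧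
      (Smooth H.hom → Smooth P.hom) ∧ ∀ f : RPt P, f ≫ w ∈ derivedSeries (RPt H) n
  | 0 => ⟨H, 𝟙 H, fun _ g _ => ⟨g, Category.comp_id g⟩, fun h => h, fun _ => trivial⟩
  | n + 1 => by
    obtain ⟨P, w, hw, hsm, hpt⟩ := exists_word n
    refine ⟨P ⊗ P, ⁅fst P P ≫ w, snd P P ≫ w⁆, fun X g hg => ?_, fun h => ?_, fun f => ?_⟩
    · obtain ⟨a, ha, b, hb, rfl⟩ := hg
      obtain ⟨fa, rfl⟩ := hw X a ha
      obtain ⟨fb, rfl⟩ := hw X b hb
      exact ⟨lift fa fb, by simp [commutatorElement_def, MonObj.comp_mul, GrpObj.comp_inv]⟩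
    · haveI := hsm h
      exact inferInstanceAs (Smooth (pullback.fst P.hom P.hom ≫ P.hom))
    · rw [derivedSeries_succ]
      have : f ≫ ⁅fst P P ≫ w, snd P P ≫ w⁆ = ⁅(f ≫ fst P P) ≫ w, (f ≫ snd P P) ≫ w⁆ := by
        simp [commutatorElement_def, MonObj.comp_mul, GrpObj.comp_inv]
      rw [this]
      exact Subgroup.commutator_mem_commutator (hpt _) (hpt _)

/-- A smooth group with solvable group of points is solvable. -/
theorem isSolvableGrp_of_points [IsAlgClosed k] [Smooth H.hom] {n : ℕ} (h : derivedSeries (RPt H) n = ⊥) :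
    Red.IsSolvableGrp H := by
  obtain ⟨P, w, hw, hsm, hpt⟩ := exists_word (H := H) n
  haveI := hsm inferInstance
  haveI : _root_.AlgebraicGeometry.IsReduced P.left := AlgSpLib.isReduced_of_smooth P.hom
  haveI : IsSeparated H.hom := Groth.Agent.GrpField.isSeparated_grp (G := H)
  have hw1 : w = 1 := AVAmpleLib.hom_ext_of_points _ _ fun a => by
    have := hpt a
    rw [h, Subgroup.mem_bot] at this
    rw [this, MonObj.comp_one]
  refine ⟨n, fun X => le_bot_iff.1 ((derivedSeries_le_wordSet X n).trans ((Subgroup.closure_le _).2 fun g hg => ?_))⟩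
  obtain ⟨f, rfl⟩ := hw X g hg
  rw [SetLike.mem_coe, Subgroup.mem_bot, hw1, MonObj.comp_one]

end derived

variable {k : Type u} [Field k] {A : Type u} [CommRing A] [HopfAlgebra k A]
  {G : Over (Spec (CommRingCat.of k))} [GrpObj G] (v : sp k A ≅ G)

/-- The point attached to an algebra map. -/
def toRPt (x : Pt k A) : RPt G := Groth.Agent.HopfPoints.exists_unit_hom.some ≫ CoactBr.pt x.ofConv ≫ v.hom

lemma toRPt_pt (x : Pt k A) : AVAmpleLib.pt (toRPt v x) = v.hom.left (toP x) := by
  have : Subsingleton (Spec (CommRingCat.of k) : Scheme.{u}) := inferInstanceAs (Subsingleton (PrimeSpectrum k))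
  show v.hom.left ((CoactBr.pt x.ofConv).left ((Groth.Agent.HopfPoints.exists_unit_hom.some).left
    (IsLocalRing.closedPoint k))) = _
  congr 1
  rw [CoactBr.pt_left]
  exact congrArg (PrimeSpectrum.comap x.ofConv.toRingHom) (Subsingleton.elim _ _)

variable [IsMonHom v.hom]

lemma toRPt_mul (x y : Pt k A) : toRPt v (x * y) = toRPt v x * toRPt v y := by
  rw [toRPt, toRPt, toRPt, ← MonObj.comp_mul, ← MonObj.mul_comp, Groth.Agent.DiagRep.pt_mul_conv]

variable [IsAlgClosed k]

lemma toRPt_bijective : Function.Bijective (toRPt v : Pt k A → RPt G) := by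
  set w₀ := (Groth.Agent.HopfPoints.exists_unit_hom (k := k)).some with hw₀
  have hiso : ∀ w : RPt (sp k k), w = w₀ := fun w => by
    haveI : IsIso (sp k k).hom := by
      change IsIso (Spec.map (CommRingCat.ofHom (algebraMap k k)))
      rw [show CommRingCat.ofHom (algebraMap k k) = 𝟙 _ from rfl]
      infer_instance
    refine Over.OverMorphism.ext ?_
    rw [← cancel_mono (sp k k).hom, Over.w, Over.w]
  have hw₁ : toUnit (sp k k) ≫ w₀ = 𝟙 (sp k k) := by
    haveI : IsIso (sp k k).hom := by
      change IsIso (Spec.map (CommRingCat.ofHom (algebraMap k k)))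
      rw [show CommRingCat.ofHom (algebraMap k k) = 𝟙 _ from rfl]
      infer_instance
    refine Over.OverMorphism.ext ?_
    rw [← cancel_mono (sp k k).hom, Over.w, Over.id_left, Category.id_comp]
  refine ⟨fun x y h => ?_, fun g => ?_⟩
  · have h' := congrArg (fun f => toUnit (sp k k) ≫ f ≫ v.inv) h
    simp only [toRPt, ← hw₀, Category.assoc, Iso.hom_inv_id, Category.comp_id] at h'
    rw [← Category.assoc, hw₁, Category.id_comp, ← Category.assoc, hw₁, Category.id_comp] at h'
    exact WithConv.ext (CoactBr.pt_injective h')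
  · obtain ⟨w, q, hq⟩ := Groth.Agent.HopfPoints.exists_point_comp v g
    exact ⟨toConv q, by rw [hq, hiso w]; rfl⟩

/-- The two groups of points. -/
def ptEquiv : Pt k A ≃* RPt G := MulEquiv.mk' (Equiv.ofBijective _ (toRPt_bijective v)) (toRPt_mul v)

lemma pt_ptEquiv (x : Pt k A) : AVAmpleLib.pt (ptEquiv v x) = v.hom.left (toP x) := toRPt_pt v x

/-- The points of a subgroup scheme, as a subgroup of the points. -/
def ptsSub {H : Over (Spec (CommRingCat.of k))} [GrpObj H] (i : H ⟶ G) [IsMonHom i] : Subgroup (Pt k A) :=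
  (ptHom i).range.comap (ptEquiv v).toMonoidHom

variable {H : Over (Spec (CommRingCat.of k))} [GrpObj H] {i : H ⟶ G} [IsMonHom i]

lemma mem_ptsSub {x : Pt k A} : x ∈ ptsSub v i ↔ ∃ b : RPt H, b ≫ i = ptEquiv v x := Iff.rfl

lemma mem_ptsSub_iff [IsClosedImmersion i.left] [LocallyOfFiniteType G.hom] {x : Pt k A} :
    x ∈ ptsSub v i ↔ v.hom.left (toP x) ∈ Set.range i.left := by
  haveI : IsSeparated G.hom := Groth.Agent.GrpField.isSeparated_grp (G := G)
  rw [mem_ptsSub, ← pt_ptEquiv]
  refine ⟨?_, fun h => ChevThmLib.exists_point_lift i _ h⟩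
  rintro ⟨b, hb⟩
  exact ⟨AVAmpleLib.pt b, by rw [← hb]; rfl⟩

lemma isClosed_ptsSub [IsClosedImmersion i.left] [LocallyOfFiniteType G.hom] :
    IsClosed (ptsSub v i : Set (Pt k A)) := by
  have e : (ptsSub v i : Set (Pt k A)) = toP ⁻¹' (v.hom.left ⁻¹' Set.range i.left) :=
    Set.ext fun x => mem_ptsSub_iff v
  rw [e]
  exact ((i.left.isClosedEmbedding.isClosed_range).preimage v.hom.left.continuous).preimage continuous_induced_dom

omit [HopfAlgebra k A] in
/-- Points of a connected closed set of primes form a connected set. -/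
lemma isPreconnected_preimage_toP {R : Type u} [CommRing R] [Algebra k R] [Algebra.FiniteType k R]
    {C : Set (PrimeSpectrum R)} (hC : IsClosed C) (hconn : _root_.IsPreconnected C) :
    _root_.IsPreconnected (toP ⁻¹' C : Set (Pt k R)) := by
  rw [isPreconnected_closed_iff]
  intro t t' ht ht' hcov hne hne'
  obtain ⟨T, hT, rfl⟩ := isClosed_induced_iff.1 ht
  obtain ⟨T', hT', rfl⟩ := isClosed_induced_iff.1 ht'
  have hsub : C ⊆ T ∪ T' := by
    intro p hp
    by_contra hpT
    obtain ⟨x, hxC, hxT⟩ := exists_pt_mem (k := k) (Z := C ∩ (T ∪ T')ᶜ) ⟨p, hp, hpT⟩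
      (hC.isLocallyClosed.inter (hT.union hT').isOpen_compl.isLocallyClosed)
    exact hxT (hcov hxC)
  obtain ⟨x, hx, hx'⟩ := hne
  obtain ⟨y, hy, hy'⟩ := hne'
  obtain ⟨p, hp⟩ := isPreconnected_closed_iff.1 hconn T T' hT hT' hsub ⟨_, hx, hx'⟩ ⟨_, hy, hy'⟩
  obtain ⟨z, hz⟩ := exists_pt_mem (k := k) ⟨p, hp⟩ (hC.inter (hT.inter hT')).isLocallyClosed
  exact ⟨z, hz⟩

lemma isPreconnected_ptsSub [IsClosedImmersion i.left] [LocallyOfFiniteType G.hom] [Algebra.FiniteType k A]
    [PreconnectedSpace H.left] : _root_.IsPreconnected (ptsSub v i : Set (Pt k A)) := by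
  have e : (ptsSub v i : Set (Pt k A)) = toP ⁻¹' (v.hom.left ⁻¹' Set.range i.left) :=
    Set.ext fun x => mem_ptsSub_iff v
  rw [e]
  refine isPreconnected_preimage_toP
    ((i.left.isClosedEmbedding.isClosed_range).preimage v.hom.left.continuous) ?_
  have e' : v.hom.left ⁻¹' Set.range i.left = v.inv.left '' Set.range i.left := by
    ext y
    constructor
    · intro hy
      refine ⟨_, hy, ?_⟩
      rw [← Scheme.Hom.comp_apply, ← Over.comp_left, v.hom_inv_id]
      rfl
    · rintro ⟨z, hz, rfl⟩
      show v.hom.left (v.inv.left z) ∈ Set.range i.left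
      rw [← Scheme.Hom.comp_apply, ← Over.comp_left, v.inv_hom_id]
      exact hz
  rw [e']
  exact (isPreconnected_range i.left.continuous).image _ v.inv.left.continuous.continuousOn

lemma isSol_ptsSub (hs : Red.IsSolvableGrp H) : IsSol (ptsSub v i) := by
  obtain ⟨n, hn⟩ := hs
  let f : RPt H →* ptsSub v i :=
    (((ptEquiv v).symm.toMonoidHom.comp (ptHom i))).codRestrict _ fun b =>
      ⟨b, ((ptEquiv v).apply_symm_apply _).symm⟩
  have hf : Function.Surjective f := fun x => by
    obtain ⟨b, hb⟩ := x.2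
    refine ⟨b, Subtype.ext ?_⟩
    show (ptEquiv v).symm (ptHom i b) = x
    rw [hb]
    exact (ptEquiv v).symm_apply_apply _
  refine ⟨n, le_bot_iff.1 ?_⟩
  rw [der_eq_map]
  refine (Subgroup.map_mono (derivedSeries_le_map_derivedSeries hf n)).trans ?_
  rw [hn, Subgroup.map_bot, Subgroup.map_bot]

/-- Closed subgroups of points come from smooth closed subgroup schemes. -/
theorem exists_scheme_sub [Algebra.FiniteType k A] [Smooth G.hom] [QuasiCompact G.hom] {S : Subgroup (Pt k A)}
    (hS : IsClosed (S : Set (Pt k A))) :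
    ∃ (H : Over (Spec (CommRingCat.of k))) (_ : GrpObj H) (i : H ⟶ G) (_ : IsMonHom i) (_ : IsClosedImmersion i.left),
      Smooth H.hom ∧ ptsSub v i = S ∧ (_root_.IsPreconnected (S : Set (Pt k A)) → ConnectedSpace H.left) ∧
      (IsSol S → Red.IsSolvableGrp H) := by
  obtain ⟨H, _, i, hi, hic, hsm, hr⟩ := DenseSubLib.exists_smooth_subgroup (A := G) (S.map (ptEquiv v).toMonoidHom)
  haveI := hi; haveI := hic; haveI := hsm
  let h := Scheme.forgetToTop.mapIso ((Over.forget _).mapIso v)
  have hv : Topology.IsInducing (v.hom.left : _ → _) := (TopCat.homeoOfIso h).isInducing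
  have himg : (AVAmpleLib.pt '' ((S.map (ptEquiv v).toMonoidHom : Subgroup (RPt G)) : Set (RPt G))) =
      v.hom.left '' (toP '' (S : Set (Pt k A))) := by
    rw [Subgroup.coe_map, Set.image_image, Set.image_image]
    exact Set.image_congr fun x _ => pt_ptEquiv v x
  have hpts : ptsSub v i = S := by
    ext x
    rw [mem_ptsSub_iff, hr]
    show _ ∈ closure _ ↔ _
    rw [show ((fun s : RPt G => AVAmpleLib.pt s) '' _) = _ from himg]
    rw [← Set.mem_preimage, ← hv.closure_eq_preimage_closure_image, ← Set.mem_preimage,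
      ← isInducing_toP.closure_eq_preimage_closure_image, hS.closure_eq]
    rfl
  refine ⟨H, inferInstance, i, hi, hic, hsm, hpts, fun hconn => ?_, fun hs => ?_⟩
  · have hrc : _root_.IsPreconnected (Set.range i.left) := by
      rw [hr]
      show _root_.IsPreconnected (closure _)
      rw [show ((fun s : RPt G => AVAmpleLib.pt s) '' _) = _ from himg]
      exact ((hconn.image _ continuous_induced_dom.continuousOn).image _ v.hom.left.continuous.continuousOn).closure
    haveI : PreconnectedSpace H.left := ⟨i.left.isClosedEmbedding.isInducing.isPreconnected_image.1 (by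
      rwa [Set.image_univ])⟩
    exact { toNonempty := ⟨AVAmpleLib.pt (1 : RPt H)⟩ }
  · obtain ⟨n, hn⟩ := hs
    refine isSolvableGrp_of_points (n := n) (le_bot_iff.1 fun b hb => ?_)
    haveI : Mono i := Groth.Agent.DiagRep.mono_of_isClosedImmersion i hic
    have hb' : (ptEquiv v).symm (b ≫ i) ∈ der S n := by
      have hrange : ((ptEquiv v).symm.toMonoidHom.comp (ptHom i)).range ≤ S := by
        rintro _ ⟨c, rfl⟩
        rw [← hpts]
        exact ⟨c, ((ptEquiv v).apply_symm_apply _).symm⟩
      have h1 : (derivedSeries (RPt H) n).map ((ptEquiv v).symm.toMonoidHom.comp (ptHom i)) ≤ der S n := by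
        clear hb hn
        induction n with
        | zero => exact (Subgroup.map_le_iff_le_comap.2 fun c _ => hrange ⟨c, rfl⟩)
        | succ m ih =>
          rw [derivedSeries_succ, Subgroup.map_commutator, der_succ]
          exact Subgroup.commutator_mono ih ih
      exact h1 ⟨b, hb, rfl⟩
    rw [hn, Subgroup.mem_bot, ← (ptEquiv v).symm.map_one, EmbeddingLike.apply_eq_iff_eq] at hb'
    rw [Subgroup.mem_bot, ← cancel_mono i, hb', MonObj.one_comp]

end Groth.Agent.BorelLib
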