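import Groth.Agent.BorelLib.Borel

/-!
# Functions invariant under a subgroup with complete quotient
-/

set_option autoImplicit false
set_option linter.style.haveILetI false
set_option backward.isDefEq.respectTransparency false

universe u

open CategoryTheory MonoidalCategory CartesianMonoidalCategory AlgebraicGeometry WithConv
open scoped MonObj TensorProduct
open CoactBr (sp)

noncomputable section

attribute [-instance] CategoryTheory.Hom.commGroup

namespace Groth.Agent.BorelLib

attribute [local instance] pTop pTopTensor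

section points

variable {k : Type u} [Field k] [IsAlgClosed k] {A A' : Type u} [CommRing A] [HopfAlgebra k A] [CommRing A']
  [Algebra k A'] {K B : Subgroup (Pt k A)}

/-- A right-invariant regular function on a connected group with complete quotient is constant. -/
theorem Complete.reg_const (hc : Complete K B) (hBK : B ≤ K) (hKc : IsClosed (K : Set (Pt k A)))
    (hK : _root_.IsPreconnected (K : Set (Pt k A))) {f : Pt k A → k} (hf : IsReg f)
    (hinv : ∀ g ∈ K, ∀ b ∈ B, f (g * b) = f g) {g : Pt k A} (hg : g ∈ K) : f g = f 1 := by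
  let Y : Set (Pt k (Polynomial k ⊗[k] A)) := {y | sndP y ∈ K ∧ lineCoord (fstP y) * f (sndP y) = 1}
  have hY : IsClosed Y := (hKc.preimage IsMor.sndP.continuous).inter
    (((isReg_lineCoord.comp IsMor.fstP).mul (hf.comp IsMor.sndP)).isClosed_eq (IsReg.const 1))
  have hproj := hc (Polynomial k) Y hY (fun y hy => hy.1) fun y hy b hb =>
    ⟨by simpa using K.mul_mem hy.1 (hBK hb),
      by simpa [hinv _ hy.1 b hb] using hy.2⟩
  have h0 : linePt (0 : k) ∉ fstP '' Y := by
    rintro ⟨y, ⟨-, hy⟩, he⟩
    rw [he, lineCoord_linePt, zero_mul] at hy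
    exact zero_ne_one hy
  refine hf.const_of_finite hK ((((finite_lineCoord hproj h0).image fun c => c⁻¹).insert 0).subset ?_) hg K.one_mem
  rintro _ ⟨x, hx, rfl⟩
  by_cases h : f x = 0
  · exact Or.inl h
  exact Or.inr ⟨(f x)⁻¹, ⟨linePt (f x)⁻¹, ⟨pair (linePt (f x)⁻¹) x, ⟨by simpa using hx, by simp [h]⟩, by simp⟩,
    by simp⟩, inv_inv _⟩

/-- A right-invariant regular map on a connected group with complete quotient is constant. -/
theorem Complete.mor_const (hc : Complete K B) (hBK : B ≤ K) (hKc : IsClosed (K : Set (Pt k A)))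
    (hK : _root_.IsPreconnected (K : Set (Pt k A))) {F : Pt k A → Pt k A'} (hF : IsMor F)
    (hinv : ∀ g ∈ K, ∀ b ∈ B, F (g * b) = F g) {g : Pt k A} (hg : g ∈ K) : F g = F 1 :=
  WithConv.ext (AlgHom.ext fun a => hc.reg_const hBK hKc hK ((IsReg.eval a).comp hF)
    (fun x hx b hb => by rw [hinv x hx b hb]) hg)

end points

variable {k : Type u} [Field k] {A A' : Type u} [CommRing A] [HopfAlgebra k A] [CommRing A'] [HopfAlgebra k A']
  {G G' : Over (Spec (CommRingCat.of k))} [GrpObj G] [GrpObj G'] (v : sp k A ≅ G) (v' : sp k A' ≅ G')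
  [IsMonHom v.hom] [IsMonHom v'.hom] [IsAlgClosed k]

/-- A morphism of schemes acts regularly on points. -/
theorem exists_isMor (φ : G ⟶ G') :
    ∃ F : Pt k A → Pt k A', IsMor F ∧ ∀ x, ptEquiv v' (F x) = ptEquiv v x ≫ φ := by
  obtain ⟨ψ, hψ⟩ := Groth.Agent.DiagRep.exists_pt (R := k) (A := A') (C := A) (v.hom ≫ φ ≫ v'.inv)
  refine ⟨pull ψ, IsMor.pull ψ, fun x => ?_⟩
  show _ ≫ CoactBr.pt (x.ofConv.comp ψ) ≫ v'.hom = (_ ≫ CoactBr.pt x.ofConv ≫ v.hom) ≫ φ
  rw [CoactBr.pt_comp, ← hψ]
  simp only [Category.assoc, v'.inv_hom_id, Category.comp_id]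

/-- Points of a scheme detect equality of morphisms out of a smooth affine group. -/
theorem hom_ext_ptEquiv [Smooth G.hom] [IsSeparated G'.hom] [LocallyOfFiniteType G'.hom] {f g : G ⟶ G'}
    (h : ∀ x : Pt k A, ptEquiv v x ≫ f = ptEquiv v x ≫ g) : f = g := by
  haveI : AlgebraicGeometry.IsReduced G.left := AlgSpLib.isReduced_of_smooth G.hom
  exact AVAmpleLib.hom_ext_of_points f g fun a => by
    obtain ⟨x, rfl⟩ := (ptEquiv v).surjective a
    exact h x

end Groth.Agent.BorelLib
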