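import Groth.Agent.BorelLib.Solv
import Groth.Agent.BorelLib.Fun

/-!
# Maximal tori, regular elements, rigidity and Cartan subgroups of points
-/

set_option autoImplicit false
set_option linter.style.haveILetI false

noncomputable section

universe u

open WithConv
open scoped TensorProduct

namespace Groth.Agent.BorelLib

attribute [local instance] pTop pTopTensor

variable {k : Type u} [Field k] [IsAlgClosed k] {A : Type u} [CommRing A] [HopfAlgebra k A]

/-- A weight basis of a torus in a representation. -/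
theorem IsTor.exists_weight_basis {T : Subgroup (Pt k A)} (hT : IsTor T) {V : Type u} [AddCommGroup V] [Module k V]
    [FiniteDimensional k V] (r : RegRep (⊤ : Subgroup (Pt k A)) V) :
    ∃ (ι : Type u) (_ : Fintype ι) (b : Module.Basis ι k V) (χ : ι → Pt k A → k),
      (∀ i, IsReg (χ i)) ∧ ∀ i, ∀ s ∈ T, r.ρ s (b i) = χ i s • b i := by
  classical
  let f : {x : Pt k A // x ∈ T ∧ IsPT x} → Module.End k V := fun d => r.ρ d.1
  have hmul : ∀ a b : Pt k A, r.ρ (a * b) = r.ρ a * r.ρ b := fun a b => r.map_mul a trivial b trivial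
  have hcomm : Pairwise fun i j => Commute (f i) (f j) := fun i j _ => by
    show r.ρ i.1 * r.ρ j.1 = r.ρ j.1 * r.ρ i.1
    rw [← hmul, ← hmul, hT.comm _ i.2.1 _ j.2.1]
  have hss : ∀ d, (f d).IsSemisimple := by
    intro d
    obtain ⟨m, hm, hdm⟩ := d.2.2
    refine Module.End.isSemisimple_of_squarefree_aeval_eq_zero (p := Polynomial.X ^ m - 1)
      (Polynomial.X_pow_sub_one_separable_iff.2 hm).squarefree ?_
    have hpow : ∀ n : ℕ, r.ρ d.1 ^ n = r.ρ (d.1 ^ n) := by
      intro n
      induction n with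
      | zero => rw [pow_zero, pow_zero, r.map_one]
      | succ n ih => rw [pow_succ, pow_succ, ih, hmul]
    simp [f, hpow, hdm, r.map_one]
  have htop := Module.End.iSup_iInf_maxGenEigenspace_eq_top_of_iSup_maxGenEigenspace_eq_top_of_commute f hcomm
    (fun d => Module.End.iSup_maxGenEigenspace_eq_top (f d))
  have hspan : Submodule.span k {w : V | r.IsWeight T w} = ⊤ := by
    refine eq_top_iff.2 (htop ▸ iSup_le fun χ => ?_)
    intro w hw
    rw [Submodule.mem_iInf] at hw
    refine Submodule.subset_span fun s hs => ?_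
    have hcl : IsClosed {g : Pt k A | ∀ φ ∈ (k ∙ w).dualAnnihilator, φ (r.ρ g w) = 0} := by
      rw [show {g : Pt k A | ∀ φ ∈ (k ∙ w).dualAnnihilator, φ (r.ρ g w) = 0} =
        ⋂ φ ∈ (k ∙ w).dualAnnihilator, {g | φ (r.ρ g w) = 0} from Set.ext fun g => by simp]
      exact isClosed_biInter fun φ _ => (r.reg φ w).isClosed_eq (IsReg.const 0)
    have hmem : r.ρ s w ∈ k ∙ w := by
      rw [← Subspace.dualAnnihilator_dualCoannihilator_eq (W := k ∙ w), Submodule.mem_dualCoannihilator]
      refine hcl.closure_subset_iff.2 (fun d hd φ hφ => ?_) (hT.dense hs)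
      have h := hw ⟨d, hd⟩
      rw [(Module.End.isFinitelySemisimple_iff_isSemisimple.2 (hss ⟨d, hd⟩)).maxGenEigenspace_eq_eigenspace,
        Module.End.mem_eigenspace_iff] at h
      show φ (r.ρ d w) = 0
      rw [show r.ρ d w = χ ⟨d, hd⟩ • w from h, map_smul,
        (Submodule.mem_dualAnnihilator φ).1 hφ w (Submodule.mem_span_singleton_self w), smul_zero]
    obtain ⟨c, hc⟩ := Submodule.mem_span_singleton.1 hmem
    exact ⟨c, hc.symm⟩
  obtain ⟨b, hbs, hbspan, hbli⟩ := exists_linearIndependent k {w : V | r.IsWeight T w}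
  let B : Module.Basis b k V := Module.Basis.mk hbli (by rw [Subtype.range_coe, hbspan, hspan])
  haveI : Finite b := Module.Finite.finite_basis B
  haveI : Fintype b := Fintype.ofFinite _
  have hB : ∀ i, B i = (i : V) := fun i => Module.Basis.mk_apply _ _ i
  choose χ hχ hχw using fun i : b => r.exists_reg_weight (hB i ▸ B.ne_zero i) (hbs i.2)
  exact ⟨b, inferInstance, B, χ, hχ, fun i s hs => by rw [hB]; exact hχw i s hs⟩

variable [Algebra.FiniteType k A]

/-- A torus has a regular element of finite order prime to the characteristic. -/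
theorem IsTor.exists_regular {T : Subgroup (Pt k A)} (hT : IsTor T) :
    ∃ t ∈ T, IsPT t ∧ ∀ g : Pt k A, g * t = t * g → ∀ s ∈ T, g * s = s * g := by
  classical
  obtain ⟨V, _, _, _, r, hr⟩ := exists_faithful (k := k) (A := A)
  obtain ⟨ι, _, b, χ, hχ, hb⟩ := hT.exists_weight_basis r
  let bad : Finset (ι × ι) := Finset.univ.filter fun p => ∃ s ∈ T, χ p.1 s ≠ χ p.2 s
  have hirr := isIrreducible_of_connected hT.closed hT.conn
  have hne := (isIrreducible_iff_sInter.1 hirr) (bad.image fun p => {g | χ p.1 g ≠ χ p.2 g}) (fun U hU => by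
      obtain ⟨p, -, rfl⟩ := Finset.mem_image.1 hU
      exact (hχ p.1).isOpen_ne (hχ p.2)) (fun U hU => by
      obtain ⟨p, hp, rfl⟩ := Finset.mem_image.1 hU
      obtain ⟨s, hs, hne⟩ := (Finset.mem_filter.1 hp).2
      exact ⟨s, hs, hne⟩)
  obtain ⟨t₀, ht₀, ht₀U⟩ := hne
  have hO : IsOpen (⋂₀ ((bad.image fun p => {g | χ p.1 g ≠ χ p.2 g} : Finset _) : Set (Set (Pt k A)))) :=
    (Finset.finite_toSet _).isOpen_sInter fun U hU => by
      obtain ⟨p, -, rfl⟩ := Finset.mem_image.1 hU
      exact (hχ p.1).isOpen_ne (hχ p.2)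
  obtain ⟨t, htU, ht, htt⟩ := mem_closure_iff.1 (hT.dense ht₀) _ hO ht₀U
  refine ⟨t, ht, htt, fun g hg s hs => ?_⟩
  have hsep : ∀ i j, χ i t = χ j t → χ i s = χ j s := by
    intro i j h
    by_contra hne
    exact Set.mem_sInter.1 htU _ (Finset.mem_coe.2 (Finset.mem_image.2
      ⟨(i, j), Finset.mem_filter.2 ⟨Finset.mem_univ _, s, hs, hne⟩, rfl⟩)) h
  have hcomm : r.ρ g * r.ρ s = r.ρ s * r.ρ g := by
    refine b.ext fun i => ?_
    simp only [Module.End.mul_apply, hb i s hs, map_smul]
    have key : ∀ j, b.repr (r.ρ g (b i)) j ≠ 0 → χ j t = χ i t := by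
      intro j hj
      have e : r.ρ t (r.ρ g (b i)) = χ i t • r.ρ g (b i) := by
        rw [← r.mul_apply trivial trivial, ← hg, r.mul_apply trivial trivial, hb i t ht, map_smul]
      have e' := congrArg (fun v => b.repr v j) e
      have e1 : r.ρ t (r.ρ g (b i)) = ∑ l, (b.repr (r.ρ g (b i)) l * χ l t) • b l := by
        conv_lhs => rw [← b.sum_repr (r.ρ g (b i)), map_sum]
        exact Finset.sum_congr rfl fun l _ => by rw [map_smul, hb l t ht, smul_smul]
      rw [e1] at e'
      simp only [b.repr_sum_self, map_smul, Finsupp.smul_apply, smul_eq_mul] at e'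
      exact mul_left_cancel₀ hj (e'.trans (mul_comm _ _))
    conv_rhs => rw [← b.sum_repr (r.ρ g (b i)), map_sum]
    conv_lhs => rw [← b.sum_repr (r.ρ g (b i)), Finset.smul_sum]
    refine Finset.sum_congr rfl fun j _ => ?_
    rw [map_smul, hb j s hs, smul_comm]
    by_cases hj : b.repr (r.ρ g (b i)) j = 0
    · simp [hj]
    · rw [hsep j i (key j hj)]
  have h1 : r.ρ (g * s * g⁻¹ * s⁻¹) = 1 := by
    rw [r.map_mul _ trivial _ trivial, r.map_mul _ trivial _ trivial, r.map_mul g trivial s trivial, hcomm,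
      ← r.map_mul s trivial g trivial, ← r.map_mul _ trivial _ trivial, ← r.map_mul _ trivial _ trivial,
      show s * g * g⁻¹ * s⁻¹ = 1 by group, r.map_one]
  have := hr _ h1
  rwa [mul_inv_eq_one, mul_inv_eq_iff_eq_mul] at this

/-- **Rigidity**: a connected subgroup normalising a torus centralises it. -/
theorem IsTor.commute_of_normalizing {T H : Subgroup (Pt k A)} (hT : IsTor T)
    (hH : IsPreconnected (H : Set (Pt k A))) (hn : ∀ h ∈ H, ∀ s ∈ T, h * s * h⁻¹ ∈ T) :
    ∀ h ∈ H, ∀ s ∈ T, h * s = s * h := by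
  classical
  obtain ⟨V, _, _, _, r, hr⟩ := exists_faithful (k := k) (A := A)
  obtain ⟨ι, _, b, χ, hχ, hb⟩ := hT.exists_weight_basis r
  intro h hh s hs
  refine (isClosed_commuting h).closure_subset_iff.2 ?_ (hT.dense hs)
  rintro t ⟨ht, m, hm, htm⟩
  -- the torsion points of the torus of bounded order are finite
  have hfin : {x : Pt k A | x ∈ T ∧ x ^ m = 1}.Finite := by
    have hinj : Set.InjOn (fun x : Pt k A => fun i => χ i x) {x : Pt k A | x ∈ T ∧ x ^ m = 1} := by
      intro x hx y hy he
      have he' : r.ρ x = r.ρ y := b.ext fun i => by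
        rw [hb i x hx.1, hb i y hy.1, show χ i x = χ i y from congrFun he i]
      have : r.ρ (x * y⁻¹) = 1 := by
        rw [r.map_mul _ trivial _ trivial, he', ← r.map_mul _ trivial _ trivial, mul_inv_cancel, r.map_one]
      exact mul_inv_eq_one.1 (hr _ this)
    refine Set.Finite.of_finite_image ?_ hinj
    refine (Set.Finite.pi (t := fun _ : ι => (Polynomial.nthRootsFinset m (1 : k) : Set k))
      fun _ => Finset.finite_toSet _).subset ?_
    rintro _ ⟨x, ⟨hx, hxm⟩, rfl⟩ i -
    have hpow : ∀ n : ℕ, r.ρ (x ^ n) (b i) = χ i x ^ n • b i := by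
      intro n
      induction n with
      | zero => simp [r.map_one]
      | succ n ih => rw [pow_succ', r.mul_apply trivial trivial, ih, map_smul, hb i x hx, smul_smul, pow_succ]
    have h1 := hpow m
    rw [hxm, r.map_one, Module.End.one_apply] at h1
    rw [Finset.mem_coe, Polynomial.mem_nthRootsFinset (Nat.pos_of_ne_zero fun h0 => hm (by rw [h0, Nat.cast_zero]))]
    exact (smul_left_injective k (b.ne_zero i) (by simpa using h1)).symm
  have hconst : h * t * h⁻¹ = t := WithConv.ext (AlgHom.ext fun a => by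
    have hval := ((IsReg.eval a).comp ((IsMor.id.mul (IsMor.const t)).mul IsMor.id.inv)).const_of_finite hH
      ((hfin.image fun x => x.ofConv a).subset (by
        rintro _ ⟨g, hg, rfl⟩
        exact ⟨g * t * g⁻¹, ⟨hn g hg t ht, by rw [conj_pow, htm, mul_one, mul_inv_cancel]⟩, rfl⟩))
      hh H.one_mem
    simpa using hval)
  exact mul_inv_eq_iff_eq_mul.1 hconst

/-- A maximal torus of a subgroup of points. -/
structure IsMaxTor (K T : Subgroup (Pt k A)) : Prop where
  le : T ≤ K
  tor : IsTor T
  maximal : ∀ T' : Subgroup (Pt k A), T' ≤ K → IsTor T' → T ≤ T' → T' = T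

section max

variable {K T : Subgroup (Pt k A)}

lemma exists_isMaxTor (hK : IsClosed (K : Set (Pt k A))) (hKconn : IsPreconnected (K : Set (Pt k A))) :
    ∃ S : Subgroup (Pt k A), IsMaxTor K S ∧ ∀ T' : Subgroup (Pt k A), T' ≤ K → IsTor T' → ∃ g ∈ K, conjSub g T' ≤ S := by
  obtain ⟨S, hSK, hS, hu⟩ := exists_universal_tor_group hK hKconn
  refine ⟨S, ⟨hSK, hS, fun T' hT'K hT' hle => ?_⟩, hu⟩
  obtain ⟨g, -, hg⟩ := hu T' hT'K hT'
  exact le_antisymm ((conjSub_eq_of_le hT'.closed (hg.trans hle)) ▸ hg) hle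

/-- Every torus is conjugate into a given maximal torus. -/
theorem IsMaxTor.exists_conj_le (hK : IsClosed (K : Set (Pt k A))) (hKconn : IsPreconnected (K : Set (Pt k A)))
    (hT : IsMaxTor K T) {T' : Subgroup (Pt k A)} (hT'K : T' ≤ K) (hT' : IsTor T') : ∃ g ∈ K, conjSub g T' ≤ T := by
  obtain ⟨S, hS, hu⟩ := exists_isMaxTor hK hKconn
  obtain ⟨g, hg, hgS⟩ := hu T hT.le hT.tor
  have e : conjSub g⁻¹ S = T := hT.maximal _ (conjSub_le (inv_mem hg) hS.le) (hS.tor.conjSub _) (by
    have := conjSub_mono (a := g⁻¹) hgS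
    rwa [conjSub_conjSub, inv_mul_cancel, conjSub_one] at this)
  obtain ⟨h, hh, hle⟩ := hu T' hT'K hT'
  exact ⟨g⁻¹ * h, K.mul_mem (inv_mem hg) hh, by rw [← conjSub_conjSub, ← e]; exact conjSub_mono hle⟩

/-- Maximal tori are conjugate. -/
theorem IsMaxTor.exists_conj (hK : IsClosed (K : Set (Pt k A))) (hKconn : IsPreconnected (K : Set (Pt k A)))
    (hT : IsMaxTor K T) {T' : Subgroup (Pt k A)} (hT' : IsMaxTor K T') : ∃ g ∈ K, conjSub g T = T' := by
  obtain ⟨g, hg, hle⟩ := hT'.exists_conj_le hK hKconn hT.le hT.tor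
  refine ⟨g, hg, ?_⟩
  have e := hT.maximal (conjSub g⁻¹ T') (conjSub_le (inv_mem hg) hT'.le) (hT'.tor.conjSub _) (by
    have := conjSub_mono (a := g⁻¹) hle
    rwa [conjSub_conjSub, inv_mul_cancel, conjSub_one] at this)
  rw [← e, conjSub_conjSub, mul_inv_cancel, conjSub_one]

/-- The connected centraliser of a torus. -/
def cart (K T : Subgroup (Pt k A)) : Subgroup (Pt k A) := neut (K ⊓ Subgroup.centralizer (T : Set (Pt k A)))

lemma isClosed_centralizer (T : Subgroup (Pt k A)) :
    IsClosed (Subgroup.centralizer (T : Set (Pt k A)) : Set (Pt k A)) := by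
  have e : (Subgroup.centralizer (T : Set (Pt k A)) : Set (Pt k A)) = ⋂ y ∈ T, {g | y * g = g * y} := by
    ext g
    simp [Subgroup.mem_centralizer_iff]
  rw [e]
  exact isClosed_biInter fun y _ => isClosed_commuting y

lemma isClosed_cart (hK : IsClosed (K : Set (Pt k A))) (T : Subgroup (Pt k A)) : IsClosed (cart K T : Set (Pt k A)) :=
  isClosed_neut (hK.inter (isClosed_centralizer T))

lemma cart_le : cart K T ≤ K := (neut_le _).trans inf_le_left

lemma commute_of_mem_cart {g : Pt k A} (hg : g ∈ cart K T) {s : Pt k A} (hs : s ∈ T) : s * g = g * s :=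
  Subgroup.mem_centralizer_iff.1 ((neut_le _ hg).2) s hs

lemma IsMaxTor.le_cart (hT : IsMaxTor K T) : T ≤ cart K T :=
  le_neut hT.tor.conn fun t ht => ⟨hT.le ht, Subgroup.mem_centralizer_iff.2 fun s hs => hT.tor.comm s hs t ht⟩

end max

/-- The product of two representations. -/
def RegRep.prod {K : Subgroup (Pt k A)} {V W : Type u} [AddCommGroup V] [Module k V] [AddCommGroup W] [Module k W]
    (r : RegRep K V) (r' : RegRep K W) : RegRep K (V × W) where
  ρ g := (r.ρ g).prodMap (r'.ρ g)
  map_one := by rw [r.map_one, r'.map_one]; exact LinearMap.prodMap_one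
  map_mul g hg h hh := by rw [r.map_mul g hg h hh, r'.map_mul g hg h hh]; exact LinearMap.prodMap_mul _ _ _ _
  reg φ v := by
    have e : (fun g => φ ((r.ρ g).prodMap (r'.ρ g) v)) =
        fun g => (φ ∘ₗ LinearMap.inl k V W) (r.ρ g v.1) + (φ ∘ₗ LinearMap.inr k V W) (r'.ρ g v.2) := by
      funext g
      simp only [LinearMap.comp_apply, ← map_add]
      simp
    rw [e]
    exact (r.reg _ _).add (r'.reg _ _)

/-- A connected group with a central torus containing all tori is solvable. -/
theorem isSol_top_of_central (hconn : IsPreconnected (Set.univ : Set (Pt k A))) {T : Subgroup (Pt k A)}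
    (hc : ∀ t ∈ T, ∀ g : Pt k A, t * g = g * t) (hmax : ∀ T' : Subgroup (Pt k A), IsTor T' → T' ≤ T) :
    IsSol (⊤ : Subgroup (Pt k A)) := by
  classical
  by_contra hns
  obtain ⟨U, _, _, _, r, h2, hirr⟩ := exists_big_irred hns
  have : Nontrivial U := Module.nontrivial_of_finrank_pos (R := k) (by omega)
  have hKc : IsClosed ((⊤ : Subgroup (Pt k A)) : Set (Pt k A)) := by rw [Subgroup.coe_top]; exact isClosed_univ
  have hK : IsPreconnected ((⊤ : Subgroup (Pt k A)) : Set (Pt k A)) := by rwa [Subgroup.coe_top]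
  obtain ⟨B, hB, hcomp, -⟩ := IsBor.exists_conj_universal hKc hK
  obtain ⟨V, _, _, _, rV, hrV⟩ := exists_faithful (k := k) (A := A)
  obtain ⟨D, e, he⟩ := exists_flagRep_of (rV.prod r) (fun g hg => hrV g (LinearMap.ext fun x => by
    have := congrArg (fun f : Module.End k (V × U) => (f (x, 0)).1) hg
    simpa [RegRep.prod] using this)) hB.conn hB.sol
  obtain ⟨S, -, hS, -, hdec, -⟩ := D.exists_torus_decomp hB.closed hB.conn
  -- the weight of the Borel subgroup
  obtain ⟨v, -, hv, hwt⟩ := r.exists_weight_of_isSol (le_top : B ≤ ⊤) hB.conn hB.sol (W := ⊤) top_ne_bot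
    fun _ _ _ _ => trivial
  obtain ⟨χ, -, hχv⟩ := r.exists_reg_weight hv hwt
  set n := Module.finrank k U
  let d : Pt k A →* k :=
    { toFun := fun g => LinearMap.det (r.ρ g)
      map_one' := by rw [r.map_one, LinearMap.det.map_one]
      map_mul' := fun a b => by rw [r.map_mul a trivial b trivial, LinearMap.det.map_mul] }
  have hd0 : ∀ g, d g ≠ 0 := fun g h => by
    have := congrArg d (mul_inv_cancel g)
    rw [map_mul, h, zero_mul, map_one] at this
    exact zero_ne_one this
  have hdreg : IsReg d := by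
    let bU := Module.finBasis k U
    have e' : (d : Pt k A → k) = fun g => ∑ σ : Equiv.Perm (Fin n),
        (σ.sign : ℤ) • ∏ i, bU.coord (σ i) (r.ρ g (bU i)) := by
      funext g
      show LinearMap.det (r.ρ g) = _
      rw [← LinearMap.det_toMatrix bU, Matrix.det_apply]
      exact Finset.sum_congr rfl fun σ _ => by
        rw [Units.smul_def]
        simp only [LinearMap.toMatrix_apply, Module.Basis.coord_apply]
        rfl
    rw [e']
    exact IsReg.sum _ fun σ _ => by
      simp only [zsmul_eq_mul]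
      exact (IsReg.const _).mul (IsReg.prod _ fun i _ => r.reg _ _)
  have hscal : ∀ t ∈ T, ∃ c : k, r.ρ t = c • 1 := by
    intro t ht
    obtain ⟨c, hc'⟩ := (r.ρ t).exists_eigenvalue
    refine ⟨c, ?_⟩
    have hst : r.Stable ⊤ ((r.ρ t).eigenspace c) := fun g _ w hw => by
      rw [Module.End.mem_eigenspace_iff] at hw ⊢
      rw [← r.mul_apply trivial trivial, hc t ht g, r.mul_apply trivial trivial, hw, map_smul]
    rcases hirr _ hst with h | h
    · exact absurd h hc'
    · refine LinearMap.ext fun w => ?_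
      have hw : w ∈ (r.ρ t).eigenspace c := h.symm ▸ Submodule.mem_top
      rw [Module.End.mem_eigenspace_iff] at hw
      simpa using hw
  have hunip : ∀ u ∈ D.U 1, r.ρ u v = v ∧ d u = 1 := by
    intro u hu
    obtain ⟨N, hN⟩ := D.Ftop
    have hpow : ∀ m : ℕ, (D.r.ρ u - 1) ^ m ∈ D.low m := by
      intro m
      induction m with
      | zero => exact fun j w hw => by simpa using hw
      | succ m ih =>
        rw [pow_succ]
        have := D.low_mul ih hu.2
        rwa [add_comm 1 m] at this
    have hnil : (r.ρ u - 1) ^ N = 0 := by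
      refine LinearMap.ext fun w => ?_
      have hz : ∀ z : D.V, ((D.r.ρ u - 1) ^ N) z = 0 := fun z => by
        have := hpow N N z (hN ▸ Submodule.mem_top)
        rwa [Nat.sub_self, D.F_zero, Submodule.mem_bot] at this
      have hint : ∀ (m : ℕ) (z : D.V), (e (((D.r.ρ u - 1) ^ m) z)).2 = ((r.ρ u - 1) ^ m) (e z).2 := by
        intro m
        induction m with
        | zero => intro z; simp
        | succ m ih =>
          intro z
          rw [pow_succ, pow_succ, Module.End.mul_apply, Module.End.mul_apply, ih]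
          congr 1
          simp [he, RegRep.prod]
      have := hint N (e.symm (0, w))
      rw [hz, map_zero, e.apply_symm_apply] at this
      exact this.symm
    refine ⟨?_, ?_⟩
    · obtain ⟨c, hcv⟩ : ∃ c, r.ρ u v = c • v := hwt u hu.1
      have hev : ∀ m : ℕ, ((r.ρ u - 1) ^ m) v = (c - 1) ^ m • v := by
        intro m
        induction m with
        | zero => simp
        | succ m ih =>
          rw [pow_succ', Module.End.mul_apply, ih, map_smul, LinearMap.sub_apply, hcv, Module.End.one_apply,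
            smul_sub, smul_smul, pow_succ, mul_sub, mul_one, sub_smul]
      have h0 := hev N
      rw [hnil, LinearMap.zero_apply, eq_comm, smul_eq_zero] at h0
      rcases h0 with h0 | h0
      · rw [hcv, sub_eq_zero.1 (eq_zero_of_pow_eq_zero h0), one_smul]
      · exact absurd h0 hv
    · have hn' : IsNilpotent (1 - r.ρ u) := ⟨N, by rw [← neg_sub, neg_pow, hnil, mul_zero]⟩
      show LinearMap.det (r.ρ u) = 1
      have := (1 - r.ρ u).eval_charpoly 1
      rw [IsNilpotent.charpoly_eq_X_pow_finrank hn', Polynomial.eval_pow, Polynomial.eval_X, one_pow, map_one,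
        sub_sub_cancel] at this
      exact this.symm
  have hpsi : ∀ b ∈ B, χ b ^ n = d b := by
    intro b hb
    obtain ⟨s, hs, hu⟩ := hdec b hb
    obtain ⟨c, hcs⟩ := hscal s (hmax S hS hs)
    obtain ⟨hu1, hu2⟩ := hunip _ hu
    have hb' : r.ρ b v = c • v := by
      rw [show b = s * (s⁻¹ * b) by group, r.mul_apply trivial trivial, hu1, hcs]
      simp
    have hχb : χ b = c := smul_left_injective k hv ((hχv b hb).symm.trans hb')
    rw [hχb, show b = s * (s⁻¹ * b) by group, map_mul, hu2, mul_one]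
    show c ^ n = LinearMap.det (r.ρ s)
    rw [hcs, LinearMap.det_smul, LinearMap.det.map_one, mul_one]
  have hline : ∀ g, r.ρ g v ∈ k ∙ v := by
    intro g
    rw [← Subspace.dualAnnihilator_dualCoannihilator_eq (W := k ∙ v), Submodule.mem_dualCoannihilator]
    intro φ hφ
    have hφv : φ v = 0 := (Submodule.mem_dualAnnihilator φ).1 hφ v (Submodule.mem_span_singleton_self v)
    have hfreg : IsReg fun g => (φ (r.ρ g v)) ^ n * d g⁻¹ := by
      have h1 : IsReg fun g => ∏ _i : Fin n, φ (r.ρ g v) := IsReg.prod _ fun _ _ => r.reg φ v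
      have h2 : IsReg fun g => d g⁻¹ := hdreg.comp IsMor.id.inv
      simpa using h1.mul h2
    have hinv := hcomp.reg_const le_top hKc hK hfreg (fun g _ b hb => by
      rw [r.mul_apply trivial trivial, hχv b hb, map_smul, map_smul, smul_eq_mul, mul_pow, hpsi b hb, mul_inv_rev,
        map_mul]
      have : d b * d b⁻¹ = 1 := by rw [← map_mul, mul_inv_cancel, map_one]
      linear_combination (φ (r.ρ g v)) ^ n * d g⁻¹ * this) (g := g) trivial
    simp only [r.map_one, Module.End.one_apply, hφv, zero_pow (by omega : n ≠ 0), zero_mul] at hinv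
    exact eq_zero_of_pow_eq_zero ((mul_eq_zero.1 hinv).resolve_right (hd0 _))
  have hst : r.Stable ⊤ (k ∙ v) := fun g _ w hw => by
    obtain ⟨c, rfl⟩ := Submodule.mem_span_singleton.1 hw
    rw [map_smul]; exact Submodule.smul_mem _ c (hline g)
  rcases hirr _ hst with h | h
  · exact hv (Submodule.span_singleton_eq_bot.1 h)
  · have h1 := finrank_span_singleton (K := k) hv
    rw [h, finrank_top] at h1
    omega

/-- The connected centraliser of a maximal torus is solvable. -/
theorem IsMaxTor.isSol_cart {K T : Subgroup (Pt k A)} (hK : IsClosed (K : Set (Pt k A))) (hT : IsMaxTor K T) :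
    IsSol (cart K T) := by
  have hCc := isClosed_cart hK T
  obtain ⟨B, _, _, f, hft, -, -, hind, hinj, hrange, -⟩ := exists_frame hCc
  haveI := hft
  have hsol := isSol_top_of_central (isPreconnected_univ_frame hind (hrange.symm ▸ isPreconnected_neut _))
    (T := T.comap f)
    (fun t ht g => hinj (by
      rw [map_mul, map_mul]; exact commute_of_mem_cart (K := K) (hrange ▸ ⟨g, rfl⟩) ht))
    fun T' hT' x hx => by
      have hT'' := hT'.map_frame hind (hrange.symm ▸ hCc)
      have hle : T'.map f ≤ cart K T := hrange ▸ Subgroup.map_le_range f T'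
      obtain ⟨S', hS', hu⟩ := exists_isMaxTor hCc (isPreconnected_neut _)
      obtain ⟨g, hg, hgT⟩ := hu T hT.le_cart hT.tor
      obtain ⟨h, hh, hhT⟩ := hu _ hle hT''
      have hTfix : ∀ a ∈ cart K T, conjSub a T = T := fun a ha => by
        ext y
        rw [mem_conjSub]
        constructor
        · intro hy
          have hcy := commute_of_mem_cart ha hy
          rwa [show a⁻¹ * y * a = y by
            have e : a⁻¹ * y * a * a⁻¹ = a⁻¹ * (a * (a⁻¹ * y * a)) * a⁻¹ := by group
            rw [← hcy] at e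
            have e2 : a * (a⁻¹ * y * a) = a⁻¹ * y * a * a := hcy.symm
            have e3 : y = a⁻¹ * y * a := mul_right_cancel (b := a) (by rw [← e2]; group)
            exact e3.symm] at hy
        · intro hy
          rwa [mul_assoc, commute_of_mem_cart ha hy, inv_mul_cancel_left]
      have hST : S' = T := hT.maximal S' (hS'.le.trans cart_le) hS'.tor ((hTfix g hg) ▸ hgT)
      have hx' : f x ∈ conjSub h⁻¹ T := by
        have := conjSub_mono (a := h⁻¹) (hST ▸ hhT) (by
          rw [conjSub_conjSub, inv_mul_cancel, conjSub_one]; exact ⟨x, hx, rfl⟩ : f x ∈ conjSub h⁻¹ (conjSub h (T'.map f)))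
        exact this
      rw [hTfix h⁻¹ (inv_mem hh)] at hx'
      exact hx'
  have := hsol.map f
  rwa [← MonoidHom.range_eq_map, hrange] at this

/-- Torsion elements of the connected centraliser lie in the torus. -/
theorem IsMaxTor.mem_of_isPT {K T : Subgroup (Pt k A)} (hK : IsClosed (K : Set (Pt k A))) (hT : IsMaxTor K T)
    {t : Pt k A} (ht : t ∈ cart K T) (htt : IsPT t) : t ∈ T := by
  have hCc := isClosed_cart hK T
  obtain ⟨D⟩ := exists_flagRep (isPreconnected_neut _) (hT.isSol_cart hK)
  obtain ⟨S, hSC, hS, hu, -, hconj⟩ := D.exists_torus_decomp hCc (isPreconnected_neut _)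
  obtain ⟨g, hg, hgT⟩ := hu T hT.le_cart hT.tor
  have hTS : T ≤ S := fun s hs => hgT ⟨s, hs, by
    show g * s * g⁻¹ = s
    rw [← commute_of_mem_cart hg hs, mul_inv_cancel_right]⟩
  have hST : S = T := hT.maximal S (hSC.trans cart_le) hS hTS
  obtain ⟨u, hu', -, hut⟩ := hconj t ht htt
  rw [hST] at hut
  have hcu := commute_of_mem_cart hu' hut
  rwa [show t = u⁻¹ * ((u * t * u⁻¹) * u) by group, hcu, inv_mul_cancel_left]

end Groth.Agent.BorelLib
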