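import Groth.Agent.BorelLib.NonAffBorel

/-!
# Theorems on Borel subgroups of smooth connected groups
-/

set_option autoImplicit false
set_option linter.style.haveILetI false
set_option linter.unusedSectionVars false
set_option backward.isDefEq.respectTransparency false

universe u

open CategoryTheory CategoryTheory.Limits MonoidalCategory CartesianMonoidalCategory AlgebraicGeometry WithConv
open scoped MonObj
open CoactBr (sp)

noncomputable section

attribute [-instance] CategoryTheory.Hom.commGroup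

namespace Groth.Agent.BorelLib.NA

attribute [local instance] pTop pTopTensor

variable {k : Type u} [Field k] [IsAlgClosed k] {G : Over (Spec (CommRingCat.of k))} [GrpObj G] [Smooth G.hom]
  [QuasiCompact G.hom] [ConnectedSpace G.left]

/-- Borel subgroups of a connected group are conjugate. -/
theorem borel_conj {B₁ B₂ : Over (Spec (CommRingCat.of k))} [GrpObj B₁] [GrpObj B₂] {b₁ : B₁ ⟶ G} {b₂ : B₂ ⟶ G}
    (h₁ : Red.IsBorelOver k b₁) (h₂ : Red.IsBorelOver k b₂) : ∃ g : RPt G, SGA3x.ConjBy b₁ b₂ g := by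
  obtain ⟨S⟩ := exists_split (G := G)
  obtain ⟨A, _, _, v, hv, hA, -⟩ := exists_setup S.L
  haveI := hv; haveI := hA
  haveI := h₁.1; haveI := h₁.2.1; haveI := h₁.2.2.1; haveI := h₂.1; haveI := h₂.2.1; haveI := h₂.2.2.1
  haveI : QuasiCompact B₁.hom := by rw [← Over.w b₁]; infer_instance
  haveI : QuasiCompact B₂.hom := by rw [← Over.w b₂]; infer_instance
  haveI : AlgebraicGeometry.IsReduced B₁.left := AlgSpLib.isReduced_of_smooth B₁.hom
  haveI : AlgebraicGeometry.IsReduced B₂.left := AlgSpLib.isReduced_of_smooth B₂.hom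
  obtain ⟨hD₁, hb₁⟩ := facts_of_isBorelOver S v b₁ h₁
  obtain ⟨hD₂, hb₂⟩ := facts_of_isBorelOver S v b₂ h₂
  obtain ⟨hKc, hK⟩ := facts_top v
  obtain ⟨x, -, hx⟩ := hb₁.exists_conj hKc hK hb₂
  set g := toG S v x
  obtain ⟨hcm, hcc⟩ := facts_conjBy g b₁
  haveI := hcm; haveI := hcc
  have hc : ∀ z : RPt B₁, z ≫ AGF.conjBy g b₁ = g * (z ≫ b₁) * g⁻¹ := fun z => by
    simp only [AGF.conjBy, MonObj.comp_mul, GrpObj.comp_inv, ← Category.assoc]
    rw [toUnit_unique (z ≫ toUnit B₁) (𝟙 _), Category.id_comp]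
  obtain ⟨e, he⟩ := exists_iso_of_pts (AGF.conjBy g b₁) b₂ fun q => by
    constructor
    · rintro ⟨z, rfl⟩
      obtain ⟨a, ha, d, had⟩ := (pts_iff S v b₁ hD₁ _).1 ⟨z, rfl⟩
      refine (pts_iff S v b₂ hD₂ _).2 ⟨x * a * x⁻¹, hx ▸ ⟨a, ha, rfl⟩, d, ?_⟩
      rw [hc, ← had, map_mul, map_mul, map_inv, _root_.mul_assoc _ _ (d ≫ S.d), ← S.hcentral]
      simp only [_root_.mul_assoc]
      rfl
    · intro hq
      obtain ⟨a, ha, d, had⟩ := (pts_iff S v b₂ hD₂ _).1 hq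
      rw [← hx, mem_conjSub] at ha
      obtain ⟨z, hz⟩ := (pts_iff S v b₁ hD₁ _).2 ⟨x⁻¹ * a * x, ha, d, rfl⟩
      refine ⟨z, ?_⟩
      rw [hc, hz, ← had, map_mul, map_mul, map_inv, ← _root_.mul_assoc, _root_.mul_assoc _ (d ≫ S.d), S.hcentral]
      simp only [g, _root_.mul_assoc, mul_inv_cancel_left]
  exact ⟨g, e, he.symm⟩

/-- Every rational point lies in a Borel subgroup. -/
theorem exists_borel_mem (g : RPt G) :
    ∃ (B : Over (Spec (CommRingCat.of k))) (_ : GrpObj B) (b : B ⟶ G), Red.IsBorelOver k b ∧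
      ∃ g' : RPt B, g' ≫ b = g := by
  obtain ⟨S⟩ := exists_split (G := G)
  obtain ⟨A, _, _, v, hv, hA, hAred⟩ := exists_setup S.L
  haveI := hv; haveI := hA; haveI := hAred
  obtain ⟨hKc, hK⟩ := facts_top v
  obtain ⟨a, d, rfl⟩ := S.hmul g
  obtain ⟨x, rfl⟩ := (ptEquiv v).surjective a
  obtain ⟨B₀, hB₀, -, -⟩ := IsBor.exists_conj_universal hKc hK
  obtain ⟨y, hy⟩ := exists_conj_mem_bor (isPreconnected_univ_of_connected v) hB₀ x
  obtain ⟨B, _, b, hb, hB, hD, hl⟩ := exists_borel_of_isBor S v (hB₀.conjSub (a := y) (Subgroup.mem_top _))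
  haveI := hb
  refine ⟨B, inferInstance, b, hB, (pts_iff S v b hD _).2 ⟨x, ?_, d, rfl⟩⟩
  rw [hl, mem_conjSub]
  exact hy

/-- Maximal tori of a Borel subgroup are maximal. -/
theorem isMaxTorus_of_borel {B T : Over (Spec (CommRingCat.of k))} [GrpObj B] [GrpObj T] {b : B ⟶ G}
    (hB : Red.IsBorelOver k b) {t : T ⟶ B} (ht : AGF.IsMaxTorus t) : AGF.IsMaxTorus (t ≫ b) := by
  obtain ⟨S⟩ := exists_split (G := G)
  obtain ⟨A, _, _, v, hv, hA, -⟩ := exists_setup S.L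
  haveI := hv; haveI := hA
  haveI := hB.1; haveI := hB.2.1; haveI := hB.2.2.1
  haveI : QuasiCompact B.hom := by rw [← Over.w b]; infer_instance
  obtain ⟨hD, hbor⟩ := facts_of_isBorelOver S v b hB
  obtain ⟨htm, htmo, htor, htmax⟩ := ht
  haveI := htm; haveI := htmo
  haveI : Mono b := DiagRep.mono_of_isClosedImmersion b inferInstance
  haveI : Mono (t ≫ b) := mono_comp _ _
  obtain ⟨j, hj, hjm, hjmo⟩ := exists_lift_torus S (t ≫ b) htor
  haveI := hjm; haveI := hjmo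
  rw [← hj, isMaxTorus_iff]
  have hS := isTor_ptsSub v j htor
  have hSB : ptsSub v j ≤ lpart S v b := fun a ha => by
    obtain ⟨z, hz⟩ := (mem_ptsSub v).1 ha
    exact (mem_lpart S v b).2 ⟨z ≫ t, by rw [Category.assoc, ← hj, ← Category.assoc, hz]⟩
  have hM : IsMaxTor (lpart S v b) (ptsSub v j) := by
    refine ⟨hSB, hS, fun T' hT'B hT' hle => le_antisymm ?_ hle⟩
    obtain ⟨T'', _, j', hj', hj'm, hj'c, hT'', _, hpts⟩ := exists_torus_sub v hT'
    haveI := hj'; haveI := hj'm; haveI := hj'c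
    obtain ⟨-, -, -, -, hred, -⟩ := torus_props j htor
    obtain ⟨-, -, -, -, hred', -⟩ := torus_props j' hT''
    haveI := hred; haveI := hred'
    haveI : LocallyOfFiniteType T.hom := by
      obtain ⟨-, hs, -⟩ := torus_props j htor
      haveI := hs; infer_instance
    obtain ⟨f, hf⟩ := exists_factor_of_le v (i := j) (i' := j') (hpts.symm ▸ hle)
    haveI : Mono S.l := DiagRep.mono_of_isClosedImmersion S.l inferInstance
    haveI : LocallyOfFiniteType T''.hom := by rw [← Over.w j']; infer_instance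
    obtain ⟨t', ht'⟩ := exists_factor_of_pts (G := G) (j' ≫ S.l) b fun z => by
      obtain ⟨a, ha⟩ := (ptEquiv v).surjective (z ≫ j')
      obtain ⟨c, hc⟩ := (mem_lpart S v b).1 (hT'B (hpts ▸ (mem_ptsSub v).2 ⟨z, ha.symm⟩ : a ∈ T'))
      exact ⟨c, by rw [hc, ha, Category.assoc]⟩
    haveI : IsMonHom (t' ≫ b) := by rw [ht']; infer_instance
    haveI : IsMonHom t' := DiagRep.isMonHom_of_comp_mono t' b
    haveI : Mono (t' ≫ b) := by rw [ht']; exact mono_comp _ _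
    haveI : Mono t' := mono_of_mono t' b
    haveI := htmax T'' t' f hT'' (by rw [← cancel_mono b, Category.assoc, ht', ← Category.assoc, hf, hj])
    intro x hx
    rw [← hpts] at hx
    obtain ⟨z, hz⟩ := (mem_ptsSub v).1 hx
    exact (mem_ptsSub v).2 ⟨z ≫ inv f, by rw [← hz, ← hf, Category.assoc, IsIso.inv_hom_id_assoc]⟩
  obtain ⟨hKc, hK⟩ := facts_top v
  refine isMaxTorus_of_isMaxTor v (iT := j) htor ⟨le_top, hS, fun T' _ hT' hle => ?_⟩
  obtain ⟨g, -, hg⟩ := hbor.exists_conj_le hKc hK (le_top : T' ≤ ⊤) hT'.conn hT'.isSol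
  obtain ⟨y, -, hy⟩ := hM.exists_conj_le (isClosed_lpart S v b) hbor.conn hg (hT'.conjSub g)
  rw [conjSub_conjSub] at hy
  have h1 : conjSub (y * g) (ptsSub v j) = ptsSub v j :=
    conjSub_eq_of_le hS.closed ((conjSub_mono hle).trans hy)
  refine le_antisymm ?_ hle
  have h2 := conjSub_mono (a := (y * g)⁻¹) hy
  rw [conjSub_conjSub, inv_mul_cancel, conjSub_one] at h2
  refine h2.trans (le_of_eq ?_)
  conv_lhs => rw [← h1]
  rw [conjSub_conjSub, inv_mul_cancel, conjSub_one]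

/-- Cartan subgroups of a Borel subgroup are Cartan subgroups. -/
theorem isCartanOver_of_borel {B C : Over (Spec (CommRingCat.of k))} [GrpObj B] [GrpObj C] {b : B ⟶ G}
    (hB : Red.IsBorelOver k b) {c : C ⟶ B} (hc : SGA3x.IsCartanOver k c) : SGA3x.IsCartanOver k (c ≫ b) := by
  obtain ⟨hcm, hcmo, T, _, t, ht, hcent⟩ := hc
  haveI := hcm; haveI := hcmo
  haveI := hB.1; haveI := hB.2.1; haveI := hB.2.2.1
  haveI : QuasiCompact B.hom := by rw [← Over.w b]; infer_instance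
  haveI : Mono b := DiagRep.mono_of_isClosedImmersion b inferInstance
  have hmax := isMaxTorus_of_borel hB (isMaxTorus_of_isMaximalTorus ht)
  refine ⟨inferInstance, mono_comp _ _, T, inferInstance, t ≫ b, isMaximalTorus_of_isMaxTorus hmax, ?_⟩
  obtain ⟨S⟩ := exists_split (G := G)
  haveI := hmax.1; haveI := hmax.2.1
  obtain ⟨j, hj, hjm, hjmo⟩ := exists_lift_torus S (t ≫ b) hmax.2.2.1
  haveI := hjm; haveI := hjmo
  obtain ⟨-, -, -, -, -, hcl⟩ := torus_props (t ≫ b) hmax.2.2.1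
  obtain ⟨-, -, -, -, -, hclj⟩ := torus_props j hmax.2.2.1
  haveI : IsSeparated G.hom := Groth.Agent.GrpField.isSeparated_grp (G := G)
  obtain ⟨⟨Z, _, z, hz, hzc, hzs⟩, -⟩ := Groth.Agent.S3006.result _ G T (t ≫ b) hcl hmax.2.2.1
  obtain ⟨⟨CL, _, cL, hcL, -, hcLs⟩, -⟩ := Groth.Agent.S3006.result _ S.L T j hclj hmax.2.2.1
  haveI := hzc; haveI := hzs; haveI := hcLs
  obtain ⟨A, _, _, v, hv, hA, -⟩ := exists_setup S.L
  haveI := hv; haveI := hA
  obtain ⟨hD, hbor⟩ := facts_of_isBorelOver S v b hB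
  obtain ⟨BL, _, iBL, hiBL, hBL, hBLpts⟩ := BorelLib.exists_borel_of_isBor v hbor
  haveI := hiBL; haveI := hBL.2.1
  obtain ⟨-, -, -, -, hTred, -⟩ := torus_props j hmax.2.2.1
  haveI := hTred
  haveI : LocallyOfFiniteType T.hom := by
    obtain ⟨-, hs, -⟩ := torus_props j hmax.2.2.1
    haveI := hs; infer_instance
  obtain ⟨tL, htL⟩ := exists_factor_of_le v (i := j) (i' := iBL) (by
    rw [hBLpts]
    intro a ha
    obtain ⟨w, hw⟩ := (mem_ptsSub v).1 ha
    exact (mem_lpart S v b).2 ⟨w ≫ t, by rw [Category.assoc, ← hj, ← Category.assoc, hw]⟩)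
  obtain ⟨φ, hφ⟩ := exists_factor_cartan j ((isMaxTorus_iff S).1 (hj ▸ hmax)) hcL hBL htL
  haveI : AlgebraicGeometry.IsReduced Z.left := AlgSpLib.isReduced_of_smooth Z.hom
  haveI : LocallyOfFiniteType Z.hom := inferInstance
  obtain ⟨u, hu⟩ := exists_factor_of_pts z b fun w => by
    have hw : ∀ (X' : Over (Spec (CommRingCat.of k))) (x : X' ⟶ 𝟙_ _) (h : X' ⟶ T),
        (x ≫ w ≫ z) * (h ≫ t ≫ b) = (h ≫ t ≫ b) * (x ≫ w ≫ z) := (hz.2.2 _ (w ≫ z)).1 ⟨w, rfl⟩
    obtain ⟨a, d, had⟩ := S.hmul (w ≫ z)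
    obtain ⟨y, hy⟩ := (hcL.2.2 _ a).2 ((commutes_iff S j a d).1 fun X' x h => by rw [had, hj]; exact hw X' x h)
    obtain ⟨x, rfl⟩ := (ptEquiv v).surjective a
    refine (pts_iff S v b hD _).2 ⟨x, ?_, d, had⟩
    rw [← hBLpts]
    exact (mem_ptsSub v).2 ⟨y ≫ φ, by rw [Category.assoc, hφ, hy]⟩
  refine ⟨inferInstance, mono_comp _ _, fun X g => ⟨?_, fun hg => ?_⟩⟩
  · rintro ⟨y, rfl⟩ X' x h
    have h1 := congrArg (· ≫ b) ((hcent.2.2 X (y ≫ c)).1 ⟨y, rfl⟩ X' x h)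
    simpa only [MonObj.mul_comp, Category.assoc] using h1
  · obtain ⟨y, hy⟩ := (hz.2.2 X g).2 hg
    have hgb : (y ≫ u) ≫ b = g := by rw [Category.assoc, hu, hy]
    obtain ⟨w, hw⟩ := (hcent.2.2 X (y ≫ u)).2 fun X' x h => by
      have hgb' : y ≫ u ≫ b = g := by rw [← Category.assoc, hgb]
      rw [← cancel_mono b, MonObj.mul_comp, MonObj.mul_comp]
      simp only [Category.assoc, hgb']
      exact hg X' x h
    exact ⟨w, by rw [← Category.assoc, hw, hgb]⟩

end Groth.Agent.BorelLib.NA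

end
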