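import Groth.Agent.BorelLib.Norm
import Groth.Agent.BorelLib.MaxTor
import Groth.Agent.ClassBoundLib.Points
import Groth.Agent.S3006

/-!
# Scheme-level consequences: centralisers, normalisers, maximal tori, nilpotency
-/

set_option autoImplicit false
set_option linter.style.haveILetI false
set_option backward.isDefEq.respectTransparency false

universe u

open CategoryTheory CategoryTheory.Limits MonoidalCategory CartesianMonoidalCategory AlgebraicGeometry WithConv
open scoped MonObj commutatorElement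
open CoactBr (sp)

noncomputable section

attribute [-instance] CategoryTheory.Hom.commGroup

namespace Groth.Agent.BorelLib

attribute [local instance] pTop pTopTensor

variable {k : Type u} [Field k] [IsAlgClosed k] {A : Type u} [CommRing A] [HopfAlgebra k A] [Algebra.FiniteType k A]
  {G : Over (Spec (CommRingCat.of k))} [GrpObj G] (v : sp k A ≅ G) [IsMonHom v.hom]

omit [GrpObj G] [IsMonHom v.hom] in
include v in
/-- The whole group of points is closed and connected. -/
lemma facts_top [PreconnectedSpace G.left] :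
    IsClosed ((⊤ : Subgroup (Pt k A)) : Set (Pt k A)) ∧ _root_.IsPreconnected ((⊤ : Subgroup (Pt k A)) : Set (Pt k A)) := by
  rw [Subgroup.coe_top]
  exact ⟨isClosed_univ, isPreconnected_univ_of_connected v⟩

omit [Algebra.FiniteType k A] in
lemma ptsSub_le_of_factor {H H' : Over (Spec (CommRingCat.of k))} [GrpObj H] [GrpObj H'] {i : H ⟶ G} [IsMonHom i]
    {i' : H' ⟶ G} [IsMonHom i'] {f : H ⟶ H'} (hf : f ≫ i' = i) : ptsSub v i ≤ ptsSub v i' := fun x hx => by
  obtain ⟨b, hb⟩ := (mem_ptsSub v).1 hx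
  exact (mem_ptsSub v).2 ⟨b ≫ f, by rw [Category.assoc, hf, hb]⟩

variable [Smooth G.hom] [IsAffine G.left]

/-- A maximal torus gives a maximal torus of the group of points. -/
theorem isMaxTor_ptsSub {T : Over (Spec (CommRingCat.of k))} [GrpObj T] {iT : T ⟶ G} [IsMonHom iT]
    (hT : AGF.IsMaxTorus iT) : IsMaxTor (⊤ : Subgroup (Pt k A)) (ptsSub v iT) := by
  haveI := hT.2.1
  exact ⟨le_top, isTor_ptsSub v iT hT.2.2.1, fun S _ hS hle => (eq_of_isMaxTorus v hT hS hle).symm⟩

/-- The centraliser of a torus is smooth, closed, and has the expected points. -/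
theorem centralizer_facts {T : Over (Spec (CommRingCat.of k))} [GrpObj T] (iT : T ⟶ G) [IsMonHom iT] [Mono iT]
    (hT : Red.IsTorus T) {C : Over (Spec (CommRingCat.of k))} [GrpObj C] {c : C ⟶ G}
    (hc : Red.IsCentralizerOf iT c) :
    Smooth C.hom ∧ IsClosedImmersion c.left ∧
      ∀ [IsMonHom c], ptsSub v c = Subgroup.centralizer (ptsSub v iT : Set (Pt k A)) := by
  obtain ⟨hcl, hred⟩ := facts_torus v (iT := iT) inferInstance hT
  haveI := hcl; haveI := hred
  haveI : QuasiCompact G.hom := inferInstance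
  haveI : QuasiSeparated G.hom := inferInstance
  haveI : LocallyOfFinitePresentation G.hom := inferInstance
  haveI : LocallyOfFiniteType T.hom := by rw [← Over.w iT]; infer_instance
  haveI : IsSeparated G.hom := Groth.Agent.GrpField.isSeparated_grp (G := G)
  obtain ⟨⟨Z, _, z, hz, hzc, hzs⟩, -⟩ := Groth.Agent.S3006.result _ G T iT hcl hT
  obtain ⟨a, ha⟩ := (hz.2.2 C c).2 ((hc.2.2 C c).1 ⟨𝟙 C, Category.id_comp c⟩)
  obtain ⟨b, hb⟩ := (hc.2.2 Z z).2 ((hz.2.2 Z z).1 ⟨𝟙 Z, Category.id_comp z⟩)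
  haveI := hz.2.1; haveI := hc.2.1
  haveI : IsIso a := ⟨b, by rw [← cancel_mono c, Category.assoc, hb, ha, Category.id_comp],
    by rw [← cancel_mono z, Category.assoc, ha, hb, Category.id_comp]⟩
  haveI : IsIso a.left := (Over.forget _).map_isIso a
  haveI := hzc; haveI := hzs
  refine ⟨by rw [← Over.w a]; infer_instance, by rw [← ha, Over.comp_left]; infer_instance, fun {_} => ?_⟩
  ext x
  rw [mem_ptsSub, Subgroup.mem_centralizer_iff]
  constructor
  · intro h y hy
    obtain ⟨s, hs⟩ := (mem_ptsSub v).1 hy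
    have := (hc.2.2 _ (ptEquiv v x)).1 h _ (𝟙 _) s
    rw [Category.id_comp, hs] at this
    apply (ptEquiv v).injective
    rw [map_mul, map_mul]
    exact this.symm
  · intro h
    refine (hc.2.2 _ (ptEquiv v x)).2 fun X' x' s => ?_
    have e : (toUnit T ≫ ptEquiv v x) * iT = iT * (toUnit T ≫ ptEquiv v x) := AVAmpleLib.hom_ext_of_points _ _ fun p => by
      rw [MonObj.comp_mul, MonObj.comp_mul, ← Category.assoc, toUnit_unique (p ≫ toUnit T) (𝟙 _), Category.id_comp]
      have hp := h ((ptEquiv v).symm (p ≫ iT)) ((mem_ptsSub v).2 ⟨p, ((ptEquiv v).apply_symm_apply _).symm⟩)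
      have := congrArg (ptEquiv v) hp
      rw [map_mul, map_mul, (ptEquiv v).apply_symm_apply] at this
      exact this.symm
    have := congrArg (fun w => s ≫ w) e
    simp only [MonObj.comp_mul, ← Category.assoc] at this
    rwa [toUnit_unique (s ≫ toUnit T) x'] at this

omit [Algebra.FiniteType k A] [Smooth G.hom] [IsAffine G.left] in
/-- Elements of the normaliser normalise the points. -/
theorem conjSub_eq_of_normalizer {H N : Over (Spec (CommRingCat.of k))} [GrpObj H] [GrpObj N] {iH : H ⟶ G}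
    [IsMonHom iH] {n : N ⟶ G} (hn : Red.IsNormalizerOf iH n) [IsMonHom n] {x : Pt k A} (hx : x ∈ ptsSub v n) :
    conjSub x (ptsSub v iH) = ptsSub v iH := by
  have key := (hn.2.2 _ (ptEquiv v x)).1 ((mem_ptsSub v).1 hx) (𝟙_ _) (𝟙 _)
  ext y
  rw [mem_conjSub]
  constructor
  · intro hy
    obtain ⟨b, hb⟩ := (mem_ptsSub v).1 hy
    obtain ⟨h', hh'⟩ := (key b).1
    rw [Category.id_comp, hb] at hh'
    refine (mem_ptsSub v).2 ⟨h', ?_⟩
    rw [← hh', map_mul, map_mul, map_inv]
    group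
  · intro hy
    obtain ⟨b, hb⟩ := (mem_ptsSub v).1 hy
    obtain ⟨h', hh'⟩ := (key b).2
    rw [Category.id_comp, hb] at hh'
    refine (mem_ptsSub v).2 ⟨h', ?_⟩
    rw [← hh', map_mul, map_mul, map_inv]

omit [Smooth G.hom] [IsAffine G.left] [Algebra.FiniteType k A] [IsMonHom v.hom] in
/-- A smooth group with nilpotent group of points is nilpotent. -/
theorem isNilpotentGrp_of_points {H : Over (Spec (CommRingCat.of k))} [GrpObj H] [Smooth H.hom] {n : ℕ}
    (h : (⊤ : Subgroup (RPt H)).lowerCentralSeries n = ⊥) : AGF.IsNilpotentGrp H := by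
  refine ⟨n, fun X => Subgroup.lowerCentralSeries_eq_bot_iff_upperCentralSeries_eq_top.1 ?_⟩
  revert X
  rw [ClassBound.forall_lcs_iff]
  have hsm : ∀ m, Smooth (ClassBound.CP H m).hom := by
    intro m
    induction m with
    | zero => assumption
    | succ m ih => haveI := ih; exact inferInstanceAs (Smooth (pullback.fst (ClassBound.CP H m).hom H.hom ≫ (ClassBound.CP H m).hom))
  haveI := hsm n
  haveI : _root_.AlgebraicGeometry.IsReduced (ClassBound.CP H n).left := AlgSpLib.isReduced_of_smooth (ClassBound.CP H n).hom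
  haveI : IsSeparated H.hom := Groth.Agent.GrpField.isSeparated_grp (G := H)
  refine AVAmpleLib.hom_ext_of_points _ _ fun x => ?_
  rw [MonObj.comp_one]
  exact (ClassBound.lcs_eq_bot_iff _ n).1 h x

/-- A torus whose points form a maximal torus of points is maximal. -/
theorem isMaxTorus_of_isMaxTor {T : Over (Spec (CommRingCat.of k))} [GrpObj T] {iT : T ⟶ G} [IsMonHom iT] [Mono iT]
    (hT : Red.IsTorus T) (h : IsMaxTor (⊤ : Subgroup (Pt k A)) (ptsSub v iT)) : AGF.IsMaxTorus iT := by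
  refine ⟨inferInstance, inferInstance, hT, fun T' _ j _ _ f hT' hf => ?_⟩
  obtain ⟨hc, hr⟩ := facts_torus v (iT := iT) inferInstance hT
  obtain ⟨hc', hr'⟩ := facts_torus v (iT := j) inferInstance hT'
  haveI := hc; haveI := hr; haveI := hc'; haveI := hr'
  have e : ptsSub v iT = ptsSub v j :=
    (h.maximal _ le_top (isTor_ptsSub v j hT') (ptsSub_le_of_factor v hf)).symm
  obtain ⟨e', he'⟩ := exists_iso_of_eq v (i := iT) (i' := j) e
  rw [show f = e'.hom by rw [← cancel_mono j, hf, he']]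
  infer_instance

omit [Smooth G.hom] [IsAffine G.left] [Algebra.FiniteType k A] [IsMonHom v.hom] [GrpObj G] in
lemma commutator_mem_step {K : Subgroup (Pt k A)} (D : FlagRep K) {i : ℕ} {a b : Pt k A} (ha : a ∈ D.U i)
    (hb : b ∈ D.U 1) : ⁅a, b⁆ ∈ D.U (i + 1) := by
  refine ⟨(D.commutator_mem_U ha.1 hb.1).1, ?_⟩
  have hlow : D.r.ρ a * D.r.ρ b - D.r.ρ b * D.r.ρ a ∈ D.low (i + 1) := by
    have e : D.r.ρ a * D.r.ρ b - D.r.ρ b * D.r.ρ a =
        (D.r.ρ a - 1) * (D.r.ρ b - 1) - (D.r.ρ b - 1) * (D.r.ρ a - 1) := by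
      simp only [mul_sub, sub_mul, one_mul, mul_one]; abel
    rw [e]
    have h1 := D.low_mul (i := i) (i' := 1) ha.2 hb.2
    have h2 := D.low_mul (i := 1) (i' := i) hb.2 ha.2
    exact (D.low (i + 1)).sub_mem (D.low_anti (by omega : i + 1 ≤ 1 + i) h1) h2
  have e : D.r.ρ ⁅a, b⁆ - 1 = (D.r.ρ a * D.r.ρ b - D.r.ρ b * D.r.ρ a) * D.r.ρ (b * a)⁻¹ := by
    rw [sub_mul, ← D.ρ_mul, ← D.ρ_mul, ← D.ρ_mul, ← D.ρ_mul, mul_inv_cancel, D.r.map_one,
      show a * b * (b * a)⁻¹ = ⁅a, b⁆ by rw [commutatorElement_def]; group]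
  rw [e]
  simpa using D.low_mul hlow (D.ρ_mem_low (inv_mem (K.mul_mem hb.1 ha.1)))

omit [Smooth G.hom] [IsAffine G.left] [IsMonHom v.hom] [GrpObj G] in
/-- A connected group with a central maximal torus has nilpotent points. -/
theorem exists_lcs_eq_bot (hconn : _root_.IsPreconnected (Set.univ : Set (Pt k A))) {S : Subgroup (Pt k A)}
    (hS : IsMaxTor ⊤ S) (hc : ∀ s ∈ S, ∀ g : Pt k A, s * g = g * s) :
    ∃ n, (⊤ : Subgroup (Pt k A)).lowerCentralSeries n = ⊥ := by
  have hKc : IsClosed ((⊤ : Subgroup (Pt k A)) : Set (Pt k A)) := by rw [Subgroup.coe_top]; exact isClosed_univ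
  have hK : _root_.IsPreconnected ((⊤ : Subgroup (Pt k A)) : Set (Pt k A)) := by rwa [Subgroup.coe_top]
  have htop : cart ⊤ S = ⊤ := top_le_iff.1 (le_neut hK fun g _ =>
    ⟨trivial, Subgroup.mem_centralizer_iff.2 fun s hs => hc s hs g⟩)
  obtain ⟨D⟩ := exists_flagRep hK (htop ▸ hS.isSol_cart hKc)
  obtain ⟨S₀, -, hS₀, hu, hdec, -⟩ := D.exists_torus_decomp hKc hK
  obtain ⟨g, -, hg⟩ := hu S le_top hS.tor
  have hSS : S₀ = S := hS.maximal S₀ le_top hS₀ fun s hs => hg ⟨s, hs, by
    show g * s * g⁻¹ = s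
    rw [← hc s hs g, mul_inv_cancel_right]⟩
  have hstep : ∀ m, 1 ≤ m → (⊤ : Subgroup (Pt k A)).lowerCentralSeries m ≤ D.U m := by
    intro m hm
    induction m, hm using Nat.le_induction with
    | base =>
      rw [Subgroup.lowerCentralSeries_succ, Subgroup.lowerCentralSeries_zero, Subgroup.commutator_le]
      exact fun a _ b _ => D.commutator_mem_U trivial trivial
    | succ m hm ih =>
      rw [Subgroup.lowerCentralSeries_succ, Subgroup.commutator_le]
      intro a ha b _
      obtain ⟨s, hs, hsu⟩ := hdec b trivial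
      have e : ⁅a, b⁆ = ⁅a, s⁻¹ * b⁆ := by
        have h1 := hc s (hSS ▸ hs)
        calc ⁅a, b⁆ = a * (s * (s⁻¹ * b)) * a⁻¹ * ((s * (s⁻¹ * b)))⁻¹ := by rw [commutatorElement_def, mul_inv_cancel_left]
          _ = s * (a * (s⁻¹ * b) * a⁻¹ * (s⁻¹ * b)⁻¹) * s⁻¹ := by
            rw [← _root_.mul_assoc a s, ← h1 a]; group
          _ = ⁅a, s⁻¹ * b⁆ := by rw [h1, mul_inv_cancel_right, commutatorElement_def]
      rw [e]
      exact commutator_mem_step D (ih ha) hsu
  obtain ⟨N, hN⟩ := D.exists_U_bot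
  exact ⟨N + 1, le_bot_iff.1 ((hstep (N + 1) (by omega)).trans ((D.U_anti (Nat.le_succ N)).trans hN.le))⟩

include v in
/-- A group with a central maximal torus of points is nilpotent. -/
theorem isNilpotentGrp_of_central [PreconnectedSpace G.left] {S : Subgroup (Pt k A)} (hS : IsMaxTor ⊤ S)
    (hc : ∀ s ∈ S, ∀ g : Pt k A, s * g = g * s) : AGF.IsNilpotentGrp G := by
  obtain ⟨n, hn⟩ := exists_lcs_eq_bot (isPreconnected_univ_of_connected v) hS hc
  exact isNilpotentGrp_of_points ((ClassBound.lcs_congr (ptEquiv v) n).1 hn)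

end Groth.Agent.BorelLib

end
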