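import Groth.Agent.BorelLib.SelfNorm
import Groth.Agent.BorelLib.NonAffBorelConn
import Groth.Agent.S3911
import Groth.Agent.S7800
import Groth.Agent.AbSchLib.Flat
import Groth.Agent.AlbNormLib.Rosen

/-!
# The normaliser of a Cartan subgroup in a solvable group
-/

set_option autoImplicit false
set_option linter.style.haveILetI false
set_option linter.unusedSectionVars false
set_option backward.isDefEq.respectTransparency false

universe u

open CategoryTheory CategoryTheory.Limits MonoidalCategory CartesianMonoidalCategory AlgebraicGeometry WithConv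
open scoped MonObj
open CoactBr (sp)

noncomputable section

attribute [-instance] CategoryTheory.Hom.commGroup

namespace Groth.Agent.BorelLib

theorem mul_comm_of_isComm {S : Scheme.{u}} {T X : Over S} [GrpObj T] [IsCommMonObj T] (x h : X ⟶ T) :
    x * h = h * x := by
  rw [Hom.mul_def, Hom.mul_def, ← lift_braiding_hom h x, Category.assoc, IsCommMonObj.mul_comm]

attribute [local instance] pTop pTopTensor

variable {k : Type u} [Field k] [IsAlgClosed k]

/-- In a connected solvable affine group a Cartan subgroup is its own scheme-theoretic normaliser. -/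
theorem exists_factor_of_normalizes_cartan {L : Over (Spec (CommRingCat.of k))} [GrpObj L] [IsAffine L.left]
    [Smooth L.hom] [ConnectedSpace L.left] (hsol : Red.IsSolvableGrp L) {T : Over (Spec (CommRingCat.of k))}
    [GrpObj T] {j : T ⟶ L} (hT : AGF.IsMaxTorus j) {C : Over (Spec (CommRingCat.of k))} [GrpObj C] {c : C ⟶ L}
    (hc : Red.IsCentralizerOf j c) {X : Over (Spec (CommRingCat.of k))} (g : X ⟶ L)
    (hg : ∀ (X' : Over (Spec (CommRingCat.of k))) (x : X' ⟶ X) (h : X' ⟶ C),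
      (∃ h' : X' ⟶ C, (x ≫ g) * (h ≫ c) * (x ≫ g)⁻¹ = h' ≫ c) ∧
      (∃ h' : X' ⟶ C, (x ≫ g)⁻¹ * (h ≫ c) * (x ≫ g) = h' ≫ c)) :
    ∃ y : X ⟶ C, y ≫ c = g := by
  haveI := hT.1; haveI := hT.2.1; haveI := hc.1; haveI := hc.2.1
  haveI : QuasiCompact L.hom := inferInstance
  obtain ⟨hCs, hCc⟩ := centralizer_smooth j hT.2.2.1 hc
  haveI := hCs; haveI := hCc
  haveI : IsAffine C.left := isAffine_of_isAffineHom c.left
  haveI : ConnectedSpace C.left := (centralizer_connected j hT.2.2.1 hc).2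
  haveI : QuasiSeparated L.hom := inferInstance
  haveI := CommSubLib.geometricallyIrreducible_of_connected C
  obtain ⟨N, _, n, hN, hnc, hnf⟩ := Groth.Agent.S5260.result L C (fun s => by
    haveI : IrreducibleSpace ↥(pullback C.hom ((Spec (CommRingCat.of k)).fromSpecResidueField s)) :=
      GeometricallyIrreducible.geometrically_irreducibleSpace (f := C.hom) _ _ _ (IsPullback.of_hasPullback _ _)
    infer_instance) c
  haveI := hN.1; haveI := hnc
  obtain ⟨z, rfl⟩ := (hN.2.2 X g).2 hg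
  suffices h : ∃ m : N ⟶ C, m ≫ c = n by
    obtain ⟨m, hm⟩ := h
    exact ⟨z ≫ m, by rw [Category.assoc, hm]⟩
  obtain ⟨A, _, _, v, hv, hA, -⟩ := exists_setup L
  haveI := hv; haveI := hA
  obtain ⟨hKc, hK⟩ := facts_top v
  -- the whole group is a Borel subgroup
  haveI : IsClosedImmersion (𝟙 L : L ⟶ L).left := inferInstanceAs (IsClosedImmersion (𝟙 L.left))
  have hL : Red.IsBorelOver k (𝟙 L) := by
    refine ⟨inferInstance, inferInstance, inferInstance, inferInstance, hsol, fun B' _ i' _ f hc' _ _ _ hf => ?_⟩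
    haveI := hc'
    haveI : Mono i' := DiagRep.mono_of_isClosedImmersion i' inferInstance
    exact ⟨i', hf, by rw [← cancel_mono i', Category.assoc, hf, Category.comp_id, Category.id_comp]⟩
  obtain ⟨hTc, hTred⟩ := facts_torus v (iT := j) hT.2.1 hT.2.2.1
  haveI := hTc; haveI := hTred
  obtain ⟨-, hTs, -⟩ := NA.torus_props j hT.2.2.1
  haveI := hTs
  haveI hTcomm : IsCommMonObj T := AlbNormLib.isCommMonObj_of_points T fun a b => by
    obtain ⟨xa, hxa⟩ := (ptEquiv v).surjective (a ≫ j)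
    obtain ⟨xb, hxb⟩ := (ptEquiv v).surjective (b ≫ j)
    have e := (isTor_ptsSub v j hT.2.2.1).comm xa ((mem_ptsSub v).2 ⟨a, hxa.symm⟩) xb ((mem_ptsSub v).2 ⟨b, hxb.symm⟩)
    rw [← cancel_mono j, MonObj.mul_comp, MonObj.mul_comp, ← hxa, ← hxb, ← map_mul, ← map_mul, e]
  obtain ⟨t, ht⟩ := (hc.2.2 T j).2 fun X' x h => by
    rw [← MonObj.mul_comp, ← MonObj.mul_comp, mul_comm_of_isComm x h]
  haveI : IsMonHom (t ≫ c) := by rw [ht]; infer_instance
  haveI : IsMonHom t := DiagRep.isMonHom_of_comp_mono t c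
  have hMT : SGA3x.IsMultTypeFT T := by
    obtain ⟨S', φ, hflat, hsurj, hcov, hloc⟩ := hT.2.2.1
    refine ⟨S', φ, hflat, hsurj, hcov, fun x => ?_⟩
    obtain ⟨U, hU, r, hr⟩ := hloc x
    exact ⟨U, hU, (Fin r → ℤ), inferInstance, inferInstance, hr⟩
  haveI : IsAffineHom C.hom := inferInstance
  haveI : LocallyOfFiniteType N.hom := by rw [← Over.w n]; infer_instance
  haveI : JacobsonSpace N.left := LocallyOfFiniteType.jacobsonSpace N.hom
  refine exists_factor_of_transporter (Groth.Agent.Transporter.locally_of_isMultTypeFT hMT) ht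
    (fun X g hg => (hc.2.2 X g).2 hg) (fun X' x h => ((hN.2.2 N n).1 ⟨𝟙 N, Category.id_comp n⟩ X' x h).1)
    fun U hU hmem => ?_
  by_contra hne
  obtain ⟨y, hy, hyc⟩ := nonempty_inter_closedPoints (Z := Uᶜ) (Set.nonempty_compl.2 hne)
    hU.isClosed_compl.isLocallyClosed
  obtain ⟨p, hp⟩ := AVAmpleLib.exists_pt_eq y hyc
  obtain ⟨a, ha⟩ := (ptEquiv v).surjective (p ≫ n)
  have han : a ∈ ptsSub v n := (mem_ptsSub v).2 ⟨p, ha.symm⟩
  -- the point normalises the torus
  have hS := isMaxTor_ptsSub v hT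
  have hSC : ptsSub v j ≤ ptsSub v c := ptsSub_le_of_factor v ht
  have hMC : IsMaxTor (ptsSub v c) (ptsSub v j) :=
    ⟨hSC, hS.tor, fun T' _ hT' hle => hS.maximal T' le_top hT' hle⟩
  have haC := conjSub_eq_of_normalizer v hN han
  have h1 : conjSub a (ptsSub v j) ≤ ptsSub v c := haC ▸ conjSub_mono hSC
  obtain ⟨w, hw, hwT⟩ := hMC.exists_conj_le (isClosed_ptsSub v) (isPreconnected_ptsSub v) h1 (hS.tor.conjSub a)
  have hcent : conjSub w (ptsSub v j) = ptsSub v j := by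
    refine conjSub_eq_of_le hS.tor.closed ?_
    rintro _ ⟨x, hx, rfl⟩
    obtain ⟨e, he⟩ := (mem_ptsSub v).1 hw
    obtain ⟨d, hd⟩ := (mem_ptsSub v).1 hx
    have h2 := (hc.2.2 _ (e ≫ c)).1 ⟨e, rfl⟩ _ (𝟙 _) d
    rw [Category.id_comp, he, hd, ← map_mul, ← map_mul, EmbeddingLike.apply_eq_iff_eq] at h2
    show w * x * w⁻¹ ∈ _
    rw [h2, mul_inv_cancel_right]
    exact hx
  have haT : conjSub a (ptsSub v j) = ptsSub v j := by
    refine conjSub_eq_of_le hS.tor.closed fun x hx => ?_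
    have h3 := conjSub_mono (a := w⁻¹) hwT
    rw [conjSub_conjSub, inv_mul_cancel, conjSub_one] at h3
    have h4 := h3 hx
    rwa [show conjSub w⁻¹ (ptsSub v j) = ptsSub v j by
      conv_lhs => rw [← hcent]
      rw [conjSub_conjSub, inv_mul_cancel, conjSub_one]] at h4
  obtain ⟨τ, hτ⟩ := exists_iso_conj v (i := j) (i' := j) haT
  haveI := DiagRep.isIso_conjBy (ptEquiv v a)
  have hfix := Groth.Agent.S3911.result k L T L j (𝟙 L) hT hL j (Category.comp_id j) (ptEquiv v a) τ hτ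
    (asIso (AGF.conjBy (ptEquiv v a) (𝟙 L))) (Category.comp_id _)
  obtain ⟨b, hb⟩ := (hc.2.2 _ (ptEquiv v a)).2 fun X' x h => by
    have e := congrArg (h ≫ ·) hfix
    simp only [AGF.conjBy, MonObj.comp_mul, GrpObj.comp_inv, ← Category.assoc, toUnit_unique (h ≫ toUnit T) x] at e
    rwa [mul_inv_eq_iff_eq_mul] at e
  let X₀ : Over N.left := Over.mk p.left
  let ε : (Over.map N.hom).obj X₀ ≅ 𝟙_ (Over (Spec (CommRingCat.of k))) := Over.isoMk (Iso.refl _) (by
    show 𝟙 _ ≫ 𝟙 _ = p.left ≫ N.hom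
    rw [Category.id_comp]; exact (Over.w p).symm)
  refine hy (hmem X₀ ⟨ε.hom ≫ b, ?_⟩ ⟨IsLocalRing.closedPoint k, hp⟩)
  rw [Category.assoc, hb, ha, ← Category.assoc]
  congr 1

namespace NA

/-- **In a connected solvable group a Cartan subgroup is its own scheme-theoretic normaliser.** -/
theorem exists_factor_of_normalizes_cartan {B : Over (Spec (CommRingCat.of k))} [GrpObj B] [Smooth B.hom]
    [QuasiCompact B.hom] [ConnectedSpace B.left] (hsol : Red.IsSolvableGrp B) {C : Over (Spec (CommRingCat.of k))}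
    [GrpObj C] {c : C ⟶ B} (hC : SGA3x.IsCartanOver k c) {X : Over (Spec (CommRingCat.of k))} (g : X ⟶ B)
    (hg : ∀ (X' : Over (Spec (CommRingCat.of k))) (x : X' ⟶ X) (h : X' ⟶ C),
      (∃ h' : X' ⟶ C, (x ≫ g) * (h ≫ c) * (x ≫ g)⁻¹ = h' ≫ c) ∧
      (∃ h' : X' ⟶ C, (x ≫ g)⁻¹ * (h ≫ c) * (x ≫ g) = h' ≫ c)) :
    ∃ y : X ⟶ C, y ≫ c = g := by
  obtain ⟨hcm, hcmo, T, _, t, ht, hcent⟩ := hC
  haveI := hcm; haveI := hcmo
  have hmax := isMaxTorus_of_isMaximalTorus ht
  haveI := hmax.1; haveI := hmax.2.1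
  obtain ⟨S⟩ := exists_split (G := B)
  obtain ⟨j, rfl, hjm, hjmo⟩ := exists_lift_torus S t hmax.2.2.1
  haveI := hjm; haveI := hjmo
  obtain ⟨-, hcc, -, -⟩ := centralizer_torus S j hmax.2.2.1 hcent
  haveI := hcc
  haveI : Mono S.l := DiagRep.mono_of_isClosedImmersion S.l inferInstance
  obtain ⟨-, -, -, -, -, hclj⟩ := torus_props j hmax.2.2.1
  obtain ⟨⟨CL, _, cL, hcL, -, -⟩, -⟩ := Groth.Agent.S3006.result _ S.L T j hclj hmax.2.2.1
  have hsolL : Red.IsSolvableGrp S.L := by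
    obtain ⟨n, hn⟩ := hsol
    refine ⟨n, fun Y => ?_⟩
    let f : (Y ⟶ S.L) →* (Y ⟶ B) := MonoidHom.mk' (fun a => a ≫ S.l) fun a b => MonObj.mul_comp a b S.l
    have hf : Function.Injective f := fun a b hab => (cancel_mono S.l).1 hab
    exact (Subgroup.map_eq_bot_iff_of_injective _ hf).1
      (le_bot_iff.1 ((map_derivedSeries_le_derivedSeries f n).trans (hn Y).le))
  -- lift to `L × D`
  haveI : IsSeparated B.hom := Groth.Agent.GrpField.isSeparated_grp (G := B)
  let m : S.L ⊗ S.D ⟶ B := S.prodHom S.l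
  haveI : Smooth (S.L ⊗ S.D).hom := S.smooth_prod (P := S.L)
  haveI : LocallyOfFiniteType (S.L ⊗ S.D).hom := inferInstance
  haveI : IsSeparated (S.L ⊗ S.D).hom := Groth.Agent.GrpField.isSeparated_grp (G := S.L ⊗ S.D)
  haveI : Surjective m.left := by
    haveI : QuasiCompact S.L.hom := inferInstance
    haveI : QuasiCompact (S.L ⊗ S.D).hom := S.qc_prod (P := S.L)
    haveI : QuasiCompact m.left := by
      haveI : QuasiCompact (m.left ≫ B.hom) := by rw [Over.w m]; infer_instance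
      exact QuasiCompact.of_comp m.left B.hom
    have hcl := GrpHom.isClosed_range m
    refine ⟨Set.range_eq_univ.1 ?_⟩
    haveI : JacobsonSpace B.left := LocallyOfFiniteType.jacobsonSpace B.hom
    refine Set.eq_univ_of_univ_subset ?_
    rw [← closure_closedPoints]
    refine closure_minimal (fun y hy => ?_) hcl
    obtain ⟨q, rfl⟩ := AVAmpleLib.exists_pt_eq y hy
    obtain ⟨a, b, rfl⟩ := S.hmul q
    exact ⟨(lift a b).left (IsLocalRing.closedPoint k), by
      rw [← S.lift_prodHom S.l a b]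
      rfl⟩
  haveI : GeometricallyReduced B.hom := AbSchLib.geometricallyReduced_of_smooth B.hom
  haveI : Flat m.left := (Groth.Agent.S7800.result (S.L ⊗ S.D) B m).1
  let P := pullback g.left m.left
  let XP : Over (Spec (CommRingCat.of k)) := Over.mk (pullback.fst g.left m.left ≫ X.hom)
  let π : XP ⟶ X := Over.homMk (pullback.fst g.left m.left) rfl
  let lam : XP ⟶ S.L ⊗ S.D := Over.homMk (pullback.snd g.left m.left) (by
    show pullback.snd g.left m.left ≫ (S.L ⊗ S.D).hom = pullback.fst g.left m.left ≫ X.hom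
    rw [← Over.w m, ← Category.assoc, ← pullback.condition, Category.assoc, Over.w g])
  have hlm : lam ≫ m = π ≫ g := Over.OverMorphism.ext pullback.condition.symm
  let a := lam ≫ fst S.L S.D
  let d := lam ≫ snd S.L S.D
  have had : (a ≫ S.l) * (d ≫ S.d) = π ≫ g := by
    rw [← hlm]
    show _ = lam ≫ S.prodHom S.l
    rw [S.comp_prodHom]
    simp only [a, d, Category.assoc]
  have hconjeq : ∀ (p q h : XP ⟶ B), p * (q * h * q⁻¹) = p * q * h * q⁻¹ := fun p q h => by
    simp only [_root_.mul_assoc]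
  have hnormL : ∀ (X' : Over (Spec (CommRingCat.of k))) (x : X' ⟶ XP) (h : X' ⟶ CL),
      (∃ h' : X' ⟶ CL, (x ≫ a) * (h ≫ cL) * (x ≫ a)⁻¹ = h' ≫ cL) ∧
      (∃ h' : X' ⟶ CL, (x ≫ a)⁻¹ * (h ≫ cL) * (x ≫ a) = h' ≫ cL) := by
    intro X' x h
    obtain ⟨h₁, hh₁⟩ := (hcent.2.2 X' (h ≫ cL ≫ S.l)).2 fun X'' y e => by
      have := congrArg (· ≫ S.l) ((hcL.2.2 X' (h ≫ cL)).1 ⟨h, rfl⟩ X'' y e)
      simpa only [MonObj.mul_comp, Category.assoc] using this
    obtain ⟨⟨h₂, hh₂⟩, ⟨h₃, hh₃⟩⟩ := hg X' (x ≫ π) h₁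
    have hx : (x ≫ π) ≫ g = ((x ≫ a) ≫ S.l) * ((x ≫ d) ≫ S.d) := by
      rw [Category.assoc, ← had, MonObj.comp_mul, Category.assoc, Category.assoc]
      simp only [a, d, Category.assoc]
    rw [hx, hh₁] at hh₂ hh₃
    have back : ∀ (w : X' ⟶ S.L) (h₄ : X' ⟶ C), h₄ ≫ c = w ≫ S.l → ∃ h' : X' ⟶ CL, h' ≫ cL = w := by
      intro w h₄ hw
      refine (hcL.2.2 X' w).2 fun X'' y e => ?_
      have := (hcent.2.2 X' (h₄ ≫ c)).1 ⟨h₄, rfl⟩ X'' y e
      rw [hw] at this
      rw [← cancel_mono S.l, MonObj.mul_comp, MonObj.mul_comp]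
      simpa only [Category.assoc] using this
    have hc1 : ∀ q : X' ⟶ B, ((x ≫ d) ≫ S.d) * q * ((x ≫ d) ≫ S.d)⁻¹ = q := fun q => by
      rw [S.hcentral, mul_inv_cancel_right]
    have hc2 : ∀ q : X' ⟶ B, ((x ≫ d) ≫ S.d)⁻¹ * q * ((x ≫ d) ≫ S.d) = q := fun q => by
      rw [_root_.mul_assoc, ← S.hcentral, inv_mul_cancel_left]
    constructor
    · obtain ⟨h', hh'⟩ := back ((x ≫ a) * (h ≫ cL) * (x ≫ a)⁻¹) h₂ (by
        rw [← hh₂, MonObj.mul_comp, MonObj.mul_comp, GrpObj.inv_comp, Category.assoc h cL S.l, _root_.mul_inv_rev]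
        simp only [_root_.mul_assoc]
        rw [← _root_.mul_assoc (h ≫ cL ≫ S.l), ← _root_.mul_assoc ((x ≫ d) ≫ S.d), ← _root_.mul_assoc ((x ≫ d) ≫ S.d),
          hc1])
      exact ⟨h', hh'.symm⟩
    · obtain ⟨h', hh'⟩ := back ((x ≫ a)⁻¹ * (h ≫ cL) * (x ≫ a)) h₃ (by
        rw [← hh₃, MonObj.mul_comp, MonObj.mul_comp, GrpObj.inv_comp, Category.assoc h cL S.l, _root_.mul_inv_rev]
        conv_rhs => rw [← hc2 (((x ≫ a) ≫ S.l)⁻¹ * (h ≫ cL ≫ S.l) * ((x ≫ a) ≫ S.l))]
        simp only [_root_.mul_assoc])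
      exact ⟨h', hh'.symm⟩
  obtain ⟨y, hy⟩ := Groth.Agent.BorelLib.exists_factor_of_normalizes_cartan hsolL ((isMaxTorus_iff S).1 hmax) hcL a hnormL
  obtain ⟨w, hw⟩ := (hcent.2.2 XP (π ≫ g)).2 fun X' x h => by
    rw [← had]
    exact (commutes_iff S j a d).2 ((hcL.2.2 XP a).1 ⟨y, hy⟩) X' x h
  haveI : Flat π.left := inferInstanceAs (Flat (pullback.fst g.left m.left))
  haveI : Surjective π.left := inferInstanceAs (Surjective (pullback.fst g.left m.left))
  obtain ⟨l, hl⟩ := Groth.Agent.Transporter.exists_lift_of_family c.left g.left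
    (Y' := fun _ : PUnit.{1} => XP.left) (fun _ => π.left) (fun _ => inferInstance)
    (fun z => ⟨PUnit.unit, π.left.surjective z⟩) (fun _ => ⟨w.left, by rw [← Over.comp_left, hw]; rfl⟩)
  exact ⟨Over.homMk l (by rw [← Over.w g, ← hl, Category.assoc, Over.w c]), Over.OverMorphism.ext hl⟩

end NA

end Groth.Agent.BorelLib

end
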