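import Groth.Agent.BorelLib.Cartan

/-!
# Unipotent parts: connectedness of centralisers of tori in solvable groups
-/

set_option autoImplicit false
set_option linter.style.haveILetI false

noncomputable section

universe u

open WithConv
open scoped TensorProduct commutatorElement

namespace Groth.Agent.BorelLib

attribute [local instance] pTop pTopTensor

variable {k : Type u} [Field k] [IsAlgClosed k] {A : Type u} [CommRing A] [HopfAlgebra k A] [Algebra.FiniteType k A]

/-- The product of two subgroups, the first normalising the second. -/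
def prodSub (P Q : Subgroup (Pt k A)) (hn : ∀ p ∈ P, ∀ q ∈ Q, p * q * p⁻¹ ∈ Q) : Subgroup (Pt k A) where
  carrier := {x | ∃ p ∈ P, ∃ q ∈ Q, p * q = x}
  one_mem' := ⟨1, P.one_mem, 1, Q.one_mem, one_mul 1⟩
  mul_mem' := by
    rintro _ _ ⟨p, hp, q, hq, rfl⟩ ⟨p', hp', q', hq', rfl⟩
    exact ⟨p * p', P.mul_mem hp hp', p'⁻¹ * q * p'⁻¹⁻¹ * q',
      Q.mul_mem (hn _ (P.inv_mem hp') _ hq) hq', by group⟩
  inv_mem' := by
    rintro _ ⟨p, hp, q, hq, rfl⟩
    exact ⟨p⁻¹, P.inv_mem hp, p * q⁻¹ * p⁻¹, hn p hp _ (Q.inv_mem hq), by group⟩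

/-- A subgroup which is the image of an irreducible closed set is closed. -/
theorem isClosed_of_image {R : Type u} [CommRing R] [Algebra k R] [Algebra.FiniteType k R] {S : Subgroup (Pt k A)}
    {X : Set (Pt k R)} (hXc : IsClosed X) (hX : IsIrreducible X) {F : Pt k R → Pt k A} (hF : IsMor F)
    (himg : F '' X = (S : Set (Pt k A))) : IsClosed (S : Set (Pt k A)) ∧ IsPreconnected (S : Set (Pt k A)) := by
  obtain ⟨φ, hφ⟩ := hF
  rw [show F = pull φ from funext hφ] at himg
  refine ⟨?_, himg ▸ hX.isConnected.isPreconnected.image _ (continuous_pull φ).continuousOn⟩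
  obtain ⟨W, hWo, ⟨w₀, hw₀W, hw₀⟩, hWsub, -⟩ := exists_open_saturated φ hXc hX
  rw [himg] at hw₀ hWsub
  have hirr : IsIrreducible (closure (S : Set (Pt k A))) :=
    himg ▸ (hX.image _ (continuous_pull φ).continuousOn).closure
  refine closure_subset_iff_isClosed.1 fun y hy => ?_
  obtain ⟨z, hz, hzW, hz'⟩ := hirr.2 W ((fun z => y * z) ⁻¹' W) hWo (hWo.preimage (continuous_const_mul y))
    ⟨w₀, hw₀, hw₀W⟩
    ⟨y⁻¹ * w₀, (clSub S).mul_mem ((clSub S).inv_mem hy) hw₀, by
      show y * (y⁻¹ * w₀) ∈ W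
      exact (congrArg (· ∈ W) (mul_inv_cancel_left y w₀)).mpr hw₀W⟩
  have h1 : z ∈ S := hWsub ⟨hzW, hz⟩
  have h2 : y * z ∈ S := hWsub ⟨hz', (clSub S).mul_mem hy hz⟩
  simpa using S.mul_mem h2 (S.inv_mem h1)

lemma isClosed_prodSub {P Q : Subgroup (Pt k A)} (hn : ∀ p ∈ P, ∀ q ∈ Q, p * q * p⁻¹ ∈ Q)
    (hPc : IsClosed (P : Set (Pt k A))) (hP : IsPreconnected (P : Set (Pt k A))) (hQc : IsClosed (Q : Set (Pt k A)))
    (hQ : IsPreconnected (Q : Set (Pt k A))) :
    IsClosed (prodSub P Q hn : Set (Pt k A)) ∧ IsPreconnected (prodSub P Q hn : Set (Pt k A)) := by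
  haveI := finiteType_tensor (k := k) (R := A) (R' := A)
  refine isClosed_of_image ((hPc.preimage IsMor.fstP.continuous).inter (hQc.preimage IsMor.sndP.continuous))
    (isIrreducible_prod (isIrreducible_of_connected hPc hP) (isIrreducible_of_connected hQc hQ))
    (IsMor.fstP.mul IsMor.sndP) ?_
  ext x
  constructor
  · rintro ⟨z, ⟨hz, hz'⟩, rfl⟩
    exact ⟨_, hz, _, hz', rfl⟩
  · rintro ⟨p, hp, q, hq, rfl⟩
    exact ⟨pair p q, by simp [hp, hq], by simp⟩

/-- A connected set inside finitely many cosets of a closed subgroup lies in the subgroup. -/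
lemma subset_of_cosets {H : Subgroup (Pt k A)} (hH : IsClosed (H : Set (Pt k A))) {M : Set (Pt k A)}
    (hM : IsPreconnected M) (h1 : (1 : Pt k A) ∈ M) {R : Finset (Pt k A)}
    (hcov : ∀ m ∈ M, ∃ r ∈ R, r⁻¹ * m ∈ H) : M ⊆ (H : Set (Pt k A)) := by
  classical
  by_contra hne
  obtain ⟨m, hm, hmH⟩ := Set.not_subset.1 hne
  have hcl : IsClosed (⋃ r ∈ R.filter (fun r => r ∉ H), (fun g => r⁻¹ * g) ⁻¹' (H : Set (Pt k A))) :=
    (Finset.finite_toSet _).isClosed_biUnion fun r _ => hH.preimage (continuous_const_mul r⁻¹)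
  have hcover : ∀ y ∈ M, y ∈ H ∨ y ∈ ⋃ r ∈ R.filter (fun r => r ∉ H), (fun g => r⁻¹ * g) ⁻¹' (H : Set (Pt k A)) := by
    intro y hy
    obtain ⟨r, hr, hry⟩ := hcov y hy
    by_cases hrH : r ∈ H
    · exact Or.inl (by simpa using H.mul_mem hrH hry)
    · exact Or.inr (Set.mem_iUnion₂.2 ⟨r, Finset.mem_filter.2 ⟨hr, hrH⟩, hry⟩)
  obtain ⟨w, -, hw1, hw2⟩ := isPreconnected_closed_iff.1 hM _ _ hH hcl hcover ⟨1, h1, H.one_mem⟩
    ⟨m, hm, (hcover m hm).resolve_left hmH⟩
  obtain ⟨r, hr, hrw⟩ := Set.mem_iUnion₂.1 hw2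
  refine (Finset.mem_filter.1 hr).2 ?_
  simpa using H.mul_mem hw1 (H.inv_mem hrw)

/-- A uniform power lands in the neutral component. -/
lemma exists_pow_mem_neut {P : Subgroup (Pt k A)} (hP : IsClosed (P : Set (Pt k A))) :
    ∃ n : ℕ, n ≠ 0 ∧ ∀ e ∈ P, e ^ n ∈ neut P := by
  classical
  obtain ⟨R, hR, hcov⟩ := exists_neut_cosets hP
  refine ⟨R.card.factorial, Nat.factorial_ne_zero _, fun e he => ?_⟩
  have hc : ∀ i : ℕ, ∃ c ∈ R, c⁻¹ * e ^ i ∈ neut P := fun i => hcov _ (P.pow_mem he i)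
  choose c hc hc' using hc
  obtain ⟨i, hi, j, hj, hij, he'⟩ := Finset.exists_ne_map_eq_of_card_lt_of_maps_to
    (s := Finset.range (R.card + 1)) (t := R) (by simp) (fun i _ => hc i)
  wlog hlt : i < j generalizing i j with H
  · exact H j hj i hi hij.symm he'.symm (lt_of_le_of_ne (not_lt.1 hlt) hij.symm)
  have h' := (neut P).mul_mem ((neut P).inv_mem (hc' i)) (hc' j)
  rw [he', mul_inv_rev, inv_inv, mul_assoc, mul_inv_cancel_left] at h'
  rw [Finset.mem_range] at hj
  obtain ⟨l, hl⟩ : (j - i) ∣ R.card.factorial := Nat.dvd_factorial (by omega) (by omega)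
  rw [hl, pow_mul, pow_sub e hlt.le, ((Commute.pow_pow_self e j i).inv_right).eq]
  exact (neut P).pow_mem h' l

namespace FlagRep

variable {K : Subgroup (Pt k A)} (D : FlagRep K)

omit [IsAlgClosed k] [Algebra.FiniteType k A] in
/-- In characteristic `p` unipotent elements have `p`-power order. -/
lemma exists_pow_char_eq_one {p : ℕ} [CharP k p] {u : Pt k A} (hu : u ∈ D.U 1) :
    ∃ e : ℕ, u ^ p ^ e = 1 := by
  have h : ∀ i, u ^ p ^ i ∈ D.U (i + 1) := by
    intro i
    induction i with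
    | zero => simpa using hu
    | succ i ih =>
      rw [pow_succ, pow_mul]
      refine ⟨K.pow_mem ih.1 p, ?_⟩
      have := D.pow_sub_nsmul_mem (Nat.succ_pos i) ih p
      rwa [CharP.cast_eq_zero, zero_smul, sub_zero] at this
  obtain ⟨N, hN⟩ := D.exists_U_bot
  exact ⟨N, Subgroup.mem_bot.1 (hN ▸ D.U_anti (Nat.le_succ N) (h N))⟩

/-- In characteristic zero closed unipotent subgroups are connected. -/
lemma neut_eq_of_charZero [CharZero k] (hK : IsClosed (K : Set (Pt k A))) {H : Subgroup (Pt k A)} (hHU : H ≤ D.U 1)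
    (hH : IsClosed (H : Set (Pt k A))) : neut H = H := by
  refine le_antisymm (neut_le H) ?_
  obtain ⟨n, hn, hpow⟩ := exists_pow_mem_neut hH
  have hlay := D.isLayered hK (hHU.trans (D.U_le 1)) hH (m := n) (Nat.cast_ne_zero.2 hn)
  obtain ⟨N, hN⟩ := D.exists_U_bot
  suffices h : ∀ j i, N ≤ i + j + 1 → ∀ c ∈ H, c ∈ D.U (i + 1) → c ∈ neut H from fun c hc => h N 0 (by omega) c hc (hHU hc)
  intro j
  induction j with
  | zero =>
    intro i hi c hc hci
    have : c ∈ D.U N := D.U_anti (by omega) hci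
    rw [hN, Subgroup.mem_bot] at this
    exact this ▸ (neut H).one_mem
  | succ j ih =>
    intro i hi c hc hci
    obtain ⟨w, hw, hw'⟩ := hlay.div i ⟨c, hc⟩ hci
    have h1 : c⁻¹ * (w : Pt k A) ^ n ∈ neut H := ih (i + 1) (by omega) _ (H.mul_mem (H.inv_mem hc) (H.pow_mem w.2 n)) hw'
    have h2 := (neut H).mul_mem (hpow _ w.2) ((neut H).inv_mem h1)
    rwa [mul_inv_rev, inv_inv, mul_inv_cancel_left] at h2

/-- The averaging map of a finite-order automorphism. -/
def avg (t : Pt k A) : ℕ → Pt k A → Pt k A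
  | 0, _ => 1
  | j + 1, u => u * (t * avg t j u * t⁻¹)

/-- The centraliser of a torsion element in a connected unipotent subgroup normalised by it is connected. -/
theorem isPreconnected_centralizer_unip (hK : IsClosed (K : Set (Pt k A))) {t : Pt k A} (htK : t ∈ K) (ht : IsPT t) :
    ∀ {U : Subgroup (Pt k A)}, U ≤ D.U 1 → IsClosed (U : Set (Pt k A)) → IsPreconnected (U : Set (Pt k A)) →
      (∀ u ∈ U, t * u * t⁻¹ ∈ U ∧ t⁻¹ * u * t ∈ U) →
      ((U ⊓ Subgroup.centralizer {t} : Subgroup (Pt k A)) : Subgroup (Pt k A)) ≤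
        neut (U ⊓ Subgroup.centralizer {t}) := by
  classical
  have hmemC : ∀ {U : Subgroup (Pt k A)} {c : Pt k A}, c ∈ U ⊓ Subgroup.centralizer {t} ↔ c ∈ U ∧ t * c = c * t :=
    fun {U c} => by simp [Subgroup.mem_centralizer_iff]
  have hCcl : ∀ {U : Subgroup (Pt k A)}, IsClosed (U : Set (Pt k A)) →
      IsClosed ((U ⊓ Subgroup.centralizer {t} : Subgroup (Pt k A)) : Set (Pt k A)) := fun {U} hU => by
    have e : ((U ⊓ Subgroup.centralizer {t} : Subgroup (Pt k A)) : Set (Pt k A)) =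
        (U : Set (Pt k A)) ∩ {g | t * g = g * t} := Set.ext fun c => hmemC
    rw [e]
    exact hU.inter (isClosed_commuting t)
  rcases Nat.eq_zero_or_pos (ringChar k) with h0 | hpos
  · haveI : CharP k 0 := h0 ▸ ringChar.charP k
    haveI : CharZero k := CharP.charP_to_charZero k
    intro U hU hUc _ _
    rw [D.neut_eq_of_charZero hK (inf_le_left.trans hU) (hCcl hUc)]
  set p := ringChar k
  haveI : Fact p.Prime := ⟨(CharP.char_is_prime_or_zero k p).resolve_right hpos.ne'⟩
  obtain ⟨m, hm, htm⟩ := ht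
  have hcop : Nat.Coprime m p := by
    rw [Nat.coprime_comm, (Fact.out : p.Prime).coprime_iff_not_dvd]
    exact fun h => hm ((CharP.cast_eq_zero_iff k p m).2 h)
  obtain ⟨N, hN⟩ := D.exists_U_bot
  suffices h : ∀ j i, N ≤ i + j + 1 → ∀ {U : Subgroup (Pt k A)}, U ≤ D.U (i + 1) → IsClosed (U : Set (Pt k A)) →
      IsPreconnected (U : Set (Pt k A)) → (∀ u ∈ U, t * u * t⁻¹ ∈ U ∧ t⁻¹ * u * t ∈ U) →
      (U ⊓ Subgroup.centralizer {t}) ≤ neut (U ⊓ Subgroup.centralizer {t}) from
    fun {U} hU hUc hUconn hn => h N 0 (by omega) hU hUc hUconn hn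
  intro j
  induction j with
  | zero =>
    intro i hi U hU _ _ _ c hc
    have : c ∈ D.U N := D.U_anti (by omega) (hU hc.1)
    rw [hN, Subgroup.mem_bot] at this
    exact this ▸ Subgroup.one_mem _
  | succ j ih =>
    intro i hi U hU hUc hUconn hnorm
    set Uo := neut (U ⊓ D.U (i + 1 + 1)) with hUo
    have hUoc : IsClosed (Uo : Set (Pt k A)) := isClosed_neut (hUc.inter (D.isClosed_U hK _))
    have hUoU : Uo ≤ U := (neut_le _).trans inf_le_left
    have hUoi : Uo ≤ D.U (i + 1 + 1) := (neut_le _).trans inf_le_right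
    -- conjugation stable
    have hstab : ∀ a ∈ K, (∀ u ∈ U, a * u * a⁻¹ ∈ U) → ∀ u ∈ Uo, a * u * a⁻¹ ∈ Uo := by
      intro a ha haU u hu
      refine le_neut (isPreconnected_conjSub (a := a) (isPreconnected_neut _)) ?_ ⟨u, hu, rfl⟩
      rintro _ ⟨w, hw, rfl⟩
      exact ⟨haU w (hUoU hw), D.conj_mem_U ha (hUoi hw)⟩
    have hσ : ∀ u ∈ Uo, t * u * t⁻¹ ∈ Uo := hstab t htK fun u hu => (hnorm u hu).1
    have hσ' : ∀ u ∈ Uo, t⁻¹ * u * t ∈ Uo := fun u hu => by
      have := hstab t⁻¹ (inv_mem htK) (fun u hu => by rw [inv_inv]; exact (hnorm u hu).2) u hu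
      rwa [inv_inv] at this
    have hUn : ∀ a ∈ U, ∀ u ∈ Uo, a * u * a⁻¹ ∈ Uo := fun a ha =>
      hstab a ((D.U_le _) (hU ha)) fun u hu => U.mul_mem (U.mul_mem ha hu) (U.inv_mem ha)
    haveI : (Uo.subgroupOf U).Normal := ⟨fun u hu a => hUn a a.2 u hu⟩
    let π := QuotientGroup.mk' (Uo.subgroupOf U)
    have hπ : ∀ a b : U, π a = π b ↔ (a : Pt k A)⁻¹ * b ∈ Uo := fun a b => by
      simp only [π, QuotientGroup.mk'_apply, QuotientGroup.eq, Subgroup.mem_subgroupOf, Subgroup.coe_mul, Subgroup.coe_inv]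
    -- commutators
    have hcommU : ∀ a ∈ U, ∀ b ∈ U, a⁻¹ * b⁻¹ * a * b ∈ Uo := by
      intro a ha b hb
      refine le_neut (H := Uo) (isPreconnected_neut _) (neut_le _) ?_
      have hconn : IsPreconnected ((fun x => x⁻¹ * b⁻¹ * x * b) '' (U : Set (Pt k A))) :=
        hUconn.image _ (((IsMor.id.inv.mul (IsMor.const b⁻¹)).mul IsMor.id).mul (IsMor.const b)).continuous.continuousOn
      refine hconn.subset_connectedComponentIn ⟨1, U.one_mem, by simp⟩ ?_ ⟨a, ha, rfl⟩
      rintro _ ⟨x, hx, rfl⟩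
      refine ⟨U.mul_mem (U.mul_mem (U.mul_mem (U.inv_mem hx) (U.inv_mem hb)) hx) hb, ?_⟩
      have := D.commutator_mem_succ (Nat.succ_pos i) ((D.U _).inv_mem (hU hx)) ((D.U _).inv_mem (hU hb))
      rwa [commutatorElement_def, inv_inv, inv_inv] at this
    let σ : U → U := fun u => ⟨t * u * t⁻¹, (hnorm u u.2).1⟩
    have hσmul : ∀ a b : U, σ (a * b) = σ a * σ b := fun a b => Subtype.ext (by simp [σ])
    have hσπ : ∀ a b : U, π a = π b → π (σ a) = π (σ b) := fun a b h => by
      rw [hπ] at h ⊢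
      have := hσ _ h
      simpa [σ, mul_assoc] using this
    let F : ℕ → U → U := fun j u => Nat.rec 1 (fun _ x => u * σ x) j
    have hF : ∀ (j : ℕ) (u : U), Subtype.val (F j u) = avg t j u := by
      intro j u
      induction j with
      | zero => rfl
      | succ j ih =>
        show ((u * σ (F j u) : U) : Pt k A) = u * (t * avg t j u * t⁻¹)
        rw [Subgroup.coe_mul, ← ih]
    have hFc : ∀ (l : ℕ) (c : U), σ c = c → F l c = c ^ l := by
      intro l c hc
      induction l with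
      | zero => simp [F]
      | succ l ih =>
        show c * σ (F l c) = _
        rw [ih]
        have : ∀ q : ℕ, σ (c ^ q) = c ^ q := fun q => by
          induction q with
          | zero => exact Subtype.ext (by simp [σ])
          | succ q iq => rw [pow_succ, hσmul, iq, hc]
        rw [this, ← pow_succ']
    -- the image of the averaging map
    have havg : ∀ l, IsMor fun u : Pt k A => avg t l u := by
      intro l
      induction l with
      | zero => exact IsMor.const 1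
      | succ l ih => exact IsMor.id.mul (((IsMor.const t).mul ih).mul (IsMor.const t⁻¹))
    set C := U ⊓ Subgroup.centralizer {t} with hCdef
    have hCc := hCcl hUc
    have hnormP : ∀ p ∈ neut C, ∀ q ∈ Uo, p * q * p⁻¹ ∈ Uo := fun p hp q hq => hUn p ((neut_le _ hp).1) q hq
    obtain ⟨hHc, -⟩ := isClosed_prodSub hnormP (isClosed_neut hCc) (isPreconnected_neut _) hUoc (isPreconnected_neut _)
    set H := prodSub (neut C) Uo hnormP
    obtain ⟨R, hR, hcov⟩ := exists_neut_cosets hCc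
    -- every average is congruent to a fixed element
    have hfix : ∀ u : U, ∃ c ∈ C, c⁻¹ * (Subtype.val (F m u)) ∈ Uo := by
      intro u
      have hstep : ∀ l, π (F l u) * π ((σ^[l]) u) = π u * π (σ (F l u)) := by
        intro l
        induction l with
        | zero =>
          show π (1 : U) * π u = π u * π (σ 1)
          rw [show σ (1 : U) = 1 from Subtype.ext (by simp [σ])]
          simp
        | succ l ih =>
          show π (u * σ (F l u)) * π ((σ^[l + 1]) u) = π u * π (σ (u * σ (F l u)))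
          rw [Function.iterate_succ_apply', map_mul, mul_assoc, ← map_mul, ← hσmul]
          congr 1
          refine hσπ _ _ ?_
          rw [map_mul, map_mul]; exact ih
      have hiter : ∀ l, (((σ^[l]) u : U) : Pt k A) = t ^ l * u * (t ^ l)⁻¹ := by
        intro l
        induction l with
        | zero => simp
        | succ l ih => rw [Function.iterate_succ_apply']; show t * _ * t⁻¹ = _; rw [ih, pow_succ']; group
      have hm' : (σ^[m]) u = u := Subtype.ext (by rw [hiter, htm]; simp)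
      have h1 := hstep m
      rw [hm'] at h1
      have hcomm : π u * π (σ (F m u)) = π (σ (F m u)) * π u := by
        rw [← map_mul, ← map_mul, hπ]
        simpa [mul_assoc] using hcommU _ (σ (F m u)).2 _ u.2
      rw [hcomm] at h1
      have h2 : π (F m u) = π (σ (F m u)) := mul_right_cancel h1
      rw [hπ] at h2
      set a : Pt k A := (Subtype.val (F m u))
      have ha : a⁻¹ * t * a * t⁻¹ ∈ Uo := by
        have h3 : a⁻¹ * (t * a * t⁻¹) ∈ Uo := h2
        simpa [mul_assoc] using h3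
      -- conjugate torsion lifts
      let Z : Subgroup (Pt k A) := prodSub (Subgroup.zpowers t) Uo fun p hp q hq => by
        obtain ⟨z, rfl⟩ := hp
        induction z using Int.induction_on generalizing q with
        | zero => simpa using hq
        | succ z ih =>
          have := ih _ (hσ q hq)
          rw [show t ^ ((z : ℤ) + 1) * q * (t ^ ((z : ℤ) + 1))⁻¹ =
            t ^ (z : ℤ) * (t * q * t⁻¹) * (t ^ (z : ℤ))⁻¹ by group]
          exact this
        | pred z ih =>
          have := ih _ (hσ' q hq)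
          rw [show t ^ (-(z : ℤ) - 1) * q * (t ^ (-(z : ℤ) - 1))⁻¹ =
            t ^ (-(z : ℤ)) * (t⁻¹ * q * t) * (t ^ (-(z : ℤ)))⁻¹ by group]
          exact this
      have hm0 : m ≠ 0 := fun h => hm (by rw [h, Nat.cast_zero])
      have hZc : IsClosed (Z : Set (Pt k A)) := by
        have e : (Z : Set (Pt k A)) = ⋃ l ∈ Finset.range m, (fun x => (t ^ l)⁻¹ * x) ⁻¹' (Uo : Set (Pt k A)) := by
          ext x
          simp only [Set.mem_iUnion, Set.mem_preimage, SetLike.mem_coe, Finset.mem_range, exists_prop]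
          constructor
          · rintro ⟨p, ⟨z, rfl⟩, q, hq, rfl⟩
            have hm' : (0 : ℤ) < m := by exact_mod_cast Nat.pos_of_ne_zero hm0
            have hl0 : 0 ≤ z % (m : ℤ) := Int.emod_nonneg z hm'.ne'
            refine ⟨(z % (m : ℤ)).toNat, by
              have := Int.emod_lt_of_pos z hm'
              omega, ?_⟩
            have e : t ^ (z % (m : ℤ)).toNat = t ^ z := by
              rw [← zpow_natCast, Int.toNat_of_nonneg hl0]
              conv_rhs => rw [← Int.emod_add_mul_ediv z m, zpow_add, zpow_mul, zpow_natCast, htm, one_zpow, mul_one]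
            show (t ^ (z % (m : ℤ)).toNat)⁻¹ * (t ^ z * q) ∈ Uo
            rwa [e, inv_mul_cancel_left]
          · rintro ⟨l, -, hl⟩
            exact ⟨t ^ l, ⟨l, zpow_natCast t l⟩, _, hl, mul_inv_cancel_left _ _⟩
        rw [e]
        exact (Finset.finite_toSet _).isClosed_biUnion fun l _ => hUoc.preimage (continuous_const_mul _)
      have hZK : Z ≤ K := by
        rintro _ ⟨p, ⟨z, rfl⟩, q, hq, rfl⟩
        exact K.mul_mem (K.zpow_mem htK z) ((D.U_le _) (hUoi hq))
      have htZ : t ∈ Z := ⟨t, Subgroup.mem_zpowers t, 1, Uo.one_mem, mul_one t⟩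
      have ht'Z : a⁻¹ * t * a ∈ Z := ⟨t, Subgroup.mem_zpowers t, t⁻¹ * (a⁻¹ * t * a * t⁻¹) * t, hσ' _ ha, by group⟩
      obtain ⟨w, hwZ, hwU, hw⟩ := D.exists_conj_one hK hZK hZc htZ ht'Z ⟨m, hm, htm⟩
        (IsPT.conj ⟨m, hm, htm⟩ a⁻¹ |> fun h => by simpa using h) (D.U_anti (by omega) (hUoi ha))
      obtain ⟨p, ⟨z, rfl⟩, q, hq, rfl⟩ := hwZ
      have hz1 : t ^ z = 1 := by
        have h4 : t ^ z ∈ D.U 1 := by
          have := (D.U 1).mul_mem hwU ((D.U 1).inv_mem (D.U_anti (by omega) (hUoi hq)))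
          simpa using this
        have hlay := D.isLayered hK le_rfl hK hm
        have h5 : ∀ l, t ^ z ∈ D.U (l + 1) := by
          intro l
          induction l with
          | zero => exact h4
          | succ l il => exact hlay.tf l ⟨_, K.zpow_mem htK z⟩ il (by
              show (t ^ z) ^ m ∈ D.U (l + 1 + 1)
              rw [← zpow_natCast, ← zpow_mul, mul_comm, zpow_mul, zpow_natCast, htm, one_zpow]
              exact one_mem _)
        have h6 := D.U_anti (Nat.le_succ N) (h5 N)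
        rwa [hN, Subgroup.mem_bot] at h6
      simp only [hz1, one_mul] at hw
      refine ⟨a * q, hmemC.2 ⟨U.mul_mem (F m u).2 (hUoU hq), ?_⟩, by
        rw [mul_inv_rev, inv_mul_cancel_right]; exact Uo.inv_mem hq⟩
      calc t * (a * q) = a * (a⁻¹ * t * a) * q := by group
        _ = a * (q * t * q⁻¹) * q := by rw [hw]
        _ = a * q * t := by group
    -- the averages lie in `H`
    have hM : ∀ u ∈ U, avg t m u ∈ H := by
      have := subset_of_cosets hHc (hUconn.image _ (havg m).continuous.continuousOn)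
        ⟨1, U.one_mem, by
          show avg t m ((1 : U) : Pt k A) = 1
          rw [← hF m 1, hFc m 1 (Subtype.ext (by simp [σ])), one_pow]; rfl⟩
        (R := R) (by
          rintro _ ⟨u, hu, rfl⟩
          obtain ⟨c, hc, hc'⟩ := hfix ⟨u, hu⟩
          obtain ⟨r, hr, hrc⟩ := hcov c hc
          refine ⟨r, hr, r⁻¹ * c, hrc, c⁻¹ * avg t m u, ?_, by group⟩
          rw [← hF m ⟨u, hu⟩]; exact hc')
      exact fun u hu => this ⟨u, hu, rfl⟩
    intro c hc
    obtain ⟨hcU, hct⟩ := hmemC.1 hc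
    have hcm : c ^ m ∈ H := by
      have := hM c hcU
      rwa [← hF m ⟨c, hcU⟩, hFc m ⟨c, hcU⟩ (Subtype.ext (by show t * c * t⁻¹ = c; rw [hct, mul_inv_cancel_right])),
        SubmonoidClass.coe_pow] at this
    obtain ⟨e, he⟩ := D.exists_pow_char_eq_one (p := p) (D.U_anti (by omega : 1 ≤ i + 1) (hU hcU))
    have hcH : c ∈ H := by
      obtain ⟨a, b, hab⟩ : ∃ a b : ℤ, (m : ℤ) * a + (p ^ e : ℕ) * b = 1 := by
        have := (Nat.Coprime.pow_right e hcop)
        exact ⟨_, _, by rw [← Nat.gcd_eq_gcd_ab]; exact_mod_cast this⟩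
      rw [← zpow_one c, ← hab, zpow_add, zpow_mul, zpow_mul, zpow_natCast, zpow_natCast, he, one_zpow, mul_one]
      exact H.zpow_mem hcm a
    obtain ⟨c₀, hc₀, q, hq, rfl⟩ := hcH
    refine Subgroup.mul_mem _ hc₀ ?_
    have hqC : q ∈ Uo ⊓ Subgroup.centralizer {t} := hmemC.2 ⟨hq, by
      have h0 := (hmemC.1 (neut_le _ hc₀)).2
      have : c₀ * (t * q) = c₀ * (q * t) := by rw [← mul_assoc, ← h0, mul_assoc, hct, mul_assoc]
      exact mul_left_cancel this⟩
    exact le_neut (isPreconnected_neut _) ((neut_le _).trans (inf_le_inf_right _ hUoU))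
      (ih (i + 1) (by omega) hUoi hUoc (isPreconnected_neut _) (fun u hu => ⟨hσ u hu, hσ' u hu⟩) hqC)

end FlagRep

/-- The centraliser of a torus in a connected solvable group is connected. -/
theorem isPreconnected_centralizer_sol {K : Subgroup (Pt k A)} (hK : IsClosed (K : Set (Pt k A)))
    (hKconn : IsPreconnected (K : Set (Pt k A))) (hs : IsSol K) {S : Subgroup (Pt k A)} (hS : IsTor S) (hSK : S ≤ K) :
    IsPreconnected ((K ⊓ Subgroup.centralizer (S : Set (Pt k A)) : Subgroup (Pt k A)) : Set (Pt k A)) := by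
  classical
  obtain ⟨D⟩ := exists_flagRep hKconn hs
  obtain ⟨T₀, hT₀K, hT₀, hu, hdec, -⟩ := D.exists_torus_decomp hK hKconn
  obtain ⟨g, hg, hgS⟩ := hu S hSK hS
  set T := conjSub g⁻¹ T₀ with hT_def
  have hTK : T ≤ K := conjSub_le (inv_mem hg) hT₀K
  have hT : IsTor T := hT₀.conjSub _
  have hST : S ≤ T := by
    have := conjSub_mono (a := g⁻¹) hgS
    rwa [conjSub_conjSub, inv_mul_cancel, conjSub_one] at this
  have hdec' : ∀ a ∈ K, ∃ s ∈ T, s⁻¹ * a ∈ D.U 1 := by
    intro a ha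
    obtain ⟨s, hs, hsu⟩ := hdec (g * a * g⁻¹) (K.mul_mem (K.mul_mem hg ha) (inv_mem hg))
    refine ⟨g⁻¹ * s * g, ⟨s, hs, by show g⁻¹ * s * g⁻¹⁻¹ = _; rw [inv_inv]⟩, ?_⟩
    have := D.conj_mem_U (inv_mem hg) hsu
    rwa [show g⁻¹ * (s⁻¹ * (g * a * g⁻¹)) * g⁻¹⁻¹ = (g⁻¹ * s * g)⁻¹ * a by group] at this
  set U := neut (D.U 1)
  have hUc : IsClosed (U : Set (Pt k A)) := isClosed_neut (D.isClosed_U hK 1)
  have hnormU : ∀ p ∈ K, ∀ q ∈ U, p * q * p⁻¹ ∈ U := fun p hp q hq => by
    refine le_neut (isPreconnected_conjSub (a := p) (isPreconnected_neut _)) ?_ ⟨q, hq, rfl⟩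
    rintro _ ⟨w, hw, rfl⟩
    exact D.conj_mem_U hp (neut_le _ hw)
  obtain ⟨hPc, -⟩ := isClosed_prodSub (P := T) (Q := U) (fun p hp => hnormU p (hTK hp)) hT.closed hT.conn hUc
    (isPreconnected_neut _)
  obtain ⟨R, hR, hcov⟩ := exists_neut_cosets (D.isClosed_U hK 1)
  have hKeq : (K : Set (Pt k A)) ⊆ (prodSub T U fun p hp => hnormU p (hTK hp) : Subgroup (Pt k A)) :=
    subset_of_cosets hPc hKconn K.one_mem (R := R) fun a ha => by
      obtain ⟨s, hs, hsu⟩ := hdec' a ha
      obtain ⟨r, hr, hru⟩ := hcov (s * (s⁻¹ * a) * s⁻¹) (D.conj_mem_U (hTK hs) hsu)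
      refine ⟨r, hr, s, hs, s⁻¹ * (r⁻¹ * (s * (s⁻¹ * a) * s⁻¹)) * s⁻¹⁻¹, hnormU _ (inv_mem (hTK hs)) _ hru, ?_⟩
      group
  obtain ⟨t, htS, htt, hreg⟩ := hS.exists_regular
  have hC : ∀ u ∈ U ⊓ Subgroup.centralizer {t}, u ∈ neut (U ⊓ Subgroup.centralizer {t}) :=
    D.isPreconnected_centralizer_unip hK (hSK htS) htt (neut_le _) hUc (isPreconnected_neut _) fun u hu =>
      ⟨hnormU t (hSK htS) u hu, by simpa using hnormU t⁻¹ (inv_mem (hSK htS)) u hu⟩
  have hCconn : IsPreconnected ((U ⊓ Subgroup.centralizer {t} : Subgroup (Pt k A)) : Set (Pt k A)) := by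
    rw [show (U ⊓ Subgroup.centralizer {t}) = neut (U ⊓ Subgroup.centralizer {t}) from le_antisymm hC (neut_le _)]
    exact isPreconnected_neut _
  refine isPreconnected_of_forall 1 fun a ha => ?_
  obtain ⟨haK, haS⟩ := ha
  obtain ⟨s, hs, u, hu, rfl⟩ := hKeq haK
  have hcs : t * s = s * t := hT.comm t (hST htS) s hs
  have hua : t * (s * u) = s * u * t := Subgroup.mem_centralizer_iff.1 haS t htS
  have hut : t * u = u * t := by
    have : s * (t * u) = s * (u * t) := by rw [← mul_assoc, ← hcs, mul_assoc, hua, mul_assoc]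
    exact mul_left_cancel this
  refine ⟨(T : Set (Pt k A)) ∪ (fun x => s * x) '' ((U ⊓ Subgroup.centralizer {t} : Subgroup (Pt k A)) : Set (Pt k A)),
    ?_, Or.inl T.one_mem, Or.inr ⟨u, ⟨hu, by simpa [Subgroup.mem_centralizer_iff] using hut⟩, rfl⟩,
    hT.conn.union s hs ⟨1, Subgroup.one_mem _, mul_one s⟩ (hCconn.image _ (continuous_const_mul s).continuousOn)⟩
  rintro x (hx | ⟨w, ⟨hw, hwt⟩, rfl⟩)
  · exact ⟨hTK hx, Subgroup.mem_centralizer_iff.2 fun y hy => hT.comm y (hST hy) x hx⟩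
  · have hwt' : t * w = w * t := by simpa [Subgroup.mem_centralizer_iff] using hwt
    refine ⟨K.mul_mem (hTK hs) ((D.U_le 1) (neut_le _ hw)), Subgroup.mem_centralizer_iff.2 fun y hy => ?_⟩
    rw [← mul_assoc, hT.comm y (hST hy) s hs, mul_assoc, ← hreg w hwt'.symm y hy, mul_assoc]

end Groth.Agent.BorelLib
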