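import Groth.Agent.BorelLib.Chev
import Groth.Agent.BorelLib.Unip

/-!
# General connected subgroups: centralisers of tori are connected and meet Borel subgroups in Borel subgroups
-/

set_option autoImplicit false
set_option linter.style.haveILetI false

noncomputable section

universe u

open WithConv
open scoped TensorProduct commutatorElement

namespace Groth.Agent.BorelLib

attribute [local instance] pTop pTopTensor

variable {k : Type u} [Field k] {A : Type u} [CommRing A] [HopfAlgebra k A]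

section frame

variable {B : Type u} [CommRing B] [HopfAlgebra k B] {f : Pt k B →* Pt k A}

lemma conjSub_comap (a : Pt k B) (H : Subgroup (Pt k A)) : (conjSub (f a) H).comap f = conjSub a (H.comap f) := by
  ext x
  rw [Subgroup.mem_comap, mem_conjSub, mem_conjSub, Subgroup.mem_comap, map_mul, map_mul, map_inv]

lemma IsSol.comap (hf : Function.Injective f) {H : Subgroup (Pt k A)} (hs : IsSol H) : IsSol (H.comap f) := by
  obtain ⟨n, hn⟩ := hs
  refine ⟨n, le_bot_iff.1 fun x hx => Subgroup.mem_bot.2 (hf ?_)⟩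
  have h1 : f x ∈ der ((H.comap f).map f) n := by rw [der_map]; exact ⟨x, hx, rfl⟩
  have h2 := der_mono (Subgroup.map_comap_le f H) n h1
  rw [hn, Subgroup.mem_bot] at h2
  rw [h2, map_one]

lemma isClosed_map_frame (hind : Topology.IsInducing f) (hrange : IsClosed (f.range : Set (Pt k A)))
    {H : Subgroup (Pt k B)} (hH : IsClosed (H : Set (Pt k B))) : IsClosed (H.map f : Set (Pt k A)) := by
  rw [MonoidHom.coe_range] at hrange
  obtain ⟨C, hC, hCe⟩ := hind.isClosed_iff.1 hH
  rw [Subgroup.coe_map, ← hCe, Set.image_preimage_eq_inter_range]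
  exact hC.inter hrange

lemma isPreconnected_comap (hind : Topology.IsInducing f) {H : Subgroup (Pt k A)} (hle : H ≤ f.range)
    (hH : IsPreconnected (H : Set (Pt k A))) : IsPreconnected (H.comap f : Set (Pt k B)) := by
  have e : f '' (H.comap f : Set (Pt k B)) = H := by
    rw [Subgroup.coe_comap, Set.image_preimage_eq_iff]
    exact hle
  exact hind.isPreconnected_image.1 (e.symm ▸ hH)

lemma IsBor.comap (hind : Topology.IsInducing f) (hf : Function.Injective f) {K B' : Subgroup (Pt k A)}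
    (hrange : f.range = K) (hKc : IsClosed (K : Set (Pt k A))) (hB : IsBor K B') :
    IsBor (⊤ : Subgroup (Pt k B)) (B'.comap f) := by
  refine ⟨le_top, hB.closed.preimage hind.continuous, isPreconnected_comap hind (hrange.symm ▸ hB.le) hB.conn,
    hB.sol.comap hf, fun H _ hHc hH hHs hle => ?_⟩
  have hmap : B' ≤ H.map f := fun y hy => by
    obtain ⟨x, rfl⟩ : y ∈ f.range := hrange.symm ▸ hB.le hy
    exact ⟨x, hle hy, rfl⟩
  have h := hB.maximal (H.map f) (hrange ▸ Subgroup.map_le_range f H)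
    (isClosed_map_frame hind (hrange.symm ▸ hKc) hHc)
    (by rw [Subgroup.coe_map]; exact hH.image _ hind.continuous.continuousOn) (hHs.map f) hmap
  rw [← h, Subgroup.comap_map_eq_self_of_injective hf]

end frame

variable [IsAlgClosed k] [Algebra.FiniteType k A] {K B : Subgroup (Pt k A)}

/-- **A connected group is the union of the conjugates of a Borel subgroup.** -/
theorem IsBor.exists_conj_mem (hKc : IsClosed (K : Set (Pt k A))) (hK : IsPreconnected (K : Set (Pt k A)))
    (hB : IsBor K B) {x : Pt k A} (hx : x ∈ K) : ∃ a ∈ K, a⁻¹ * x * a ∈ B := by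
  obtain ⟨R, _, _, f, hft, hred, -, hind, hinj, hrange, -⟩ := exists_frame hKc
  haveI := hft; haveI := hred
  obtain ⟨x, rfl⟩ : x ∈ f.range := hrange.symm ▸ hx
  obtain ⟨a, ha⟩ := exists_conj_mem_bor (isPreconnected_univ_frame hind (hrange.symm ▸ hK))
    (hB.comap hind hinj hrange hKc) x
  refine ⟨f a, hrange ▸ ⟨a, rfl⟩, ?_⟩
  rwa [Subgroup.mem_comap, map_mul, map_mul, map_inv] at ha

/-- An element commuting with a connected solvable subgroup lies with it in a Borel subgroup. -/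
theorem exists_bor_commute_in (hKc : IsClosed (K : Set (Pt k A))) (hK : IsPreconnected (K : Set (Pt k A)))
    {H : Subgroup (Pt k A)} (hHK : H ≤ K) (hH : IsPreconnected (H : Set (Pt k A))) (hs : IsSol H) {c : Pt k A}
    (hcK : c ∈ K) (hc : ∀ h ∈ H, c * h = h * c) : ∃ B : Subgroup (Pt k A), IsBor K B ∧ H ≤ B ∧ c ∈ B := by
  obtain ⟨B₀, hB₀, -⟩ := IsBor.exists_conj_universal hKc hK
  obtain ⟨R, _, _, f, hft, hred, -, hind, hinj, hrange, -⟩ := exists_frame hKc
  haveI := hft; haveI := hred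
  have hconn := isPreconnected_univ_frame hind (hrange.symm ▸ hK)
  obtain ⟨c, rfl⟩ : c ∈ f.range := hrange.symm ▸ hcK
  obtain ⟨B₁, hB₁, hle, hcB⟩ := exists_bor_commute hconn (H := H.comap f)
    (isPreconnected_comap hind (hrange.symm ▸ hHK) hH) (hs.comap hinj) (c := c)
    (fun h hh => hinj (by rw [map_mul, map_mul]; exact hc _ hh))
  obtain ⟨a, -, ha⟩ := (hB₀.comap hind hinj hrange hKc).exists_conj
    (by rw [Subgroup.coe_top]; exact isClosed_univ) (by rwa [Subgroup.coe_top]) hB₁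
  rw [← conjSub_comap] at ha
  have haK : f a ∈ K := hrange ▸ ⟨a, rfl⟩
  refine ⟨conjSub (f a) B₀, hB₀.conjSub haK, fun h hh => ?_, ?_⟩
  · obtain ⟨h, rfl⟩ : h ∈ f.range := hrange.symm ▸ hHK hh
    have := hle (show h ∈ H.comap f from hh)
    rw [← ha] at this
    exact this
  · rw [← ha] at hcB
    exact hcB

lemma le_centralizer_self {S : Subgroup (Pt k A)} (hS : IsTor S) : S ≤ Subgroup.centralizer (S : Set (Pt k A)) :=
  fun x hx => Subgroup.mem_centralizer_iff.2 fun y hy => hS.comm y hy x hx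

/-- **Centralisers of tori in connected groups are connected.** -/
theorem isPreconnected_centralizer_tor (hKc : IsClosed (K : Set (Pt k A))) (hK : IsPreconnected (K : Set (Pt k A)))
    {S : Subgroup (Pt k A)} (hS : IsTor S) (hSK : S ≤ K) :
    IsPreconnected ((K ⊓ Subgroup.centralizer (S : Set (Pt k A)) : Subgroup (Pt k A)) : Set (Pt k A)) := by
  refine isPreconnected_of_forall 1 fun a ha => ?_
  obtain ⟨haK, haS⟩ := ha
  obtain ⟨B, hB, hSB, haB⟩ := exists_bor_commute_in hKc hK hSK hS.conn hS.isSol haK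
    fun h hh => (Subgroup.mem_centralizer_iff.1 haS h hh).symm
  exact ⟨((B ⊓ Subgroup.centralizer (S : Set (Pt k A)) : Subgroup (Pt k A)) : Set (Pt k A)),
    fun x hx => ⟨hB.le hx.1, hx.2⟩, Subgroup.one_mem _, ⟨haB, haS⟩,
    isPreconnected_centralizer_sol hB.closed hB.conn hB.sol hS hSB⟩

/-- **A Borel subgroup containing a torus meets its centraliser in a Borel subgroup of the centraliser.** -/
theorem IsBor.inf_centralizer (hKc : IsClosed (K : Set (Pt k A))) (hK : IsPreconnected (K : Set (Pt k A)))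
    (hB : IsBor K B) {S : Subgroup (Pt k A)} (hS : IsTor S) (hSB : S ≤ B) :
    IsBor (K ⊓ Subgroup.centralizer (S : Set (Pt k A))) (B ⊓ Subgroup.centralizer (S : Set (Pt k A))) := by
  classical
  set Z := Subgroup.centralizer (S : Set (Pt k A)) with hZdef
  set C := K ⊓ Z with hCdef
  have hCc : IsClosed (C : Set (Pt k A)) := hKc.inter (isClosed_centralizer S)
  have hC : IsPreconnected (C : Set (Pt k A)) := isPreconnected_centralizer_tor hKc hK hS (hSB.trans hB.le)
  have hBCc : IsClosed ((B ⊓ Z : Subgroup (Pt k A)) : Set (Pt k A)) := hB.closed.inter (isClosed_centralizer S)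
  have hBC : IsPreconnected ((B ⊓ Z : Subgroup (Pt k A)) : Set (Pt k A)) :=
    isPreconnected_centralizer_sol hB.closed hB.conn hB.sol hS hSB
  have hle : B ⊓ Z ≤ C := inf_le_inf_right _ hB.le
  -- conjugates of `S` inside `B`
  let Y : Set (Pt k A) := (K : Set (Pt k A)) ∩ ⋂ s ∈ S, (fun g => g⁻¹ * s * g) ⁻¹' (B : Set (Pt k A))
  have hY : IsClosed Y := hKc.inter (isClosed_biInter fun s _ =>
    hB.closed.preimage ((IsMor.id.inv.mul (IsMor.const s)).mul IsMor.id).continuous)
  let CB : Set (Pt k A) := {g | ∃ c ∈ C, ∃ b ∈ B, c * b = g}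
  have hCBK : ∀ g ∈ CB, g ∈ K := by
    rintro _ ⟨c, hc, b, hb, rfl⟩
    exact K.mul_mem hc.1 (hB.le hb)
  have hCBY : CB ⊆ Y := by
    rintro _ ⟨c, hc, b, hb, rfl⟩
    refine ⟨K.mul_mem hc.1 (hB.le hb), Set.mem_iInter₂.2 fun s hs => ?_⟩
    show (c * b)⁻¹ * s * (c * b) ∈ B
    rw [mul_inv_rev, show b⁻¹ * c⁻¹ * s * (c * b) = b⁻¹ * (c⁻¹ * (s * c)) * b by group,
      Subgroup.mem_centralizer_iff.1 hc.2 s hs, inv_mul_cancel_left]
    exact B.mul_mem (B.mul_mem (B.inv_mem hb) (hSB hs)) hb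
  have hCBconn : IsPreconnected CB := by
    refine isPreconnected_of_forall 1 ?_
    rintro _ ⟨c, hc, b, hb, rfl⟩
    refine ⟨(C : Set (Pt k A)) ∪ (fun x => c * x) '' (B : Set (Pt k A)), ?_, Or.inl C.one_mem, Or.inr ⟨b, hb, rfl⟩,
      hC.union c hc ⟨1, B.one_mem, mul_one c⟩ (hB.conn.image _ (continuous_const_mul c).continuousOn)⟩
    rintro x (hx | ⟨b', hb', rfl⟩)
    · exact ⟨x, hx, 1, B.one_mem, mul_one x⟩
    · exact ⟨c, hc, b', hb', rfl⟩
  obtain ⟨D⟩ := exists_flagRep hB.conn hB.sol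
  obtain ⟨t, htS, ⟨m, hm, htm⟩, hreg⟩ := hS.exists_regular
  have htY : ∀ g ∈ Y, g⁻¹ * t * g ∈ B := fun g hg => Set.mem_iInter₂.1 hg.2 t htS
  have hcomp : connectedComponentIn Y 1 = CB := by
    have h1Y : (1 : Pt k A) ∈ Y := hCBY ⟨1, C.one_mem, 1, B.one_mem, mul_one 1⟩
    refine Set.Subset.antisymm ?_ (hCBconn.subset_connectedComponentIn ⟨1, C.one_mem, 1, B.one_mem, mul_one 1⟩ hCBY)
    intro g hg
    have hgY : g ∈ Y := connectedComponentIn_subset _ _ hg
    have hxB : g⁻¹ * t * g ∈ B := htY g hgY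
    have hmod : ∀ j, ∀ v ∈ D.F (j + 1), D.r.ρ (g⁻¹ * t * g) v - D.r.ρ t v ∈ D.F j := by
      intro j v hv
      by_cases hj : D.F (j + 1) ≤ D.F j
      · exact (D.F j).sub_mem (D.stable hxB (hj hv)) (D.stable (hSB htS) (hj hv))
      obtain ⟨v₀, hv₀, hv₀'⟩ := SetLike.not_le_iff_exists.1 hj
      obtain ⟨φ, hφv, hφ⟩ := Submodule.exists_dual_map_eq_bot_of_notMem hv₀' inferInstance
      have hφ' : ∀ w ∈ D.F j, φ w = 0 := fun w hw => by
        have : φ w ∈ (D.F j).map φ := Submodule.mem_map_of_mem hw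
        rwa [hφ, Submodule.mem_bot] at this
      have hval : ∀ x ∈ B, ∀ c : k, (∀ v ∈ D.F (j + 1), D.r.ρ x v - c • v ∈ D.F j) →
          (φ v₀)⁻¹ * φ (D.r.ρ x v₀) = c := by
        intro x _ c hc
        have h0 := hφ' _ (hc v₀ hv₀)
        rw [map_sub, map_smul, sub_eq_zero, smul_eq_mul] at h0
        rw [h0, mul_comm c, inv_mul_cancel_left₀ hφv]
      have hroot : ∀ x ∈ B, x ^ m = 1 → ((φ v₀)⁻¹ * φ (D.r.ρ x v₀)) ^ m = 1 := by
        intro x hx hxm
        obtain ⟨c, hc⟩ := D.scalar x hx j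
        rw [hval x hx c hc]
        have hpow : ∀ n : ℕ, ∀ v ∈ D.F (j + 1), D.r.ρ (x ^ n) v - c ^ n • v ∈ D.F j := by
          intro n
          induction n with
          | zero => intro v _; simp [D.r.map_one]
          | succ n ih =>
            intro v hv
            rw [pow_succ' x, D.ρ_mul, Module.End.mul_apply, pow_succ' c, ← smul_smul]
            have h1 := hc _ ((D.F (j + 1)).smul_mem (c ^ n) hv)
            have h2 := D.stable hx (ih v hv)
            rw [map_sub] at h2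
            simpa using (D.F j).add_mem h2 h1
        have h0 := hφ' _ (hpow m v₀ hv₀)
        rw [hxm, D.r.map_one, Module.End.one_apply, map_sub, map_smul, smul_eq_mul, sub_eq_zero] at h0
        exact mul_right_cancel₀ hφv (by rw [one_mul]; exact h0.symm)
      have hm0 : 0 < m := Nat.pos_of_ne_zero fun h0 => hm (by rw [h0, Nat.cast_zero])
      have hfreg : IsReg fun y : Pt k A => (φ v₀)⁻¹ * φ (D.r.ρ (y⁻¹ * t * y) v₀) :=
        (IsReg.const _).mul ((D.r.reg φ v₀).comp ((IsMor.id.inv.mul (IsMor.const t)).mul IsMor.id))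
      have heq := hfreg.const_of_finite (isPreconnected_connectedComponentIn (x := (1 : Pt k A)) (F := Y))
        ((Polynomial.finite_setOf_isRoot (Polynomial.X_pow_sub_C_ne_zero hm0 (1 : k))).subset (by
          rintro _ ⟨y, hy, rfl⟩
          have := hroot _ (htY y (connectedComponentIn_subset _ _ hy))
            (by rw [show y⁻¹ * t * y = y⁻¹ * t * y⁻¹⁻¹ by rw [inv_inv], conj_pow, htm]; simp)
          simp [Polynomial.IsRoot, this])) hg (mem_connectedComponentIn h1Y)
      simp only [inv_one, one_mul, mul_one] at heq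
      obtain ⟨c, hc⟩ := D.scalar _ hxB j
      obtain ⟨c', hc'⟩ := D.scalar t (hSB htS) j
      have hcc : c = c' := by rw [← hval _ hxB c hc, ← hval _ (hSB htS) c' hc', heq]
      subst hcc
      simpa using (D.F j).sub_mem (hc v hv) (hc' v hv)
    have hU : g⁻¹ * t * g * t⁻¹ ∈ D.U 1 := by
      refine ⟨B.mul_mem hxB (B.inv_mem (hSB htS)), fun j v hv => ?_⟩
      rcases j with _ | j
      · rw [D.F_zero, Submodule.mem_bot] at hv
        simp [hv]
      rw [Nat.add_sub_cancel]
      have := hmod j _ (D.stable (inv_mem (hSB htS)) hv)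
      rwa [← Module.End.mul_apply, ← Module.End.mul_apply, ← D.ρ_mul, ← D.ρ_mul, mul_inv_cancel, D.r.map_one,
        Module.End.one_apply] at this
    obtain ⟨b, hb, -, hbt⟩ := D.exists_conj_one hB.closed le_rfl hB.closed (hSB htS) hxB ⟨m, hm, htm⟩
      ⟨m, hm, by rw [show g⁻¹ * t * g = g⁻¹ * t * g⁻¹⁻¹ by rw [inv_inv], conj_pow, htm]; simp⟩ hU
    refine ⟨g * b, ⟨K.mul_mem hgY.1 (hB.le hb), Subgroup.mem_centralizer_iff.2 fun s hs => ?_⟩, b⁻¹, B.inv_mem hb,
      mul_inv_cancel_right g b⟩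
    refine (hreg (g * b) ?_ s hs).symm
    calc g * b * t = g * (b * t * b⁻¹) * b := by group
      _ = g * (g⁻¹ * t * g) * b := by rw [hbt]
      _ = t * (g * b) := by group
  have hCBc : IsClosed CB := hcomp ▸ closure_subset_iff_isClosed.1
    ((isPreconnected_connectedComponentIn.closure).subset_connectedComponentIn
      (subset_closure (mem_connectedComponentIn (hCBY ⟨1, C.one_mem, 1, B.one_mem, mul_one 1⟩)))
      (closure_minimal (connectedComponentIn_subset _ _) hY))
  -- the closed cone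
  obtain ⟨V, _, _, _, r₀, v, hv, hst⟩ := exists_line_rep hB.closed
  set r := r₀.mono (le_top : C ≤ ⊤)
  have hcone : IsClosed (r.cone v) := by
    let E : Set (Pt k (VPoly k V ⊗[k] A)) := {z | sndP z ∈ CB ∧ ∀ φ ψ : V →ₗ[k] k,
      φ (pv (fstP z)) * ψ (r₀.ρ (sndP z) v) = φ (r₀.ρ (sndP z) v) * ψ (pv (fstP z))}
    have hE : IsClosed E := by
      have e : E = (sndP ⁻¹' CB) ∩ ⋂ (φ : V →ₗ[k] k) (ψ : V →ₗ[k] k),
          {z | φ (pv (fstP z)) * ψ (r₀.ρ (sndP z) v) = φ (r₀.ρ (sndP z) v) * ψ (pv (fstP z))} := by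
        ext z; simp [E]
      rw [e]
      exact (hCBc.preimage IsMor.sndP.continuous).inter (isClosed_iInter fun φ => isClosed_iInter fun ψ =>
        (((isReg_pv φ).comp IsMor.fstP).mul ((r₀.reg ψ v).comp IsMor.sndP)).isClosed_eq
          (((r₀.reg φ v).comp IsMor.sndP).mul ((isReg_pv ψ).comp IsMor.fstP)))
    have e : fstP '' E = r.cone v := by
      ext y
      constructor
      · rintro ⟨z, ⟨hz, hz'⟩, rfl⟩
        obtain ⟨c, hc⟩ := Submodule.mem_span_singleton.1
          ((mem_span_singleton_iff_forall (r₀.apply_ne_zero trivial hv)).2 hz')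
        obtain ⟨c₁, hc₁, b, hb, hz₁⟩ := hz
        obtain ⟨-, d, hd⟩ := hst.ge hb
        refine ⟨c₁, hc₁, c * d, ?_⟩
        show _ = (c * d) • r₀.ρ c₁ v
        rw [← hc, ← hz₁, r₀.mul_apply trivial trivial, hd, map_smul, smul_smul]
      · rintro ⟨g, hg, c, hc⟩
        refine ⟨pair y g, ⟨?_, fun φ ψ => ?_⟩, fstP_pair _ _⟩
        · rw [sndP_pair]; exact ⟨g, hg, 1, B.one_mem, mul_one g⟩
        · rw [fstP_pair, sndP_pair, hc]
          show φ (c • r₀.ρ g v) * ψ (r₀.ρ g v) = φ (r₀.ρ g v) * ψ (c • r₀.ρ g v)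
          simp only [map_smul, smul_eq_mul]; ring
    rw [← e]
    refine hB.complete hKc hK (VPoly k V) E hE (fun z hz => hCBK _ hz.1) fun z hz b hb => ?_
    obtain ⟨-, d, hd⟩ := hst.ge hb
    refine ⟨?_, fun φ ψ => ?_⟩
    · rw [sndP_pair]
      obtain ⟨c₁, hc₁, b₁, hb₁, hz₁⟩ := hz.1
      exact ⟨c₁, hc₁, b₁ * b, B.mul_mem hb₁ hb, by rw [← hz₁, mul_assoc]⟩
    · simp only [fstP_pair, sndP_pair, r₀.mul_apply trivial trivial, hd, map_smul, smul_eq_mul]
      linear_combination d * hz.2 φ ψ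
  have huniv : ∀ H : Subgroup (Pt k A), H ≤ C → IsPreconnected (H : Set (Pt k A)) → IsSol H →
      ∃ g ∈ C, BorelLib.conjSub g⁻¹ H ≤ B ⊓ Z := by
    intro H hHC hH hHs
    obtain ⟨y, hy, hyne, hwt⟩ := r.exists_weight_in_cone hHC hH hHs hcone (fun c _ y hy => r.cone_smul hy c)
      (fun h hh y hy => r.cone_stable (hHC hh) hy) ⟨_, r.mem_cone_self v, by rwa [pv_vp]⟩
    obtain ⟨g, hg, c, hc⟩ := hy
    have hc0 : c ≠ 0 := fun h => hyne (by rw [hc, h, zero_smul])
    refine ⟨g, hg, fun x hx => ?_⟩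
    rw [mem_conjSub, inv_inv] at hx
    have hgh : g⁻¹ * (g * x * g⁻¹) * g = x := by group
    have hxC : x ∈ C := hgh ▸ C.mul_mem (C.mul_mem (inv_mem hg) (hHC hx)) hg
    refine ⟨?_, hxC.2⟩
    rw [← hst]
    obtain ⟨d, hd⟩ := hwt _ hx
    refine ⟨trivial, d, ?_⟩
    rw [hc, map_smul, smul_smul, mul_comm, ← smul_smul] at hd
    have hd' := smul_right_injective V hc0 hd
    show r.ρ x v = d • v
    conv_lhs => rw [← hgh]
    rw [r.mul_apply (C.mul_mem (inv_mem hg) (hHC hx)) hg, r.mul_apply (inv_mem hg) (hHC hx), hd', map_smul,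
      r.inv_apply hg]
  refine ⟨hle, hBCc, hBC, hB.sol.mono inf_le_left, fun H hHC hHc hH hHs hBH => ?_⟩
  obtain ⟨g, -, hg⟩ := huniv H hHC hH hHs
  exact le_antisymm ((conjSub_eq_of_le hHc (hg.trans hBH)) ▸ hg) hBH

end Groth.Agent.BorelLib
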