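import Groth.Agent.BorelLib.BaseChange

/-!
# Borel subgroups of centralisers of tori
-/

set_option autoImplicit false
set_option linter.style.haveILetI false
set_option backward.isDefEq.respectTransparency false

universe u

open CategoryTheory CategoryTheory.Limits MonoidalCategory CartesianMonoidalCategory AlgebraicGeometry WithConv
open scoped MonObj
open CoactBr (sp)

noncomputable section

attribute [-instance] CategoryTheory.Hom.commGroup

namespace Groth.Agent.BorelLib

attribute [local instance] pTop pTopTensor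

section general

variable {S : Scheme.{u}} {G T C B D : Over S} [GrpObj G] [GrpObj T] [GrpObj C] [GrpObj B] [GrpObj D]
  {iT : T ⟶ G} {c : C ⟶ G} {iB : B ⟶ G} [IsMonHom iB] [Mono iB] {t : T ⟶ B} {dC : D ⟶ C} {dB : D ⟶ B}

omit [GrpObj D] in
/-- The intersection of a centraliser with a subgroup containing the centralised group is a centraliser there. -/
theorem isCentralizerOf_pullback [GrpObj D] [IsMonHom dC] (hc : Red.IsCentralizerOf iT c) (ht : t ≫ iB = iT)
    (hD : IsPullback dC dB c iB) : Red.IsCentralizerOf t dB := by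
  haveI := hc.1; haveI := hc.2.1
  haveI : IsMonHom (dB ≫ iB) := by rw [← hD.w]; infer_instance
  refine ⟨DiagRep.isMonHom_of_comp_mono dB iB,
    ⟨fun a b h => hD.hom_ext ((cancel_mono c).1 (by
      rw [Category.assoc, Category.assoc, hD.w, ← Category.assoc, h, Category.assoc])) h⟩,
    fun X g => ⟨?_, fun hcomm => ?_⟩⟩
  · rintro ⟨z, rfl⟩ X' x h
    apply (cancel_mono iB).1
    rw [MonObj.mul_comp, MonObj.mul_comp]
    have := (hc.2.2 X ((z ≫ dB) ≫ iB)).1 ⟨z ≫ dC, by rw [Category.assoc, Category.assoc, hD.w]⟩ X' x h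
    simpa [Category.assoc, ht] using this
  · obtain ⟨z, hz⟩ := (hc.2.2 X (g ≫ iB)).2 fun X' x h => by
      have := congrArg (fun m => m ≫ iB) (hcomm X' x h)
      simp only [MonObj.mul_comp] at this
      simpa [Category.assoc, ht] using this
    exact ⟨hD.lift z g hz, hD.lift_snd _ _ _⟩

end general

section algClosed

variable {k : Type u} [Field k] [IsAlgClosed k]
  {G : Over (Spec (CommRingCat.of k))} [GrpObj G] [IsAffine G.left] [Smooth G.hom] [ConnectedSpace G.left]

/-- A subgroup of a solvable group is solvable. -/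
theorem isSolvableGrp_of_mono {S : Scheme.{u}} {H K : Over S} [GrpObj H] [GrpObj K] (f : H ⟶ K) [IsMonHom f] [Mono f]
    (hK : Red.IsSolvableGrp K) : Red.IsSolvableGrp H := by
  obtain ⟨n, hn⟩ := hK
  refine ⟨n, fun X => ?_⟩
  let φ : (X ⟶ H) →* (X ⟶ K) := MonoidHom.mk' (fun x => x ≫ f) fun a b => MonObj.mul_comp a b f
  have h := map_derivedSeries_le_derivedSeries φ n
  rw [hn, le_bot_iff, Subgroup.map_eq_bot_iff_of_injective _ (fun a b h => (cancel_mono f).1 h :
    Function.Injective φ)] at h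
  exact h

variable {T C B D : Over (Spec (CommRingCat.of k))} [GrpObj T] [GrpObj C] [GrpObj B] [GrpObj D]
  {iT : T ⟶ G} [IsMonHom iT] [Mono iT] {c : C ⟶ G} {iB : B ⟶ G} {t : T ⟶ B} {dC : D ⟶ C} {dB : D ⟶ B}

/-- A Borel subgroup containing a torus meets its centraliser in a Borel subgroup of the centraliser. -/
theorem isBorelOver_pullback (hT : Red.IsTorus T) (hc : Red.IsCentralizerOf iT c) (hB : Red.IsBorelOver k iB)
    (ht : t ≫ iB = iT) [IsMonHom dC] (hD : IsPullback dC dB c iB) : Red.IsBorelOver k dC := by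
  obtain ⟨hBi, hBc, hBs, hBconn, hBsol, -⟩ := id hB
  haveI := hBi; haveI := hBc; haveI := hBs; haveI := hBconn; haveI := hc.1; haveI := hc.2.1
  haveI : Mono iB := DiagRep.mono_of_isClosedImmersion iB hBc
  haveI : IsAffine B.left := isAffine_of_isAffineHom iB.left
  haveI : IsMonHom (t ≫ iB) := ht ▸ inferInstance
  haveI : IsMonHom t := DiagRep.isMonHom_of_comp_mono t iB
  haveI : Mono (t ≫ iB) := ht ▸ inferInstance
  haveI : Mono t := mono_of_mono t iB
  have hcD := isCentralizerOf_pullback hc ht hD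
  haveI := hcD.1; haveI := hcD.2.1
  obtain ⟨hDs, hDconn⟩ := centralizer_connected t hT hcD
  obtain ⟨hsm, hcl, hp⟩ : Smooth C.hom ∧ IsClosedImmersion c.left ∧ True := by
    obtain ⟨h1, h2⟩ := centralizer_smooth iT hT hc
    exact ⟨h1, h2, trivial⟩
  obtain ⟨-, hdBc⟩ := centralizer_smooth t hT hcD
  haveI := hsm; haveI := hcl; haveI := hDs; haveI := hdBc
  haveI : IsClosedImmersion (dC ≫ c).left := by rw [hD.w, Over.comp_left]; infer_instance
  have hdCc : IsClosedImmersion dC.left := by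
    haveI : IsClosedImmersion (dC.left ≫ c.left) := by rw [← Over.comp_left]; infer_instance
    exact IsClosedImmersion.of_comp dC.left c.left
  haveI := hdCc
  refine ⟨inferInstance, hdCc, hDs, hDconn, isSolvableGrp_of_mono dB hBsol, ?_⟩
  intro B' _ i' _ f hic' hsm' hconn' hsol' hf
  haveI := hic'; haveI := hsm'; haveI := hconn'
  obtain ⟨A, _, _, v, hv, hA, -⟩ := exists_setup G
  haveI := hv; haveI := hA
  haveI : QuasiCompact G.hom := inferInstance
  obtain ⟨hKc, hK⟩ := facts_top v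
  obtain ⟨-, -, hpC⟩ := centralizer_facts v iT hT hc
  have hbor := (isBor_ptsSub v hB).inf_centralizer hKc hK (isTor_ptsSub v iT hT) (ptsSub_le_of_factor v ht)
  rw [top_inf_eq] at hbor
  haveI : IsClosedImmersion (i' ≫ c).left := by rw [Over.comp_left]; infer_instance
  have hle : ptsSub v (dC ≫ c) ≤ ptsSub v (i' ≫ c) := ptsSub_le_of_factor v (f := f) (by rw [← Category.assoc, hf])
  have hDp : ptsSub v (dC ≫ c) = ptsSub v iB ⊓ Subgroup.centralizer (ptsSub v iT : Set (Pt k A)) := by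
    rw [← hpC]
    ext x
    constructor
    · intro hx
      obtain ⟨d, hd⟩ := (mem_ptsSub v).1 hx
      exact ⟨(mem_ptsSub v).2 ⟨d ≫ dB, by rw [Category.assoc, ← hD.w, hd]⟩,
        (mem_ptsSub v).2 ⟨d ≫ dC, by rw [Category.assoc, hd]⟩⟩
    · rintro ⟨h1, h2⟩
      obtain ⟨b, hb⟩ := (mem_ptsSub v).1 h1
      obtain ⟨z, hz⟩ := (mem_ptsSub v).1 h2
      exact (mem_ptsSub v).2 ⟨hD.lift z b (hz.trans hb.symm), by rw [← Category.assoc, hD.lift_fst, hz]⟩
  have heq : ptsSub v (dC ≫ c) = ptsSub v (i' ≫ c) := by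
    rw [hDp] at hle ⊢
    exact (hbor.maximal _ (hpC ▸ ptsSub_le_of_factor v (f := i') rfl) (isClosed_ptsSub v) (isPreconnected_ptsSub v)
      (isSol_ptsSub v hsol') hle).symm
  haveI : AlgebraicGeometry.IsReduced D.left := AlgSpLib.isReduced_of_smooth D.hom
  haveI : AlgebraicGeometry.IsReduced B'.left := AlgSpLib.isReduced_of_smooth B'.hom
  obtain ⟨e, he⟩ := exists_iso_of_eq v (i := dC ≫ c) (i' := i' ≫ c) heq
  haveI : Mono (i' ≫ c) := DiagRep.mono_of_isClosedImmersion _ inferInstance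
  rw [show f = e.hom by rw [← cancel_mono (i' ≫ c), he, ← Category.assoc, hf]]
  infer_instance

omit [GrpObj B] [GrpObj D] in
/-- Every Borel subgroup of the centraliser of a torus is cut out by a Borel subgroup. -/
theorem exists_borel_pullback {D : Over (Spec (CommRingCat.of k))} [GrpObj D] {dC : D ⟶ C} (hT : Red.IsTorus T)
    (hc : Red.IsCentralizerOf iT c) (hD : Red.IsBorelOver k dC) :
    ∃ (B : Over (Spec (CommRingCat.of k))) (_ : GrpObj B) (iB : B ⟶ G) (t : T ⟶ B) (dB : D ⟶ B),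
      Red.IsBorelOver k iB ∧ t ≫ iB = iT ∧ IsPullback dC dB c iB := by
  obtain ⟨hDi, hDc, hDs, hDconn, hDsol, hDmax⟩ := id hD
  haveI := hDi; haveI := hDc; haveI := hDs; haveI := hDconn; haveI := hc.1; haveI := hc.2.1
  obtain ⟨A, _, _, v, hv, hA, -⟩ := exists_setup G
  haveI := hv; haveI := hA
  haveI : QuasiCompact G.hom := inferInstance
  obtain ⟨hKc, hK⟩ := facts_top v
  obtain ⟨hsm, hcl, hpC⟩ := centralizer_facts v iT hT hc
  haveI := hsm; haveI := hcl
  obtain ⟨hclT, hredT⟩ := facts_torus v (iT := iT) inferInstance hT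
  haveI := hclT; haveI := hredT
  haveI : LocallyOfFiniteType T.hom := by rw [← Over.w iT]; infer_instance
  have hTor := isTor_ptsSub v iT hT
  set S := ptsSub v iT
  have hZc : IsClosed (Subgroup.centralizer (S : Set (Pt k A)) : Set (Pt k A)) := isClosed_centralizer S
  have hZ : _root_.IsPreconnected (Subgroup.centralizer (S : Set (Pt k A)) : Set (Pt k A)) := by
    simpa using isPreconnected_centralizer_tor hKc hK hTor le_top
  haveI : IsClosedImmersion (dC ≫ c).left := by rw [Over.comp_left]; infer_instance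
  have hDbor : IsBor (Subgroup.centralizer (S : Set (Pt k A))) (ptsSub v (dC ≫ c)) := by
    refine ⟨hpC ▸ ptsSub_le_of_factor v (f := dC) rfl, isClosed_ptsSub v, isPreconnected_ptsSub v,
      isSol_ptsSub v hDsol, fun H hHC hHc hHconn hHs hle => le_antisymm ?_ hle⟩
    obtain ⟨H', _, iH, hiH, hicH, hsmH, hHp, hHconn', hHsol'⟩ := exists_scheme_sub v hHc
    haveI := hiH; haveI := hicH; haveI := hsmH
    haveI : AlgebraicGeometry.IsReduced H'.left := AlgSpLib.isReduced_of_smooth H'.hom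
    haveI : AlgebraicGeometry.IsReduced D.left := AlgSpLib.isReduced_of_smooth D.hom
    obtain ⟨i', hi'⟩ := exists_factor_of_le v (i := iH) (i' := c) (hHp.symm ▸ hpC.symm ▸ hHC)
    obtain ⟨f, hf⟩ := exists_factor_of_le v (i := dC ≫ c) (i' := iH) (hHp.symm ▸ hle)
    haveI : IsMonHom (i' ≫ c) := hi'.symm ▸ hiH
    haveI : IsMonHom i' := DiagRep.isMonHom_of_comp_mono i' c
    haveI : IsClosedImmersion (i'.left ≫ c.left) := by rw [← Over.comp_left, hi']; infer_instance
    have hic' : IsClosedImmersion i'.left := IsClosedImmersion.of_comp i'.left c.left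
    haveI := hDmax H' i' f hic' hsmH (hHconn' hHconn) (hHsol' hHs)
      ((cancel_mono c).1 (by rw [Category.assoc, hi', hf]))
    intro x hx
    rw [← hHp] at hx
    obtain ⟨b, hb⟩ := (mem_ptsSub v).1 hx
    exact (mem_ptsSub v).2 ⟨b ≫ inv f, by rw [← hb, ← hf, Category.assoc, IsIso.inv_hom_id_assoc]⟩
  obtain ⟨B₀, hB₀, -⟩ := IsBor.exists_conj_universal hKc hK
  obtain ⟨a, -, ha⟩ := hB₀.exists_conj_le hKc hK le_top hTor.conn hTor.isSol
  have hB₁ : IsBor ⊤ (conjSub a⁻¹ B₀) := hB₀.conjSub trivial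
  have hS₁ : S ≤ conjSub a⁻¹ B₀ := by
    have := conjSub_mono (a := a⁻¹) ha
    rwa [conjSub_conjSub, inv_mul_cancel, conjSub_one] at this
  have hCB := hB₁.inf_centralizer hKc hK hTor hS₁
  rw [top_inf_eq] at hCB
  obtain ⟨g, hg, hge⟩ := hCB.exists_conj hZc hZ hDbor
  have hgS : conjSub g S = S := by
    ext y
    rw [mem_conjSub]
    have hfix : ∀ w ∈ S, g * w * g⁻¹ = w := fun w hw => by
      rw [← Subgroup.mem_centralizer_iff.1 hg w hw, mul_inv_cancel_right]
    constructor
    · intro hy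
      have := hfix _ hy
      rw [show g * (g⁻¹ * y * g) * g⁻¹ = y by group] at this
      exact this ▸ hy
    · intro hy
      rw [show g⁻¹ * y * g = y by rw [_root_.mul_assoc, ← mul_inv_eq_iff_eq_mul.1 (hfix y hy), inv_mul_cancel_left]]
      exact hy
  have hSB : S ≤ conjSub g (conjSub a⁻¹ B₀) := hgS ▸ conjSub_mono hS₁
  obtain ⟨B, _, iB, hiB, hB, hBp⟩ := exists_borel_of_isBor v (hB₁.conjSub (a := g) trivial)
  haveI := hiB; haveI := hB.2.1; haveI := hB.2.2.1; haveI := hB.2.2.2.1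
  haveI : Mono iB := DiagRep.mono_of_isClosedImmersion iB hB.2.1
  obtain ⟨t, ht⟩ := exists_factor_of_le v (i := iT) (i' := iB) (hBp.symm ▸ hSB)
  haveI : IsAffine B.left := isAffine_of_isAffineHom iB.left
  haveI : IsMonHom (t ≫ iB) := ht ▸ inferInstance
  haveI : IsMonHom t := DiagRep.isMonHom_of_comp_mono t iB
  haveI : Mono (t ≫ iB) := ht ▸ inferInstance
  haveI : Mono t := mono_of_mono t iB
  haveI : QuasiCompact B.hom := inferInstance
  obtain ⟨hclt, hredt⟩ : IsClosedImmersion t.left ∧ True := by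
    haveI : IsClosedImmersion (t.left ≫ iB.left) := by rw [← Over.comp_left, ht]; infer_instance
    exact ⟨IsClosedImmersion.of_comp t.left iB.left, trivial⟩
  obtain ⟨⟨Z, _, z, hz, hzc, hzs⟩, -⟩ := Groth.Agent.S3006.result _ B T t hclt hT
  haveI := hz.1; haveI := hz.2.1; haveI := hzc; haveI := hzs
  haveI : AlgebraicGeometry.IsReduced Z.left := AlgSpLib.isReduced_of_smooth Z.hom
  haveI : AlgebraicGeometry.IsReduced D.left := AlgSpLib.isReduced_of_smooth D.hom
  haveI : IsClosedImmersion (z ≫ iB).left := by rw [Over.comp_left]; infer_instance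
  have hmemC : ∀ {X : Over (Spec (CommRingCat.of k))} (b : X ⟶ B), (∃ w, w ≫ c = b ≫ iB) ↔ ∃ w, w ≫ z = b := by
    intro X b
    rw [hc.2.2 X (b ≫ iB), hz.2.2 X b]
    refine forall₃_congr fun X' x h => ?_
    rw [← cancel_mono iB (g := (x ≫ b) * (h ≫ t)), MonObj.mul_comp, MonObj.mul_comp, Category.assoc, Category.assoc, ht]
  have hZp : ptsSub v (z ≫ iB) = ptsSub v (dC ≫ c) := by
    have e : ptsSub v (dC ≫ c) = ptsSub v iB ⊓ Subgroup.centralizer (S : Set (Pt k A)) := by
      rw [hBp]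
      rw [← hge]
      ext y
      constructor
      · intro hy
        rw [mem_conjSub] at hy
        refine ⟨mem_conjSub.2 hy.1, ?_⟩
        have := Subgroup.mul_mem _ (Subgroup.mul_mem _ hg hy.2) (Subgroup.inv_mem _ hg)
        rwa [show g * (g⁻¹ * y * g) * g⁻¹ = y by group] at this
      · rintro ⟨hy1, hy2⟩
        rw [mem_conjSub]
        exact ⟨mem_conjSub.1 hy1, Subgroup.mul_mem _ (Subgroup.mul_mem _ (Subgroup.inv_mem _ hg) hy2) hg⟩
    rw [e, ← hpC]
    ext x
    constructor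
    · intro hx
      obtain ⟨w, hw⟩ := (mem_ptsSub v).1 hx
      obtain ⟨w', hw'⟩ := (hmemC (w ≫ z)).2 ⟨w, rfl⟩
      exact ⟨(mem_ptsSub v).2 ⟨w ≫ z, by rw [Category.assoc, hw]⟩,
        (mem_ptsSub v).2 ⟨w', by rw [hw', Category.assoc, hw]⟩⟩
    · rintro ⟨h1, h2⟩
      obtain ⟨b, hb⟩ := (mem_ptsSub v).1 h1
      obtain ⟨w, hw⟩ := (mem_ptsSub v).1 h2
      obtain ⟨w', hw'⟩ := (hmemC b).1 ⟨w, hw.trans hb.symm⟩
      exact (mem_ptsSub v).2 ⟨w', by rw [← Category.assoc, hw', hb]⟩
  obtain ⟨e, he⟩ := exists_iso_of_eq v (i := z ≫ iB) (i' := dC ≫ c) hZp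
  refine ⟨B, inferInstance, iB, t, e.inv ≫ z, hB, ht, ?_⟩
  have hw : dC ≫ c = (e.inv ≫ z) ≫ iB := by rw [Category.assoc, ← he, e.inv_hom_id_assoc]
  refine IsPullback.of_isLimit (c := PullbackCone.mk dC (e.inv ≫ z) hw)
    (PullbackCone.IsLimit.mk _ (fun s => ((hmemC s.snd).1 ⟨s.fst, s.condition⟩).choose ≫ e.hom) ?_ ?_ ?_)
  · intro s
    have h := ((hmemC s.snd).1 ⟨s.fst, s.condition⟩).choose_spec
    rw [← cancel_mono c, Category.assoc, Category.assoc, he, ← Category.assoc, h, ← s.condition]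
  · intro s
    rw [Category.assoc, e.hom_inv_id_assoc]
    exact ((hmemC s.snd).1 ⟨s.fst, s.condition⟩).choose_spec
  · intro s m h1 h2
    have h := ((hmemC s.snd).1 ⟨s.fst, s.condition⟩).choose_spec
    rw [← Iso.comp_inv_eq, ← cancel_mono z, Category.assoc, h]
    exact h2

end algClosed

end Groth.Agent.BorelLib

end
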