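import Groth.Agent.BorelLib.NonAffBorelConn
import Groth.Agent.GrpFieldLib.Identity
import Groth.Agent.AntiAffLib.Basic

/-!
# Borel subgroups and the identity component
-/

set_option autoImplicit false
set_option linter.style.haveILetI false
set_option linter.unusedSectionVars false
set_option backward.isDefEq.respectTransparency false

universe u

open CategoryTheory CategoryTheory.Limits MonoidalCategory CartesianMonoidalCategory AlgebraicGeometry
open scoped MonObj

noncomputable section

attribute [-instance] CategoryTheory.Hom.commGroup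

namespace Groth.Agent.BorelLib.NA

variable {k : Type u} [Field k] [IsAlgClosed k] {G : Over (Spec (CommRingCat.of k))} [GrpObj G] [Smooth G.hom]
  [QuasiCompact G.hom]

/-- The identity component and its universal property. -/
theorem exists_comp : ∃ (G₀ : Over (Spec (CommRingCat.of k))) (_ : GrpObj G₀) (i : G₀ ⟶ G),
    IsMonHom i ∧ IsClosedImmersion i.left ∧ Smooth G₀.hom ∧ QuasiCompact G₀.hom ∧ ConnectedSpace G₀.left ∧
      ∀ (H : Over (Spec (CommRingCat.of k))) [GrpObj H] [AlgebraicGeometry.IsReduced H.left]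
        [PreconnectedSpace H.left] (f : H ⟶ G) [IsMonHom f], ∃ f' : H ⟶ G₀, f' ≫ i = f := by
  obtain ⟨G₀, _, i, hi, hci, hfl, hr, hgi, hc⟩ := Groth.Agent.GrpField.exists_identity_component (G := G)
  haveI := hi; haveI := hci; haveI := hfl; haveI := hgi
  haveI : LocallyOfFinitePresentation G.hom := inferInstance
  haveI : LocallyOfFinitePresentation i.left := by
    haveI : LocallyOfFiniteType G₀.hom := by rw [← Over.w i]; infer_instance
    exact AntiAffLib.lfp_of_lft i
  haveI : IsOpenImmersion i.left := IsOpenImmersion.of_flat_of_mono _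
  haveI hsm : Smooth G₀.hom := by rw [← Over.w i]; infer_instance
  haveI hqc : QuasiCompact G₀.hom := by rw [← Over.w i]; infer_instance
  haveI : IrreducibleSpace G₀.left := GeometricallyIrreducible.irreducibleSpace_of_subsingleton G₀.hom
  refine ⟨G₀, inferInstance, i, hi, hci, hsm, hqc, inferInstance, fun H _ _ _ f _ => ?_⟩
  have hsub : Set.range f.left ⊆ Set.range i.left := by
    rw [hr, ← Groth.Agent.GrpField.connectedComponent_unit]
    refine (isPreconnected_range f.left.continuous).subset_connectedComponent ?_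
    refine ⟨(η[H] : 𝟙_ _ ⟶ H).left (IsLocalRing.closedPoint k), ?_⟩
    show ((η[H] : 𝟙_ _ ⟶ H) ≫ f).left (IsLocalRing.closedPoint k) = _
    rw [IsMonHom.one_hom]
    rfl
  obtain ⟨l, hl⟩ := AVAmpleLib.exists_lift_of_reduced i.left f.left hsub
  exact ⟨Over.homMk l (by rw [← Over.w f, ← hl, Category.assoc, Over.w i]), Over.OverMorphism.ext hl⟩

variable {G₀ : Over (Spec (CommRingCat.of k))} [GrpObj G₀] (i : G₀ ⟶ G) [IsMonHom i] [IsClosedImmersion i.left]

/-- A Borel subgroup is one of the identity component. -/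
theorem exists_borel_lift
    (hfac : ∀ (H : Over (Spec (CommRingCat.of k))) [GrpObj H] [AlgebraicGeometry.IsReduced H.left]
      [PreconnectedSpace H.left] (f : H ⟶ G) [IsMonHom f], ∃ f' : H ⟶ G₀, f' ≫ i = f)
    {B : Over (Spec (CommRingCat.of k))} [GrpObj B] {b : B ⟶ G} (hB : Red.IsBorelOver k b) :
    ∃ b₀ : B ⟶ G₀, b₀ ≫ i = b ∧ Red.IsBorelOver k b₀ := by
  obtain ⟨hbm, hbc, hbs, hbconn, hbsol, hmax⟩ := hB
  haveI := hbm; haveI := hbc; haveI := hbs; haveI := hbconn
  haveI : AlgebraicGeometry.IsReduced B.left := AlgSpLib.isReduced_of_smooth B.hom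
  haveI : Mono i := DiagRep.mono_of_isClosedImmersion i inferInstance
  obtain ⟨b₀, hb₀⟩ := hfac B b
  haveI : IsMonHom (b₀ ≫ i) := by rw [hb₀]; infer_instance
  refine ⟨b₀, hb₀, DiagRep.isMonHom_of_comp_mono b₀ i, ?_, hbs, hbconn, hbsol, fun B' _ b' _ f hc hs hconn hsol hf => ?_⟩
  · haveI : IsClosedImmersion (b₀.left ≫ i.left) := by rw [← Over.comp_left, hb₀]; infer_instance
    exact IsClosedImmersion.of_comp b₀.left i.left
  · haveI := hc
    exact hmax B' (b' ≫ i) f (by rw [Over.comp_left]; infer_instance) hs hconn hsol (by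
      rw [← Category.assoc, hf, hb₀])

end Groth.Agent.BorelLib.NA

end
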