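import Groth.Agent.BorelLib.NonAffSelfNorm
import Groth.Agent.BorelLib.NonAffComp
import Groth.Agent.BorelLib.CentBor
import Groth.Agent.SemiAbLib.Points
import Groth.Agent.AVAmpleLib.HomDiv
import Groth.Agent.AntiAffLib.Image
import Groth.Agent.TransporterLib.Factor

/-!
# Borel subgroups and homomorphisms with central kernel
-/

set_option autoImplicit false
set_option linter.style.haveILetI false
set_option linter.unusedSectionVars false
set_option backward.isDefEq.respectTransparency false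
set_option maxHeartbeats 1000000
set_option synthInstance.maxHeartbeats 400000

universe u

open CategoryTheory CategoryTheory.Limits MonoidalCategory CartesianMonoidalCategory AlgebraicGeometry WithConv
open scoped MonObj

noncomputable section

attribute [-instance] CategoryTheory.Hom.commGroup

namespace Groth.Agent.BorelLib.CentPre

/-- The kernel of `u` is central. -/
def KerCentral {S : Scheme.{u}} {G G' : Over S} [GrpObj G] [GrpObj G'] (u : G ⟶ G') : Prop :=
  ∀ (X : Over S) (z : X ⟶ G), z ≫ u = 1 → ∀ (X' : Over S) (x : X' ⟶ X) (g : X' ⟶ G), (x ≫ z) * g = g * (x ≫ z)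

/-- A closed subgroup containing the kernel is the inverse image of its fppf image. -/
theorem isPullback_of_ker_le {S : Scheme.{u}} {G G' B C : Over S} [GrpObj G] [GrpObj G'] [GrpObj B] [GrpObj C]
    {u : G ⟶ G'} [IsMonHom u] {b : B ⟶ G} [IsMonHom b] [IsClosedImmersion b.left] {c : C ⟶ G'} [IsMonHom c] [Mono c]
    {p : B ⟶ C} [Flat p.left] [Surjective p.left] (w : b ≫ u = p ≫ c)
    (hK : ∀ (X : Over S) (z : X ⟶ G), z ≫ u = 1 → ∃ y : X ⟶ B, y ≫ b = z) : IsPullback b p u c := by
  haveI : Mono b := DiagRep.mono_of_isClosedImmersion b inferInstance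
  have key : ∀ (T : Over S) (g : T ⟶ G) (y : T ⟶ C), g ≫ u = y ≫ c → ∃ l : T ⟶ B, l ≫ b = g ∧ l ≫ p = y := by
    intro T g y e
    let π := pullback.fst y p
    let κ := pullback.snd y p
    haveI : Surjective π.left :=
      MorphismProperty.of_isPullback (P := @Surjective) ((IsPullback.of_hasPullback y p).map (Over.forget _)).flip ‹_›
    haveI : Flat π.left :=
      MorphismProperty.of_isPullback (P := @Flat) ((IsPullback.of_hasPullback y p).map (Over.forget _)).flip ‹_›
    have hu : (π ≫ g * (κ ≫ b)⁻¹) ≫ u = 1 := by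
      rw [MonObj.mul_comp, GrpObj.inv_comp, Category.assoc, Category.assoc, e, w]
      have hc : π ≫ y = κ ≫ p := pullback.condition
      rw [← Category.assoc π, hc, Category.assoc, mul_inv_cancel]
    obtain ⟨z, hz⟩ := hK _ _ hu
    have hl : (z * κ) ≫ b = π ≫ g := by rw [MonObj.mul_comp, hz, inv_mul_cancel_right]
    obtain ⟨l, hl'⟩ := Groth.Agent.Transporter.exists_lift_of_family b.left g.left (fun _ : PUnit.{1} => π.left)
      (fun _ => inferInstance) (fun t => ⟨PUnit.unit, π.left.surjective t⟩)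
      fun _ => ⟨(z * κ).left, by rw [← Over.comp_left, hl, Over.comp_left]⟩
    refine ⟨Over.homMk l (by rw [← Over.w g, ← hl', Category.assoc, Over.w b]), Over.OverMorphism.ext hl', ?_⟩
    rw [← cancel_mono c, Category.assoc, ← w, ← e, ← Category.assoc]
    congr 1
    exact Over.OverMorphism.ext hl'
  choose l hl₁ hl₂ using fun s : PullbackCone u c => key s.pt s.fst s.snd s.condition
  exact ⟨⟨w⟩, ⟨PullbackCone.IsLimit.mk w l hl₁ hl₂ fun s m h₁ h₂ => by rw [← cancel_mono b, hl₁, h₁]⟩⟩

variable {k : Type u} [Field k] [IsAlgClosed k] {G G' : Over (Spec (CommRingCat.of k))} [GrpObj G] [GrpObj G']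

/-- The identity component, as an open subgroup. -/
theorem exists_comp_open [Smooth G.hom] [QuasiCompact G.hom] :
    ∃ (G₀ : Over (Spec (CommRingCat.of k))) (_ : GrpObj G₀) (i : G₀ ⟶ G),
    IsMonHom i ∧ IsClosedImmersion i.left ∧ IsOpenImmersion i.left ∧ Smooth G₀.hom ∧ ConnectedSpace G₀.left ∧
      ∀ (H : Over (Spec (CommRingCat.of k))) [GrpObj H] [AlgebraicGeometry.IsReduced H.left]
        [PreconnectedSpace H.left] (f : H ⟶ G) [IsMonHom f], ∃ f' : H ⟶ G₀, f' ≫ i = f := by
  obtain ⟨G₀, _, i, hi, hci, hfl, hr, hgi, hc⟩ := Groth.Agent.GrpField.exists_identity_component (G := G)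
  haveI := hi; haveI := hci; haveI := hfl; haveI := hgi
  haveI : LocallyOfFinitePresentation i.left := by
    haveI : LocallyOfFiniteType G₀.hom := by rw [← Over.w i]; infer_instance
    exact AntiAffLib.lfp_of_lft i
  haveI hop : IsOpenImmersion i.left := IsOpenImmersion.of_flat_of_mono _
  haveI hsm : Smooth G₀.hom := by rw [← Over.w i]; infer_instance
  haveI : IrreducibleSpace G₀.left := GeometricallyIrreducible.irreducibleSpace_of_subsingleton G₀.hom
  refine ⟨G₀, inferInstance, i, hi, hci, hop, hsm, inferInstance, fun H _ _ _ f _ => ?_⟩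
  have hsub : Set.range f.left ⊆ Set.range i.left := by
    rw [hr, ← Groth.Agent.GrpField.connectedComponent_unit]
    refine (isPreconnected_range f.left.continuous).subset_connectedComponent ?_
    refine ⟨(η[H] : 𝟙_ _ ⟶ H).left (IsLocalRing.closedPoint k), ?_⟩
    show ((η[H] : 𝟙_ _ ⟶ H) ≫ f).left (IsLocalRing.closedPoint k) = _
    rw [IsMonHom.one_hom]
    rfl
  obtain ⟨l, hl⟩ := AVAmpleLib.exists_lift_of_reduced i.left f.left hsub
  exact ⟨Over.homMk l (by rw [← Over.w f, ← hl, Category.assoc, Over.w i]), Over.OverMorphism.ext hl⟩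

/-- Transport of Borel subgroups along isomorphisms. -/
theorem isBorelOver_iso {B B₁ : Over (Spec (CommRingCat.of k))} [GrpObj B] [GrpObj B₁] {b₁ : B₁ ⟶ G}
    (hB : Red.IsBorelOver k b₁) (e : G ≅ G') [IsMonHom e.hom] (ψ : B ≅ B₁) {b : B ⟶ G'} [IsMonHom b]
    (hb : ψ.hom ≫ b₁ ≫ e.hom = b) : Red.IsBorelOver k b := by
  obtain ⟨hm, hc, hs, hconn, hsol, hmax⟩ := hB
  haveI := hm; haveI := hc; haveI := hs; haveI := hconn
  haveI : IsIso ψ.inv.left := ((Over.forget _).mapIso ψ).isIso_inv
  haveI : IsIso ψ.hom.left := ((Over.forget _).mapIso ψ).isIso_hom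
  haveI : IsIso e.hom.left := ((Over.forget _).mapIso e).isIso_hom
  haveI : IsIso e.inv.left := ((Over.forget _).mapIso e).isIso_inv
  haveI : Mono b₁ := DiagRep.mono_of_isClosedImmersion b₁ inferInstance
  haveI : IsMonHom (ψ.hom ≫ b₁ ≫ e.hom) := by rw [hb]; infer_instance
  haveI : IsMonHom ψ.hom := DiagRep.isMonHom_of_comp_mono ψ.hom (b₁ ≫ e.hom)
  refine ⟨inferInstance, by rw [← hb, Over.comp_left, Over.comp_left]; infer_instance, ?_, ?_, ?_, ?_⟩
  · rw [← Over.w ψ.hom]; infer_instance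
  · haveI : Surjective ψ.inv.left := inferInstance
    exact Function.Surjective.connectedSpace (f := ⇑ψ.inv.left) (ψ.inv.left.surjective) ψ.inv.left.continuous
  · exact isSolvableGrp_of_mono ψ.hom hsol
  · intro B' _ i' _ f hc' hs' hconn' hsol' hf
    haveI := hc'
    haveI := hmax B' (i' ≫ e.inv) (ψ.inv ≫ f) (by rw [Over.comp_left]; infer_instance) hs' hconn' hsol'
      (by rw [Category.assoc, ← Category.assoc f, hf, ← hb]; simp)
    haveI : IsIso ψ.inv := ψ.isIso_inv
    exact IsIso.of_isIso_comp_left ψ.inv f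

variable [Smooth G.hom] [QuasiCompact G.hom] [ConnectedSpace G.left] [Smooth G'.hom] [QuasiCompact G'.hom]
  [ConnectedSpace G'.left] {u : G ⟶ G'} [IsMonHom u] [Surjective u.left]

/-- A central kernel lies in every Borel subgroup. -/
theorem exists_factor_borel (hker : KerCentral u) {B : Over (Spec (CommRingCat.of k))} [GrpObj B] {b : B ⟶ G}
    (hB : Red.IsBorelOver k b) (X : Over (Spec (CommRingCat.of k))) (z : X ⟶ G) (hz : z ≫ u = 1) :
    ∃ y : X ⟶ B, y ≫ b = z :=
  ((NA.isNormalizerOf_self hB).2.2 X z).2 fun X' x h => by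
    have hc := hker X z hz X' x (h ≫ b)
    exact ⟨⟨h, by rw [hc, mul_inv_cancel_right]⟩,
      ⟨h, by rw [_root_.mul_assoc, ← hc, inv_mul_cancel_left]⟩⟩

/-- **The image of a Borel subgroup is a Borel subgroup, of which it is the inverse image.** -/
theorem exists_image_borel (hker : KerCentral u) {B : Over (Spec (CommRingCat.of k))} [GrpObj B] {b : B ⟶ G}
    (hB : Red.IsBorelOver k b) : ∃ (C : Over (Spec (CommRingCat.of k))) (_ : GrpObj C) (c : C ⟶ G') (p : B ⟶ C),
      Red.IsBorelOver k c ∧ IsMonHom p ∧ Surjective p.left ∧ IsPullback b p u c := by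
  obtain ⟨hBi, hBc, hBs, hBconn, hBsol, hBmax⟩ := id hB
  haveI := hBi; haveI := hBc; haveI := hBs; haveI := hBconn
  haveI : Mono b := DiagRep.mono_of_isClosedImmersion b hBc
  haveI : IsSeparated G.hom := Groth.Agent.GrpField.isSeparated_grp (G := G)
  haveI : IsSeparated G'.hom := Groth.Agent.GrpField.isSeparated_grp (G := G')
  haveI : QuasiCompact B.hom := by rw [← Over.w b]; infer_instance
  haveI : AlgebraicGeometry.IsReduced B.left := AlgSpLib.isReduced_of_smooth B.hom
  obtain ⟨C, _, c, hc, hcc, hcs, hpts, hconn⟩ := NA.exists_image (b ≫ u)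
  haveI := hc; haveI := hcc; haveI := hcs; haveI := hconn hBconn
  haveI : Mono c := DiagRep.mono_of_isClosedImmersion c hcc
  haveI : QuasiCompact C.hom := by rw [← Over.w c]; infer_instance
  haveI : IsSeparated C.hom := Groth.Agent.GrpField.isSeparated_grp (G := C)
  haveI : AlgebraicGeometry.IsReduced C.left := AlgSpLib.isReduced_of_smooth C.hom
  obtain ⟨p, hp⟩ := NA.exists_factor_of_pts (b ≫ u) c fun a => (hpts _).2 ⟨a, rfl⟩
  haveI : IsMonHom (p ≫ c) := by rw [hp]; infer_instance
  haveI : IsMonHom p := DiagRep.isMonHom_of_comp_mono p c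
  haveI : Surjective p.left := SemiAbLib.surjective_of_pts p fun y => by
    obtain ⟨a, ha⟩ := (hpts (y ≫ c)).1 ⟨y, rfl⟩
    exact ⟨a, by rw [← cancel_mono c, Category.assoc, hp, ha]⟩
  haveI : Flat p.left := AntiAffLib.flat_of_surjective p
  refine ⟨C, inferInstance, c, p,
    ⟨hc, hcc, hcs, inferInstance, NA.isSolvableGrp_of_surjective (b ≫ u) c hBsol fun y => (hpts _).1 ⟨y, rfl⟩, ?_⟩,
    inferInstance, inferInstance, isPullback_of_ker_le hp.symm (exists_factor_borel hker hB)⟩
  intro B'' _ i' _ f hi'c hs'' hconn'' hsol'' hf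
  haveI := hi'c; haveI := hs''; haveI := hconn''
  haveI : Mono i' := DiagRep.mono_of_isClosedImmersion i' hi'c
  haveI : QuasiCompact B''.hom := by rw [← Over.w i']; infer_instance
  haveI : IsSeparated B''.hom := Groth.Agent.GrpField.isSeparated_grp (G := B'')
  haveI : AlgebraicGeometry.IsReduced B''.left := AlgSpLib.isReduced_of_smooth B''.hom
  obtain ⟨Q, _, q, hq, hqc, hqs, hr⟩ := DenseSubLib.exists_smooth_subgroup (A := G)
    ((ptHom i').range.comap (ptHom u))
  haveI := hq; haveI := hqc; haveI := hqs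
  haveI : Mono q := DiagRep.mono_of_isClosedImmersion q hqc
  haveI : QuasiCompact Q.hom := by rw [← Over.w q]; infer_instance
  haveI : AlgebraicGeometry.IsReduced Q.left := AlgSpLib.isReduced_of_smooth Q.hom
  have hQ : ∀ a : RPt Q, ∃ y : RPt B'', y ≫ i' = a ≫ q ≫ u := fun a => by
    refine NA.exists_pt_of_mem_range i' _ ?_
    have h0 : Set.range q.left ⊆ u.left ⁻¹' Set.range i'.left := by
      rw [hr]
      refine closure_minimal ?_ (i'.left.isClosedEmbedding.isClosed_range.preimage u.left.continuous)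
      rintro _ ⟨g, ⟨y, hy⟩, rfl⟩
      have hy' : y ≫ i' = g ≫ u := hy
      exact ⟨y.left (IsLocalRing.closedPoint k), by
        show (y ≫ i').left (IsLocalRing.closedPoint k) = _
        rw [hy']; rfl⟩
    exact h0 ⟨a.left (IsLocalRing.closedPoint k), rfl⟩
  have hPQ : ∀ g : RPt G, (∃ y : RPt B'', y ≫ i' = g ≫ u) → ∃ a : RPt Q, a ≫ q = g := fun g hg => by
    refine NA.exists_pt_of_mem_range q g ?_
    rw [hr]
    exact subset_closure ⟨g, hg, rfl⟩
  obtain ⟨w, hw⟩ := NA.exists_factor_of_pts (q ≫ u) i' fun a => hQ a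
  haveI : IsMonHom (w ≫ i') := by rw [hw]; infer_instance
  haveI : IsMonHom w := DiagRep.isMonHom_of_comp_mono w i'
  haveI : Surjective w.left := SemiAbLib.surjective_of_pts w fun y => by
    obtain ⟨g, hg⟩ := AVAmpleLib.exists_pt_lift u (y ≫ i')
    obtain ⟨a, ha⟩ := hPQ g ⟨y, hg.symm⟩
    exact ⟨a, by rw [← cancel_mono i', Category.assoc, hw, ← Category.assoc, ha, hg]⟩
  haveI : Flat w.left := AntiAffLib.flat_of_surjective w
  haveI : LocallyOfFinitePresentation w.left := AntiAffLib.lfp_of_lft w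
  obtain ⟨Q₀, _, j, hj, hjc, hjo, hjs, hjconn, hfac⟩ := exists_comp_open (G := Q)
  haveI := hj; haveI := hjc; haveI := hjo; haveI := hjs; haveI := hjconn
  haveI : Mono j := DiagRep.mono_of_isClosedImmersion j hjc
  obtain ⟨bq, hbq⟩ := NA.exists_factor_of_pts b q fun a => hPQ (a ≫ b) ⟨a ≫ p ≫ f, by
    simp only [Category.assoc, hf, hp]⟩
  haveI : IsMonHom (bq ≫ q) := by rw [hbq]; infer_instance
  haveI : IsMonHom bq := DiagRep.isMonHom_of_comp_mono bq q
  obtain ⟨f₁, hf₁⟩ := hfac B bq
  obtain ⟨m, hm⟩ := hsol''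
  have hsolQ : Red.IsSolvableGrp Q₀ := by
    refine isSolvableGrp_of_points (n := m + 1) ?_
    haveI : Mono (j ≫ q) := mono_comp _ _
    haveI : IsMonHom (j ≫ q) := inferInstance
    haveI : IsMonHom (j ≫ w) := inferInstance
    have hk : ∀ a ∈ derivedSeries (RPt Q₀) m, (a ≫ j ≫ q) ≫ u = 1 := by
      intro a ha
      have h1 : ptHom (j ≫ w) a ∈ (derivedSeries (RPt Q₀) m).map (ptHom (j ≫ w)) := Subgroup.mem_map_of_mem _ ha
      have h2 := map_derivedSeries_le_derivedSeries (ptHom (j ≫ w)) m h1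
      rw [hm (𝟙_ _), Subgroup.mem_bot] at h2
      have h3 : a ≫ j ≫ w = 1 := h2
      calc (a ≫ j ≫ q) ≫ u = (a ≫ j ≫ w) ≫ i' := by simp only [Category.assoc, hw]
        _ = 1 := by rw [h3, MonObj.one_comp]
    rw [derivedSeries_succ, Subgroup.commutator_eq_bot_iff_le_centralizer]
    intro a ha
    rw [Subgroup.mem_centralizer_iff]
    intro b' _
    rw [← cancel_mono (j ≫ q), MonObj.mul_comp, MonObj.mul_comp]
    have h4 := hker _ _ (hk a ha) (𝟙_ _) (𝟙 _) (b' ≫ j ≫ q)
    simp only [Category.id_comp] at h4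
    exact h4.symm
  haveI : IsClosedImmersion (j ≫ q).left := by rw [Over.comp_left]; infer_instance
  haveI := hBmax Q₀ (j ≫ q) f₁ inferInstance hjs hjconn hsolQ (by rw [← Category.assoc, hf₁, hbq])
  haveI : IsIso f₁.left := (Over.forget _).map_isIso f₁
  have he : f₁ ≫ j ≫ w = p ≫ f := by
    rw [← cancel_mono i']
    simp only [Category.assoc, hw, hf, hp]
    rw [← Category.assoc j, ← Category.assoc f₁, ← Category.assoc f₁, hf₁, hbq]
  have hopen : IsOpen (Set.range f.left) := by
    have h1 : Set.range f.left = Set.range (p ≫ f).left := by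
      rw [Over.comp_left, Scheme.Hom.comp_base, TopCat.coe_comp, Set.range_comp, p.left.surjective.range_eq,
        Set.image_univ]
    rw [h1, ← he, Over.comp_left, Over.comp_left, Scheme.Hom.comp_base, TopCat.coe_comp, Set.range_comp,
      f₁.left.surjective.range_eq, Set.image_univ, Scheme.Hom.comp_base, TopCat.coe_comp, Set.range_comp]
    exact w.left.isOpenMap _ j.left.isOpenEmbedding.isOpen_range
  haveI : IsClosedImmersion (f.left ≫ i'.left) := by rw [← Over.comp_left, hf]; infer_instance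
  haveI : IsClosedImmersion f.left := IsClosedImmersion.of_comp f.left i'.left
  haveI : Surjective f.left := ⟨fun y => by
    have := IsClopen.eq_univ (s := Set.range f.left) ⟨f.left.isClosedEmbedding.isClosed_range, hopen⟩
      (Set.range_nonempty _)
    exact this.ge (Set.mem_univ y)⟩
  haveI : IsIso f.left := isIso_of_isClosedImmersion_of_surjective f.left
  haveI : IsIso ((Over.forget _).map f) := ‹IsIso f.left›
  exact isIso_of_reflects_iso f (Over.forget _)

/-- **The inverse image of a Borel subgroup is a Borel subgroup.** -/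
theorem isBorelOver_of_isPullback (hker : KerCentral u) {B C' : Over (Spec (CommRingCat.of k))} [GrpObj B] [GrpObj C']
    {b : B ⟶ G} [IsMonHom b] {v : B ⟶ C'} {c' : C' ⟶ G'} (hC : Red.IsBorelOver k c') (hpb : IsPullback b v u c') :
    Red.IsBorelOver k b := by
  haveI : IsSeparated G'.hom := Groth.Agent.GrpField.isSeparated_grp (G := G')
  obtain ⟨B₁, _, b₁, hB₁, -⟩ := NA.exists_borel_mem (G := G) 1
  obtain ⟨C, _, c, p, hc, hp, -, hpb₁⟩ := exists_image_borel hker hB₁
  obtain ⟨g', φ, hφ⟩ := NA.borel_conj hc hC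
  obtain ⟨g, rfl⟩ := AVAmpleLib.exists_pt_lift u g'
  let e := AGF.conjBy g (𝟙 G)
  let e' := AGF.conjBy (g ≫ u) (𝟙 G')
  haveI : IsIso e := inferInstanceAs (IsIso (AGF.conjBy g (𝟙 G)))
  haveI : IsIso e' := inferInstanceAs (IsIso (AGF.conjBy (g ≫ u) (𝟙 G')))
  haveI : IsMonHom e := DiagRep.isMonHom_conjBy g
  have hee : u ≫ e' = e ≫ u := by
    simp only [e, e', AGF.conjBy, MonObj.comp_mul, GrpObj.comp_inv, MonObj.mul_comp, GrpObj.inv_comp,
      ← Category.assoc, Category.comp_id, Category.id_comp]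
    rw [toUnit_unique (u ≫ toUnit G') (toUnit G)]
  have hce : c ≫ e' = φ.hom ≫ c' := (DiagRep.conjBy_eq_comp (g ≫ u) c).symm.trans hφ
  have hpb₂ : IsPullback (b₁ ≫ e) (p ≫ φ.hom) u c' :=
    hpb₁.of_iso (Iso.refl B₁) (asIso e) φ (asIso e') (by simp) (by simp) hee hce
  let ψ := hpb.isoIsPullback _ _ hpb₂
  haveI : IsMonHom (asIso e).hom := ‹IsMonHom e›
  exact isBorelOver_iso hB₁ (asIso e) ψ (hpb.isoIsPullback_hom_fst _ _ hpb₂)

/-- **A closed subgroup whose inverse image is a Borel subgroup is a Borel subgroup.** -/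
theorem isBorelOver_of_isPullback' (hker : KerCentral u) {B C' : Over (Spec (CommRingCat.of k))} [GrpObj B] [GrpObj C']
    {b : B ⟶ G} {v : B ⟶ C'} [Surjective v.left] {c' : C' ⟶ G'} [IsMonHom c'] [IsClosedImmersion c'.left]
    [Smooth C'.hom] (hB : Red.IsBorelOver k b) (hpb : IsPullback b v u c') :
    Red.IsBorelOver k c' := by
  obtain ⟨hBi, hBc, hBs, -⟩ := id hB
  haveI := hBi; haveI := hBc; haveI := hBs
  haveI : IsSeparated G'.hom := Groth.Agent.GrpField.isSeparated_grp (G := G')
  haveI : IsSeparated C'.hom := Groth.Agent.GrpField.isSeparated_grp (G := C')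
  obtain ⟨C, _, c, p, hc, -, hps, hpb₁⟩ := exists_image_borel hker hB
  haveI := hps; haveI := hc.1; haveI := hc.2.1; haveI := hc.2.2.1
  haveI : IsSeparated C.hom := Groth.Agent.GrpField.isSeparated_grp (G := C)
  haveI : AlgebraicGeometry.IsReduced C.left := AlgSpLib.isReduced_of_smooth C.hom
  haveI : AlgebraicGeometry.IsReduced C'.left := AlgSpLib.isReduced_of_smooth C'.hom
  obtain ⟨e, he⟩ := NA.exists_iso_of_pts c' c fun g => by
    constructor
    · rintro ⟨y, rfl⟩
      obtain ⟨a, ha⟩ := AVAmpleLib.exists_pt_lift v y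
      exact ⟨a ≫ p, by rw [Category.assoc, ← hpb₁.w, hpb.w, ← Category.assoc, ha]⟩
    · rintro ⟨y, rfl⟩
      obtain ⟨a, ha⟩ := AVAmpleLib.exists_pt_lift p y
      exact ⟨a ≫ v, by rw [Category.assoc, ← hpb.w, hpb₁.w, ← Category.assoc, ha]⟩
  haveI : IsMonHom (Iso.refl G').hom := inferInstanceAs (IsMonHom (𝟙 G'))
  exact isBorelOver_iso hc (Iso.refl G') e (by simp [he])

end Groth.Agent.BorelLib.CentPre

end
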