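import Groth.Agent.BorelLib.Norm

/-!
# Images of Borel subgroups and maximal tori under surjective homomorphisms
-/

set_option autoImplicit false
set_option linter.style.haveILetI false

noncomputable section

universe u

open WithConv
open scoped TensorProduct commutatorElement

namespace Groth.Agent.BorelLib

attribute [local instance] pTop pTopTensor

variable {k : Type u} [Field k] [IsAlgClosed k] {A : Type u} [CommRing A] [HopfAlgebra k A] [Algebra.FiniteType k A]

/-- **Fixed points**: connected solvable groups are conjugate into a subgroup with complete quotient. -/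
theorem Complete.exists_conj_le {K P : Subgroup (Pt k A)} (hKc : IsClosed (K : Set (Pt k A)))
    (hc : Complete K P) (hPK : P ≤ K) (hP : IsClosed (P : Set (Pt k A))) {H : Subgroup (Pt k A)} (hHK : H ≤ K)
    (hH : IsPreconnected (H : Set (Pt k A))) (hs : IsSol H) : ∃ g ∈ K, BorelLib.conjSub g⁻¹ H ≤ P := by
  obtain ⟨V, _, _, _, r₀, v, hv, hst⟩ := exists_line_rep hP
  set r := r₀.mono (le_top : K ≤ ⊤)
  have hcone : IsClosed (r.cone v) := r.isClosed_cone_of_complete hKc hc hv fun p hp => by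
    obtain ⟨-, d, hd⟩ := hst.ge hp
    exact ⟨hPK hp, d, hd⟩
  obtain ⟨y, hy, hyne, hwt⟩ := r.exists_weight_in_cone hHK hH hs hcone (fun c _ y hy => r.cone_smul hy c)
    (fun h hh y hy => r.cone_stable (hHK hh) hy) ⟨_, r.mem_cone_self v, by rwa [pv_vp]⟩
  obtain ⟨g, hg, c, hc⟩ := hy
  have hc0 : c ≠ 0 := fun h => hyne (by rw [hc, h, zero_smul])
  refine ⟨g, hg, fun x hx => ?_⟩
  rw [mem_conjSub, inv_inv] at hx
  have hgh : g⁻¹ * (g * x * g⁻¹) * g = x := by group
  rw [← hst]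
  obtain ⟨d, hd⟩ := hwt _ hx
  refine ⟨trivial, d, ?_⟩
  rw [hc, map_smul, smul_smul, mul_comm, ← smul_smul] at hd
  have hd' := smul_right_injective V hc0 hd
  show r.ρ x v = d • v
  conv_lhs => rw [← hgh]
  rw [r.mul_apply (K.mul_mem (inv_mem hg) (hHK hx)) hg, r.mul_apply (inv_mem hg) (hHK hx), hd', map_smul,
    r.inv_apply hg]

variable {A' : Type u} [CommRing A'] [HopfAlgebra k A'] [Algebra.FiniteType k A'] {f : Pt k A →* Pt k A'}

omit [IsAlgClosed k] [Algebra.FiniteType k A] [Algebra.FiniteType k A'] in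
lemma map_conjSub (a : Pt k A) (H : Subgroup (Pt k A)) : (conjSub a H).map f = conjSub (f a) (H.map f) := by
  ext y
  constructor
  · rintro ⟨_, ⟨h, hh, rfl⟩, rfl⟩
    exact ⟨f h, ⟨h, hh, rfl⟩, by simp⟩
  · rintro ⟨_, ⟨h, hh, rfl⟩, rfl⟩
    exact ⟨a * h * a⁻¹, ⟨h, hh, by simp⟩, by simp⟩

omit [Algebra.FiniteType k A'] in
lemma isClosed_map {H : Subgroup (Pt k A)} (hfm : IsMor f) (hH : IsClosed (H : Set (Pt k A)))
    (hHconn : IsPreconnected (H : Set (Pt k A))) [Algebra.FiniteType k A'] :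
    IsClosed (H.map f : Set (Pt k A')) ∧ IsPreconnected (H.map f : Set (Pt k A')) :=
  isClosed_of_image hH (isIrreducible_of_connected hH hHconn) hfm (Subgroup.coe_map f H).symm

/-- The image of a Borel subgroup is a Borel subgroup. -/
theorem IsBor.map (hfm : IsMor f) (hf : Function.Surjective f)
    (hK : IsPreconnected (Set.univ : Set (Pt k A))) {B : Subgroup (Pt k A)} (hB : IsBor ⊤ B) :
    IsBor (⊤ : Subgroup (Pt k A')) (B.map f) := by
  obtain ⟨hc, hconn⟩ := isClosed_map hfm hB.closed hB.conn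
  have hcomp : Complete (⊤ : Subgroup (Pt k A')) (B.map f) := by
    intro S _ _ _ Y hY _ hYB
    have hm : IsMor fun z : Pt k (S ⊗[k] A) => pair (fstP z) (f (sndP z)) :=
      IsMor.fstP.prod (hfm.comp IsMor.sndP)
    have e : fstP '' Y = fstP '' ((fun z : Pt k (S ⊗[k] A) => pair (fstP z) (f (sndP z))) ⁻¹' Y) := by
      ext s
      constructor
      · rintro ⟨y, hy, rfl⟩
        obtain ⟨x, hx⟩ := hf (sndP y)
        exact ⟨pair (fstP y) x, by simpa [hx] using hy, by simp⟩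
      · rintro ⟨z, hz, rfl⟩
        exact ⟨_, hz, by simp⟩
    rw [e]
    refine hB.complete (by rw [Subgroup.coe_top]; exact isClosed_univ) (by rwa [Subgroup.coe_top]) S _
      (hY.preimage hm.continuous) (fun _ _ => trivial) fun z hz b hb => ?_
    show pair (fstP _) (f (sndP _)) ∈ Y
    rw [fstP_pair, sndP_pair, map_mul]
    have := hYB _ hz (f b) ⟨b, hb, rfl⟩
    rwa [fstP_pair, sndP_pair] at this
  refine ⟨le_top, hc, hconn, hB.sol.map f, fun H hH hHc hHconn hHs hle => ?_⟩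
  obtain ⟨g, -, hg⟩ := hcomp.exists_conj_le (by rw [Subgroup.coe_top]; exact isClosed_univ) le_top hc hH hHconn hHs
  exact le_antisymm ((conjSub_eq_of_le hHc (hg.trans hle)) ▸ hg) hle

/-- The image of a torus is a torus. -/
theorem IsTor.map (hfm : IsMor f) {T : Subgroup (Pt k A)} (hT : IsTor T) : IsTor (T.map f) := by
  obtain ⟨hc, hconn⟩ := isClosed_map hfm hT.closed hT.conn
  refine ⟨hc, hconn, ?_, ?_⟩
  · rintro _ ⟨a, ha, rfl⟩ _ ⟨b, hb, rfl⟩
    rw [← map_mul, hT.comm a ha b hb, map_mul]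
  · rintro _ ⟨a, ha, rfl⟩
    exact map_mem_closure hfm.continuous (hT.dense ha) fun x hx => ⟨⟨x, hx.1, rfl⟩, hx.2.map f⟩

/-- The pullback of a representation. -/
def RegRep.pullHom {V : Type u} [AddCommGroup V] [Module k V] (r : RegRep (⊤ : Subgroup (Pt k A')) V)
    (f : Pt k A →* Pt k A') (hfm : IsMor f) : RegRep (⊤ : Subgroup (Pt k A)) V where
  ρ g := r.ρ (f g)
  map_one := by rw [_root_.map_one, r.map_one]
  map_mul g _ h _ := by rw [_root_.map_mul, r.map_mul _ trivial _ trivial]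
  reg φ v := (r.reg φ v).comp hfm

/-- The image of a maximal torus is a maximal torus. -/
theorem IsMaxTor.map (hfm : IsMor f) (hf : Function.Surjective f) (hK : IsPreconnected (Set.univ : Set (Pt k A)))
    {T : Subgroup (Pt k A)} (hT : IsMaxTor ⊤ T) : IsMaxTor (⊤ : Subgroup (Pt k A')) (T.map f) := by
  have hKc : IsClosed ((⊤ : Subgroup (Pt k A)) : Set (Pt k A)) := by rw [Subgroup.coe_top]; exact isClosed_univ
  have hKt : IsPreconnected ((⊤ : Subgroup (Pt k A)) : Set (Pt k A)) := by rwa [Subgroup.coe_top]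
  have hK' : IsPreconnected ((⊤ : Subgroup (Pt k A')) : Set (Pt k A')) := by
    rw [Subgroup.coe_top, ← hf.range_eq, ← Set.image_univ]
    exact hK.image _ hfm.continuous.continuousOn
  obtain ⟨B₀, hB₀, -⟩ := IsBor.exists_conj_universal hKc hKt
  obtain ⟨a, -, ha⟩ := hB₀.exists_conj_le hKc hKt le_top hT.tor.conn hT.tor.isSol
  set B := BorelLib.conjSub a⁻¹ B₀
  have hB : IsBor ⊤ B := hB₀.conjSub trivial
  have hTB : T ≤ B := by
    have := conjSub_mono (a := a⁻¹) ha
    rwa [conjSub_conjSub, inv_mul_cancel, conjSub_one] at this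
  obtain ⟨W, _, _, _, rW, hrW⟩ := exists_faithful (k := k) (A := A')
  obtain ⟨D, hunip, -⟩ := exists_flag_unip hB.conn hB.sol (rW.pullHom f hfm)
  obtain ⟨S₀, hS₀B, hS₀, hu, hdec, -⟩ := D.exists_torus_decomp hB.closed hB.conn
  obtain ⟨g, hgB, hgT⟩ := hu T hTB hT.tor
  have hBS : BorelLib.conjSub g⁻¹ S₀ = T := hT.maximal _ le_top (hS₀.conjSub _) (by
    have := conjSub_mono (a := g⁻¹) hgT
    rwa [conjSub_conjSub, inv_mul_cancel, conjSub_one] at this)
  have hdecT : ∀ b ∈ B, ∃ s ∈ T, s⁻¹ * b ∈ D.U 1 := by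
    intro b hb
    obtain ⟨s, hs, hsu⟩ := hdec (g * b * g⁻¹) (B.mul_mem (B.mul_mem hgB hb) (inv_mem hgB))
    refine ⟨g⁻¹ * s * g, hBS ▸ ⟨s, hs, by show g⁻¹ * s * g⁻¹⁻¹ = _; rw [inv_inv]⟩, ?_⟩
    have := D.conj_mem_U (inv_mem hgB) hsu
    rwa [show g⁻¹ * (s⁻¹ * (g * b * g⁻¹)) * g⁻¹⁻¹ = (g⁻¹ * s * g)⁻¹ * b by group] at this
  have hB' := hB.map hfm hf hK
  have hT' : IsTor (T.map f) := hT.tor.map hfm
  -- the image of the torus absorbs tori of the image of the Borel subgroup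
  obtain ⟨S', hS', hu'⟩ := exists_isMaxTor hB'.closed hB'.conn
  obtain ⟨y, hy, hyT⟩ := hu' (T.map f) (Subgroup.map_mono hTB) hT'
  have hle : T.map f ≤ BorelLib.conjSub y⁻¹ S' := by
    have := conjSub_mono (a := y⁻¹) hyT
    rwa [conjSub_conjSub, inv_mul_cancel, conjSub_one] at this
  have hS'T : BorelLib.conjSub y⁻¹ S' ≤ T.map f := by
    intro s hs
    obtain ⟨b, hb, rfl⟩ : s ∈ B.map f := conjSub_le (inv_mem hy) hS'.le hs
    obtain ⟨t, ht, hu⟩ := hdecT b hb
    obtain ⟨N, hN⟩ := hunip _ hu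
    have h1 : f (t⁻¹ * b) = 1 := (hS'.tor.conjSub y⁻¹).eq_one_of_unip rW hrW (by
      rw [map_mul, map_inv]
      exact Subgroup.mul_mem _ (Subgroup.inv_mem _ (hle ⟨t, ht, rfl⟩)) hs) (N := N) hN
    rw [map_mul, map_inv, inv_mul_eq_one] at h1
    exact ⟨t, ht, h1⟩
  have hmaxB : IsMaxTor (B.map f) (T.map f) := by
    refine ⟨Subgroup.map_mono hTB, hT', fun T'' hT'' hT''tor hle'' => ?_⟩
    obtain ⟨z, hz, hzle⟩ := hu' T'' hT'' hT''tor
    have h2 : BorelLib.conjSub (y⁻¹ * z) T'' ≤ T.map f := by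
      rw [← conjSub_conjSub]
      exact (conjSub_mono hzle).trans hS'T
    refine le_antisymm ?_ hle''
    have h3 := conjSub_eq_of_le hT''tor.closed (h2.trans hle'')
    exact h3 ▸ h2
  refine ⟨le_top, hT', fun T'' _ hT''tor hle'' => le_antisymm ?_ hle''⟩
  obtain ⟨z, -, hz⟩ := hB'.exists_conj_le (by rw [Subgroup.coe_top]; exact isClosed_univ) hK' le_top hT''tor.conn
    hT''tor.isSol
  obtain ⟨w, hw, hwle⟩ := hmaxB.exists_conj_le hB'.closed hB'.conn hz (hT''tor.conjSub z)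
  rw [conjSub_conjSub] at hwle
  exact (conjSub_eq_of_le hT''tor.closed (hwle.trans hle'')) ▸ hwle

end Groth.Agent.BorelLib
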