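import Groth.Agent.BorelLib.SelfNorm

/-!
# Self-normalisation over an arbitrary field
-/

set_option autoImplicit false
set_option linter.style.haveILetI false
set_option backward.isDefEq.respectTransparency false

universe u

open CategoryTheory CategoryTheory.Limits MonoidalCategory CartesianMonoidalCategory AlgebraicGeometry
open scoped MonObj

noncomputable section

attribute [-instance] CategoryTheory.Hom.commGroup

namespace Groth.Agent.BorelLib

variable {k : Type u} [Field k] (s : (Spec (CommRingCat.of k) : Scheme.{u})) {G H : Over (Spec (CommRingCat.of k))}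
  [GrpObj G] [GrpObj H]

/-- The geometric point of a field is flat. -/
theorem flat_geomPt : Flat (Red.geomPt s) := by
  haveI : IsIntegral (Spec (CommRingCat.of k)) := inferInstance
  haveI : Subsingleton ↥(Spec (CommRingCat.of k)) := inferInstanceAs (Subsingleton (PrimeSpectrum k))
  infer_instance

theorem flat_geomPt' : Flat (pullback.fst (G.hom) (Red.geomPt s)) := by
  haveI := flat_geomPt s
  infer_instance

/-- A closed subgroup normalised only by itself on the geometric fibre is self-normalising. -/
theorem isNormalizerOf_self_of_geom [LocallyOfFiniteType G.hom] [QuasiSeparated G.hom] [Smooth H.hom]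
    [QuasiCompact H.hom] [QuasiSeparated H.hom] [ConnectedSpace H.left] (iH : H ⟶ G) [IsMonHom iH]
    [IsClosedImmersion iH.left]
    (hs : Red.IsNormalizerOf (G := Red.geomFibre s G) (H := Red.geomFibre s H) (Z := Red.geomFibre s H)
      ((Over.pullback (Red.geomPt s)).map iH) ((Over.pullback (Red.geomPt s)).map iH)) :
    Red.IsNormalizerOf iH iH := by
  haveI : Mono iH := DiagRep.mono_of_isClosedImmersion iH inferInstance
  refine ⟨inferInstance, inferInstance, fun X g => ⟨?_, fun hg => ?_⟩⟩
  · rintro ⟨z, rfl⟩ X' x h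
    exact ⟨⟨(x ≫ z) * h * (x ≫ z)⁻¹, by simp only [MonObj.mul_comp, GrpObj.inv_comp, Category.assoc]⟩,
      ⟨(x ≫ z)⁻¹ * h * (x ≫ z), by simp only [MonObj.mul_comp, GrpObj.inv_comp, Category.assoc]⟩⟩
  haveI := CommSubLib.geometricallyIrreducible_of_connected H
  obtain ⟨N, _, n, hN, hnc, hnf⟩ := Groth.Agent.S5260.result G H (fun s => by
    haveI : IrreducibleSpace ↥(pullback H.hom ((Spec (CommRingCat.of k)).fromSpecResidueField s)) :=
      GeometricallyIrreducible.geometrically_irreducibleSpace (f := H.hom) _ _ _ (IsPullback.of_hasPullback _ _)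
    infer_instance) iH
  haveI := hN.1; haveI := hnc
  obtain ⟨z, rfl⟩ := (hN.2.2 X g).2 hg
  let t := Red.geomPt s
  obtain ⟨m, hm⟩ := (hs.2.2 (Red.geomFibre s N) ((Over.pullback t).map n)).2 fun X' x h => by
    obtain ⟨x₀, rfl⟩ := ((Over.mapPullbackAdj t).homEquiv X' N).surjective x
    obtain ⟨h₀, rfl⟩ := ((Over.mapPullbackAdj t).homEquiv X' H).surjective h
    have h1 : (Over.mapPullbackAdj t).homEquiv X' N x₀ ≫ (Over.pullback t).map n =
        PowEtCentralLib.adjEquiv t X' (x₀ ≫ n) :=
      (Adjunction.homEquiv_naturality_right (Over.mapPullbackAdj t) x₀ n).symm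
    have h2 : ∀ w, (Over.mapPullbackAdj t).homEquiv X' H w ≫ (Over.pullback t).map iH =
        PowEtCentralLib.adjEquiv t X' (w ≫ iH) := fun w =>
      (Adjunction.homEquiv_naturality_right (Over.mapPullbackAdj t) w iH).symm
    obtain ⟨⟨a, ha⟩, ⟨b, hb⟩⟩ := (hN.2.2 N n).1 ⟨𝟙 N, Category.id_comp n⟩ _ x₀ h₀
    exact ⟨⟨(Over.mapPullbackAdj t).homEquiv X' H a, by rw [h1, h2, h2, ← map_inv, ← map_mul, ← map_mul, ha]⟩,
      ⟨(Over.mapPullbackAdj t).homEquiv X' H b, by rw [h1, h2, h2, ← map_inv, ← map_mul, ← map_mul, hb]⟩⟩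
  have hw : ∀ {Y : Over (Spec (CommRingCat.of k))} (f : Y ⟶ G),
      ((Over.pullback t).map f).left ≫ pullback.fst G.hom t = pullback.fst Y.hom t ≫ f.left :=
    fun f => pullback.lift_fst _ _ _
  haveI := surjective_fst s N
  obtain ⟨l, hl⟩ := Groth.Agent.Transporter.exists_lift_of_family iH.left n.left
    (Y' := fun _ : PUnit.{1} => pullback N.hom t) (fun _ => pullback.fst N.hom t) (fun _ => flat_geomPt' s)
    (fun y => ⟨PUnit.unit, (pullback.fst N.hom t).surjective y⟩) fun _ => ⟨m.left ≫ pullback.fst H.hom t, by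
      have := congrArg (fun f => f.left ≫ pullback.fst G.hom t) hm
      simp only [Over.comp_left, Category.assoc] at this
      rw [hw, hw] at this
      rw [Category.assoc]
      exact this⟩
  exact ⟨z ≫ Over.homMk l (by rw [← Over.w n, ← hl, Category.assoc, Over.w iH]), by
    rw [Category.assoc]; congr 1; exact Over.OverMorphism.ext hl⟩

end Groth.Agent.BorelLib

end
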