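import Groth.Agent.BorelLib.Facts
import Groth.Agent.BorelLib.Image
import Groth.Agent.BorelLib.SelfNormField
import Groth.Agent.S14536

/-!
# Recognising Borel subgroup schemes by their points; images of Borel subgroups
-/

set_option autoImplicit false
set_option linter.style.haveILetI false
set_option backward.isDefEq.respectTransparency false

universe u

open CategoryTheory CategoryTheory.Limits MonoidalCategory CartesianMonoidalCategory AlgebraicGeometry WithConv
open scoped MonObj
open CoactBr (sp)

noncomputable section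

attribute [-instance] CategoryTheory.Hom.commGroup

namespace Groth.Agent.BorelLib

attribute [local instance] pTop pTopTensor

variable {k : Type u} [Field k] [IsAlgClosed k]

/-- A reduced closed subgroup with the points of a Borel subgroup is a Borel subgroup. -/
theorem isBorelOver_of_pts {A : Type u} [CommRing A] [HopfAlgebra k A] [Algebra.FiniteType k A]
    {G : Over (Spec (CommRingCat.of k))} [GrpObj G] [Smooth G.hom] [QuasiCompact G.hom] (v : sp k A ≅ G)
    [IsMonHom v.hom] {B : Over (Spec (CommRingCat.of k))} [GrpObj B] (iB : B ⟶ G) [IsMonHom iB]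
    [IsClosedImmersion iB.left] [AlgebraicGeometry.IsReduced B.left]
    (h : IsBor (⊤ : Subgroup (Pt k A)) (ptsSub v iB)) : Red.IsBorelOver k iB := by
  obtain ⟨C, _, iC, hiC, hC, hpts⟩ := exists_borel_of_isBor v h
  obtain ⟨-, hCc, hCs, hCn, ⟨n, hn⟩, hmax⟩ := hC
  haveI := hiC; haveI := hCc; haveI := hCs; haveI := hCn
  haveI : AlgebraicGeometry.IsReduced C.left := AlgSpLib.isReduced_of_smooth C.hom
  obtain ⟨e, he⟩ := exists_iso_of_eq v (i := iC) (i' := iB) hpts
  haveI : Mono iB := Groth.Agent.DiagRep.mono_of_isClosedImmersion iB inferInstance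
  haveI : Mono iC := Groth.Agent.DiagRep.mono_of_isClosedImmersion iC inferInstance
  have he' : e.inv ≫ iC = iB := by rw [← he, e.inv_hom_id_assoc]
  haveI := e.isIso_hom; haveI := e.isIso_inv
  haveI : IsIso e.inv.left := (Over.forget _).map_isIso e.inv
  haveI : IsIso e.hom.left := (Over.forget _).map_isIso e.hom
  haveI : IsMonHom (e.inv ≫ iC) := by rw [he']; infer_instance
  haveI hem : IsMonHom e.inv := DiagRep.isMonHom_of_comp_mono e.inv iC
  refine ⟨inferInstance, inferInstance, ?_, ?_, ⟨n, fun X => ?_⟩, ?_⟩
  · rw [← Over.w e.inv]; infer_instance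
  · exact (show Function.Surjective e.hom.left.base from e.hom.left.surjective).connectedSpace e.hom.left.continuous
  · let f : (X ⟶ B) →* (X ⟶ C) :=
      { toFun := fun g => g ≫ e.inv
        map_one' := MonObj.one_comp e.inv
        map_mul' := fun a b => MonObj.mul_comp a b e.inv }
    have hf : Function.Injective f := fun a b hab => (cancel_mono e.inv).1 hab
    exact (Subgroup.map_eq_bot_iff_of_injective _ hf).1
      (le_bot_iff.1 ((map_derivedSeries_le_derivedSeries f n).trans (hn X).le))
  · intro B' _ i' _ f hic' hsm' hconn' hsol' hf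
    haveI := hmax B' i' (e.hom ≫ f) hic' hsm' hconn' hsol' (by rw [Category.assoc, hf, he])
    exact IsIso.of_isIso_comp_left e.hom f

/-- The image of a Borel subgroup under a surjective homomorphism. -/
theorem isBorelOver_image {G Q B B' : Over (Spec (CommRingCat.of k))} [GrpObj G] [IsAffine G.left] [Smooth G.hom]
    [ConnectedSpace G.left] [GrpObj Q] [IsAffine Q.left] [Smooth Q.hom] [ConnectedSpace Q.left]
    (q : G ⟶ Q) [IsMonHom q] [Surjective q.left] [GrpObj B] [GrpObj B'] (iB : B ⟶ G) (hB : Red.IsBorelOver k iB)
    (iB' : B' ⟶ Q) [IsMonHom iB'] [IsClosedImmersion iB'.left] [AlgebraicGeometry.IsReduced B'.left]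
    (p : B ⟶ B') [Surjective p.left] (hp : p ≫ iB' = iB ≫ q) : Red.IsBorelOver k iB' := by
  obtain ⟨A, _, _, v, hv, hA, -⟩ := exists_setup G
  haveI := hv; haveI := hA
  haveI : QuasiCompact G.hom := inferInstance
  obtain ⟨A', _, _, w, hw, hA', -⟩ := exists_setup Q
  haveI := hw; haveI := hA'
  haveI : QuasiCompact Q.hom := inferInstance
  let f : Pt k A →* Pt k A' := ((ptEquiv w).symm.toMonoidHom.comp (ptHom q)).comp (ptEquiv v).toMonoidHom
  have hfφ : ∀ x, ptEquiv w (f x) = ptEquiv v x ≫ q := fun x => (ptEquiv w).apply_symm_apply _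
  have hfm : IsMor f := by
    obtain ⟨F, ⟨φ, hφ⟩, hF⟩ := exists_isMor v w q
    exact ⟨φ, fun x => (ptEquiv w).injective (by rw [hfφ, ← hF, hφ])⟩
  have hfs : Function.Surjective f := fun y => by
    obtain ⟨g, hg⟩ := Groth.Agent.S14536.result k G Q q inferInstance (ptEquiv w y)
    refine ⟨(ptEquiv v).symm g, (ptEquiv w).injective ?_⟩
    rw [hfφ, MulEquiv.apply_symm_apply, hg]
  haveI := hB.1; haveI := hB.2.1
  haveI : IsAffine B.left := isAffine_of_isAffineHom iB.left
  haveI : IsAffine B'.left := isAffine_of_isAffineHom iB'.left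
  haveI : Mono iB' := Groth.Agent.DiagRep.mono_of_isClosedImmersion iB' inferInstance
  haveI : IsMonHom (p ≫ iB') := by rw [hp]; infer_instance
  haveI : IsMonHom p := DiagRep.isMonHom_of_comp_mono p iB'
  have hm := (isBor_ptsSub v hB).map hfm hfs (isPreconnected_univ_of_connected v)
  refine isBorelOver_of_pts w iB' ?_
  convert hm using 1
  ext y
  constructor
  · intro hy
    obtain ⟨c, hc⟩ := (mem_ptsSub w).1 hy
    obtain ⟨b, hb⟩ := Groth.Agent.S14536.result k B B' p inferInstance c
    refine ⟨(ptEquiv v).symm (b ≫ iB), (mem_ptsSub v).2 ⟨b, ((ptEquiv v).apply_symm_apply _).symm⟩, ?_⟩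
    apply (ptEquiv w).injective
    rw [hfφ, MulEquiv.apply_symm_apply, Category.assoc, ← hp, ← Category.assoc, hb, hc]
  · rintro ⟨x, hx, rfl⟩
    obtain ⟨b, hb⟩ := (mem_ptsSub v).1 hx
    exact (mem_ptsSub w).2 ⟨b ≫ p, by rw [hfφ, ← hb, Category.assoc, Category.assoc, hp]⟩

section bc

variable {S S' : Scheme.{u}} (t : S' ⟶ S) {X Y : Over S} (f : X ⟶ Y)

/-- A base-changed morphism is a pullback of the original one. -/
theorem isPullback_bc_map : IsPullback (pullback.fst X.hom t) ((Over.pullback t).map f).left f.left
    (pullback.fst Y.hom t) := by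
  refine IsPullback.of_bot ?_ (pullback.lift_fst _ _ _).symm (IsPullback.of_hasPullback Y.hom t)
  have h1 : ((Over.pullback t).map f).left ≫ pullback.snd Y.hom t = pullback.snd X.hom t := pullback.lift_snd _ _ _
  rw [Over.w f, h1]
  exact IsPullback.of_hasPullback X.hom t

theorem surjective_bc [Surjective f.left] : Surjective ((Over.pullback t).map f).left :=
  MorphismProperty.of_isPullback (P := @Surjective) (isPullback_bc_map t f) inferInstance

theorem isClosedImmersion_bc [IsClosedImmersion f.left] : IsClosedImmersion ((Over.pullback t).map f).left :=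
  MorphismProperty.of_isPullback (P := @IsClosedImmersion) (isPullback_bc_map t f) inferInstance

end bc

section field

variable {k : Type u} [Field k] (s : (Spec (CommRingCat.of k) : Scheme.{u}))

/-- Reducedness of the geometric fibre of a reduced scheme receiving a surjection from a geometrically reduced one. -/
theorem isReduced_geom_of_surjective {B B' : Over (Spec (CommRingCat.of k))} [AlgebraicGeometry.IsReduced B'.left]
    [AlgebraicGeometry.IsReduced (Red.geomFibre s B).left] (p : B ⟶ B') [Surjective p.left] [QuasiCompact p.left] :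
    AlgebraicGeometry.IsReduced (Red.geomFibre s B').left := by
  haveI := flat_geomPt s
  haveI : IsSchemeTheoreticallyDominant p.left := .of_isDominant _
  let P := ((Over.pullback (Red.geomPt s)).map p).left
  have hsq := isPullback_bc_map (Red.geomPt s) p
  haveI : IsSchemeTheoreticallyDominant P := .of_isPullback hsq
  haveI : QuasiCompact P := MorphismProperty.of_isPullback (P := @QuasiCompact) hsq inferInstance
  exact IsSchemeTheoreticallyDominant.isReduced P

end field

end Groth.Agent.BorelLib

end
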