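import Groth.Agent.BorelLib.SelfNormRel
import Groth.Agent.S5324
import Groth.Agent.TransporterLib.Comm
import Groth.Agent.TransporterLib.SubTop
import Groth.Agent.RedRankLib.CommRel

/-!
# Subgroups containing a Cartan subgroup are open in their normalisers
-/

set_option autoImplicit false
set_option linter.style.haveILetI false
set_option linter.unusedSectionVars false
set_option backward.isDefEq.respectTransparency false
set_option maxHeartbeats 1000000
set_option synthInstance.maxHeartbeats 400000

universe u

open CategoryTheory CategoryTheory.Limits MonoidalCategory CartesianMonoidalCategory AlgebraicGeometry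
open scoped MonObj

noncomputable section

attribute [-instance] CategoryTheory.Hom.commGroup

namespace Groth.Agent.BorelLib

section field

variable {k : Type u} [Field k] [IsAlgClosed k] {G H N : Over (Spec (CommRingCat.of k))} [GrpObj G] [GrpObj H]
  [Smooth G.hom] [QuasiCompact G.hom] [Smooth H.hom] [QuasiCompact H.hom] (i : H ⟶ G) [IsMonHom i] [Mono i]
  (n : N ⟶ G) [Mono n]

/-- **A smooth subgroup containing a Cartan subgroup is open in its normaliser.** -/
theorem isOpenImmersion_normalizer {C : Over (Spec (CommRingCat.of k))} [GrpObj C] (c : C ⟶ H)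
    (hC : SGA3x.IsCartanOver k (c ≫ i))
    (hn : ∀ (X' : Over (Spec (CommRingCat.of k))) (x : X' ⟶ N) (h : X' ⟶ H),
      ∃ h' : X' ⟶ H, (x ≫ n) * (h ≫ i) * (x ≫ n)⁻¹ = h' ≫ i)
    (m : H ⟶ N) (hm : m ≫ n = i) : IsOpenImmersion m.left := by
  obtain ⟨hcm, hcmo, T, _, iT, hT, hcent⟩ := hC
  obtain ⟨hiT, hmT, hTT, -⟩ := hT
  haveI := hiT; haveI := hmT
  haveI : IsSeparated G.hom := Groth.Agent.GrpField.isSeparated_grp (G := G)
  haveI : IsSeparated H.hom := Groth.Agent.GrpField.isSeparated_grp (G := H)
  haveI : QuasiCompact i.left := by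
    haveI : QuasiCompact (i.left ≫ G.hom) := by rw [Over.w i]; infer_instance
    exact QuasiCompact.of_comp i.left G.hom
  haveI : IsClosedImmersion i.left := GrpHom.isClosedImmersion_of_mono i
  have hloc := Groth.Agent.Transporter.locally_of_isMultTypeFT (S := Spec (CommRingCat.of k))
    (show SGA3x.IsMultTypeFT T from RedRank.isMultTypeFT_of_isTorus hTT)
  obtain ⟨z, hz⟩ := (hcent.2.2 T iT).2 fun X' x h => by
    rw [← MonObj.mul_comp, ← MonObj.mul_comp, Groth.Agent.Transporter.comm_of_locally_fpqc hloc X' x h]
  let t : T ⟶ H := z ≫ c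
  have ht : t ≫ i = iT := by rw [← hz, Category.assoc]
  haveI : IsMonHom (t ≫ i) := ht ▸ hiT
  haveI : IsMonHom t := DiagRep.isMonHom_of_comp_mono t i
  obtain ⟨U, hU, l, hl⟩ := exists_open_factor_of_transporter (iB := i) hloc ht
    (fun X g hg => by
      obtain ⟨w, hw⟩ := (hcent.2.2 X g).2 hg
      exact ⟨w ≫ c, by rw [Category.assoc, hw]⟩) hn
  let X : Over N.left := Over.mk m.left
  have hr : Set.range m.left ⊆ U := hU X ⟨Over.homMk (𝟙 H.left) (by
    show 𝟙 H.left ≫ H.hom = m.left ≫ N.hom
    rw [Category.id_comp, Over.w]), by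
    refine Over.OverMorphism.ext ?_
    show 𝟙 H.left ≫ i.left = m.left ≫ n.left
    rw [Category.id_comp, ← Over.comp_left, hm]⟩
  let m₁ : H.left ⟶ U.toScheme := IsOpenImmersion.lift U.ι m.left (by rw [Scheme.Opens.range_ι]; exact hr)
  have hm₁ : m₁ ≫ U.ι = m.left := IsOpenImmersion.lift_fac _ _ _
  let m' : H ⟶ Over.mk (U.ι ≫ N.hom) := Over.homMk m₁ (by
    show m₁ ≫ U.ι ≫ N.hom = H.hom
    rw [← Category.assoc, hm₁, Over.w])
  let ι' : Over.mk (U.ι ≫ N.hom) ⟶ N := Over.homMk U.ι rfl
  haveI : Mono ι' := (Over.forget _).mono_of_mono_map (inferInstanceAs (Mono U.ι))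
  have hι : m' ≫ ι' = m := Over.OverMorphism.ext hm₁
  haveI : IsIso m' := by
    refine ⟨l, (cancel_mono i).1 ?_, (cancel_mono (ι' ≫ n)).1 ?_⟩
    · rw [Category.assoc, hl, ← Category.assoc, hι, hm, Category.id_comp]
    · rw [Category.assoc, ← Category.assoc m', hι, hm, hl, Category.id_comp]
  haveI : IsIso m'.left := (Over.forget _).map_isIso m'
  rw [← hm₁]
  exact IsOpenImmersion.comp m'.left U.ι

end field

section base

variable {S : Scheme.{u}}

/-- An open immersion on the geometric fibre is one on the fibre. -/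
theorem isOpenImmersion_fibre_of_geom {X Y : Over S} (f : X ⟶ Y) (s : S)
    [hgeom : IsOpenImmersion ((Over.pullback (Red.geomPt s)).map f).left] :
    IsOpenImmersion (pullback.snd f.left (Y.hom.fiberι s)) := by
  let r := S.fromSpecResidueField s
  let d : Spec (CommRingCat.of (AlgebraicClosure (S.residueField s))) ⟶ Spec (S.residueField s) :=
    Spec.map (CommRingCat.ofHom (algebraMap (S.residueField s) (AlgebraicClosure (S.residueField s))))
  haveI : Flat d := by
    show Flat (Spec.map _)
    rw [HasRingHomProperty.Spec_iff (P := @Flat)]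
    exact RingHom.flat_algebraMap_iff.2 inferInstance
  haveI : Surjective d := ⟨fun y => ⟨IsLocalRing.closedPoint _,
    @Subsingleton.elim _ (inferInstanceAs (Subsingleton (PrimeSpectrum (S.residueField s)))) _ _⟩⟩
  haveI : QuasiCompact d := inferInstance
  let g := (Over.pullback r).map f
  have hgl : IsOpenImmersion ((Over.pullback d).map g).left := by
    have e := NatIso.naturality_1 (Over.pullbackComp d r) f
    rw [Functor.comp_map] at e
    have hg : IsOpenImmersion ((Over.pullback (d ≫ r)).map f).left := hgeom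
    show IsOpenImmersion ((Over.pullback d).map ((Over.pullback r).map f)).left
    rw [← e, Over.comp_left, Over.comp_left]
    infer_instance
  have hiso : IsOpenImmersion g.left := MorphismProperty.of_isPullback_of_descendsAlong
    (P := @IsOpenImmersion) (Q := @Surjective ⊓ @Flat ⊓ @QuasiCompact)
    (isPullback_bc_map d g).flip
    ⟨⟨inferInstanceAs (Surjective (pullback.fst _ d)), inferInstanceAs (Flat (pullback.fst _ d))⟩,
      inferInstanceAs (QuasiCompact (pullback.fst _ d))⟩ hgl
  have hsq := isPullback_bc_map r f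
  have e : pullback.snd f.left (pullback.fst Y.hom r) = hsq.isoPullback.inv ≫ g.left :=
    hsq.isoPullback_inv_snd.symm
  show IsOpenImmersion (pullback.snd f.left (pullback.fst Y.hom r))
  rw [e]
  infer_instance

/-- Connected geometric fibres give connected fibres. -/
theorem connectedSpace_fibre_of_geom (B : Over S) (s : S) [ConnectedSpace ↥(Red.geomFibre s B).left] :
    ConnectedSpace ↥(pullback B.hom (S.fromSpecResidueField s)) := by
  let d := Spec.map (CommRingCat.ofHom (algebraMap (S.residueField s) (AlgebraicClosure (S.residueField s))))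
  haveI : Surjective d := ⟨fun y => ⟨IsLocalRing.closedPoint _,
    @Subsingleton.elim _ (inferInstanceAs (Subsingleton (PrimeSpectrum (S.residueField s)))) _ _⟩⟩
  let p : (Red.geomFibre s B).left ⟶ pullback B.hom (S.fromSpecResidueField s) :=
    pullback.lift (pullback.fst _ _) (pullback.snd B.hom (Red.geomPt s) ≫ d) (by
      rw [Category.assoc]; exact pullback.condition)
  have hp : IsPullback p (pullback.snd B.hom (Red.geomPt s)) (pullback.snd B.hom (S.fromSpecResidueField s)) d :=
    IsPullback.of_right (by
      rw [show p ≫ pullback.fst B.hom (S.fromSpecResidueField s) = pullback.fst B.hom (Red.geomPt s) from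
        pullback.lift_fst _ _ _]
      exact IsPullback.of_hasPullback B.hom (d ≫ S.fromSpecResidueField s)) (pullback.lift_snd _ _ _)
      (IsPullback.of_hasPullback B.hom (S.fromSpecResidueField s))
  haveI : Surjective p := MorphismProperty.of_isPullback (P := @Surjective) hp.flip inferInstance
  exact (Scheme.Hom.surjective p).connectedSpace p.continuous

/-- A smooth group with connected geometric fibres is quasi-compact. -/
theorem quasiCompact_of_geom_connected (H : Over S) [GrpObj H] [Smooth H.hom]
    (hconn : ∀ s : S, ConnectedSpace ↥(Red.geomFibre s H).left) : QuasiCompact H.hom := by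
  refine Groth.Agent.S5324.result S H (fun s => MorphismProperty.pullback_snd (P := @LocallyOfFiniteType) _ _
    inferInstance) fun s => isConnected_iff_connectedSpace.2 ?_
  haveI := hconn s
  haveI := connectedSpace_fibre_of_geom H s
  haveI : ConnectedSpace ↥(H.hom.fiber s) := ‹ConnectedSpace ↥(pullback H.hom (S.fromSpecResidueField s))›
  exact (H.hom.fiberHomeo s).surjective.connectedSpace (H.hom.fiberHomeo s).continuous

/-- **The normaliser of a smooth subgroup whose fibres contain Cartan subgroups contains it as an open subgroup.** -/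
theorem exists_normalizer_open {G H : Over S} [GrpObj G] [GrpObj H] [Smooth G.hom] [QuasiCompact G.hom]
    [QuasiSeparated G.hom] [Smooth H.hom] (i : H ⟶ G) [IsMonHom i] [Mono i]
    (hHconn : ∀ s : S, ConnectedSpace ↥(Red.geomFibre s H).left)
    (hHC : ∀ s : S, ∃ (C' : Over (Spec (CommRingCat.of (AlgebraicClosure (S.residueField s))))) (_ : GrpObj C')
      (c' : C' ⟶ Red.geomFibre s H), SGA3x.IsCartanOver _ (c' ≫ (Over.pullback (Red.geomPt s)).map i)) :
    ∃ (N : Over S) (_ : GrpObj N) (n : N ⟶ G) (f : H ⟶ N), Red.IsNormalizerOf i n ∧ IsClosedImmersion n.left ∧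
      QuasiCompact N.hom ∧ LocallyOfFinitePresentation N.hom ∧ f ≫ n = i ∧ IsOpenImmersion f.left := by
  haveI := quasiCompact_of_geom_connected H hHconn
  haveI : Mono i.left := inferInstanceAs (Mono ((Over.forget S).map i))
  haveI : QuasiSeparated H.hom := by rw [← Over.w i]; infer_instance
  obtain ⟨N, _, n, hN, hnc, hnf⟩ := Groth.Agent.S5260.result G H (fun s => by
    haveI := hHconn s; exact connectedSpace_fibre_of_geom H s) i
  haveI := hN.1; haveI := hN.2.1; haveI := hnc; haveI := hnf
  haveI : LocallyOfFinitePresentation N.hom := by rw [← Over.w n]; infer_instance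
  obtain ⟨f, hf⟩ := (hN.2.2 H i).2 fun X' x h =>
    ⟨⟨x * h * x⁻¹, by simp only [MonObj.mul_comp, GrpObj.inv_comp]⟩,
      ⟨x⁻¹ * h * x, by simp only [MonObj.mul_comp, GrpObj.inv_comp]⟩⟩
  refine ⟨N, inferInstance, n, f, hN, hnc, by rw [← Over.w n]; infer_instance, inferInstance, hf, ?_⟩
  refine (Groth.Agent.S2759.result N.hom H.hom f.left (Over.w f)).1.2 fun s => ?_
  obtain ⟨C', _, c', hC'⟩ := hHC s
  haveI : Smooth (Red.geomFibre s G).hom := MorphismProperty.pullback_snd (P := @Smooth) _ _ inferInstance
  haveI : QuasiCompact (Red.geomFibre s G).hom :=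
    MorphismProperty.pullback_snd (P := @QuasiCompact) _ _ inferInstance
  haveI : Smooth (Red.geomFibre s H).hom := MorphismProperty.pullback_snd (P := @Smooth) _ _ inferInstance
  haveI : QuasiCompact (Red.geomFibre s H).hom :=
    MorphismProperty.pullback_snd (P := @QuasiCompact) _ _ inferInstance
  haveI := DiagRep.isMonHom_bc_map (Red.geomPt s) i
  haveI := mono_bc (Red.geomPt s) i
  haveI := mono_bc (Red.geomPt s) n
  haveI := isOpenImmersion_normalizer (G := Red.geomFibre s G) (H := Red.geomFibre s H) (N := Red.geomFibre s N)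
    ((Over.pullback (Red.geomPt s)).map i) ((Over.pullback (Red.geomPt s)).map n) c' hC'
    (fun X' x h => (normalizes_bc (Red.geomPt s) n (fun Y y h => (hN.2.2 N n).1 ⟨𝟙 N, Category.id_comp n⟩ Y y h)
      X' x h).1)
    ((Over.pullback (Red.geomPt s)).map f) (by rw [← Functor.map_comp, hf])
  exact isOpenImmersion_fibre_of_geom f s

end base

end Groth.Agent.BorelLib

end
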