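import Groth.Agent.BorelLib.RedUnipMax

/-!
# Reductivity over an algebraically closed field and over its geometric point
-/

set_option autoImplicit false
set_option linter.style.haveILetI false
set_option linter.unusedSectionVars false
set_option backward.isDefEq.respectTransparency false
set_option maxHeartbeats 1000000
set_option synthInstance.maxHeartbeats 400000

universe u

open CategoryTheory CategoryTheory.Limits MonoidalCategory CartesianMonoidalCategory AlgebraicGeometry WithConv
open scoped MonObj
open CoactBr (sp)

noncomputable section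

attribute [-instance] CategoryTheory.Hom.commGroup

namespace Groth.Agent.BorelLib

attribute [local instance] pTop pTopTensor

lemma isNormalHom_comp_iso {S : Scheme.{u}} {U G G' : Over S} [GrpObj U] [GrpObj G] [GrpObj G']
    (i : U ⟶ G) (e : G ⟶ G') [IsIso e] [IsMonHom e] (hn : AlgGrp.IsNormalHom i) :
    AlgGrp.IsNormalHom (i ≫ e) := by
  intro X g n
  obtain ⟨n', hn'⟩ := hn _ (g ≫ CategoryTheory.inv e) n
  refine ⟨n', ?_⟩
  rw [← Category.assoc n' i e, ← hn', MonObj.mul_comp, MonObj.mul_comp, GrpObj.inv_comp]
  simp

variable {k : Type u} [Field k] [IsAlgClosed k] {G : Over (Spec (CommRingCat.of k))} [GrpObj G]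

/-- A reductive group over an algebraically closed field is reductive. -/
theorem isReductive_of_isReductiveOver (h : Red.IsReductiveOver k G) : Red.IsReductive G := by
  obtain ⟨ha, hs, hc, hu⟩ := h
  refine ⟨inferInstance, hs, fun s => ?_⟩
  haveI := isIso_geomPt s
  let t := Red.geomPt s
  let q := CategoryTheory.inv t
  haveI : IsIso q := inferInstanceAs (IsIso (CategoryTheory.inv t))
  have hq : q ≫ t = 𝟙 _ := IsIso.inv_hom_id t
  have hq' : t ≫ q = 𝟙 _ := IsIso.hom_inv_id t
  haveI : IsIso (pullback.fst G.hom t) := inferInstance
  have haff : IsAffine (Red.bc t G).left := inferInstanceAs (IsAffine (pullback G.hom t))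
  refine ⟨haff, inferInstanceAs (Smooth (pullback.snd G.hom t)), ?_, ?_⟩
  · exact (Scheme.homeoOfIso (asIso (pullback.fst G.hom t))).symm.surjective.connectedSpace
      (Scheme.homeoOfIso (asIso (pullback.fst G.hom t))).symm.continuous
  intro U _ i _ hci hUs hUc hn hno
  haveI := hci; haveI := hUs; haveI := hUc
  haveI := DiagRep.isMonHom_bc_map q i
  let c : Red.bc q (Red.bc t G) ⟶ G := (ActBC.bcCompIso q t G hq).hom ≫ bcIdHom G
  haveI : IsIso c := inferInstanceAs (IsIso ((ActBC.bcCompIso q t G hq).hom ≫ bcIdHom G))
  haveI : IsMonHom c := by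
    show IsMonHom ((ActBC.bcCompIso q t G hq).hom ≫ bcIdHom G); infer_instance
  let i' : Red.bc q U ⟶ G := (Over.pullback q).map i ≫ c
  haveI : IsIso (pullback.fst U.hom q) := inferInstance
  have hcl : IsClosedImmersion i'.left := by
    haveI : IsIso c.left := (Over.forget _).map_isIso c
    haveI : IsClosedImmersion ((Over.pullback q).map i).left :=
      isClosedImmersion_bc q i
    show IsClosedImmersion (((Over.pullback q).map i).left ≫ c.left)
    infer_instance
  have h1 : IsIso (Red.bc q U).hom := hu (Red.bc q U) i' hcl
    (inferInstanceAs (Smooth (pullback.snd U.hom q)))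
    ((Scheme.homeoOfIso (asIso (pullback.fst U.hom q))).symm.surjective.connectedSpace
      (Scheme.homeoOfIso (asIso (pullback.fst U.hom q))).symm.continuous)
    (isNormalHom_comp_iso _ c (isNormalHom_bc q i hn))
    (fun T _ j _ _ hT => by
      haveI := DiagRep.isMonHom_bc_map t j
      haveI := mono_bc t j
      haveI : IsIso ((ActBC.bcCompIso t q U hq').hom ≫ bcIdHom U) := inferInstance
      let j' : Red.bc t T ⟶ U := (Over.pullback t).map j ≫ (ActBC.bcCompIso t q U hq').hom ≫ bcIdHom U
      haveI : IsMonHom j' := by
        show IsMonHom ((Over.pullback t).map j ≫ (ActBC.bcCompIso t q U hq').hom ≫ bcIdHom U)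
        infer_instance
      haveI : Mono j' := mono_comp _ _
      have h2 : IsIso (Red.bc t T).hom := hno _ j' (RedRank.isTorus_bc hT t)
      haveI : IsIso (pullback.snd T.hom t) := h2
      show IsIso T.hom
      haveI : IsIso (pullback.fst T.hom t ≫ T.hom) := by rw [pullback.condition]; infer_instance
      exact IsIso.of_isIso_comp_left (pullback.fst T.hom t) T.hom)
  haveI : IsIso (pullback.snd U.hom q) := h1
  show IsIso U.hom
  haveI : IsIso (pullback.fst U.hom q ≫ U.hom) := by rw [pullback.condition]; infer_instance
  exact IsIso.of_isIso_comp_left (pullback.fst U.hom q) U.hom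

/-- A group with reductive points is reductive. -/
theorem isReductive_of_isRedPts {A : Type u} [CommRing A] [HopfAlgebra k A] [Algebra.FiniteType k A]
    (v : sp k A ≅ G) [IsMonHom v.hom] [IsAffine G.left] [Smooth G.hom] [ConnectedSpace G.left]
    (h : IsRedPts k A) : Red.IsReductive G :=
  isReductive_of_isReductiveOver (isReductiveOver_of_isRedPts v h)

end Groth.Agent.BorelLib

end
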