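import Groth.Agent.BorelLib.Facts
import Groth.Agent.BorelLib.Image
import Groth.Agent.S14536

/-!
# Cartan subgroups and images, on the level of group schemes
-/

set_option autoImplicit false
set_option linter.style.haveILetI false
set_option backward.isDefEq.respectTransparency false

universe u

open CategoryTheory CategoryTheory.Limits MonoidalCategory CartesianMonoidalCategory AlgebraicGeometry WithConv
open scoped MonObj
open CoactBr (sp)

noncomputable section

attribute [-instance] CategoryTheory.Hom.commGroup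

namespace Groth.Agent.BorelLib

attribute [local instance] pTop pTopTensor

variable {k : Type u} [Field k] [IsAlgClosed k] {A : Type u} [CommRing A] [HopfAlgebra k A] [Algebra.FiniteType k A]
  {G : Over (Spec (CommRingCat.of k))} [GrpObj G] [Smooth G.hom] [IsAffine G.left] (v : sp k A ≅ G) [IsMonHom v.hom]

omit [IsAffine G.left] in
/-- A closed subgroup with connected points is connected. -/
theorem connectedSpace_of_pts {H : Over (Spec (CommRingCat.of k))} [GrpObj H] {i : H ⟶ G} [IsMonHom i]
    [IsClosedImmersion i.left] (hS : _root_.IsPreconnected (ptsSub v i : Set (Pt k A))) : ConnectedSpace H.left := by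
  haveI : LocallyOfFiniteType H.hom := by rw [← Over.w i]; infer_instance
  have hcl := i.left.isClosedEmbedding.isClosed_range
  have hr : Set.range i.left = closure (v.hom.left '' (toP '' (ptsSub v i : Set (Pt k A)))) := by
    refine Set.Subset.antisymm (AVAmpleLib.range_subset_of_points i isClosed_closure fun z => ?_)
      (closure_minimal ?_ hcl)
    · obtain ⟨x, hx⟩ := (ptEquiv v).surjective (z ≫ i)
      rw [← hx, pt_ptEquiv]
      exact subset_closure ⟨_, ⟨x, (mem_ptsSub v).2 ⟨z, hx.symm⟩, rfl⟩, rfl⟩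
    · rintro _ ⟨_, ⟨x, hx, rfl⟩, rfl⟩
      exact (mem_ptsSub_iff v).1 hx
  have hrc : _root_.IsPreconnected (Set.range i.left) := by
    rw [hr]
    exact ((hS.image _ continuous_induced_dom.continuousOn).image _ v.hom.left.continuous.continuousOn).closure
  haveI : PreconnectedSpace H.left := ⟨i.left.isClosedEmbedding.isInducing.isPreconnected_image.1 (by
    rwa [Set.image_univ])⟩
  exact { toNonempty := ⟨AVAmpleLib.pt (1 : RPt H)⟩ }

/-- The points of the centraliser of a maximal torus. -/
theorem pts_cart [PreconnectedSpace G.left] {T : Over (Spec (CommRingCat.of k))} [GrpObj T]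
    (iT : T ⟶ G) [IsMonHom iT] (hT : AGF.IsMaxTorus iT) {C : Over (Spec (CommRingCat.of k))} [GrpObj C]
    {c : C ⟶ G} [IsMonHom c] (hc : Red.IsCentralizerOf iT c) :
    ptsSub v c = cart ⊤ (ptsSub v iT) := by
  haveI := hT.2.1
  obtain ⟨-, -, hp⟩ := centralizer_facts v iT hT.2.2.1 hc
  obtain ⟨hKc, hK⟩ := facts_top v
  rw [hp]
  refine le_antisymm (le_neut ?_ fun g hg => ⟨trivial, hg⟩) fun g hg => (neut_le _ hg).2
  simpa using isPreconnected_centralizer_tor hKc hK (isTor_ptsSub v iT hT.2.2.1) le_top

end Groth.Agent.BorelLib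

namespace Groth.Agent.BorelLib

attribute [local instance] pTop pTopTensor

section

variable {k : Type u} [Field k] [IsAlgClosed k]
  {G : Over (Spec (CommRingCat.of k))} [GrpObj G] [Smooth G.hom] [IsAffine G.left]

/-- Centralisers of tori are smooth and connected. -/
theorem centralizer_connected [PreconnectedSpace G.left] {T : Over (Spec (CommRingCat.of k))} [GrpObj T]
    (iT : T ⟶ G) [IsMonHom iT] [Mono iT] (hT : Red.IsTorus T) {C : Over (Spec (CommRingCat.of k))} [GrpObj C]
    {c : C ⟶ G} (hc : Red.IsCentralizerOf iT c) : Smooth C.hom ∧ ConnectedSpace C.left := by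
  obtain ⟨A, _, _, v, hv, hA, -⟩ := exists_setup G
  haveI := hv; haveI := hA

  obtain ⟨hsm, hcl, hp⟩ := centralizer_facts v iT hT hc
  haveI := hc.1; haveI := hcl
  obtain ⟨hKc, hK⟩ := facts_top v
  refine ⟨hsm, connectedSpace_of_pts v (i := c) ?_⟩
  rw [hp]
  simpa using isPreconnected_centralizer_tor hKc hK (isTor_ptsSub v iT hT) le_top

/-- Cartan subgroups are nilpotent. -/
theorem isNilpotentGrp_cartan [PreconnectedSpace G.left] {T : Over (Spec (CommRingCat.of k))} [GrpObj T]
    (iT : T ⟶ G) [IsMonHom iT] (hT : AGF.IsMaxTorus iT) {C : Over (Spec (CommRingCat.of k))} [GrpObj C]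
    {c : C ⟶ G} (hc : Red.IsCentralizerOf iT c) : AGF.IsNilpotentGrp C := by
  obtain ⟨A, _, _, v, hv, hA, -⟩ := exists_setup G
  haveI := hv; haveI := hA
  haveI := hT.2.1; haveI := hc.1
  obtain ⟨hsm, hcl, hp⟩ := centralizer_facts v iT hT.2.2.1 hc
  haveI := hsm; haveI := hcl
  haveI : IsAffine C.left := isAffine_of_isAffineHom c.left
  haveI := (centralizer_connected iT hT.2.2.1 hc).2
  obtain ⟨B, _, _, w, hw, hft, hred⟩ := exists_setup C
  haveI := hw; haveI := hft
  obtain ⟨ψ, f, hf, hrange, hsur⟩ := exists_hom_pull v w c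
  have hs := hsur inferInstance
  have hfe : (f : Pt k B → Pt k A) = pull ψ := funext hf
  have hinj : Function.Injective f := by rw [hfe]; exact pull_injective_of_surjective hs
  have hind : Topology.IsInducing f := by
    rw [hfe]; exact isInducing_pull_of_frac ψ fun b => (hs b).elim fun a ha => ⟨a, 1, isUnit_one, by rw [ha, mul_one]⟩
  have hrc : IsClosed (f.range : Set (Pt k A)) := hrange ▸ isClosed_ptsSub v
  have hM := isMaxTor_ptsSub v hT
  have hcent : ∀ s ∈ ptsSub v iT, ∀ g ∈ f.range, s * g = g * s := fun s hs g hg => by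
    rw [hrange, hp] at hg
    exact Subgroup.mem_centralizer_iff.1 hg s hs
  have hTle : ptsSub v iT ≤ f.range := by
    rw [hrange, hp]; exact le_centralizer_self hM.tor
  refine isNilpotentGrp_of_central w (S := (ptsSub v iT).comap f) ⟨le_top, hM.tor.comap hind hinj hTle, ?_⟩
    fun s hs g => hinj (by rw [map_mul, map_mul]; exact hcent _ hs _ ⟨g, rfl⟩)
  intro T' _ hT' hle
  have h := hM.maximal _ le_top (hT'.map_frame hind hrc) fun x hx => by
    obtain ⟨y, rfl⟩ := hTle hx
    exact ⟨y, hle hx, rfl⟩
  rw [← h, Subgroup.comap_map_eq_self_of_injective hinj]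

/-- Cartan subgroups lie in every Borel subgroup containing the maximal torus. -/
theorem exists_factor_cartan [PreconnectedSpace G.left] {T : Over (Spec (CommRingCat.of k))} [GrpObj T]
    (iT : T ⟶ G) [IsMonHom iT] (hT : AGF.IsMaxTorus iT) {C : Over (Spec (CommRingCat.of k))} [GrpObj C]
    {c : C ⟶ G} (hc : Red.IsCentralizerOf iT c) {B : Over (Spec (CommRingCat.of k))} [GrpObj B] {iB : B ⟶ G}
    (hB : Red.IsBorelOver k iB) {t : T ⟶ B} (ht : t ≫ iB = iT) : ∃ f : C ⟶ B, f ≫ iB = c := by
  obtain ⟨A, _, _, v, hv, hA, -⟩ := exists_setup G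
  haveI := hv; haveI := hA
  haveI := hT.2.1; haveI := hc.1; haveI := hB.1; haveI := hB.2.1
  obtain ⟨hsm, hcl, hp⟩ := centralizer_facts v iT hT.2.2.1 hc
  haveI := hsm; haveI := hcl
  haveI : AlgebraicGeometry.IsReduced C.left := AlgSpLib.isReduced_of_smooth C.hom
  haveI : LocallyOfFiniteType C.hom := inferInstance
  haveI : QuasiCompact G.hom := inferInstance
  obtain ⟨hKc, hK⟩ := facts_top v
  have hM := isMaxTor_ptsSub v hT
  refine exists_factor_of_le v (i := c) (i' := iB) ?_
  have hbor := (isBor_ptsSub v hB).inf_centralizer hKc hK hM.tor (ptsSub_le_of_factor v ht)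
  have hCp := pts_cart v iT hT hc
  rw [hp] at hCp
  rw [hp]
  have hCe : (⊤ : Subgroup (Pt k A)) ⊓ Subgroup.centralizer (ptsSub v iT : Set (Pt k A)) =
      cart ⊤ (ptsSub v iT) := by rw [top_inf_eq, hCp]
  rw [hCe] at hbor
  have := hbor.maximal _ le_rfl (isClosed_cart hKc _) (isPreconnected_neut _) (hM.isSol_cart hKc) hbor.le
  rw [hCp, this]
  exact inf_le_left

end

end Groth.Agent.BorelLib

end
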