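import Groth.Agent.BorelLib.Borel
import Groth.Agent.SweepSix.Constr

/-!
# Surjectivity from points
-/

set_option autoImplicit false

universe u

open CategoryTheory AlgebraicGeometry MonoidalCategory CartesianMonoidalCategory

noncomputable section

namespace Groth.Agent.BorelLib

variable {k : Type u} [Field k] [IsAlgClosed k] {X Y : Over (Spec (CommRingCat.of k))}

/-- A morphism of finite type hitting all rational points is surjective. -/
theorem surjective_of_pts [GrpObj Y] [LocallyOfFiniteType X.hom] [LocallyOfFiniteType Y.hom] [IsAffine X.left] [IsAffine Y.left]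
    (p : X ⟶ Y) (h : ∀ y : 𝟙_ (Over (Spec (CommRingCat.of k))) ⟶ Y, ∃ x, x ≫ p = y) : Surjective p.left := by
  haveI : JacobsonSpace Y.left := LocallyOfFiniteType.jacobsonSpace Y.hom
  haveI : LocallyOfFinitePresentation p.left := by
    haveI : LocallyOfFinitePresentation X.hom := inferInstance
    haveI : LocallyOfFinitePresentation (p.left ≫ Y.hom) := by rw [Over.w p]; infer_instance
    exact AlgSpLib.lfp_of_comp_lft p.left Y.hom
  have hc := p.left.isConstructible_image (s := Set.univ) Topology.IsConstructible.univ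
  rw [Set.image_univ, ← Topology.isConstructible_compl] at hc
  obtain ⟨S, -, hS, hSe⟩ := SweepSix.exists_isLocallyClosed_pieces hc
  refine ⟨fun z => ?_⟩
  by_contra hz
  obtain ⟨Z, hZ, hzZ⟩ : z ∈ ⋃₀ S := hSe ▸ (fun ⟨x, hx⟩ => hz ⟨x, hx⟩)
  obtain ⟨w, hwZ, hwc⟩ := nonempty_inter_closedPoints ⟨z, hzZ⟩ (hS Z hZ)
  obtain ⟨y, hy⟩ := AVAmpleLib.exists_pt_eq w hwc
  obtain ⟨x, rfl⟩ := h y
  have : w ∈ (Set.range p.left)ᶜ := hSe ▸ ⟨Z, hZ, hwZ⟩
  exact this ⟨AVAmpleLib.pt x, hy⟩

end Groth.Agent.BorelLib
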