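import Groth.Agent.BorelLib.CentralPreimage
import Groth.Agent.BorelLib.NormOpen
import Groth.Agent.BorelLib.RedClosed
import Groth.Agent.RCentreLib.SelfCent
import Groth.Agent.FlatLib.SmoothScheme
import Groth.Agent.WeilResLib.Transporter
import Groth.Agent.S14756
import Groth.Agent.S3927

/-!
# Images of maximal tori and Cartan subgroups
-/

set_option autoImplicit false
set_option linter.style.haveILetI false
set_option linter.unusedSectionVars false
set_option backward.isDefEq.respectTransparency false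
set_option maxHeartbeats 1000000
set_option synthInstance.maxHeartbeats 400000

universe u

open CategoryTheory CategoryTheory.Limits MonoidalCategory CartesianMonoidalCategory AlgebraicGeometry WithConv
open scoped MonObj
open CoactBr (sp)

noncomputable section

attribute [-instance] CategoryTheory.Hom.commGroup

namespace Groth.Agent.BorelLib.NA

attribute [local instance] pTop pTopTensor

variable {k : Type u} [Field k] [IsAlgClosed k]

section tools

variable {G G' : Over (Spec (CommRingCat.of k))} [GrpObj G] [GrpObj G']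
  [Smooth G.hom] [QuasiCompact G.hom] [Smooth G'.hom] [QuasiCompact G'.hom]

/-- A maximal torus is maximal in any subgroup containing it. -/
theorem isMaxTorus_of_sub {H T : Over (Spec (CommRingCat.of k))} [GrpObj H] [GrpObj T] (c : H ⟶ G) [IsMonHom c] [Mono c]
    {i : T ⟶ G} (hT : AGF.IsMaxTorus i) {t : T ⟶ H} (ht : t ≫ c = i) : AGF.IsMaxTorus t := by
  obtain ⟨h1, h2, h3, h4⟩ := hT
  haveI := h1; haveI := h2
  haveI : IsMonHom (t ≫ c) := ht ▸ h1
  haveI : Mono (t ≫ c) := ht ▸ h2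
  exact ⟨DiagRep.isMonHom_of_comp_mono t c, mono_of_mono t c, h3,
    fun T' _ j _ _ f hT' hf => h4 T' (j ≫ c) f hT' (by rw [← Category.assoc, hf, ht])⟩

/-- A rational point commuting with the points of a reduced subgroup centralises it. -/
theorem commutes_of_pts {T : Over (Spec (CommRingCat.of k))} [AlgebraicGeometry.IsReduced T.left] (i : T ⟶ G)
    [LocallyOfFiniteType T.hom] (g : RPt G) (h : ∀ y : RPt T, g * (y ≫ i) = (y ≫ i) * g)
    (X' : Over (Spec (CommRingCat.of k))) (x : X' ⟶ 𝟙_ _) (m : X' ⟶ T) :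
    (x ≫ g) * (m ≫ i) = (m ≫ i) * (x ≫ g) := by
  haveI : IsSeparated G.hom := Groth.Agent.GrpField.isSeparated_grp (G := G)
  have e : (toUnit T ≫ g) * i = i * (toUnit T ≫ g) := AVAmpleLib.hom_ext_of_points _ _ fun y => by
    rw [MonObj.comp_mul, MonObj.comp_mul, ← Category.assoc, toUnit_unique (y ≫ toUnit T) (𝟙 _), Category.id_comp, h]
  have h' := congrArg (m ≫ ·) e
  simp only [MonObj.comp_mul, ← Category.assoc] at h'
  rwa [toUnit_unique (m ≫ toUnit T) x] at h'

/-- **The smooth inverse image of a closed subgroup.** -/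
theorem exists_preimage (u : G ⟶ G') [IsMonHom u] {H : Over (Spec (CommRingCat.of k))} [GrpObj H] (h : H ⟶ G') [IsMonHom h]
    [IsClosedImmersion h.left] [Smooth H.hom] (hlift : ∀ y : RPt H, ∃ g : RPt G, g ≫ u = y ≫ h) :
    ∃ (Q : Over (Spec (CommRingCat.of k))) (_ : GrpObj Q) (q : Q ⟶ G) (w : Q ⟶ H), IsMonHom q ∧ IsClosedImmersion q.left ∧
      Smooth Q.hom ∧ QuasiCompact Q.hom ∧ IsMonHom w ∧ Surjective w.left ∧ Flat w.left ∧
      LocallyOfFinitePresentation w.left ∧ w ≫ h = q ≫ u ∧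
      ∀ g : RPt G, (∃ a : RPt Q, a ≫ q = g) ↔ ∃ y : RPt H, y ≫ h = g ≫ u := by
  haveI : IsSeparated G.hom := Groth.Agent.GrpField.isSeparated_grp (G := G)
  haveI : IsSeparated G'.hom := Groth.Agent.GrpField.isSeparated_grp (G := G')
  haveI : Mono h := DiagRep.mono_of_isClosedImmersion h inferInstance
  haveI : QuasiCompact H.hom := by rw [← Over.w h]; infer_instance
  haveI : IsSeparated H.hom := Groth.Agent.GrpField.isSeparated_grp (G := H)
  haveI : AlgebraicGeometry.IsReduced H.left := AlgSpLib.isReduced_of_smooth H.hom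
  obtain ⟨Q, _, q, hq, hqc, hqs, hr⟩ := DenseSubLib.exists_smooth_subgroup (A := G)
    ((ptHom h).range.comap (ptHom u))
  haveI := hq; haveI := hqc; haveI := hqs
  haveI : QuasiCompact Q.hom := by rw [← Over.w q]; infer_instance
  haveI : AlgebraicGeometry.IsReduced Q.left := AlgSpLib.isReduced_of_smooth Q.hom
  have hQ : ∀ a : RPt Q, ∃ y : RPt H, y ≫ h = a ≫ q ≫ u := fun a => by
    refine exists_pt_of_mem_range h _ ?_
    have h0 : Set.range q.left ⊆ u.left ⁻¹' Set.range h.left := by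
      rw [hr]
      refine closure_minimal ?_ (h.left.isClosedEmbedding.isClosed_range.preimage u.left.continuous)
      rintro _ ⟨g, ⟨y, hy⟩, rfl⟩
      have hy' : y ≫ h = g ≫ u := hy
      exact ⟨y.left (IsLocalRing.closedPoint k), by
        show (y ≫ h).left (IsLocalRing.closedPoint k) = _
        rw [hy']; rfl⟩
    exact h0 ⟨a.left (IsLocalRing.closedPoint k), rfl⟩
  have hPQ : ∀ g : RPt G, (∃ y : RPt H, y ≫ h = g ≫ u) → ∃ a : RPt Q, a ≫ q = g := fun g hg => by
    refine exists_pt_of_mem_range q g ?_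
    rw [hr]
    exact subset_closure ⟨g, hg, rfl⟩
  obtain ⟨w, hw⟩ := exists_factor_of_pts (q ≫ u) h fun a => hQ a
  haveI : IsMonHom (w ≫ h) := by rw [hw]; infer_instance
  haveI : IsMonHom w := DiagRep.isMonHom_of_comp_mono w h
  haveI : Surjective w.left := SemiAbLib.surjective_of_pts w fun y => by
    obtain ⟨g, hg⟩ := hlift y
    obtain ⟨a, ha⟩ := hPQ g ⟨y, hg.symm⟩
    exact ⟨a, by rw [← cancel_mono h, Category.assoc, hw, ← Category.assoc, ha, hg]⟩
  exact ⟨Q, inferInstance, q, w, hq, hqc, hqs, inferInstance, inferInstance, inferInstance,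
    AntiAffLib.flat_of_surjective w, AntiAffLib.lfp_of_lft w, hw,
    fun g => ⟨fun ⟨a, ha⟩ => by rw [← ha]; simpa only [Category.assoc] using hQ a, hPQ g⟩⟩

/-- An fppf image of a smooth subgroup is smooth, reduced, closed and has the expected points. -/
theorem image_facts {T T' : Over (Spec (CommRingCat.of k))} [GrpObj T] [GrpObj T'] [Smooth T.hom] [QuasiCompact T.hom]
    (i' : T' ⟶ G') [IsMonHom i'] [Mono i'] (w : T ⟶ T') [IsMonHom w] [Flat w.left] [Surjective w.left] :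
    Smooth T'.hom ∧ IsClosedImmersion i'.left ∧ ∀ y : RPt T', ∃ a : RPt T, a ≫ w = y := by
  haveI : IsSeparated G'.hom := Groth.Agent.GrpField.isSeparated_grp (G := G')
  haveI : IsSeparated T'.hom := Groth.Agent.GrpField.isSeparated_grp (G := T')
  haveI : CompactSpace T.left := QuasiCompact.compactSpace_of_compactSpace T.hom
  haveI : QuasiCompact T'.hom := by
    haveI : CompactSpace T'.left := ⟨w.left.surjective.range_eq ▸ isCompact_range w.left.continuous⟩
    exact (quasiCompact_iff_compactSpace (f := T'.hom)).2 ‹_›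
  obtain ⟨C, _, c, hc, hcc, hcs, hpts, -⟩ := exists_image (w ≫ i')
  haveI := hc; haveI := hcc; haveI := hcs
  haveI : QuasiCompact C.hom := by rw [← Over.w c]; infer_instance
  haveI : IsSeparated C.hom := Groth.Agent.GrpField.isSeparated_grp (G := C)
  haveI : AlgebraicGeometry.IsReduced C.left := AlgSpLib.isReduced_of_smooth C.hom
  haveI : AlgebraicGeometry.IsReduced T.left := AlgSpLib.isReduced_of_smooth T.hom
  haveI : Mono c := DiagRep.mono_of_isClosedImmersion c hcc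
  obtain ⟨p, hp⟩ := exists_factor_of_pts (w ≫ i') c fun a => (hpts _).2 ⟨a, rfl⟩
  haveI : IsMonHom (p ≫ c) := by rw [hp]; infer_instance
  haveI : IsMonHom p := DiagRep.isMonHom_of_comp_mono p c
  haveI : Surjective p.left := SemiAbLib.surjective_of_pts p fun y => by
    obtain ⟨a, ha⟩ := (hpts (y ≫ c)).1 ⟨y, rfl⟩
    exact ⟨a, by rw [← cancel_mono c, Category.assoc, hp, ha]⟩
  haveI : Flat p.left := AntiAffLib.flat_of_surjective p
  obtain ⟨l, hl⟩ := Groth.Agent.Transporter.exists_lift_of_family c.left i'.left (fun _ : PUnit.{1} => w.left)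
    (fun _ => inferInstance) (fun t => ⟨PUnit.unit, w.left.surjective t⟩)
    fun _ => ⟨p.left, by rw [← Over.comp_left, hp, Over.comp_left]⟩
  let g : T' ⟶ C := Over.homMk l (by rw [← Over.w i', ← hl, Category.assoc, Over.w c])
  have hgc : g ≫ c = i' := Over.OverMorphism.ext hl
  have hwg : w ≫ g = p := by rw [← cancel_mono c, Category.assoc, hgc, hp]
  haveI : Mono g := by
    haveI : Mono (g ≫ c) := hgc ▸ ‹Mono i'›
    exact mono_of_mono g c
  haveI : Mono g.left := inferInstanceAs (Mono ((Over.forget _).map g))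
  haveI : Surjective g.left := ⟨fun y => by
    obtain ⟨x, hx⟩ := p.left.surjective y
    exact ⟨w.left x, by rw [← hx, ← hwg]; rfl⟩⟩
  haveI : Flat g.left := by
    haveI : Flat (w.left ≫ g.left) := by rw [← Over.comp_left, hwg]; infer_instance
    exact QuotRep.flat_of_comp_surjective w.left g.left
  haveI : QuasiCompact g.left := by
    haveI : QuasiCompact (g.left ≫ C.hom) := by rw [Over.w g]; infer_instance
    exact QuasiCompact.of_comp g.left C.hom
  haveI : IsIso g.left := MorphismProperty.of_isPullback_of_descendsAlong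
    (P := MorphismProperty.isomorphisms Scheme.{u}) (Q := @Surjective ⊓ @Flat ⊓ @QuasiCompact)
    (IsPullback.of_hasPullback g.left g.left) ⟨⟨‹Surjective g.left›, ‹Flat g.left›⟩, ‹QuasiCompact g.left›⟩
    (inferInstanceAs (IsIso (pullback.fst g.left g.left)))
  haveI : Smooth T'.hom := by rw [← Over.w g]; infer_instance
  refine ⟨inferInstance, by rw [← hgc, Over.comp_left]; infer_instance, fun y => ?_⟩
  exact AVAmpleLib.exists_pt_lift w y

end tools

variable {G G' : Over (Spec (CommRingCat.of k))} [GrpObj G] [GrpObj G']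
  [Smooth G.hom] [QuasiCompact G.hom] [ConnectedSpace G.left] [Smooth G'.hom] [QuasiCompact G'.hom]
  [ConnectedSpace G'.left]

/-- The affine part is normal. -/
theorem isNormalHom_l (S : Split G) : AlgGrp.IsNormalHom S.l := by
  haveI : GeometricallyIntegral G.hom := AlbLib.geometricallyIntegral_grp G
  obtain ⟨L, _, l, Q, _, q, h1, h2, h3, h4, h5, h6, h7, h8, h9, h10, h11, h12, h13, -⟩ := Groth.Agent.S4141.result k G
  haveI := h1; haveI := h2; haveI := h3; haveI := h4; haveI := h5; haveI := h7; haveI := h11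
  haveI : Mono l := DiagRep.mono_of_isClosedImmersion l h2
  haveI : Mono S.l := DiagRep.mono_of_isClosedImmersion S.l inferInstance
  obtain ⟨a, ha⟩ := S.hfac L l
  obtain ⟨b, hb⟩ := AntiAffLib.exists_lift_kernel h10 S.l (AlbLib.eq_one_of_affine (S.l ≫ q))
  intro T g n
  obtain ⟨n', hn'⟩ := h6 T g (n ≫ b)
  rw [Category.assoc, hb] at hn'
  exact ⟨n' ≫ a, by rw [hn', Category.assoc, ha]⟩

/-- **A surjective homomorphism maps the affine part onto the affine part.** -/
theorem exists_affine_map (u : G ⟶ G') [IsMonHom u] [Surjective u.left] (S : Split G) (S' : Split G') :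
    ∃ q : S.L ⟶ S'.L, IsMonHom q ∧ Surjective q.left ∧ q ≫ S'.l = S.l ≫ u := by
  haveI : IsSeparated G'.hom := Groth.Agent.GrpField.isSeparated_grp (G := G')
  haveI : AlgebraicGeometry.IsReduced G'.left := AlgSpLib.isReduced_of_smooth G'.hom
  haveI : Flat u.left := AntiAffLib.flat_of_surjective u
  let K := pullback u (η[G'] : 𝟙_ (Over (Spec (CommRingCat.of k))) ⟶ G')
  let kI : K ⟶ G := pullback.fst _ _
  haveI : IsClosedImmersion (η[G'] : 𝟙_ (Over (Spec (CommRingCat.of k))) ⟶ G').left :=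
    isClosedImmersion_of_comp_eq_id G'.hom _ (Over.w _)
  haveI : IsClosedImmersion kI.left :=
    MorphismProperty.of_isPullback (P := @IsClosedImmersion)
      ((IsPullback.of_hasPullback u (η[G'] : 𝟙_ _ ⟶ G')).map (Over.forget _)).flip ‹_›
  haveI : Mono kI := DiagRep.mono_of_isClosedImmersion kI inferInstance
  have hK : ∀ {X : Over (Spec (CommRingCat.of k))} (g : X ⟶ G), (∃ z, z ≫ kI = g) ↔ g ≫ u = 1 := fun {X} g => by
    constructor
    · rintro ⟨z, rfl⟩
      rw [Category.assoc, show kI ≫ u = pullback.snd u _ ≫ η[G'] from pullback.condition, ← Category.assoc,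
        toUnit_unique (z ≫ pullback.snd u _) (toUnit X), ← Hom.one_def]
    · intro hg
      exact ⟨pullback.lift g (toUnit X) (by rw [hg, Hom.one_def]), pullback.lift_fst _ _ _⟩
  obtain ⟨iK, hkI⟩ := WeilRes.exists_grpObj_of_pred kI (fun {X} g => g ≫ u = 1) hK (MonObj.one_comp u)
    (fun a b ha hb => by rw [MonObj.mul_comp, ha, hb, _root_.one_mul]) fun a ha => by
      rw [GrpObj.inv_comp, ha, inv_one]
  letI := iK; haveI := hkI
  haveI : QuasiCompact K.hom := by rw [← Over.w kI]; infer_instance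
  haveI : LocallyOfFiniteType K.hom := by rw [← Over.w kI]; infer_instance
  have hker : AlgGrp.IsKernel kI u := by
    have h := IsPullback.of_hasPullback u (η[G'] : 𝟙_ (Over (Spec (CommRingCat.of k))) ⟶ G')
    rwa [toUnit_unique (pullback.snd u (η[G'] : 𝟙_ (Over (Spec (CommRingCat.of k))) ⟶ G')) (toUnit K)] at h
  obtain ⟨q, hq, hqs⟩ := Groth.Agent.S14756.result k K G G' kI u hker S.L S.l (isNormalHom_l S)
    (fun N' _ i' _ _ _ _ _ _ => S.hfac N' i') S'.L S'.l (isNormalHom_l S') (fun N' _ i' _ _ _ _ _ _ => S'.hfac N' i')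
  haveI : Mono S'.l := DiagRep.mono_of_isClosedImmersion S'.l inferInstance
  haveI : IsMonHom (q ≫ S'.l) := by rw [hq]; infer_instance
  exact ⟨q, DiagRep.isMonHom_of_comp_mono q S'.l, hqs, hq⟩

/-- Maximal tori exist. -/
theorem exists_maxTorus : ∃ (T : Over (Spec (CommRingCat.of k))) (_ : GrpObj T) (i : T ⟶ G), AGF.IsMaxTorus i := by
  obtain ⟨S⟩ := exists_split (G := G)
  obtain ⟨A, _, _, v, hv, hA, -⟩ := exists_setup S.L
  haveI := hv; haveI := hA
  obtain ⟨hKc, hK⟩ := facts_top v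
  obtain ⟨S₀, hS₀, -⟩ := exists_isMaxTor hKc hK
  obtain ⟨T, _, j, hjm, hjmo, hjc, hT, hj', hp⟩ := exists_torus_sub v hS₀.tor
  haveI := hjm; haveI := hjmo; haveI := hjc
  exact ⟨T, inferInstance, j ≫ S.l, (isMaxTorus_iff S).2 (isMaxTorus_of_isMaxTor v hT (hp ▸ hS₀))⟩

variable {u : G ⟶ G'} [IsMonHom u] [Surjective u.left]

/-- **The image of a maximal torus is a maximal torus.** -/
theorem isMaxTorus_image {T T' : Over (Spec (CommRingCat.of k))} [GrpObj T] [GrpObj T'] {i : T ⟶ G}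
    (hT : AGF.IsMaxTorus i) (i' : T' ⟶ G') [IsMonHom i'] [Mono i'] (w : T ⟶ T') [Flat w.left] [Surjective w.left]
    (hw : w ≫ i' = i ≫ u) : AGF.IsMaxTorus i' := by
  obtain ⟨S⟩ := exists_split (G := G)
  obtain ⟨S'⟩ := exists_split (G := G')
  obtain ⟨q, hqm, hqs, hq⟩ := exists_affine_map u S S'
  haveI := hqm; haveI := hqs; haveI := hT.1; haveI := hT.2.1
  obtain ⟨-, hTs, -, hTq, -, -⟩ := torus_props i hT.2.2.1
  haveI := hTs; haveI := hTq
  haveI : IsMonHom (w ≫ i') := by rw [hw]; infer_instance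
  haveI : IsMonHom w := DiagRep.isMonHom_of_comp_mono w i'
  obtain ⟨hs, hc, hlift⟩ := image_facts i' w
  haveI := hs; haveI := hc
  haveI : AlgebraicGeometry.IsReduced T'.left := AlgSpLib.isReduced_of_smooth T'.hom
  haveI : Mono S'.l := DiagRep.mono_of_isClosedImmersion S'.l inferInstance
  obtain ⟨j, hj, hjm, hjmo⟩ := exists_lift_torus S i hT.2.2.1
  haveI := hjm; haveI := hjmo
  obtain ⟨j', hj'⟩ := exists_factor_of_pts i' S'.l fun y => by
    obtain ⟨a, rfl⟩ := hlift y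
    exact ⟨a ≫ j ≫ q, by simp only [Category.assoc, hq, hw, ← hj]⟩
  haveI : IsMonHom (j' ≫ S'.l) := by rw [hj']; infer_instance
  haveI : IsMonHom j' := DiagRep.isMonHom_of_comp_mono j' S'.l
  haveI : IsClosedImmersion (j'.left ≫ S'.l.left) := by rw [← Over.comp_left, hj']; infer_instance
  haveI : IsClosedImmersion j'.left := IsClosedImmersion.of_comp j'.left S'.l.left
  rw [← hj', isMaxTorus_iff]
  exact Groth.Agent.S3927.result k S.L S'.L q T j ((isMaxTorus_iff S).1 (hj ▸ hT)) T' j' inferInstance w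
    (by rw [← cancel_mono S'.l]; simp only [Category.assoc, hj', hw, hq, ← hj])

/-- A maximal torus has a maximal torus as image. -/
theorem exists_image_maxTorus {T : Over (Spec (CommRingCat.of k))} [GrpObj T] {i : T ⟶ G} (hT : AGF.IsMaxTorus i) :
    ∃ (T' : Over (Spec (CommRingCat.of k))) (_ : GrpObj T') (i' : T' ⟶ G') (w : T ⟶ T'), AGF.IsMaxTorus i' ∧
      IsMonHom w ∧ Flat w.left ∧ Surjective w.left ∧ w ≫ i' = i ≫ u := by
  haveI := hT.1; haveI := hT.2.1
  obtain ⟨-, hTs, -, hTq, hTr, -⟩ := torus_props i hT.2.2.1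
  haveI := hTs; haveI := hTq; haveI := hTr
  obtain ⟨C, _, c, hc, hcc, hcs, hpts, -⟩ := exists_image (i ≫ u)
  haveI := hc; haveI := hcc; haveI := hcs
  haveI : Mono c := DiagRep.mono_of_isClosedImmersion c hcc
  haveI : QuasiCompact C.hom := by rw [← Over.w c]; infer_instance
  haveI : IsSeparated C.hom := Groth.Agent.GrpField.isSeparated_grp (G := C)
  haveI : AlgebraicGeometry.IsReduced C.left := AlgSpLib.isReduced_of_smooth C.hom
  obtain ⟨w, hw⟩ := exists_factor_of_pts (i ≫ u) c fun a => (hpts _).2 ⟨a, rfl⟩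
  haveI : IsMonHom (w ≫ c) := by rw [hw]; infer_instance
  haveI : IsMonHom w := DiagRep.isMonHom_of_comp_mono w c
  haveI : Surjective w.left := SemiAbLib.surjective_of_pts w fun y => by
    obtain ⟨a, ha⟩ := (hpts (y ≫ c)).1 ⟨y, rfl⟩
    exact ⟨a, by rw [← cancel_mono c, Category.assoc, hw, ha]⟩
  haveI : Flat w.left := AntiAffLib.flat_of_surjective w
  exact ⟨C, inferInstance, c, w, isMaxTorus_image hT c w hw, inferInstance, inferInstance, inferInstance, hw⟩

/-- **The centraliser of a maximal torus maps onto that of its image.** -/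
theorem exists_centralizer_map {T T' : Over (Spec (CommRingCat.of k))} [GrpObj T] [GrpObj T'] {i : T ⟶ G}
    (hT : AGF.IsMaxTorus i) (i' : T' ⟶ G') [IsMonHom i'] [Mono i'] (w : T ⟶ T') [Flat w.left] [Surjective w.left]
    (hw : w ≫ i' = i ≫ u) {C : Over (Spec (CommRingCat.of k))} [GrpObj C] {c : C ⟶ G} (hC : Red.IsCentralizerOf i c)
    {C' : Over (Spec (CommRingCat.of k))} [GrpObj C'] {c' : C' ⟶ G'} (hC' : Red.IsCentralizerOf i' c') :
    ∃ v : C ⟶ C', IsMonHom v ∧ Surjective v.left ∧ Flat v.left ∧ v ≫ c' = c ≫ u := by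
  have hT' := isMaxTorus_image hT i' w hw
  haveI := hT.1; haveI := hT.2.1; haveI := hC.1; haveI := hC.2.1; haveI := hC'.1; haveI := hC'.2.1
  obtain ⟨-, hTs, hTc, hTq, hTr, hicl⟩ := torus_props i hT.2.2.1
  obtain ⟨-, hTs', -, hTq', hTr', -⟩ := torus_props i' hT'.2.2.1
  haveI := hTs; haveI := hTq; haveI := hTr; haveI := hTc; haveI := hTs'; haveI := hTq'; haveI := hTr'; haveI := hicl
  haveI : IsSeparated G.hom := Groth.Agent.GrpField.isSeparated_grp (G := G)
  haveI : IsSeparated G'.hom := Groth.Agent.GrpField.isSeparated_grp (G := G')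
  haveI : IsMonHom (w ≫ i') := by rw [hw]; infer_instance
  haveI : IsMonHom w := DiagRep.isMonHom_of_comp_mono w i'
  obtain ⟨-, -, hlift⟩ := image_facts i' w
  obtain ⟨S⟩ := exists_split (G := G)
  obtain ⟨j, hj, hjm, hjmo⟩ := exists_lift_torus S i hT.2.2.1
  haveI := hjm; haveI := hjmo
  obtain ⟨hCs, hCc, hCconn, -⟩ := centralizer_torus S j hT.2.2.1 (c := c) (hj.symm ▸ hC)
  obtain ⟨S'⟩ := exists_split (G := G')
  obtain ⟨j', hj', hjm', hjmo'⟩ := exists_lift_torus S' i' hT'.2.2.1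
  haveI := hjm'; haveI := hjmo'
  obtain ⟨hCs', hCc', hCconn', -⟩ := centralizer_torus S' j' hT'.2.2.1 (c := c') (hj'.symm ▸ hC')
  haveI := hCs; haveI := hCc; haveI := hCconn; haveI := hCs'; haveI := hCc'; haveI := hCconn'
  haveI : QuasiCompact C.hom := by rw [← Over.w c]; infer_instance
  haveI : QuasiCompact C'.hom := by rw [← Over.w c']; infer_instance
  haveI : IsSeparated C'.hom := Groth.Agent.GrpField.isSeparated_grp (G := C')
  haveI : AlgebraicGeometry.IsReduced C.left := AlgSpLib.isReduced_of_smooth C.hom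
  haveI : AlgebraicGeometry.IsReduced C'.left := AlgSpLib.isReduced_of_smooth C'.hom
  obtain ⟨v, hv⟩ := exists_factor_of_pts (c ≫ u) c' fun z => (hC'.2.2 _ _).2 (commutes_of_pts i' _ fun y => by
    obtain ⟨a, rfl⟩ := hlift y
    have h1 := (hC.2.2 _ (z ≫ c)).1 ⟨z, rfl⟩ _ (𝟙 _) a
    simp only [Category.id_comp] at h1
    have h2 := congrArg (· ≫ u) h1
    simpa only [MonObj.mul_comp, Category.assoc, hw] using h2)
  haveI : IsMonHom (v ≫ c') := by rw [hv]; infer_instance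
  haveI : IsMonHom v := DiagRep.isMonHom_of_comp_mono v c'
  -- the normaliser of the torus
  obtain ⟨-, N, _, n, hN, hnc, hNs⟩ := Groth.Agent.S3006.result _ G T i hicl hT.2.2.1
  haveI := hN.1; haveI := hN.2.1; haveI := hnc; haveI := hNs
  haveI : QuasiCompact N.hom := by rw [← Over.w n]; infer_instance
  haveI : IsSeparated N.hom := Groth.Agent.GrpField.isSeparated_grp (G := N)
  -- every point centralising the image lifts to the normaliser
  have key : ∀ y : RPt C', ∃ (m : RPt N) (y₁ : RPt T'), m ≫ n ≫ u = (y ≫ c') * (y₁ ≫ i') := by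
    intro y
    obtain ⟨g, hg⟩ := AVAmpleLib.exists_pt_lift u (y ≫ c')
    haveI : IsClosedImmersion i'.left := (image_facts i' w).2.1
    obtain ⟨Q, _, q, wQ, hq, hqc, hqs, hqq, hwQ, hwQs, -, -, hwq, hQpts⟩ := exists_preimage u i' fun z => by
      obtain ⟨a, ha⟩ := hlift z
      exact ⟨a ≫ i, by rw [Category.assoc, ← hw, ← Category.assoc, ha]⟩
    haveI := hq; haveI := hqc; haveI := hqs; haveI := hqq
    haveI : Mono q := DiagRep.mono_of_isClosedImmersion q hqc
    obtain ⟨Q₀, _, j₀, hj₀, hj₀c, -, hj₀s, hj₀conn, hfac⟩ := CentPre.exists_comp_open (G := Q)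
    haveI := hj₀; haveI := hj₀c; haveI := hj₀s; haveI := hj₀conn
    haveI : Mono j₀ := DiagRep.mono_of_isClosedImmersion j₀ hj₀c
    haveI : QuasiCompact Q₀.hom := by rw [← Over.w j₀]; infer_instance
    haveI : Mono (j₀ ≫ q) := mono_comp _ _
    obtain ⟨tQ, htQ⟩ := exists_factor_of_pts i q fun a => (hQpts _).2 ⟨a ≫ w, by simp only [Category.assoc, hw]⟩
    haveI : IsMonHom (tQ ≫ q) := by rw [htQ]; infer_instance
    haveI : IsMonHom tQ := DiagRep.isMonHom_of_comp_mono tQ q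
    obtain ⟨t₀, ht₀⟩ := hfac T tQ
    haveI : IsMonHom (AGF.conjBy g i) := (facts_conjBy g i).1
    obtain ⟨sQ, hsQ⟩ := exists_factor_of_pts (AGF.conjBy g i) q fun a => (hQpts _).2 ⟨a ≫ w, by
      have hc1 := (hC'.2.2 _ (y ≫ c')).1 ⟨y, rfl⟩ _ (𝟙 _) (a ≫ w)
      simp only [Category.id_comp, Category.assoc] at hc1
      simp only [AGF.conjBy, MonObj.comp_mul, GrpObj.comp_inv, ← Category.assoc, MonObj.mul_comp, GrpObj.inv_comp]
      rw [toUnit_unique (a ≫ toUnit T) (𝟙 _), Category.id_comp, hg]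
      simp only [Category.assoc, ← hw]
      rw [hc1, mul_inv_cancel_right]⟩
    haveI : IsMonHom (sQ ≫ q) := by rw [hsQ]; infer_instance
    haveI : IsMonHom sQ := DiagRep.isMonHom_of_comp_mono sQ q
    obtain ⟨s₀, hs₀⟩ := hfac T sQ
    haveI := Groth.Agent.DiagRep.isMonHom_conjBy g
    haveI : IsMonHom (asIso (AGF.conjBy g (𝟙 G))).hom := ‹_›
    have hTg : AGF.IsMaxTorus (AGF.conjBy g i) := by
      rw [DiagRep.conjBy_eq_comp]
      exact RCentre.isMaxTorus_comp_iso hT (asIso (AGF.conjBy g (𝟙 G)))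
    have h1 := isMaxTorus_of_sub (j₀ ≫ q) hT (t := t₀) (by rw [← Category.assoc, ht₀, htQ])
    have h2 := isMaxTorus_of_sub (j₀ ≫ q) hTg (t := s₀) (by rw [← Category.assoc, hs₀, hsQ])
    obtain ⟨p, φ, hφ⟩ := maxTorus_conj h1 h2
    let P : RPt G := p ≫ j₀ ≫ q
    have hP : (toUnit T ≫ P) * i * (toUnit T ≫ P)⁻¹ = φ.hom ≫ AGF.conjBy g i := by
      have h3 := congrArg (· ≫ j₀ ≫ q) hφ
      simp only [MonObj.mul_comp, GrpObj.inv_comp, Category.assoc] at h3
      rw [← Category.assoc t₀, ht₀, htQ, ← Category.assoc s₀, hs₀, hsQ] at h3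
      exact h3
    have hconj : ∀ {X : Over (Spec (CommRingCat.of k))} (h : X ⟶ T),
        (toUnit X ≫ (g⁻¹ * P)) * (h ≫ i) * (toUnit X ≫ (g⁻¹ * P))⁻¹ = (h ≫ φ.hom) ≫ i := by
      intro X h
      have h3 := congrArg (h ≫ ·) hP
      simp only [AGF.conjBy, MonObj.comp_mul, GrpObj.comp_inv, ← Category.assoc] at h3
      rw [toUnit_unique (h ≫ toUnit T) (toUnit X), toUnit_unique ((h ≫ φ.hom) ≫ toUnit T) (toUnit X)] at h3
      simp only [MonObj.comp_mul, GrpObj.comp_inv, _root_.mul_inv_rev, inv_inv]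
      calc (toUnit X ≫ g)⁻¹ * (toUnit X ≫ P) * (h ≫ i) * ((toUnit X ≫ P)⁻¹ * (toUnit X ≫ g))
          = (toUnit X ≫ g)⁻¹ * ((toUnit X ≫ P) * (h ≫ i) * (toUnit X ≫ P)⁻¹) * (toUnit X ≫ g) := by group
        _ = _ := by rw [h3]; group
    obtain ⟨m, hm⟩ := (hN.2.2 _ (g⁻¹ * P)).2 fun X' x h => by
      rw [toUnit_unique x (toUnit X')]
      refine ⟨⟨h ≫ φ.hom, hconj h⟩, ⟨h ≫ φ.inv, ?_⟩⟩
      have h4 := hconj (h ≫ φ.inv)
      simp only [Category.assoc, Iso.inv_hom_id_assoc] at h4 ⊢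
      rw [← h4]; group
    obtain ⟨y₁, hy₁⟩ : ∃ y₁ : RPt T', y₁ ≫ i' = P ≫ u := (hQpts P).1 ⟨p ≫ j₀, Category.assoc _ _ _⟩
    refine ⟨m⁻¹, y₁⁻¹, ?_⟩
    rw [GrpObj.inv_comp, GrpObj.inv_comp, ← Category.assoc, hm, MonObj.mul_comp, GrpObj.inv_comp, hg, ← hy₁, _root_.mul_inv_rev, inv_inv]
    have hc2 := (hC'.2.2 _ (y ≫ c')).1 ⟨y, rfl⟩ _ (𝟙 _) y₁⁻¹
    simp only [Category.id_comp, GrpObj.inv_comp] at hc2
    exact hc2.symm
  -- points of the normaliser over points of the centraliser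
  obtain ⟨z', hz'⟩ := (hC'.2.2 T' i').2 fun X' x h => by
    have hloc := Groth.Agent.Transporter.locally_of_isMultTypeFT (S := Spec (CommRingCat.of k))
      (show SGA3x.IsMultTypeFT T' from RedRank.isMultTypeFT_of_isTorus hT'.2.2.1)
    rw [← MonObj.mul_comp, ← MonObj.mul_comp, Groth.Agent.Transporter.comm_of_locally_fpqc hloc X' x h]
  obtain ⟨zT, hzT⟩ := (hC.2.2 T i).2 fun X' x h => by
    have hloc := Groth.Agent.Transporter.locally_of_isMultTypeFT (S := Spec (CommRingCat.of k))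
      (show SGA3x.IsMultTypeFT T from RedRank.isMultTypeFT_of_isTorus hT.2.2.1)
    rw [← MonObj.mul_comp, ← MonObj.mul_comp, Groth.Agent.Transporter.comm_of_locally_fpqc hloc X' x h]
  haveI : IsMonHom (n ≫ u) := inferInstance
  obtain ⟨Q₁, _, q₁, w₁, hq₁, hq₁c, hq₁s, hq₁q, hw₁m, hw₁s, hw₁f, hw₁l, hw₁, hQ₁⟩ := exists_preimage (n ≫ u) c'
    fun y => by
      obtain ⟨m, y₁, hm⟩ := key y
      obtain ⟨a, ha⟩ := hlift y₁
      obtain ⟨m', hm'⟩ := (hN.2.2 _ (a ≫ i)).2 fun X' x h => by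
        obtain ⟨b, hb⟩ : ∃ b : X' ⟶ T, b ≫ i = x ≫ a ≫ i := ⟨x ≫ a, Category.assoc _ _ _⟩
        rw [← hb, ← MonObj.mul_comp, ← GrpObj.inv_comp, ← MonObj.mul_comp, ← MonObj.mul_comp, ← MonObj.mul_comp]
        exact ⟨⟨_, rfl⟩, ⟨_, rfl⟩⟩
      refine ⟨m * m'⁻¹, ?_⟩
      rw [MonObj.mul_comp, hm, GrpObj.inv_comp]
      have e : m' ≫ n ≫ u = y₁ ≫ i' := by rw [← Category.assoc, hm', Category.assoc, ← hw, ← Category.assoc, ha]
      rw [e, mul_inv_cancel_right]
  haveI := hq₁; haveI := hq₁c; haveI := hq₁s; haveI := hq₁q; haveI := hw₁m; haveI := hw₁s; haveI := hw₁f; haveI := hw₁l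
  haveI : Mono q₁ := DiagRep.mono_of_isClosedImmersion q₁ hq₁c
  have hnorm : ∀ (X' : Over (Spec (CommRingCat.of k))) (x : X' ⟶ N) (h : X' ⟶ C),
      ∃ h' : X' ⟶ C, (x ≫ n) * (h ≫ c) * (x ≫ n)⁻¹ = h' ≫ c := by
    intro X' x h
    obtain ⟨h', hh'⟩ := (hC.2.2 X' ((x ≫ n) * (h ≫ c) * (x ≫ n)⁻¹)).2 fun X'' y t => by
      obtain ⟨-, ⟨t', ht'⟩⟩ := (hN.2.2 N n).1 ⟨𝟙 N, Category.id_comp n⟩ X'' (y ≫ x) t
      have hcc := (hC.2.2 X' (h ≫ c)).1 ⟨h, rfl⟩ X'' y t'
      simp only [Category.assoc] at ht'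
      simp only [MonObj.comp_mul, GrpObj.comp_inv] at hcc ⊢
      rw [← ht'] at hcc
      set a := y ≫ x ≫ n
      set b := y ≫ h ≫ c
      calc a * b * a⁻¹ * (t ≫ i) = a * (b * (a⁻¹ * (t ≫ i) * a)) * a⁻¹ := by group
        _ = a * ((a⁻¹ * (t ≫ i) * a) * b) * a⁻¹ := by rw [hcc]
        _ = (t ≫ i) * (a * b * a⁻¹) := by group
    exact ⟨h', hh'.symm⟩
  obtain ⟨mC, hmC⟩ := (hN.2.2 C c).2 fun X' x h => by
    have hcc := (hC.2.2 C c).1 ⟨𝟙 C, Category.id_comp c⟩ X' x h
    exact ⟨⟨h, by rw [hcc, mul_inv_cancel_right]⟩, ⟨h, by rw [_root_.mul_assoc, ← hcc, inv_mul_cancel_left]⟩⟩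
  have hopen : IsOpenImmersion mC.left := BorelLib.isOpenImmersion_normalizer c n (C := C) (𝟙 C)
    (by
      rw [Category.id_comp]
      exact ⟨inferInstance, inferInstance, T, inferInstance, i, isMaximalTorus_of_isMaxTorus hT, hC⟩)
    hnorm mC hmC
  obtain ⟨l, hl⟩ := exists_factor_of_pts mC q₁ fun a => (hQ₁ _).2 ⟨a ≫ v, by simp only [Category.assoc, hv, ← hmC]⟩
  have hrange : Set.range v.left = w₁.left '' (q₁.left ⁻¹' Set.range mC.left) := by
    have hlv : l ≫ w₁ = v := by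
      rw [← cancel_mono c', Category.assoc, hw₁, ← Category.assoc, hl, hv, ← Category.assoc, hmC]
    have hpre : q₁.left ⁻¹' Set.range mC.left = Set.range l.left := by
      ext x
      constructor
      · rintro ⟨z, hz⟩
        refine ⟨z, q₁.left.isClosedEmbedding.injective ?_⟩
        rw [← hz, ← hl]; rfl
      · rintro ⟨z, rfl⟩
        exact ⟨z, by rw [← hl]; rfl⟩
    rw [hpre, ← hlv, Over.comp_left, Scheme.Hom.comp_base, TopCat.coe_comp, Set.range_comp]
  haveI : Surjective v.left := by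
    haveI : QuasiCompact v.left := by
      haveI : QuasiCompact (v.left ≫ C'.hom) := by rw [Over.w v]; infer_instance
      exact QuasiCompact.of_comp v.left C'.hom
    have hcl : IsClosed (Set.range v.left) := GrpHom.isClosed_range v
    have ho : IsOpen (Set.range v.left) := by
      rw [hrange]
      exact w₁.left.isOpenMap _ (mC.left.isOpenEmbedding.isOpen_range.preimage q₁.left.continuous)
    exact ⟨fun x => (IsClopen.eq_univ (s := Set.range v.left) ⟨hcl, ho⟩ (Set.range_nonempty _)).ge (Set.mem_univ x)⟩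
  exact ⟨v, inferInstance, inferInstance, AntiAffLib.flat_of_surjective v, hv⟩

/-- The properties of the centraliser of a torus. -/
theorem centralizer_props {T C : Over (Spec (CommRingCat.of k))} [GrpObj T] [GrpObj C] {i : T ⟶ G} [IsMonHom i] [Mono i]
    (hT : Red.IsTorus T) {c : C ⟶ G} (hC : Red.IsCentralizerOf i c) :
    Smooth C.hom ∧ QuasiCompact C.hom ∧ IsClosedImmersion c.left ∧ ConnectedSpace C.left := by
  obtain ⟨S⟩ := exists_split (G := G)
  obtain ⟨j, hj, hjm, hjmo⟩ := exists_lift_torus S i hT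
  haveI := hjm; haveI := hjmo
  obtain ⟨hCs, hCc, hCconn, -⟩ := centralizer_torus S j hT (c := c) (hj.symm ▸ hC)
  haveI := hCc
  exact ⟨hCs, by rw [← Over.w c]; infer_instance, hCc, hCconn⟩

/-- Cartan subgroups are smooth, connected and closed. -/
theorem cartan_props {C : Over (Spec (CommRingCat.of k))} [GrpObj C] {c : C ⟶ G} (hC : SGA3x.IsCartanOver k c) :
    Smooth C.hom ∧ QuasiCompact C.hom ∧ IsClosedImmersion c.left ∧ ConnectedSpace C.left := by
  obtain ⟨-, -, T, _, i, hi, hc⟩ := hC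
  obtain ⟨him, hio, hit, -⟩ := hi
  haveI := him; haveI := hio
  exact centralizer_props hit hc

/-- Two images of the same smooth group coincide. -/
theorem exists_iso_image {C C₁ C₂ : Over (Spec (CommRingCat.of k))} [GrpObj C] [GrpObj C₁] [GrpObj C₂] [Smooth C.hom]
    [QuasiCompact C.hom] {f : C ⟶ G'} [IsMonHom f] (c₁ : C₁ ⟶ G') [IsMonHom c₁] [Mono c₁] (w₁ : C ⟶ C₁) [Flat w₁.left]
    [Surjective w₁.left] (h₁ : w₁ ≫ c₁ = f) (c₂ : C₂ ⟶ G') [IsMonHom c₂] [Mono c₂] (w₂ : C ⟶ C₂) [Flat w₂.left]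
    [Surjective w₂.left] (h₂ : w₂ ≫ c₂ = f) : ∃ e : C₁ ≅ C₂, e.hom ≫ c₂ = c₁ := by
  haveI : IsMonHom (w₁ ≫ c₁) := by rw [h₁]; infer_instance
  haveI : IsMonHom (w₂ ≫ c₂) := by rw [h₂]; infer_instance
  haveI : IsMonHom w₁ := DiagRep.isMonHom_of_comp_mono w₁ c₁
  haveI : IsMonHom w₂ := DiagRep.isMonHom_of_comp_mono w₂ c₂
  obtain ⟨hs₁, hc₁, hl₁⟩ := image_facts c₁ w₁
  obtain ⟨hs₂, hc₂, hl₂⟩ := image_facts c₂ w₂
  haveI := hs₁; haveI := hs₂; haveI := hc₁; haveI := hc₂
  haveI : AlgebraicGeometry.IsReduced C₁.left := AlgSpLib.isReduced_of_smooth C₁.hom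
  haveI : AlgebraicGeometry.IsReduced C₂.left := AlgSpLib.isReduced_of_smooth C₂.hom
  refine exists_iso_of_pts c₁ c₂ fun g => ⟨?_, ?_⟩
  · rintro ⟨y, rfl⟩
    obtain ⟨a, rfl⟩ := hl₁ y
    exact ⟨a ≫ w₂, by rw [Category.assoc, Category.assoc, h₁, h₂]⟩
  · rintro ⟨y, rfl⟩
    obtain ⟨a, rfl⟩ := hl₂ y
    exact ⟨a ≫ w₁, by rw [Category.assoc, Category.assoc, h₁, h₂]⟩

/-- **The image of the centraliser of a maximal torus is the centraliser of its image.** -/
theorem isCentralizerOf_image {T T' : Over (Spec (CommRingCat.of k))} [GrpObj T] [GrpObj T'] {i : T ⟶ G}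
    (hT : AGF.IsMaxTorus i) (i' : T' ⟶ G') [IsMonHom i'] [Mono i'] (w : T ⟶ T') [Flat w.left] [Surjective w.left]
    (hw : w ≫ i' = i ≫ u) {C : Over (Spec (CommRingCat.of k))} [GrpObj C] {c : C ⟶ G} (hC : Red.IsCentralizerOf i c)
    {C' : Over (Spec (CommRingCat.of k))} [GrpObj C'] (c' : C' ⟶ G') [IsMonHom c'] [Mono c'] (v : C ⟶ C') [Flat v.left]
    [Surjective v.left] (hv : v ≫ c' = c ≫ u) : Red.IsCentralizerOf i' c' := by
  have hT' := isMaxTorus_image hT i' w hw
  obtain ⟨-, hTs', -, hTq', hTr', hcl⟩ := torus_props i' hT'.2.2.1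
  haveI := hcl; haveI := hT.1; haveI := hT.2.1; haveI := hC.1
  obtain ⟨hCs, hCq, -, -⟩ := centralizer_props hT.2.2.1 hC
  haveI := hCs; haveI := hCq
  haveI : IsSeparated G'.hom := Groth.Agent.GrpField.isSeparated_grp (G := G')
  obtain ⟨⟨Z, _, z, hz, hzc, hzs⟩, -⟩ := Groth.Agent.S3006.result _ G' T' i' hcl hT'.2.2.1
  haveI := hz.1; haveI := hz.2.1
  obtain ⟨v₂, -, hvs, hvf, hv₂⟩ := exists_centralizer_map hT i' w hw hC hz
  haveI := hvs; haveI := hvf
  obtain ⟨e, he⟩ := exists_iso_image c' v hv z v₂ hv₂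
  refine ⟨inferInstance, inferInstance, fun X g => ⟨?_, fun hg => ?_⟩⟩
  · rintro ⟨y, rfl⟩
    exact (hz.2.2 X _).1 ⟨y ≫ e.hom, by rw [Category.assoc, he]⟩
  · obtain ⟨y, hy⟩ := (hz.2.2 X g).2 hg
    exact ⟨y ≫ e.inv, by rw [Category.assoc, ← he, e.inv_hom_id_assoc, hy]⟩

/-- **The image of a Cartan subgroup is a Cartan subgroup.** -/
theorem isCartanOver_image {C : Over (Spec (CommRingCat.of k))} [GrpObj C] {c : C ⟶ G} (hC : SGA3x.IsCartanOver k c)
    {C' : Over (Spec (CommRingCat.of k))} [GrpObj C'] (c' : C' ⟶ G') [IsMonHom c'] [Mono c'] (v : C ⟶ C') [Flat v.left]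
    [Surjective v.left] (hv : v ≫ c' = c ≫ u) : SGA3x.IsCartanOver k c' := by
  obtain ⟨-, -, T, _, i, hi, hc⟩ := hC
  have hT := isMaxTorus_of_isMaximalTorus hi
  obtain ⟨T', _, i', w, hT', -, hwf, hws, hw⟩ := exists_image_maxTorus (u := u) hT
  haveI := hT'.1; haveI := hT'.2.1; haveI := hwf; haveI := hws
  exact ⟨inferInstance, inferInstance, T', inferInstance, i', isMaximalTorus_of_isMaxTorus hT',
    isCentralizerOf_image hT i' w hw hc c' v hv⟩

/-- **Every Cartan subgroup of a quotient is the image of a Cartan subgroup.** -/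
theorem exists_cartan_over {C' : Over (Spec (CommRingCat.of k))} [GrpObj C'] {c' : C' ⟶ G'}
    (hC' : SGA3x.IsCartanOver k c') : ∃ (C : Over (Spec (CommRingCat.of k))) (_ : GrpObj C) (c : C ⟶ G) (v : C ⟶ C'),
      SGA3x.IsCartanOver k c ∧ IsMonHom v ∧ Flat v.left ∧ Surjective v.left ∧ v ≫ c' = c ≫ u := by
  haveI : IsSeparated G.hom := Groth.Agent.GrpField.isSeparated_grp (G := G)
  haveI : IsSeparated G'.hom := Groth.Agent.GrpField.isSeparated_grp (G := G')
  obtain ⟨-, -, T', _, i', hi', hc'⟩ := hC'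
  obtain ⟨T₀, _, i₀, hT₀⟩ := exists_maxTorus (G := G)
  obtain ⟨T₁, _, i₁, w, hT₁, -, hwf, hws, hw⟩ := exists_image_maxTorus (u := u) hT₀
  haveI := hwf; haveI := hws
  obtain ⟨g', φ, hφ⟩ := maxTorus_conj hT₁ (isMaxTorus_of_isMaximalTorus hi')
  obtain ⟨g, rfl⟩ := AVAmpleLib.exists_pt_lift u g'
  haveI := Groth.Agent.DiagRep.isMonHom_conjBy g
  haveI : IsMonHom (asIso (AGF.conjBy g (𝟙 G))).hom := ‹_›
  let e := AGF.conjBy g (𝟙 G)
  have hT : AGF.IsMaxTorus (i₀ ≫ e) := RCentre.isMaxTorus_comp_iso hT₀ (asIso (AGF.conjBy g (𝟙 G)))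
  haveI : IsIso φ.hom.left := ((Over.forget _).mapIso φ).isIso_hom
  haveI := hi'.1; haveI := hi'.2.1; haveI := hT.1; haveI := hT.2.1
  haveI : Flat (w ≫ φ.hom).left := by rw [Over.comp_left]; infer_instance
  haveI : Surjective (w ≫ φ.hom).left := by rw [Over.comp_left]; infer_instance
  have hw' : (w ≫ φ.hom) ≫ i' = (i₀ ≫ e) ≫ u := by
    rw [Category.assoc, ← hφ]
    simp only [e, AGF.conjBy, MonObj.comp_mul, GrpObj.comp_inv, MonObj.mul_comp, GrpObj.inv_comp, ← Category.assoc,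
      Category.comp_id, hw]
    rw [toUnit_unique (w ≫ toUnit T₁) (toUnit T₀), toUnit_unique (i₀ ≫ toUnit G) (toUnit T₀)]
  obtain ⟨-, hTs, -, hTq, -, hcl⟩ := torus_props (i₀ ≫ e) hT.2.2.1
  obtain ⟨⟨C, _, c, hc, hcc, hcs⟩, -⟩ := Groth.Agent.S3006.result _ G T₀ (i₀ ≫ e) hcl hT.2.2.1
  obtain ⟨v, hvm, hvs, hvf, hv⟩ := exists_centralizer_map hT i' (w ≫ φ.hom) hw' hc hc'
  exact ⟨C, inferInstance, c, v,
    ⟨hc.1, hc.2.1, T₀, inferInstance, i₀ ≫ e, isMaximalTorus_of_isMaxTorus hT, hc⟩, hvm, hvf, hvs, hv⟩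

end Groth.Agent.BorelLib.NA

end
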