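import Groth.Agent.BorelLib.CentralPreimageRel
import Groth.Agent.BorelLib.NonAffImage
import Groth.Agent.BorelLib.ImageField

/-!
# Inverse images of subgroups of maximal rank under homomorphisms with central kernel
-/

set_option autoImplicit false
set_option linter.style.haveILetI false
set_option linter.unusedSectionVars false
set_option backward.isDefEq.respectTransparency false
set_option maxHeartbeats 1000000
set_option synthInstance.maxHeartbeats 400000

universe u

open CategoryTheory CategoryTheory.Limits MonoidalCategory CartesianMonoidalCategory AlgebraicGeometry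
open scoped MonObj

noncomputable section

attribute [-instance] CategoryTheory.Hom.commGroup

namespace Groth.Agent.BorelLib.CentPre

section field

variable {k : Type u} [Field k] [IsAlgClosed k] {G G' : Over (Spec (CommRingCat.of k))} [GrpObj G] [GrpObj G']
  [Smooth G.hom] [QuasiCompact G.hom] [ConnectedSpace G.left] [Smooth G'.hom] [QuasiCompact G'.hom]
  [ConnectedSpace G'.left] {u : G ⟶ G'} [IsMonHom u] [Surjective u.left]

/-- A central kernel lies in every Cartan subgroup. -/
theorem exists_factor_cartan (hker : KerCentral u) {C : Over (Spec (CommRingCat.of k))} [GrpObj C] {c : C ⟶ G}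
    (hC : SGA3x.IsCartanOver k c) (X : Over (Spec (CommRingCat.of k))) (z : X ⟶ G) (hz : z ≫ u = 1) :
    ∃ y : X ⟶ C, y ≫ c = z := by
  obtain ⟨-, -, T, _, i, -, hc⟩ := hC
  exact (hc.2.2 X z).2 fun X' x h => hker X z hz X' x (h ≫ i)

/-- **The inverse image of a subgroup containing a Cartan subgroup.** -/
theorem preimage_facts (hker : KerCentral u) {H' P : Over (Spec (CommRingCat.of k))} [GrpObj H'] {h' : H' ⟶ G'}
    [IsMonHom h'] [Mono h'] [Smooth H'.hom] [QuasiCompact H'.hom] {C' : Over (Spec (CommRingCat.of k))} [GrpObj C']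
    (c' : C' ⟶ H') (hC' : SGA3x.IsCartanOver k (c' ≫ h')) {b : P ⟶ G} {v : P ⟶ H'} (hpb : IsPullback b v u h') :
    Smooth P.hom ∧ (∃ (C : Over (Spec (CommRingCat.of k))) (_ : GrpObj C) (c : C ⟶ P), SGA3x.IsCartanOver k (c ≫ b)) ∧
      (ConnectedSpace H'.left → ConnectedSpace P.left) := by
  haveI : IsSeparated G.hom := Groth.Agent.GrpField.isSeparated_grp (G := G)
  haveI : IsSeparated G'.hom := Groth.Agent.GrpField.isSeparated_grp (G := G')
  haveI : IsSeparated H'.hom := Groth.Agent.GrpField.isSeparated_grp (G := H')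
  haveI : QuasiCompact h'.left := by
    haveI : QuasiCompact (h'.left ≫ G'.hom) := by rw [Over.w h']; infer_instance
    exact QuasiCompact.of_comp h'.left G'.hom
  haveI : IsClosedImmersion h'.left := GrpHom.isClosedImmersion_of_mono h'
  obtain ⟨C, _, c, vC, hC, hvC, -, -, hvCeq⟩ := NA.exists_cartan_over (u := u) hC'
  obtain ⟨hCs, hCq, hCc, hCconn⟩ := NA.cartan_props hC
  haveI := hC.1; haveI := hCs; haveI := hCq; haveI := hCc; haveI := hCconn
  haveI : AlgebraicGeometry.IsReduced C.left := AlgSpLib.isReduced_of_smooth C.hom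
  obtain ⟨Q, _, q, w, hq, hqc, hqs, hqq, hw, hws, hwf, hwl, hwq, hQpts⟩ := NA.exists_preimage u h' fun y =>
    AVAmpleLib.exists_pt_lift u (y ≫ h')
  haveI := hq; haveI := hqc; haveI := hqs; haveI := hqq; haveI := hw; haveI := hws; haveI := hwf; haveI := hwl
  haveI : Mono q := DiagRep.mono_of_isClosedImmersion q hqc
  obtain ⟨l, hl⟩ := NA.exists_factor_of_pts c q fun a => (hQpts _).2 ⟨a ≫ vC ≫ c', by
    simp only [Category.assoc, hvCeq]⟩
  haveI : IsMonHom (l ≫ q) := by rw [hl]; infer_instance
  haveI : IsMonHom l := DiagRep.isMonHom_of_comp_mono l q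
  have hpbQ : IsPullback q w u h' := isPullback_of_ker_le hwq.symm fun X z hz => by
    obtain ⟨y, hy⟩ := exists_factor_cartan hker hC X z hz
    exact ⟨y ≫ l, by rw [Category.assoc, hl, hy]⟩
  let ψ : Q ≅ P := hpbQ.isoIsPullback _ _ hpb
  haveI : IsIso ψ.inv.left := ((Over.forget _).mapIso ψ).isIso_inv
  haveI : IsIso ψ.hom.left := ((Over.forget _).mapIso ψ).isIso_hom
  have hψ : ψ.hom ≫ b = q := hpbQ.isoIsPullback_hom_fst _ _ hpb
  refine ⟨by rw [← Over.w ψ.inv]; infer_instance, ⟨C, inferInstance, l ≫ ψ.hom, ?_⟩, fun hconn => ?_⟩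
  · rw [Category.assoc, hψ, hl]; exact hC
  · haveI := hconn
    obtain ⟨Q₀, _, j, hj, hjc, hjo, hjs, hjconn, hfac⟩ := exists_comp_open (G := Q)
    haveI := hj; haveI := hjc; haveI := hjo; haveI := hjs; haveI := hjconn
    haveI : QuasiCompact Q₀.hom := by rw [← Over.w j]; infer_instance
    haveI : AlgebraicGeometry.IsReduced H'.left := AlgSpLib.isReduced_of_smooth H'.hom
    haveI : IsSeparated Q.hom := Groth.Agent.GrpField.isSeparated_grp (G := Q)
    haveI : QuasiCompact (j ≫ w).left := by
      haveI : QuasiCompact ((j ≫ w).left ≫ H'.hom) := by rw [Over.w]; infer_instance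
      exact QuasiCompact.of_comp (j ≫ w).left H'.hom
    haveI : Surjective (j ≫ w).left := by
      have hcl : IsClosed (Set.range (j ≫ w).left) := GrpHom.isClosed_range (j ≫ w)
      have ho : IsOpen (Set.range (j ≫ w).left) := by
        rw [Over.comp_left, Scheme.Hom.comp_base, TopCat.coe_comp, Set.range_comp]
        exact w.left.isOpenMap _ j.left.isOpenEmbedding.isOpen_range
      exact ⟨fun x => (IsClopen.eq_univ (s := Set.range (j ≫ w).left) ⟨hcl, ho⟩ (Set.range_nonempty _)).ge
        (Set.mem_univ x)⟩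
    obtain ⟨l₀, hl₀⟩ := hfac C l
    haveI : Surjective j.left := SemiAbLib.surjective_of_pts j fun a => by
      obtain ⟨a', ha'⟩ := AVAmpleLib.exists_pt_lift (j ≫ w) (a ≫ w)
      have hk : (a * (a' ≫ j)⁻¹) ≫ q ≫ u = 1 := by
        rw [← hwq, ← Category.assoc, MonObj.mul_comp, GrpObj.inv_comp, Category.assoc, ha', mul_inv_cancel,
          MonObj.one_comp]
      obtain ⟨y, hy⟩ := exists_factor_cartan hker hC _ ((a * (a' ≫ j)⁻¹) ≫ q) (by rw [Category.assoc]; exact hk)
      have hy' : y ≫ l = a * (a' ≫ j)⁻¹ := by rw [← cancel_mono q, Category.assoc, hl, hy]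
      exact ⟨(y ≫ l₀) * a', by rw [MonObj.mul_comp, Category.assoc, hl₀, hy', inv_mul_cancel_right]⟩
    haveI : Surjective (j ≫ ψ.hom).left := by rw [Over.comp_left]; infer_instance
    exact (Scheme.Hom.surjective (j ≫ ψ.hom).left).connectedSpace (j ≫ ψ.hom).left.continuous

end field

/-- Surjectivity is read on the fibres. -/
theorem surjective_of_residue_fibres {S : Scheme.{u}} {X Y : Over S} (f : X ⟶ Y)
    (h : ∀ s : S, Surjective ((Over.pullback (S.fromSpecResidueField s)).map f).left) : Surjective f.left := by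
  refine ⟨fun y => ?_⟩
  obtain ⟨y', hy', -⟩ := Scheme.Pullback.exists_preimage_pullback (f := Y.hom)
    (g := S.fromSpecResidueField (Y.hom y)) y (IsLocalRing.closedPoint _)
    (S.fromSpecResidueField_apply (Y.hom y) _).symm
  obtain ⟨x, hx⟩ := (h (Y.hom y)).surj y'
  refine ⟨pullback.fst X.hom (S.fromSpecResidueField (Y.hom y)) x, ?_⟩
  rw [← Scheme.Hom.comp_apply, (isPullback_bc_map (S.fromSpecResidueField (Y.hom y)) f).w,
    Scheme.Hom.comp_apply]
  exact (congrArg _ hx).trans hy'

/-- A scheme with connected geometric fibre has connected fibre. -/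
theorem isConnected_fibre_of_geom {S : Scheme.{u}} (X : Over S) (s : S) [ConnectedSpace (Red.geomFibre s X).left] :
    _root_.IsConnected (X.hom.base ⁻¹' {s}) := by
  have h : X.hom.base ⁻¹' {s} = Set.range (pullback.fst X.hom (Red.geomPt s)) := by
    ext x
    constructor
    · intro hx
      obtain ⟨z, hz, -⟩ := Scheme.Pullback.exists_preimage_pullback (f := X.hom) (g := Red.geomPt s) x
        (IsLocalRing.closedPoint _) (by
          rw [show X.hom x = s from hx]
          exact (S.fromSpecResidueField_apply s _).symm)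
      exact ⟨z, hz⟩
    · rintro ⟨z, rfl⟩
      show X.hom (pullback.fst X.hom (Red.geomPt s) z) = s
      rw [← Scheme.Hom.comp_apply, pullback.condition, Scheme.Hom.comp_apply]
      exact S.fromSpecResidueField_apply s _
  rw [h]
  haveI : ConnectedSpace ↥(pullback X.hom (Red.geomPt s)) := ‹ConnectedSpace (Red.geomFibre s X).left›
  exact isConnected_range (pullback.fst X.hom (Red.geomPt s)).continuous

end Groth.Agent.BorelLib.CentPre

end
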