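import Groth.Agent.BorelLib.SelfNorm
import Groth.Agent.BorelLib.ImageField
import Groth.Agent.S2759

/-!
# Self-normalising subgroups over a base, from the geometric fibres
-/

set_option autoImplicit false
set_option linter.style.haveILetI false
set_option linter.unusedSectionVars false
set_option backward.isDefEq.respectTransparency false
set_option maxHeartbeats 1000000
set_option synthInstance.maxHeartbeats 400000

universe u

open CategoryTheory CategoryTheory.Limits MonoidalCategory CartesianMonoidalCategory AlgebraicGeometry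
open scoped MonObj

noncomputable section

attribute [-instance] CategoryTheory.Hom.commGroup

namespace Groth.Agent.BorelLib

variable {S : Scheme.{u}} {G B : Over S} [GrpObj G] [GrpObj B] {i : B ⟶ G}

/-- Normalised elements stay normalised after base change. -/
theorem normalizes_bc [IsMonHom i] {S' : Scheme.{u}} (t : S' ⟶ S) {N : Over S} (n : N ⟶ G)
    (hn : ∀ (X' : Over S) (x : X' ⟶ N) (h : X' ⟶ B),
      (∃ h' : X' ⟶ B, (x ≫ n) * (h ≫ i) * (x ≫ n)⁻¹ = h' ≫ i) ∧
      (∃ h' : X' ⟶ B, (x ≫ n)⁻¹ * (h ≫ i) * (x ≫ n) = h' ≫ i))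
    (X₁ : Over S') (x₁ : X₁ ⟶ Red.bc t N) (h₁ : X₁ ⟶ Red.bc t B) :
    (∃ h' : X₁ ⟶ Red.bc t B, (x₁ ≫ (Over.pullback t).map n) * (h₁ ≫ (Over.pullback t).map i) *
      (x₁ ≫ (Over.pullback t).map n)⁻¹ = h' ≫ (Over.pullback t).map i) ∧
    (∃ h' : X₁ ⟶ Red.bc t B, (x₁ ≫ (Over.pullback t).map n)⁻¹ * (h₁ ≫ (Over.pullback t).map i) *
      (x₁ ≫ (Over.pullback t).map n) = h' ≫ (Over.pullback t).map i) := by
  obtain ⟨x, rfl⟩ := ((Over.mapPullbackAdj t).homEquiv X₁ N).surjective x₁
  obtain ⟨h, rfl⟩ := ((Over.mapPullbackAdj t).homEquiv X₁ B).surjective h₁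
  have h1 : (Over.mapPullbackAdj t).homEquiv X₁ N x ≫ (Over.pullback t).map n =
      PowEtCentralLib.adjEquiv t X₁ (x ≫ n) :=
    (Adjunction.homEquiv_naturality_right (Over.mapPullbackAdj t) x n).symm
  have h2 : ∀ m, (Over.mapPullbackAdj t).homEquiv X₁ B m ≫ (Over.pullback t).map i =
      PowEtCentralLib.adjEquiv t X₁ (m ≫ i) := fun m =>
    (Adjunction.homEquiv_naturality_right (Over.mapPullbackAdj t) m i).symm
  obtain ⟨⟨a, ha⟩, ⟨b, hb⟩⟩ := hn _ x h
  exact ⟨⟨(Over.mapPullbackAdj t).homEquiv X₁ B a, by rw [h1, h2, h2, ← map_inv, ← map_mul, ← map_mul, ha]⟩,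
    ⟨(Over.mapPullbackAdj t).homEquiv X₁ B b, by rw [h1, h2, h2, ← map_inv, ← map_mul, ← map_mul, hb]⟩⟩

/-- An isomorphism on the geometric fibre is one on the fibre. -/
theorem isIso_fibre_of_geom {X Y : Over S} (f : X ⟶ Y) (s : S)
    [IsIso ((Over.pullback (Red.geomPt s)).map f)] : IsIso (pullback.snd f.left (Y.hom.fiberι s)) := by
  let r := S.fromSpecResidueField s
  let d : Spec (CommRingCat.of (AlgebraicClosure (S.residueField s))) ⟶ Spec (S.residueField s) :=
    Spec.map (CommRingCat.ofHom (algebraMap (S.residueField s) (AlgebraicClosure (S.residueField s))))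
  haveI : Flat d := by
    show Flat (Spec.map _)
    rw [HasRingHomProperty.Spec_iff (P := @Flat)]
    exact RingHom.flat_algebraMap_iff.2 inferInstance
  haveI : Surjective d := ⟨fun y => ⟨IsLocalRing.closedPoint _,
    @Subsingleton.elim _ (inferInstanceAs (Subsingleton (PrimeSpectrum (S.residueField s)))) _ _⟩⟩
  haveI : QuasiCompact d := inferInstance
  let g := (Over.pullback r).map f
  haveI hg : IsIso ((Over.pullback d).map g) := by
    haveI : IsIso ((Over.pullback d ).map ((Over.pullback r).map f)) := by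
      have e := NatIso.naturality_1 (Over.pullbackComp d r) f
      rw [← Functor.comp_map]
      have : IsIso ((Over.pullback (d ≫ r)).map f) := inferInstanceAs (IsIso ((Over.pullback (Red.geomPt s)).map f))
      rw [← NatIso.naturality_1 (Over.pullbackComp d r) f]
      infer_instance
    exact this
  haveI hgl : IsIso ((Over.pullback d).map g).left := (Over.forget _).map_isIso ((Over.pullback d).map g)
  have hiso : IsIso g.left := MorphismProperty.of_isPullback_of_descendsAlong
    (P := MorphismProperty.isomorphisms Scheme.{u}) (Q := @Surjective ⊓ @Flat ⊓ @QuasiCompact)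
    (isPullback_bc_map d g).flip
    ⟨⟨inferInstanceAs (Surjective (pullback.fst _ d)), inferInstanceAs (Flat (pullback.fst _ d))⟩,
      inferInstanceAs (QuasiCompact (pullback.fst _ d))⟩ hgl
  have hsq := isPullback_bc_map r f
  have e : hsq.isoPullback.hom ≫ pullback.snd f.left (pullback.fst Y.hom r) = g.left :=
    hsq.isoPullback_hom_snd
  haveI : IsIso (hsq.isoPullback.hom ≫ pullback.snd f.left (pullback.fst Y.hom r)) := by rw [e]; exact hiso
  exact IsIso.of_isIso_comp_left hsq.isoPullback.hom (pullback.snd f.left (pullback.fst Y.hom r))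

/-- A smooth subgroup which is its own normaliser on all geometric fibres is closed and its own normaliser. -/
theorem isNormalizerOf_self_of_geomFibres [Smooth G.hom] [QuasiCompact G.hom] [QuasiSeparated G.hom] [IsMonHom i] [Mono i]
    [Smooth B.hom] [QuasiCompact B.hom] [QuasiSeparated B.hom]
    (hconn : ∀ s : S, ConnectedSpace ↥(Red.geomFibre s B).left)
    (hfib : ∀ s : S, Red.IsNormalizerOf (G := Red.geomFibre s G) (H := Red.geomFibre s B) (Z := Red.geomFibre s B)
      ((Over.pullback (Red.geomPt s)).map i) ((Over.pullback (Red.geomPt s)).map i)) :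
    Red.IsNormalizerOf i i ∧ IsClosedImmersion i.left := by
  obtain ⟨N, _, n, hN, hnc, hnf⟩ := Groth.Agent.S5260.result G B (fun s => by
    haveI := hconn s
    let p : (Red.geomFibre s B).left ⟶ pullback B.hom (S.fromSpecResidueField s) :=
      pullback.lift (pullback.fst _ _) (pullback.snd B.hom (Red.geomPt s) ≫ Spec.map (CommRingCat.ofHom
        (algebraMap (S.residueField s) (AlgebraicClosure (S.residueField s))))) (by
        rw [Category.assoc]; exact pullback.condition)
    let d := Spec.map (CommRingCat.ofHom (algebraMap (S.residueField s) (AlgebraicClosure (S.residueField s))))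
    haveI : Surjective d := ⟨fun y => ⟨IsLocalRing.closedPoint _,
      @Subsingleton.elim _ (inferInstanceAs (Subsingleton (PrimeSpectrum (S.residueField s)))) _ _⟩⟩
    have hp : IsPullback p (pullback.snd B.hom (Red.geomPt s)) (pullback.snd B.hom (S.fromSpecResidueField s)) d :=
      IsPullback.of_right (by
        rw [show p ≫ pullback.fst B.hom (S.fromSpecResidueField s) = pullback.fst B.hom (Red.geomPt s) from
          pullback.lift_fst _ _ _]
        exact IsPullback.of_hasPullback B.hom (d ≫ S.fromSpecResidueField s)) (pullback.lift_snd _ _ _)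
        (IsPullback.of_hasPullback B.hom (S.fromSpecResidueField s))
    haveI : Surjective p := MorphismProperty.of_isPullback (P := @Surjective) hp.flip inferInstance
    exact (Scheme.Hom.surjective p).connectedSpace p.continuous) i
  haveI := hN.1; haveI := hN.2.1; haveI := hnc; haveI := hnf
  have hself : ∀ (X : Over S) (z : X ⟶ B) (X' : Over S) (x : X' ⟶ X) (h : X' ⟶ B),
      (∃ h' : X' ⟶ B, (x ≫ z ≫ i) * (h ≫ i) * (x ≫ z ≫ i)⁻¹ = h' ≫ i) ∧
      (∃ h' : X' ⟶ B, (x ≫ z ≫ i)⁻¹ * (h ≫ i) * (x ≫ z ≫ i) = h' ≫ i) := fun X z X' x h =>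
    ⟨⟨(x ≫ z) * h * (x ≫ z)⁻¹, by simp only [MonObj.mul_comp, GrpObj.inv_comp, Category.assoc]⟩,
      ⟨(x ≫ z)⁻¹ * h * (x ≫ z), by simp only [MonObj.mul_comp, GrpObj.inv_comp, Category.assoc]⟩⟩
  obtain ⟨m, hm⟩ := (hN.2.2 B i).2 fun X' x h => by simpa using hself B (𝟙 B) X' x h
  haveI : LocallyOfFinitePresentation N.hom := by rw [← Over.w n]; infer_instance
  have hgeom : ∀ s : S, IsIso ((Over.pullback (Red.geomPt s)).map m) := by
    intro s
    haveI := mono_bc (Red.geomPt s) n
    haveI := mono_bc (Red.geomPt s) i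
    obtain ⟨z, hz⟩ := ((hfib s).2.2 (Red.geomFibre s N) ((Over.pullback (Red.geomPt s)).map n)).2
      (normalizes_bc (Red.geomPt s) n fun X' x h => (hN.2.2 N n).1 ⟨𝟙 N, Category.id_comp n⟩ X' x h)
    refine ⟨z, (cancel_mono ((Over.pullback (Red.geomPt s)).map i)).1 ?_,
      (cancel_mono ((Over.pullback (Red.geomPt s)).map n)).1 ?_⟩
    · rw [Category.assoc, hz, ← Functor.map_comp, hm, Category.id_comp]
    · rw [Category.assoc, ← Functor.map_comp, hm, hz, Category.id_comp]
  haveI : IsIso m.left := (Groth.Agent.S2759.result N.hom B.hom m.left (Over.w m)).2.2 fun s => by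
    haveI := hgeom s
    exact isIso_fibre_of_geom m s
  haveI : IsIso ((Over.forget S).map m) := ‹IsIso m.left›
  haveI : IsIso m := isIso_of_reflects_iso m (Over.forget S)
  refine ⟨⟨inferInstance, inferInstance, fun X g => ⟨?_, fun hg => ?_⟩⟩, ?_⟩
  · rintro ⟨z, rfl⟩ X' x h
    exact hself X z X' x h
  · obtain ⟨z, hz⟩ := (hN.2.2 X g).2 hg
    exact ⟨z ≫ CategoryTheory.inv m, by rw [← hm, Category.assoc, IsIso.inv_hom_id_assoc, hz]⟩
  · rw [← hm, Over.comp_left]
    infer_instance

end Groth.Agent.BorelLib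

end
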