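import Groth.Agent.BorelLib.CentralPreimage
import Groth.Agent.BorelLib.SelfNormRel

/-!
# Homomorphisms with central kernel over a base
-/

set_option autoImplicit false
set_option linter.style.haveILetI false
set_option linter.unusedSectionVars false
set_option backward.isDefEq.respectTransparency false
set_option maxHeartbeats 1000000
set_option synthInstance.maxHeartbeats 400000

universe u

open CategoryTheory CategoryTheory.Limits MonoidalCategory CartesianMonoidalCategory AlgebraicGeometry
open scoped MonObj

noncomputable section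

attribute [-instance] CategoryTheory.Hom.commGroup

namespace Groth.Agent.BorelLib.CentPre

variable {S : Scheme.{u}} {G G' : Over S} [GrpObj G] [GrpObj G']

/-- Centrality of the kernel is stable under base change. -/
theorem kerCentral_bc {S' : Scheme.{u}} (t : S' ⟶ S) {u : G ⟶ G'} [IsMonHom u] (hker : KerCentral u) :
    KerCentral (G := Red.bc t G) (G' := Red.bc t G') ((Over.pullback t).map u) := by
  intro X₁ z₁ hz X₂ x g₁
  obtain ⟨z, rfl⟩ := (PowEtCentralLib.adjEquiv t X₁ (G := G)).surjective z₁
  obtain ⟨g, rfl⟩ := (PowEtCentralLib.adjEquiv t X₂ (G := G)).surjective g₁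
  have h1 : PowEtCentralLib.adjEquiv t X₁ (z ≫ u) = PowEtCentralLib.adjEquiv t X₁ z ≫ (Over.pullback t).map u :=
    Adjunction.homEquiv_naturality_right (Over.mapPullbackAdj t) z u
  have hz0 : z ≫ u = 1 := (PowEtCentralLib.adjEquiv t X₁ (G := G')).injective (by rw [h1, hz, map_one])
  have h2 : x ≫ PowEtCentralLib.adjEquiv t X₁ z = PowEtCentralLib.adjEquiv t X₂ ((Over.map t).map x ≫ z) :=
    (Adjunction.homEquiv_naturality_left (Over.mapPullbackAdj t) x z).symm
  rw [h2, ← map_mul, ← map_mul, hker _ z hz0]

/-- Smoothness is read on geometric fibres. -/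
theorem smooth_of_geom_fibres (X : Over S) [Flat X.hom] [LocallyOfFinitePresentation X.hom]
    (h : ∀ s : S, Smooth (Red.geomFibre s X).hom) : Smooth X.hom := by
  refine Smooth.of_smooth_fiberToSpecResidueField X.hom fun s => ?_
  let d := Spec.map (CommRingCat.ofHom (algebraMap (S.residueField s) (AlgebraicClosure (S.residueField s))))
  haveI : Flat d := by
    show Flat (Spec.map _)
    rw [HasRingHomProperty.Spec_iff (P := @Flat)]
    exact RingHom.flat_algebraMap_iff.2 inferInstance
  haveI : Surjective d := ⟨fun y => ⟨IsLocalRing.closedPoint _,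
    @Subsingleton.elim _ (inferInstanceAs (Subsingleton (PrimeSpectrum (S.residueField s)))) _ _⟩⟩
  haveI : QuasiCompact d := inferInstance
  let p : (Red.geomFibre s X).left ⟶ pullback X.hom (S.fromSpecResidueField s) :=
    pullback.lift (pullback.fst _ _) (pullback.snd X.hom (Red.geomPt s) ≫ d) (by
      rw [Category.assoc]; exact pullback.condition)
  have hp : IsPullback p (pullback.snd X.hom (Red.geomPt s)) (pullback.snd X.hom (S.fromSpecResidueField s)) d :=
    IsPullback.of_right (by
      rw [show p ≫ pullback.fst X.hom (S.fromSpecResidueField s) = pullback.fst X.hom (Red.geomPt s) from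
        pullback.lift_fst _ _ _]
      exact IsPullback.of_hasPullback X.hom (d ≫ S.fromSpecResidueField s)) (pullback.lift_snd _ _ _)
      (IsPullback.of_hasPullback X.hom (S.fromSpecResidueField s))
  exact MorphismProperty.of_isPullback_of_descendsAlong
    (P := @Smooth) (Q := @Surjective ⊓ @Flat ⊓ @QuasiCompact) hp.flip
    ⟨⟨‹Surjective d›, ‹Flat d›⟩, ‹QuasiCompact d›⟩ (h s)

/-- A homomorphism locally of finite presentation groups is so. -/
theorem lfp_left [Smooth G.hom] [Smooth G'.hom] (u : G ⟶ G') : LocallyOfFinitePresentation u.left := by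
  haveI : LocallyOfFinitePresentation (u.left ≫ G'.hom) := by rw [Over.w u]; infer_instance
  exact AlgSpLib.lfp_of_comp_lft u.left G'.hom

end Groth.Agent.BorelLib.CentPre

end
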