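import Groth.Agent.BorelLib.Dense
import Groth.Agent.HopfFFLib.Stab.Chevalley

/-!
# Lines with given stabiliser; fixed points on the quotient by a Borel subgroup
-/

set_option autoImplicit false
set_option linter.style.haveILetI false

noncomputable section

universe u

open WithConv
open scoped TensorProduct

namespace Groth.Agent.BorelLib

attribute [local instance] pTop pTopTensor

variable {k : Type u} [Field k] {A : Type u} [CommRing A] [HopfAlgebra k A]

lemma mem_span_singleton_iff_forall {V : Type u} [AddCommGroup V] [Module k V] {w y : V} (hw : w ≠ 0) :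
    y ∈ k ∙ w ↔ ∀ φ ψ : V →ₗ[k] k, φ y * ψ w = φ w * ψ y := by
  constructor
  · intro h φ ψ
    obtain ⟨c, rfl⟩ := Submodule.mem_span_singleton.1 h
    simp only [map_smul, smul_eq_mul]; ring
  · intro h
    obtain ⟨ψ, hψ⟩ := ComodLib.exists_dual_ne (k := k) hw
    refine Submodule.mem_span_singleton.2 ⟨ψ y / ψ w, ?_⟩
    refine sub_eq_zero.1 ((Module.forall_dual_apply_eq_zero_iff k _).1 fun φ => ?_)
    have := h φ ψ
    rw [map_sub, map_smul, smul_eq_mul, div_mul_eq_mul_div, sub_eq_zero, div_eq_iff hψ]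
    linear_combination -this

variable [IsAlgClosed k] [Algebra.FiniteType k A]

lemma isHopfIdeal_vanish {S : Subgroup (Pt k A)} (hS : IsClosed (S : Set (Pt k A))) :
    (vanish (k := k) (S : Set (Pt k A))).IsHopfIdeal k := by
  set I := vanish (k := k) (S : Set (Pt k A))
  let mk : A →ₐ[k] A ⧸ I := Ideal.Quotient.mkₐ k I
  haveI hft : Algebra.FiniteType k (A ⧸ I) := Algebra.FiniteType.of_surjective mk Ideal.Quotient.mk_surjective
  have hsurj : Function.Surjective mk := Ideal.Quotient.mk_surjective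
  have hmem : ∀ x : Pt k (A ⧸ I), pull mk x ∈ S := fun x => by
    refine isClosed_iff.1 hS _ fun a ha => ?_
    show x.ofConv (mk a) = 0
    rw [show mk a = 0 from Ideal.Quotient.eq_zero_iff_mem.2 ha, map_zero]
  haveI hred : IsReduced (A ⧸ I) := by
    refine ⟨fun q hq => ?_⟩
    obtain ⟨a, rfl⟩ := hsurj q
    refine Ideal.Quotient.eq_zero_iff_mem.2 fun s hs => ?_
    exact (hq.map ((Ideal.Quotient.liftₐ I s.ofConv fun a ha => ha s hs) : A ⧸ I →ₐ[k] k)).eq_zero
  haveI hco : (I.restrictScalars k).IsCoideal := by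
    refine ⟨fun a ha => by simpa [AlgHom.convOne_apply] using ha 1 S.one_mem, fun a ha => ?_⟩
    let m : A ⊗[k] A →ₐ[k] (A ⧸ I) ⊗[k] (A ⧸ I) := Algebra.TensorProduct.map mk mk
    have h0 : m (CoalgebraStruct.comul (R := k) a) = 0 := eq_zero_of_forall_pair fun x y => by
      have e : ∀ t : A ⊗[k] A, (pair x y).ofConv (m t) = (pair (pull mk x) (pull mk y)).ofConv t := fun t => by
        induction t using TensorProduct.induction_on with
        | zero => simp
        | add a c ha hc => simp only [map_add, ha, hc]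
        | tmul a c => simp [m]
      rw [e, ← mul_ofConv]
      exact ha _ (S.mul_mem (hmem x) (hmem y))
    exact h0
  refine @Ideal.IsHopfIdeal.mk _ _ _ _ _ _ hco ?_
  intro a ha s hs
  exact ha s⁻¹ (inv_mem hs)

/-- **Chevalley**: a closed subgroup is the stabiliser of a line. -/
theorem exists_line_rep {S : Subgroup (Pt k A)} (hS : IsClosed (S : Set (Pt k A))) :
    ∃ (V : Type u) (_ : AddCommGroup V) (_ : Module k V) (_ : FiniteDimensional k V)
      (r : RegRep (⊤ : Subgroup (Pt k A)) V) (v : V), v ≠ 0 ∧ r.lineStab v = S := by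
  haveI := isHopfIdeal_vanish hS
  obtain ⟨V, _, _, _, hV, v, hv, hrep⟩ := HopfFF.exists_line (k := k) (vanish (k := k) (S : Set (Pt k A)))
  let r : RegRep (⊤ : Subgroup (Pt k A)) V :=
    { ρ := fun g => LieKolchinLib.rep V g
      map_one := map_one _
      map_mul := fun g _ h _ => map_mul _ g h
      reg := fun φ v => ⟨ComodLib.coeff (A := A) φ v, fun g => LieKolchinLib.apply_rep φ g v⟩ }
  refine ⟨V, _, _, hV, r, v, hv, SetLike.ext fun g => ?_⟩
  have h1 : g ∈ S ↔ ∀ a ∈ vanish (k := k) (S : Set (Pt k A)), g.ofConv a = 0 :=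
    ⟨fun hg a ha => ha g hg, fun h => isClosed_iff.1 hS g h⟩
  rw [h1, hrep k g.ofConv]
  show (g ∈ (⊤ : Subgroup (Pt k A)) ∧ ∃ c : k, r.ρ g v = c • v) ↔ _
  simp only [Subgroup.mem_top, true_and]
  refine exists_congr fun c => ?_
  rw [← (TensorProduct.rid k V).injective.eq_iff]
  simp only [TensorProduct.rid_tmul]
  exact Iff.rfl

variable {V : Type u} [AddCommGroup V] [Module k V] [FiniteDimensional k V] {K : Subgroup (Pt k A)}

/-- The cone over an orbit with complete stabiliser quotient is closed. -/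
lemma RegRep.isClosed_cone_of_complete (r : RegRep K V) (hKc : IsClosed (K : Set (Pt k A))) {B : Subgroup (Pt k A)}
    (hc : Complete K B) {v : V} (hv : v ≠ 0) (hB : B ≤ r.lineStab v) : IsClosed (r.cone v) := by
  let Y : Set (Pt k (VPoly k V ⊗[k] A)) := {z | sndP z ∈ K ∧ ∀ φ ψ : V →ₗ[k] k,
    φ (pv (fstP z)) * ψ (r.ρ (sndP z) v) = φ (r.ρ (sndP z) v) * ψ (pv (fstP z))}
  have hY : IsClosed Y := by
    have e : Y = (sndP ⁻¹' (K : Set (Pt k A))) ∩ ⋂ (φ : V →ₗ[k] k) (ψ : V →ₗ[k] k),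
        {z | φ (pv (fstP z)) * ψ (r.ρ (sndP z) v) = φ (r.ρ (sndP z) v) * ψ (pv (fstP z))} := by
      ext z; simp [Y]
    rw [e]
    exact (hKc.preimage IsMor.sndP.continuous).inter (isClosed_iInter fun φ => isClosed_iInter fun ψ =>
      (((isReg_pv φ).comp IsMor.fstP).mul ((r.reg ψ v).comp IsMor.sndP)).isClosed_eq
        (((r.reg φ v).comp IsMor.sndP).mul ((isReg_pv ψ).comp IsMor.fstP)))
  have e : fstP '' Y = r.cone v := by
    ext y
    constructor
    · rintro ⟨z, ⟨hz, hz'⟩, rfl⟩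
      obtain ⟨c, hc⟩ := Submodule.mem_span_singleton.1
        ((mem_span_singleton_iff_forall (r.apply_ne_zero hz hv)).2 hz')
      exact ⟨sndP z, hz, c, hc.symm⟩
    · rintro ⟨g, hg, c, hc⟩
      refine ⟨pair y g, ⟨by simpa using hg, fun φ ψ => ?_⟩, fstP_pair _ _⟩
      simp only [fstP_pair, sndP_pair, hc, map_smul, smul_eq_mul]; ring
  rw [← e]
  refine hc (VPoly k V) Y hY (fun z hz => hz.1) fun z hz b hb => ?_
  obtain ⟨hbK, c, hbc⟩ := hB hb
  refine ⟨by simpa using K.mul_mem hz.1 hbK, fun φ ψ => ?_⟩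
  simp only [fstP_pair, sndP_pair, r.mul_apply hz.1 hbK, hbc, map_smul, smul_eq_mul]
  linear_combination c * hz.2 φ ψ

/-- **An element commuting with a connected solvable group lies with it in a Borel subgroup.** -/
theorem exists_bor_commute [IsReduced A] (hconn : IsPreconnected (Set.univ : Set (Pt k A))) {H : Subgroup (Pt k A)}
    (hH : IsPreconnected (H : Set (Pt k A))) (hs : IsSol H) {c : Pt k A} (hc : ∀ h ∈ H, c * h = h * c) :
    ∃ B : Subgroup (Pt k A), IsBor ⊤ B ∧ H ≤ B ∧ c ∈ B := by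
  have hKc : IsClosed ((⊤ : Subgroup (Pt k A)) : Set (Pt k A)) := by rw [Subgroup.coe_top]; exact isClosed_univ
  have hK : IsPreconnected ((⊤ : Subgroup (Pt k A)) : Set (Pt k A)) := by rwa [Subgroup.coe_top]
  obtain ⟨B, hB, hcomp, -⟩ := IsBor.exists_conj_universal hKc hK
  obtain ⟨V, _, _, _, r, v, hv, hst⟩ := exists_line_rep hB.closed
  have hC := r.isClosed_cone_of_complete hKc hcomp hv hst.ge
  let Z : Set (Pt k (VPoly k V)) := r.cone v ∩ ⋂ (φ : V →ₗ[k] k) (ψ : V →ₗ[k] k),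
    {y | φ (r.ρ c (pv y)) * ψ (pv y) = φ (pv y) * ψ (r.ρ c (pv y))}
  have hZ : IsClosed Z := hC.inter (isClosed_iInter fun φ => isClosed_iInter fun ψ =>
    ((isReg_pv (φ ∘ₗ r.ρ c)).mul (isReg_pv ψ)).isClosed_eq ((isReg_pv φ).mul (isReg_pv (ψ ∘ₗ r.ρ c))))
  have hmemZ : ∀ y, y ∈ Z ↔ y ∈ r.cone v ∧ ∀ φ ψ : V →ₗ[k] k,
      φ (r.ρ c (pv y)) * ψ (pv y) = φ (pv y) * ψ (r.ρ c (pv y)) := fun y => by simp [Z]
  obtain ⟨a, ha⟩ := exists_conj_mem_bor hconn hB c
  obtain ⟨y, hy, hyne, hwt⟩ := r.exists_weight_in_cone le_top hH hs hZ (fun s _ y hy => by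
      rw [hmemZ] at hy ⊢
      refine ⟨r.cone_smul hy.1 s, fun φ ψ => ?_⟩
      simp only [pv_vp, map_smul, smul_eq_mul]
      linear_combination s * s * hy.2 φ ψ)
    (fun h hh y hy => by
      rw [hmemZ] at hy ⊢
      refine ⟨r.cone_stable trivial hy.1, fun φ ψ => ?_⟩
      have := hy.2 (φ ∘ₗ r.ρ h) (ψ ∘ₗ r.ρ h)
      simp only [pv_vp, LinearMap.comp_apply] at this ⊢
      rwa [← r.mul_apply trivial trivial, ← hc h hh, r.mul_apply trivial trivial] at this)
    ⟨vp (r.ρ a v), by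
      rw [hmemZ]
      refine ⟨⟨a, trivial, 1, by rw [pv_vp, one_smul]⟩, fun φ ψ => ?_⟩
      obtain ⟨-, d, hd⟩ := hst.ge ha
      rw [pv_vp, ← r.mul_apply trivial trivial, show c * a = a * (a⁻¹ * c * a) by group,
        r.mul_apply trivial trivial, hd]
      simp only [map_smul, smul_eq_mul]; ring, by rw [pv_vp]; exact r.apply_ne_zero trivial hv⟩
  obtain ⟨⟨g, -, s, hgs⟩, hy2⟩ := (hmemZ y).1 hy
  have hs0 : s ≠ 0 := fun h => hyne (by rw [hgs, h, zero_smul])
  have key : ∀ x : Pt k A, (∃ d : k, r.ρ x (pv y) = d • pv y) → x ∈ conjSub g B := by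
    rintro x ⟨d, hd⟩
    rw [mem_conjSub, ← hst]
    refine ⟨trivial, d, ?_⟩
    rw [hgs, map_smul, smul_smul, mul_comm d s, ← smul_smul] at hd
    have hd' := smul_right_injective V hs0 hd
    rw [r.mul_apply trivial trivial, r.mul_apply trivial trivial, hd', map_smul, r.inv_apply trivial]
  refine ⟨conjSub g B, hB.conjSub trivial, fun h hh => key h (hwt h hh), key c ?_⟩
  obtain ⟨d, hd⟩ := Submodule.mem_span_singleton.1 ((mem_span_singleton_iff_forall hyne).2 hy2)
  exact ⟨d, hd.symm⟩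

end Groth.Agent.BorelLib
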