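import Groth.Agent.BorelLib.Cent

/-!
# Borel subgroups are their own normalisers
-/

set_option autoImplicit false
set_option linter.style.haveILetI false

noncomputable section

universe u

open WithConv
open scoped TensorProduct commutatorElement

namespace Groth.Agent.BorelLib

attribute [local instance] pTop pTopTensor

variable {k : Type u} [Field k] [IsAlgClosed k] {A : Type u} [CommRing A] [HopfAlgebra k A] [Algebra.FiniteType k A]
  {K B : Subgroup (Pt k A)}

omit [Algebra.FiniteType k A] in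
/-- A torus has no unipotent elements. -/
lemma IsTor.eq_one_of_unip {T : Subgroup (Pt k A)} (hT : IsTor T) {V : Type u} [AddCommGroup V] [Module k V]
    [FiniteDimensional k V] (r : RegRep (⊤ : Subgroup (Pt k A)) V) (hr : ∀ g, r.ρ g = 1 → g = 1) {u : Pt k A}
    (hu : u ∈ T) {N : ℕ} (hN : (r.ρ u - 1) ^ N = 0) : u = 1 := by
  obtain ⟨ι, _, b, χ, -, hb⟩ := hT.exists_weight_basis r
  refine hr u (b.ext fun i => ?_)
  have hev : ∀ n : ℕ, ((r.ρ u - 1) ^ n) (b i) = (χ i u - 1) ^ n • b i := by
    intro n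
    induction n with
    | zero => simp
    | succ n ih =>
      rw [pow_succ', Module.End.mul_apply, ih, map_smul, LinearMap.sub_apply, hb i u hu, Module.End.one_apply,
        smul_sub, smul_smul, pow_succ, mul_sub, mul_one, sub_smul]
  have h0 := hev N
  rw [hN, LinearMap.zero_apply, eq_comm, smul_eq_zero] at h0
  rcases h0 with h0 | h0
  · rw [hb i u hu, sub_eq_zero.1 (eq_zero_of_pow_eq_zero h0), one_smul, Module.End.one_apply]
  · exact absurd h0 (b.ne_zero i)

/-- A flag whose unipotent part is unipotent in a given representation. -/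
theorem exists_flag_unip (hB : IsPreconnected (B : Set (Pt k A))) (hs : IsSol B) {V : Type u} [AddCommGroup V]
    [Module k V] [FiniteDimensional k V] (r : RegRep (⊤ : Subgroup (Pt k A)) V) :
    ∃ D : FlagRep B, (∀ u ∈ D.U 1, ∃ N : ℕ, (r.ρ u - 1) ^ N = 0) ∧
      ∀ T : Subgroup (Pt k A), IsTor T → ∀ u ∈ T, u ∈ D.U 1 → u = 1 := by
  obtain ⟨W, _, _, _, rW, hrW⟩ := exists_faithful (k := k) (A := A)
  have hfaith : ∀ g, (rW.prod r).ρ g = 1 → g = 1 := fun g hg => hrW g (LinearMap.ext fun x => by
    have := congrArg (fun f : Module.End k (W × V) => (f (x, 0)).1) hg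
    simpa [RegRep.prod] using this)
  obtain ⟨D, e, he⟩ := exists_flagRep_of (rW.prod r) hfaith hB hs
  obtain ⟨N, hN⟩ := D.Ftop
  have hz : ∀ u ∈ D.U 1, ((rW.prod r).ρ u - 1) ^ N = 0 := by
    intro u hu
    have hpow : ∀ m : ℕ, (D.r.ρ u - 1) ^ m ∈ D.low m := by
      intro m
      induction m with
      | zero => exact fun j w hw => by simpa using hw
      | succ m ih =>
        rw [pow_succ]
        have := D.low_mul ih hu.2
        rwa [add_comm 1 m] at this
    have hint : ∀ (m : ℕ) (z : D.V), e (((D.r.ρ u - 1) ^ m) z) = (((rW.prod r).ρ u - 1) ^ m) (e z) := by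
      intro m
      induction m with
      | zero => intro z; simp
      | succ m ih =>
        intro z
        rw [pow_succ, pow_succ, Module.End.mul_apply, Module.End.mul_apply, ih]
        congr 1
        rw [LinearMap.sub_apply, LinearMap.sub_apply, map_sub, he, Module.End.one_apply, Module.End.one_apply]
    refine LinearMap.ext fun w => ?_
    have h0 : ((D.r.ρ u - 1) ^ N) (e.symm w) = 0 := by
      have := hpow N N (e.symm w) (hN ▸ Submodule.mem_top)
      rwa [Nat.sub_self, D.F_zero, Submodule.mem_bot] at this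
    have := hint N (e.symm w)
    rw [h0, map_zero, e.apply_symm_apply] at this
    exact this.symm
  refine ⟨D, fun u hu => ⟨N, LinearMap.ext fun w => ?_⟩, fun T hT u huT hu =>
    hT.eq_one_of_unip (rW.prod r) hfaith huT (hz u hu)⟩
  have hsnd : ∀ (m : ℕ) (z : W × V), ((((rW.prod r).ρ u - 1) ^ m) z).2 = ((r.ρ u - 1) ^ m) z.2 := by
    intro m
    induction m with
    | zero => intro z; simp
    | succ m ih =>
      intro z
      rw [pow_succ, pow_succ, Module.End.mul_apply, Module.End.mul_apply, ih]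
      congr 1
  have := hsnd N (0, w)
  rw [hz u hu] at this
  exact this.symm

/-- A connected closed subgroup of a torus is a torus. -/
theorem IsTor.of_le {T S : Subgroup (Pt k A)} (hT : IsTor T) (hle : S ≤ T) (hSc : IsClosed (S : Set (Pt k A)))
    (hS : IsPreconnected (S : Set (Pt k A))) : IsTor S := by
  obtain ⟨V, _, _, _, r, -⟩ := exists_faithful (k := k) (A := A)
  obtain ⟨D, -, hD⟩ := exists_flag_unip hS (hT.isSol.mono hle) r
  obtain ⟨S', hS'S, hS', -, hdec, -⟩ := D.exists_torus_decomp hSc hS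
  have : S = S' := by
    refine le_antisymm (fun g hg => ?_) hS'S
    obtain ⟨s, hs, hu⟩ := hdec g hg
    have h1 := hD T hT _ (T.mul_mem (T.inv_mem (hle (hS'S hs))) (hle hg)) hu
    rw [inv_mul_eq_one] at h1
    exact h1 ▸ hs
  exact this ▸ hS'

/-- The neutral component of the normaliser of a Borel subgroup is the Borel subgroup. -/
theorem IsBor.neut_normalizer (hKc : IsClosed (K : Set (Pt k A))) (hB : IsBor K B) :
    neut (K ⊓ normSub B) = B := by
  have hBN : B ≤ K ⊓ normSub B := fun b hb => ⟨hB.le hb, conjSub_eq_self hb⟩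
  have hBM := le_neut hB.conn hBN
  refine le_antisymm (fun x hx => ?_) hBM
  have hBorM : IsBor (neut (K ⊓ normSub B)) B :=
    ⟨hBM, hB.closed, hB.conn, hB.sol, fun H hH hHc hHconn hHs hle =>
      hB.maximal H (hH.trans ((neut_le _).trans inf_le_left)) hHc hHconn hHs hle⟩
  obtain ⟨a, ha, hax⟩ := hBorM.exists_conj_mem (isClosed_neut (hKc.inter (isClosed_normSub hB.closed)))
    (isPreconnected_neut _) hx
  have hn : BorelLib.conjSub a B = B := (neut_le _ ha).2
  rw [← hn, mem_conjSub]
  exact hax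

/-- **Normaliser theorem**: a Borel subgroup of a connected group is its own normaliser. -/
theorem IsBor.mem_of_normalizing (hKc : IsClosed (K : Set (Pt k A))) (hK : IsPreconnected (K : Set (Pt k A)))
    (hB : IsBor K B) {x : Pt k A} (hx : x ∈ K) (hn : BorelLib.conjSub x B = B) : x ∈ B := by
  revert hK B x
  refine closed_induction (motive := fun K => ∀ {B : Subgroup (Pt k A)}, IsPreconnected (K : Set (Pt k A)) →
    IsBor K B → ∀ {x : Pt k A}, x ∈ K → BorelLib.conjSub x B = B → x ∈ B) ?_ hKc
  intro K hKc ih B hK hB x₀ hx₀ hn₀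
  classical
  by_cases hKs : IsSol K
  · exact (hB.maximal K le_rfl hKc hK hKs hB.le) ▸ hx₀
  obtain ⟨V, _, _, _, r, v, hv, hstab⟩ := exists_line_rep (S := K ⊓ normSub B) (hKc.inter (isClosed_normSub hB.closed))
  obtain ⟨D, hunip, hTU⟩ := exists_flag_unip hB.conn hB.sol r
  obtain ⟨T, hTB, hT, hu, hdec, -⟩ := D.exists_torus_decomp hB.closed hB.conn
  obtain ⟨b, hb, hbT⟩ := hu (BorelLib.conjSub x₀ T) ((conjSub_mono hTB).trans hn₀.le) (hT.conjSub x₀)
  rw [conjSub_conjSub] at hbT
  suffices hx : b * x₀ ∈ B by simpa using B.mul_mem (B.inv_mem hb) hx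
  set x := b * x₀
  have hxT : BorelLib.conjSub x T = T := conjSub_eq_of_le hT.closed hbT
  have hxK : x ∈ K := K.mul_mem (hB.le hb) hx₀
  have hxB : BorelLib.conjSub x B = B := by rw [← conjSub_conjSub, hn₀, conjSub_eq_self hb]
  have hxconj : ∀ s ∈ T, x * s * x⁻¹ ∈ T := fun s hs => by
    rw [← hxT, mem_conjSub]; simpa [mul_assoc] using hs
  -- a power of `x` centralises the torus
  obtain ⟨m, hm, hpow⟩ := exists_pow_mem_neut (P := K ⊓ normSub B) (hKc.inter (isClosed_normSub hB.closed))
  have hy : x ^ m ∈ B := hB.neut_normalizer hKc ▸ hpow x ⟨hxK, hxB⟩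
  have hxl : ∀ l, ∀ s ∈ T, x ^ l * s * (x ^ l)⁻¹ ∈ T := by
    intro l
    induction l with
    | zero => intro s hs; simpa using hs
    | succ l il =>
      intro s hs
      rw [show x ^ (l + 1) * s * (x ^ (l + 1))⁻¹ = x * (x ^ l * s * (x ^ l)⁻¹) * x⁻¹ by rw [pow_succ']; group]
      exact hxconj _ (il s hs)
  have hyT : ∀ s ∈ T, x ^ m * s * (x ^ m)⁻¹ = s := by
    intro s hs
    have h1 := hTU T hT _ (T.mul_mem (hxl m s hs) (T.inv_mem hs)) (D.commutator_mem_U hy (hTB hs))
    exact mul_inv_eq_one.1 h1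
  set P := T ⊓ Subgroup.centralizer {x} with hP_def
  have hPmem : ∀ {g : Pt k A}, g ∈ P ↔ g ∈ T ∧ x * g = g * x := fun {g} => by
    simp [hP_def, Subgroup.mem_centralizer_iff]
  have hPc : IsClosed (P : Set (Pt k A)) := by
    rw [show (P : Set (Pt k A)) = (T : Set (Pt k A)) ∩ {g | x * g = g * x} from Set.ext fun g => hPmem]
    exact hT.closed.inter (isClosed_commuting x)
  obtain ⟨m', hm', hpow'⟩ := exists_pow_mem_neut hPc
  set S := neut P
  have hST : S ≤ T := fun g hg => (hPmem.1 (neut_le _ hg)).1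
  have hS : IsTor S := hT.of_le hST (isClosed_neut hPc) (isPreconnected_neut _)
  have hSx : ∀ s ∈ S, x * s = s * x := fun s hs => (hPmem.1 (neut_le _ hs)).2
  by_cases hcent : ∀ s ∈ S, ∀ g ∈ K, s * g = g * s
  swap
  · -- inductive case
    push_neg at hcent
    obtain ⟨s, hs, g, hg, hne⟩ := hcent
    have hlt : K ⊓ Subgroup.centralizer (S : Set (Pt k A)) < K :=
      lt_of_le_of_ne inf_le_left fun e => hne (Subgroup.mem_centralizer_iff.1 (e.symm ▸ hg :
        g ∈ K ⊓ Subgroup.centralizer (S : Set (Pt k A))).2 s hs)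
    have hxC : x ∈ K ⊓ Subgroup.centralizer (S : Set (Pt k A)) :=
      ⟨hxK, Subgroup.mem_centralizer_iff.2 fun s hs => (hSx s hs).symm⟩
    refine (ih _ (hKc.inter (isClosed_centralizer S)) hlt (isPreconnected_centralizer_tor hKc hK hS
      ((hST.trans hTB).trans hB.le)) (hB.inf_centralizer hKc hK hS (hST.trans hTB)) hxC ?_).1
    ext g
    have hxZ : x ∈ Subgroup.centralizer (S : Set (Pt k A)) := hxC.2
    have e1 : x⁻¹ * g * x ∈ Subgroup.centralizer (S : Set (Pt k A)) ↔ g ∈ Subgroup.centralizer (S : Set (Pt k A)) := by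
      rw [mul_mem_cancel_right hxZ, mul_mem_cancel_left (inv_mem hxZ)]
    have e2 : x⁻¹ * g * x ∈ B ↔ g ∈ B := by rw [← mem_conjSub, hxB]
    rw [mem_conjSub]
    exact and_congr e2 e1
  -- central case: the line is stable
  have hNle : K ⊓ normSub B ≤ K := inf_le_left
  have hBN : B ≤ K ⊓ normSub B := fun b hb => ⟨hB.le hb, conjSub_eq_self hb⟩
  have hwtN : ∀ g ∈ K ⊓ normSub B, ∃ c : k, r.ρ g v = c • v := fun g hg => (hstab.ge hg).2
  obtain ⟨χ, hχ, hχv⟩ := r.exists_reg_weight (H := K ⊓ normSub B) hv hwtN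
  let W : Submodule k V := Submodule.span k ((fun g => r.ρ g v) '' (K : Set (Pt k A)))
  have hWs : (r.mono (le_top : K ≤ ⊤)).Stable K W := by
    intro g hg w hw
    induction hw using Submodule.span_induction with
    | mem y hy =>
      obtain ⟨h, hh, rfl⟩ := hy
      exact Submodule.subset_span ⟨g * h, K.mul_mem hg hh, r.mul_apply trivial trivial v⟩
    | zero => rw [map_zero]; exact W.zero_mem
    | add a c _ _ ha hc => rw [map_add]; exact W.add_mem ha hc
    | smul c a _ ha => rw [map_smul]; exact W.smul_mem c ha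
  obtain ⟨r', hr'⟩ := (r.mono (le_top : K ≤ ⊤)).exists_sub hWs
  set n := Module.finrank k W
  let d : K →* k :=
    { toFun := fun g => LinearMap.det (r'.ρ g)
      map_one' := by rw [Subgroup.coe_one, r'.map_one, LinearMap.det.map_one]
      map_mul' := fun a c => by rw [Subgroup.coe_mul, r'.map_mul a a.2 c c.2, LinearMap.det.map_mul] }
  let det' : Pt k A → k := fun g => LinearMap.det (r'.ρ g)
  have hdreg : IsReg det' := by
    let bU := Module.finBasis k W
    have e' : det' = fun g => ∑ σ : Equiv.Perm (Fin n),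
        (σ.sign : ℤ) • ∏ i, bU.coord (σ i) (r'.ρ g (bU i)) := by
      funext g
      show LinearMap.det (r'.ρ g) = _
      rw [← LinearMap.det_toMatrix bU, Matrix.det_apply]
      exact Finset.sum_congr rfl fun σ _ => by
        rw [Units.smul_def]
        simp only [LinearMap.toMatrix_apply, Module.Basis.coord_apply]
        rfl
    rw [e']
    exact IsReg.sum _ fun σ _ => by
      simp only [zsmul_eq_mul]
      exact (IsReg.const _).mul (IsReg.prod _ fun i _ => r'.reg _ _)
  have hd : ∀ g (hg : g ∈ K), d ⟨g, hg⟩ = det' g := fun g hg => rfl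
  let ψ : Pt k A → k := fun g => χ g ^ n * det' g⁻¹
  have hψreg : IsReg ψ := by
    have h1 : IsReg fun g => ∏ _i : Fin n, χ g := IsReg.prod _ fun _ _ => hχ
    have h2 : IsReg fun g => det' g⁻¹ := hdreg.comp IsMor.id.inv
    simpa [ψ] using h1.mul h2
  have hψ1 : ψ 1 = 1 := by
    have h1 := hχv 1 (one_mem _)
    rw [r.map_one, Module.End.one_apply] at h1
    have : χ 1 = 1 := (smul_left_injective k hv (by simpa using h1 : (fun c : k => c • v) 1 = (fun c : k => c • v) (χ 1))).symm
    simp [ψ, det', this, r'.map_one]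
  have hψmul : ∀ a ∈ K ⊓ normSub B, ∀ c ∈ K ⊓ normSub B, ψ (a * c) = ψ a * ψ c := by
    intro a ha c hc
    have hχm : χ (a * c) = χ a * χ c := by
      apply smul_left_injective k hv
      show χ (a * c) • v = (χ a * χ c) • v
      rw [← hχv _ (mul_mem ha hc), r.mul_apply trivial trivial, hχv c hc, map_smul, hχv a ha, smul_smul, mul_comm]
    have hdm : det' (a * c)⁻¹ = det' a⁻¹ * det' c⁻¹ := by
      show LinearMap.det _ = LinearMap.det _ * LinearMap.det _
      rw [mul_inv_rev, r'.map_mul _ (inv_mem hc.1) _ (inv_mem ha.1), LinearMap.det.map_mul, mul_comm]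
    simp only [ψ, hχm, hdm, mul_pow]
    ring
  have hψconj : ∀ a ∈ K ⊓ normSub B, ψ (x * a * x⁻¹) = ψ a := by
    intro a ha
    have hxN : x ∈ K ⊓ normSub B := ⟨hxK, hxB⟩
    rw [hψmul _ (mul_mem hxN ha) _ (inv_mem hxN), hψmul _ hxN _ ha, mul_comm (ψ x), mul_assoc,
      ← hψmul _ hxN _ (inv_mem hxN), mul_inv_cancel, hψ1, mul_one]
  have hTN : T ≤ K ⊓ normSub B := hTB.trans hBN
  -- the averaging
  have havg : ∀ l, ∀ s ∈ T, FlagRep.avg x l s ∈ T ∧ ψ (FlagRep.avg x l s) = ψ s ^ l ∧
      FlagRep.avg x (l + 1) s = FlagRep.avg x l s * (x ^ l * s * (x ^ l)⁻¹) := by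
    intro l
    induction l with
    | zero => intro s hs; simp [FlagRep.avg, T.one_mem, hψ1]
    | succ l il =>
      intro s hs
      obtain ⟨h1, h2, h3⟩ := il s hs
      refine ⟨T.mul_mem hs (hxconj _ h1), ?_, ?_⟩
      · show ψ (s * (x * FlagRep.avg x l s * x⁻¹)) = _
        rw [hψmul _ (hTN hs) _ (hTN (hxconj _ h1)), hψconj _ (hTN h1), h2, pow_succ']
      · show s * (x * FlagRep.avg x (l + 1) s * x⁻¹) = s * (x * FlagRep.avg x l s * x⁻¹) * _
        rw [h3, pow_succ']
        group
  have hψT : ∀ s ∈ T, ψ s = 1 := by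
    have hψS : ∀ s ∈ S, ψ s = 1 := by
      intro s hs
      have hsN := hTN (hST hs)
      have hscal : ∀ w ∈ W, r.ρ s w = χ s • w := by
        intro w hw
        induction hw using Submodule.span_induction with
        | mem y hy =>
          obtain ⟨h, hh, rfl⟩ := hy
          rw [← r.mul_apply trivial trivial, hcent s hs h hh, r.mul_apply trivial trivial, hχv s hsN, map_smul]
        | zero => rw [map_zero, smul_zero]
        | add a c _ _ ha hc => rw [map_add, ha, hc, smul_add]
        | smul c a _ ha => rw [map_smul, ha, smul_comm]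
      have h1 : r'.ρ s = χ s • (1 : Module.End k W) := LinearMap.ext fun w => Subtype.ext (by
        rw [hr' s hsN.1 w]; exact hscal w w.2)
      have h2 : det' s * det' s⁻¹ = 1 := by
        show LinearMap.det _ * LinearMap.det _ = 1
        rw [← LinearMap.det.map_mul, ← r'.map_mul s hsN.1 s⁻¹ (inv_mem hsN.1), mul_inv_cancel, r'.map_one,
          LinearMap.det.map_one]
      have h3 : det' s = χ s ^ n := by
        show LinearMap.det _ = _
        rw [h1, LinearMap.det_smul, LinearMap.det.map_one, mul_one]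
      show χ s ^ n * det' s⁻¹ = 1
      rw [← h3, h2]
    intro s hs
    rw [← hψ1]
    refine hψreg.const_of_finite hT.conn ((Polynomial.finite_setOfPred_isRoot
      (Polynomial.X_pow_sub_C_ne_zero (Nat.pos_of_ne_zero (mul_ne_zero hm hm')) (1 : k))).subset ?_) hs T.one_mem
    rintro _ ⟨s, hs, rfl⟩
    obtain ⟨hz, hzψ, hz3⟩ := havg m s hs
    have hzx : x * FlagRep.avg x m s = FlagRep.avg x m s * x := by
      rw [hyT s hs] at hz3
      have h4 : s * (x * FlagRep.avg x m s * x⁻¹) = s * FlagRep.avg x m s := by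
        rw [hT.comm s hs _ hz, ← hz3]; rfl
      exact mul_inv_eq_iff_eq_mul.1 (mul_left_cancel h4)
    have hpowψ : ∀ l, ψ (FlagRep.avg x m s ^ l) = ψ (FlagRep.avg x m s) ^ l := by
      intro l
      induction l with
      | zero => simp [hψ1]
      | succ l il => rw [pow_succ, pow_succ, hψmul _ (pow_mem (hTN hz) l) _ (hTN hz), il]
    have h5 := hψS _ (hpow' _ (hPmem.2 ⟨hz, hzx⟩))
    rw [hpowψ, hzψ, ← pow_mul] at h5
    simp [Polynomial.IsRoot, h5]
  have hψB : ∀ g ∈ B, ψ g = 1 := by
    intro g hg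
    obtain ⟨s, hs, hu⟩ := hdec g hg
    obtain ⟨N, hN⟩ := hunip _ hu
    have huN : s⁻¹ * g ∈ K ⊓ normSub B := hBN (B.mul_mem (B.inv_mem (hTB hs)) hg)
    have hψu : ψ (s⁻¹ * g) = 1 := by
      set u := s⁻¹ * g
      have hev : ∀ l : ℕ, ((r.ρ u - 1) ^ l) v = (χ u - 1) ^ l • v := by
        intro l
        induction l with
        | zero => simp
        | succ l il =>
          rw [pow_succ', Module.End.mul_apply, il, map_smul, LinearMap.sub_apply, hχv u huN, Module.End.one_apply,
            smul_sub, smul_smul, pow_succ, mul_sub, mul_one, sub_smul]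
      have h0 := hev N
      rw [hN, LinearMap.zero_apply, eq_comm, smul_eq_zero] at h0
      have hχu : χ u = 1 := sub_eq_zero.1 (eq_zero_of_pow_eq_zero (h0.resolve_right hv))
      have hnil : IsNilpotent (1 - r'.ρ u) := by
        suffices IsNilpotent (r'.ρ u - 1) from (neg_sub (r'.ρ u) (1 : Module.End k W)) ▸ this.neg
        refine ⟨N, ?_⟩
        have hsub : ∀ (l : ℕ) (w : W), ((((r'.ρ u - 1) ^ l) w : W) : V) = ((r.ρ u - 1) ^ l) (w : V) := by
          intro l
          induction l with
          | zero => intro w; simp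
          | succ l il =>
            intro w
            rw [pow_succ, pow_succ, Module.End.mul_apply, Module.End.mul_apply, il]
            congr 1
            rw [LinearMap.sub_apply, LinearMap.sub_apply, Submodule.coe_sub, hr' u huN.1 w, Module.End.one_apply,
              Module.End.one_apply]
            rfl
        exact LinearMap.ext fun w => Subtype.ext (by rw [hsub, hN]; rfl)
      have hdet : det' u = 1 := by
        have := (1 - r'.ρ u).eval_charpoly 1
        rw [IsNilpotent.charpoly_eq_X_pow_finrank hnil, Polynomial.eval_pow, Polynomial.eval_X, one_pow, map_one,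
          sub_sub_cancel] at this
        exact this.symm
      have hinv : det' u * det' u⁻¹ = 1 := by
        show LinearMap.det _ * LinearMap.det _ = 1
        rw [← LinearMap.det.map_mul, ← r'.map_mul u huN.1 u⁻¹ (inv_mem huN.1), mul_inv_cancel, r'.map_one,
          LinearMap.det.map_one]
      rw [hdet, one_mul] at hinv
      show χ u ^ n * det' u⁻¹ = 1
      rw [hχu, hinv, one_pow, one_mul]
    rw [show g = s * (s⁻¹ * g) by group, hψmul _ (hTN hs) _ huN, hψT s hs, hψu, one_mul]
  have hWv : v ∈ W := Submodule.subset_span ⟨1, K.one_mem, by show r.ρ 1 v = v; rw [r.map_one]; rfl⟩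
  have hnpos : n ≠ 0 := (Module.finrank_pos_iff_exists_ne_zero.2
    ⟨(⟨v, hWv⟩ : W), fun e => hv (congrArg Subtype.val e)⟩).ne'
  have hKN : ∀ g ∈ K, g ∈ normSub B := by
    intro g hg
    have hline : r.ρ g v ∈ k ∙ v := by
      rw [← Subspace.dualAnnihilator_dualCoannihilator_eq (W := k ∙ v), Submodule.mem_dualCoannihilator]
      intro φ hφ
      have hφv : φ v = 0 := (Submodule.mem_dualAnnihilator φ).1 hφ v (Submodule.mem_span_singleton_self v)
      have hfreg : IsReg fun g => (φ (r.ρ g v)) ^ n * det' g⁻¹ := by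
        have h1 : IsReg fun g => ∏ _i : Fin n, φ (r.ρ g v) := IsReg.prod _ fun _ _ => r.reg φ v
        have h2 : IsReg fun g => det' g⁻¹ := hdreg.comp IsMor.id.inv
        simpa using h1.mul h2
      have hinv := (hB.complete hKc hK).reg_const hB.le hKc hK hfreg (fun g hg b hb => by
        have e1 : det' (g * b)⁻¹ = det' b⁻¹ * det' g⁻¹ := by
          show LinearMap.det _ = LinearMap.det _ * LinearMap.det _
          rw [mul_inv_rev, r'.map_mul _ (inv_mem (hB.le hb)) _ (inv_mem hg), LinearMap.det.map_mul]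
        have e2 : χ b ^ n * det' b⁻¹ = 1 := hψB b hb
        rw [e1, r.mul_apply trivial trivial, hχv b (hBN hb), map_smul, map_smul, smul_eq_mul, mul_pow]
        linear_combination (φ (r.ρ g v)) ^ n * det' g⁻¹ * e2) (g := g) hg
      simp only [r.map_one, Module.End.one_apply, hφv, zero_pow hnpos, zero_mul] at hinv
      refine eq_zero_of_pow_eq_zero ((mul_eq_zero.1 hinv).resolve_right fun h0 => ?_)
      have h6 := congrArg LinearMap.det (r'.map_mul g⁻¹ (inv_mem hg) g hg)
      rw [inv_mul_cancel, r'.map_one, LinearMap.det.map_one, LinearMap.det.map_mul] at h6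
      change 1 = det' g⁻¹ * det' g at h6
      rw [h0, zero_mul] at h6
      exact one_ne_zero h6
    obtain ⟨c, hc⟩ := Submodule.mem_span_singleton.1 hline
    exact (hstab.le ⟨trivial, c, hc.symm⟩).2
  obtain ⟨a, ha, hax⟩ := hB.exists_conj_mem hKc hK hxK
  rw [← mem_normSub.1 (hKN a ha), mem_conjSub]
  exact hax

/-- The normaliser of a Borel subgroup. -/
theorem IsBor.normalizer_eq (hKc : IsClosed (K : Set (Pt k A))) (hK : IsPreconnected (K : Set (Pt k A)))
    (hB : IsBor K B) : K ⊓ normSub B = B :=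
  le_antisymm (fun _ hx => hB.mem_of_normalizing hKc hK hx.1 hx.2) fun b hb => ⟨hB.le hb, conjSub_eq_self hb⟩

end Groth.Agent.BorelLib
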