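import Groth.Agent.BorelLib.Chev
import Groth.Agent.BorelLib.Unip
import Groth.Agent.BorelLib.Norm
import Groth.Agent.BorelLib.FinitePairs

/-!
# Unipotent groups lying in all Borel subgroups through a maximal torus

After Luna: such a group fixes the flag variety pointwise.
-/

set_option autoImplicit false
set_option linter.style.haveILetI false
set_option linter.unusedSectionVars false
set_option maxHeartbeats 1000000
set_option backward.isDefEq.respectTransparency false

universe u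

open WithConv
open scoped commutatorElement

noncomputable section

namespace Groth.Agent.BorelLib

attribute [local instance] pTop pTopTensor

variable {k : Type u} [Field k] [IsAlgClosed k] {A : Type u} [CommRing A] [HopfAlgebra k A] [Algebra.FiniteType k A]
  {V : Type u} [AddCommGroup V] [Module k V] [FiniteDimensional k V]

/-- The regular characters of a subgroup of points. -/
def regChar (T : Subgroup (Pt k A)) : Subgroup (T →* kˣ) where
  carrier := {c | ∃ f : Pt k A → k, IsReg f ∧ ∀ s : T, f (s : Pt k A) = (c s : k)}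
  one_mem' := ⟨fun _ => 1, IsReg.const 1, fun _ => rfl⟩
  mul_mem' := by
    rintro a b ⟨f, hf, hfa⟩ ⟨g, hg, hgb⟩
    exact ⟨fun x => f x * g x, hf.mul hg, fun s => by simp [hfa, hgb]⟩
  inv_mem' := by
    rintro a ⟨f, hf, hfa⟩
    refine ⟨fun x => f x⁻¹, hf.comp IsMor.id.inv, fun s => ?_⟩
    show f (s : Pt k A)⁻¹ = _
    rw [← Subgroup.coe_inv, hfa, map_inv]
    rfl

/-- Among finitely many regular characters of a connected group one is extreme. -/
theorem exists_pointed {T : Subgroup (Pt k A)} (hT : _root_.IsPreconnected (T : Set (Pt k A))) {ι : Type u}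
    [Fintype ι] [Nonempty ι] (c : ι → T →* kˣ) (hc : ∀ i, c i ∈ regChar T) :
    ∃ i₀ : ι, ∀ a : ι → ℕ, (∏ i, (c i * (c i₀)⁻¹) ^ a i) = 1 → ∀ i, c i ≠ c i₀ → a i = 0 := by
  classical
  let S : Subgroup (T →* kˣ) := Subgroup.closure (Set.range c)
  have hSle : S ≤ regChar T := (Subgroup.closure_le _).2 (by rintro _ ⟨i, rfl⟩; exact hc i)
  have htf : ∀ (x : S) (n : ℕ), n ≠ 0 → x ^ n = 1 → x = 1 := by
    intro x n hn hx
    obtain ⟨f, hf, hfx⟩ := hSle x.2
    refine Subtype.ext (MonoidHom.ext fun s => Units.ext ?_)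
    have hfin : (f '' (T : Set (Pt k A))).Finite := by
      refine (Finset.finite_toSet (Polynomial.nthRootsFinset n (1 : k))).subset ?_
      rintro _ ⟨g, hg, rfl⟩
      rw [Finset.mem_coe, Polynomial.mem_nthRootsFinset (Nat.pos_of_ne_zero hn), hfx ⟨g, hg⟩]
      have h := congrArg (fun y : S => ((y : T →* kˣ) ⟨g, hg⟩ : k)) hx
      simpa using h
    have h := hf.const_of_finite hT hfin s.2 T.one_mem
    rw [hfx, show f 1 = f ((1 : T) : Pt k A) from rfl, hfx, map_one] at h
    exact h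
  haveI : AddMonoid.FG (Additive S) := by
    haveI : Group.FG S := (Group.fg_iff_subgroup_fg S).2 ((Subgroup.fg_iff S).2 ⟨Set.range c, rfl, Set.finite_range c⟩)
    haveI : Monoid.FG S := Group.fg_iff_monoid_fg.1 inferInstance
    infer_instance
  haveI : Module.Finite ℤ (Additive S) := Module.Finite.iff_addGroup_fg.2 (AddGroup.fg_iff_addMonoid_fg.2 inferInstance)
  haveI : IsAddTorsionFree (Additive S) := by
    refine ⟨fun n hn x y hxy => ?_⟩
    have h2 : (x.toMul / y.toMul) ^ n = 1 := by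
      rw [div_pow, div_eq_one]
      exact hxy
    exact Additive.toMul.injective (div_eq_one.1 (htf _ n hn h2))
  let bS := Module.Free.chooseBasis ℤ (Additive S)
  haveI : Fintype (Module.Free.ChooseBasisIndex ℤ (Additive S)) := inferInstance
  let e : Fin (Fintype.card (Module.Free.ChooseBasisIndex ℤ (Additive S))) ≃ Module.Free.ChooseBasisIndex ℤ (Additive S) :=
    (Fintype.equivFin _).symm
  let key : ι → Lex (Fin (Fintype.card (Module.Free.ChooseBasisIndex ℤ (Additive S))) → ℤ) := fun i =>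
    toLex fun m => bS.equivFun (Additive.ofMul (⟨c i, Subgroup.subset_closure ⟨i, rfl⟩⟩ : S)) (e m)
  obtain ⟨i₀, -, hmin⟩ := Finset.univ.exists_min_image key Finset.univ_nonempty
  refine ⟨i₀, fun a ha => ?_⟩
  let d : ι → S := fun i => (⟨c i, Subgroup.subset_closure ⟨i, rfl⟩⟩ : S) *
    (⟨c i₀, Subgroup.subset_closure ⟨i₀, rfl⟩⟩ : S)⁻¹
  let L : Additive S →+ Lex (Fin (Fintype.card (Module.Free.ChooseBasisIndex ℤ (Additive S))) → ℤ) :=
    { toFun := fun x => toLex fun m => bS.equivFun x (e m)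
      map_zero' := by simp; rfl
      map_add' := fun x y => by simp; rfl }
  have hL : Function.Injective L := fun x y hxy => bS.equivFun.injective (funext fun m => by
    have := congrFun (congrArg ofLex hxy) (e.symm m)
    simpa [L] using this)
  have hd : ∀ i, L (Additive.ofMul (d i)) = key i - key i₀ := fun i => by
    show L (Additive.ofMul _ + -Additive.ofMul _) = _
    rw [map_add, map_neg, sub_eq_add_neg]
    rfl
  have h0 : ∀ i, 0 ≤ L (Additive.ofMul (d i)) := fun i => by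
    rw [hd, sub_nonneg]; exact hmin i (Finset.mem_univ _)
  have hsum : ∑ i, a i • L (Additive.ofMul (d i)) = 0 := by
    have hprod : (∏ i, d i ^ a i) = 1 := Subtype.ext (by simpa [d] using ha)
    have e1 : ∑ i, a i • L (Additive.ofMul (d i)) = L (∑ i, a i • Additive.ofMul (d i)) := by
      rw [map_sum]
      exact Finset.sum_congr rfl fun i _ => (map_nsmul L (a i) _).symm
    have e2 : (∑ i, a i • Additive.ofMul (d i)) = Additive.ofMul (∏ i, d i ^ a i) := by
      rw [ofMul_prod]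
      exact Finset.sum_congr rfl fun i _ => (ofMul_pow (a i) (d i)).symm
    rw [e1, e2, hprod]
    exact L.map_zero
  intro i hi
  have h1 := (Finset.sum_eq_zero_iff_of_nonneg fun j _ => nsmul_nonneg (h0 j) (a j)).1 hsum i (Finset.mem_univ i)
  by_contra hai
  refine hi ?_
  have hz : L (Additive.ofMul (d i)) = 0 := by
    rcases lt_or_eq_of_le (h0 i) with hlt | heq
    · exact absurd h1 (ne_of_gt (nsmul_pos hlt hai))
    · exact heq.symm
  have h3 : d i = 1 := Additive.ofMul.injective (hL (hz.trans L.map_zero.symm))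
  have h4 := congrArg (fun y : S => (y : T →* kˣ)) h3
  simp only [d, Subgroup.coe_mul, Subgroup.coe_inv, Subgroup.coe_one] at h4
  exact mul_inv_eq_one.1 h4

open MvPolynomial in
/-- The extreme component of a vector lies in every closed stable cone containing it. -/
theorem proj_mem_of_pointed {T : Subgroup (Pt k A)} {ι : Type u} [Fintype ι] [DecidableEq ι] (b : Module.Basis ι k V)
    (ρ : Pt k A → Module.End k V) (c : ι → T →* kˣ) (hb : ∀ i (s : T), ρ s (b i) = (c i s : k) • b i) {i₀ : ι}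
    (hp : ∀ a : ι → ℕ, (∏ i, (c i * (c i₀)⁻¹) ^ a i) = 1 → ∀ i, c i ≠ c i₀ → a i = 0)
    [DecidableEq (T →* kˣ)] {Z : Set (Pt k (VPoly k V))} (hZ : IsClosed Z)
    (hcone : ∀ d : k, d ≠ 0 → ∀ y ∈ Z, vp (V := V) (d • pv y) ∈ Z)
    (hstab : ∀ s ∈ T, ∀ y ∈ Z, vp (ρ s (pv y)) ∈ Z) {v : V} (hv : vp (k := k) v ∈ Z) :
    vp (k := k) (∑ i, if c i = c i₀ then b.repr v i • b i else 0) ∈ Z := by
  rw [isClosed_iff] at hZ
  refine hZ _ fun f hf => ?_
  -- the function in coordinates of the weight basis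
  let lin : Fin (Module.finrank k V) → MvPolynomial ι k := fun j =>
    ∑ i, MvPolynomial.C ((Module.finBasis k V).equivFun (b i) j) * MvPolynomial.X i
  let Q : MvPolynomial ι k := MvPolynomial.aeval lin f
  have hQ : ∀ z : ι → k, (vp (k := k) (∑ i, z i • b i)).ofConv f = MvPolynomial.aeval z Q := by
    intro z
    show MvPolynomial.aeval ((Module.finBasis k V).equivFun (∑ i, z i • b i)) f = _
    rw [show MvPolynomial.aeval z Q = ((MvPolynomial.aeval z).comp (MvPolynomial.aeval lin)) f from rfl,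
      MvPolynomial.comp_aeval]
    congr 2
    funext j
    simp only [lin, map_sum, map_mul, MvPolynomial.aeval_C, MvPolynomial.aeval_X, Finset.sum_apply, map_smul,
      Pi.smul_apply, smul_eq_mul, Algebra.algebraMap_self, RingHom.id_apply]
    exact Finset.sum_congr rfl fun i _ => mul_comm _ _
  rw [show (∑ i, if c i = c i₀ then b.repr v i • b i else 0) =
    ∑ i, (if c i = c i₀ then b.repr v i else 0) • b i from Finset.sum_congr rfl fun i _ => by split <;> simp]
  rw [hQ]
  set y : ι → k := fun i => b.repr v i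
  let ψ : ι → T →* kˣ := fun i => c i * (c i₀)⁻¹
  let Ψ : (ι →₀ ℕ) → T →* kˣ := fun a => ∏ i, ψ i ^ a i
  have hvanish : ∀ s : T, MvPolynomial.aeval (fun i => (ψ i s : k) * y i) Q = 0 := by
    intro s
    rw [← hQ]
    refine hf _ ?_
    have h := hcone (((c i₀ s)⁻¹ : kˣ) : k) (Units.ne_zero _) _ (hstab s s.2 _ hv)
    rw [pv_vp, pv_vp] at h
    convert h using 2
    conv_rhs => rw [← b.sum_repr v, map_sum, Finset.smul_sum]
    refine Finset.sum_congr rfl fun i _ => ?_
    rw [map_smul, hb, smul_smul, smul_smul]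
    simp only [ψ, y, MonoidHom.mul_apply, MonoidHom.inv_apply, Units.val_mul]
    congr 1
    ring
  have hexp : ∀ (w : ι → k), MvPolynomial.aeval w Q = ∑ a ∈ Q.support, Q.coeff a * ∏ i, w i ^ a i := fun w => by
    rw [MvPolynomial.aeval_def, Algebra.algebraMap_self, MvPolynomial.eval₂_eq']
    simp
  -- independence of characters
  let g : (ι →₀ ℕ) → k := fun a => Q.coeff a * ∏ i, y i ^ a i
  have hgroup : ∑ χ ∈ Q.support.image Ψ, (∑ a ∈ Q.support with Ψ a = χ, g a) •
      (fun s : T => (χ s : k)) = 0 := by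
    funext s
    rw [Finset.sum_apply]
    calc ∑ χ ∈ Q.support.image Ψ, ((∑ a ∈ Q.support with Ψ a = χ, g a) • fun s : T => (χ s : k)) s
        = ∑ χ ∈ Q.support.image Ψ, ∑ a ∈ Q.support with Ψ a = χ, g a * (Ψ a s : k) := by
          refine Finset.sum_congr rfl fun χ _ => ?_
          rw [Pi.smul_apply, smul_eq_mul, Finset.sum_mul]
          exact Finset.sum_congr rfl fun a ha => by rw [(Finset.mem_filter.1 ha).2]
      _ = ∑ a ∈ Q.support, g a * (Ψ a s : k) :=
          Finset.sum_fiberwise_of_maps_to (fun a ha => Finset.mem_image_of_mem Ψ ha) _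
      _ = MvPolynomial.aeval (fun i => (ψ i s : k) * y i) Q := by
          rw [hexp]
          refine Finset.sum_congr rfl fun a _ => ?_
          simp only [g, Ψ, MonoidHom.finsetProd_apply, MonoidHom.pow_apply, Units.coe_prod, Units.val_pow_eq_pow_val,
            mul_pow, Finset.prod_mul_distrib]
          ring
      _ = 0 := hvanish s
  have hli : LinearIndependent k (fun (χ : T →* kˣ) (s : T) => (χ s : k)) := by
    have h := (linearIndependent_monoidHom T k).comp (fun χ : T →* kˣ => (Units.coeHom k).comp χ) fun χ χ' hχ =>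
      MonoidHom.ext fun s => Units.ext (DFunLike.congr_fun hχ s)
    exact h
  have h1 := linearIndependent_iff'.1 hli _ _ hgroup
  have h2 : ∑ a ∈ Q.support with Ψ a = 1, g a = 0 := by
    by_cases hm : (1 : T →* kˣ) ∈ Q.support.image Ψ
    · exact h1 1 hm
    · rw [Finset.filter_false_of_mem (fun a ha (h : Ψ a = 1) => hm (h ▸ Finset.mem_image_of_mem Ψ ha)), Finset.sum_empty]
  refine (hexp _).trans (Eq.trans ?_ h2)
  rw [Finset.sum_filter]
  refine Finset.sum_congr rfl fun a _ => ?_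
  split_ifs with ha
  · refine congrArg (Q.coeff a * ·) (Finset.prod_congr rfl fun i _ => ?_)
    by_cases hi : c i = c i₀
    · rw [if_pos hi]
    · rw [hp (fun i => a i) ha i hi, pow_zero, pow_zero]
  · rw [mul_eq_zero]
    right
    by_contra hne
    refine ha (Finset.prod_eq_one fun i _ => ?_)
    by_cases hai : a i = 0
    · exact (congrArg (ψ i ^ ·) hai).trans (pow_zero (ψ i))
    · by_cases hi : c i = c i₀
      · refine (congrArg (· ^ a i) (show ψ i = 1 from ?_)).trans (one_pow (M := T →* kˣ) (a i))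
        show c i * (c i₀)⁻¹ = 1
        rw [hi]
        exact mul_inv_cancel (c i₀)
      · refine absurd (Finset.prod_eq_zero (Finset.mem_univ i) ?_) hne
        simp [hi, hai]

/-- An extreme weight projection. -/
theorem IsTor.exists_extreme {T : Subgroup (Pt k A)} (hT : IsTor T) [Nontrivial V]
    (r : RegRep (⊤ : Subgroup (Pt k A)) V) :
    ∃ P : Module.End k V, P ≠ 0 ∧ (∀ v, P (P v) = P v) ∧ (∀ v, r.IsWeight T (P v)) ∧
      (∀ φ : Module.Dual k V, r.dual.IsWeight T (φ.comp P)) ∧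
      (∀ Z : Set (Pt k (VPoly k V)), IsClosed Z → (∀ d : k, d ≠ 0 → ∀ y ∈ Z, vp (V := V) (d • pv y) ∈ Z) →
        (∀ s ∈ T, ∀ y ∈ Z, vp (r.ρ s (pv y)) ∈ Z) → ∀ v, vp (k := k) v ∈ Z → vp (k := k) (P v) ∈ Z) ∧
      (∀ Z : Set (Pt k (VPoly k (Module.Dual k V))), IsClosed Z →
        (∀ d : k, d ≠ 0 → ∀ y ∈ Z, vp (V := Module.Dual k V) (d • pv y) ∈ Z) →
        (∀ s ∈ T, ∀ y ∈ Z, vp (r.dual.ρ s (pv y)) ∈ Z) →
        ∀ φ : Module.Dual k V, vp (k := k) φ ∈ Z → vp (k := k) (φ.comp P) ∈ Z) := by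
  classical
  obtain ⟨ι, _, b, χ, hχ, hb⟩ := hT.exists_weight_basis r
  haveI : Nonempty ι := b.index_nonempty
  have hne : ∀ i, ∀ s ∈ T, χ i s ≠ 0 := fun i s hs h => r.apply_ne_zero (g := s) trivial (b.ne_zero i) (by
    rw [hb i s hs, h, zero_smul])
  let c : ι → T →* kˣ := fun i =>
    { toFun := fun s => Units.mk0 (χ i s) (hne i s s.2)
      map_one' := Units.ext (by
        have h := hb i 1 T.one_mem
        rw [r.map_one, Module.End.one_apply] at h
        exact (smul_left_injective k (b.ne_zero i) (h.symm.trans (one_smul k _).symm)))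
      map_mul' := fun s s' => Units.ext (by
        have h := hb i _ (T.mul_mem s.2 s'.2)
        rw [r.mul_apply trivial trivial, hb i _ s'.2, map_smul, hb i _ s.2, smul_smul] at h
        exact (smul_left_injective k (b.ne_zero i) h.symm).trans (mul_comm _ _)) }
  have hc : ∀ i, c i ∈ regChar T := fun i => ⟨χ i, hχ i, fun s => rfl⟩
  have hbc : ∀ i (s : T), r.ρ s (b i) = (c i s : k) • b i := fun i s => hb i s s.2
  obtain ⟨i₀, hi₀⟩ := exists_pointed hT.conn c hc
  let P : Module.End k V := b.constr k fun i => if c i = c i₀ then b i else 0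
  have hP : ∀ v, P v = ∑ i, if c i = c i₀ then b.repr v i • b i else 0 := fun v => by
    rw [Module.Basis.constr_apply_fintype]
    exact Finset.sum_congr rfl fun i _ => by split <;> simp
  have hPb : ∀ i, P (b i) = if c i = c i₀ then b i else 0 := fun i => b.constr_basis k _ i
  have hcomm : ∀ (s : T) (v : V), r.ρ s (P v) = (c i₀ s : k) • P v := fun s v => by
    have e : (r.ρ s).comp P = (c i₀ s : k) • P := b.ext fun i => by
      rw [LinearMap.comp_apply, LinearMap.smul_apply, hPb]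
      split_ifs with h
      · rw [hbc, h]
      · rw [map_zero, smul_zero]
    exact LinearMap.congr_fun e v
  have hcomm' : ∀ (s : T) (v : V), P (r.ρ s v) = (c i₀ s : k) • P v := fun s v => by
    have e : P.comp (r.ρ s) = (c i₀ s : k) • P := b.ext fun i => by
      rw [LinearMap.comp_apply, LinearMap.smul_apply, hbc, map_smul, hPb]
      split_ifs with h
      · rw [h]
      · rw [smul_zero, smul_zero]
    exact LinearMap.congr_fun e v
  have hidem : P.comp P = P := b.ext fun i => by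
    rw [LinearMap.comp_apply, hPb]
    split_ifs with h
    · rw [hPb, if_pos h]
    · rw [map_zero]
  refine ⟨P, fun h => b.ne_zero i₀ ?_, fun v => LinearMap.congr_fun hidem v, fun v s hs => ⟨_, hcomm ⟨s, hs⟩ v⟩, fun φ s hs => ?_,
    fun Z hZ hcone hstab v hv => ?_, fun Z hZ hcone hstab φ hφ => ?_⟩
  · have h2 := hPb i₀
    rw [h, LinearMap.zero_apply, if_pos rfl] at h2
    exact h2.symm
  · refine ⟨(c i₀ ⟨s⁻¹, T.inv_mem hs⟩ : k), LinearMap.ext fun v => ?_⟩
    show φ (P (r.ρ s⁻¹ v)) = _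
    rw [hcomm' ⟨s⁻¹, T.inv_mem hs⟩ v, map_smul]
    rfl
  · rw [hP]
    exact proj_mem_of_pointed b r.ρ c hbc hi₀ hZ hcone hstab hv
  · let c' : ι → T →* kˣ := fun i => (c i)⁻¹
    have hb' : ∀ i (s : T), r.dual.ρ s (b.dualBasis i) = (c' i s : k) • b.dualBasis i := fun i s => b.ext fun j => by
      show b.dualBasis i (r.ρ (s : Pt k A)⁻¹ (b j)) = _
      rw [← Subgroup.coe_inv, hbc, map_smul, map_inv, LinearMap.smul_apply, Module.Basis.dualBasis_apply_self]
      by_cases h : j = i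
      · subst h; simp [c']
      · simp [h]
    have hp' : ∀ a : ι → ℕ, (∏ i, (c' i * (c' i₀)⁻¹) ^ a i) = 1 → ∀ i, c' i ≠ c' i₀ → a i = 0 := by
      intro a ha i hi
      refine hi₀ a ?_ i fun h => hi (congrArg (·⁻¹) h)
      refine MonoidHom.ext fun s => ?_
      have h1 := congrArg (fun f : T →* kˣ => (f s)⁻¹) ha
      simp only [MonoidHom.finsetProd_apply, MonoidHom.pow_apply, MonoidHom.mul_apply, MonoidHom.inv_apply,
        MonoidHom.one_apply, inv_one, c'] at h1 ⊢
      rw [← Finset.prod_inv_distrib] at h1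
      refine Eq.trans (Finset.prod_congr rfl fun j _ => ?_) h1
      rw [← inv_pow, mul_inv, inv_inv, inv_inv]
    have h := proj_mem_of_pointed b.dualBasis r.dual.ρ c' hb' hp' hZ hcone hstab hφ
    convert h using 2
    refine b.ext fun j => ?_
    rw [LinearMap.comp_apply, hPb, LinearMap.sum_apply]
    rw [Finset.sum_eq_single j]
    · by_cases hj : c j = c i₀
      · have hj' : c' j = c' i₀ := congrArg (fun x : T →* kˣ => x⁻¹) hj
        rw [if_pos hj, if_pos hj']
        simp [Module.Basis.dualBasis_repr]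
      · have hj' : c' j ≠ c' i₀ := fun h => hj (inv_injective h)
        rw [if_neg hj, if_neg hj']
        simp
    · intro i _ hij
      split_ifs <;> simp [Module.Basis.dualBasis_apply_self, Ne.symm hij]
    · simp

/-- A Borel subgroup as the stabiliser of a line with closed orbit cone spanning the space. -/
theorem IsBor.exists_cone_rep (hconn : _root_.IsPreconnected (Set.univ : Set (Pt k A))) {B : Subgroup (Pt k A)}
    (hB : IsBor ⊤ B) :
    ∃ (W : Type u) (_ : AddCommGroup W) (_ : Module k W) (_ : FiniteDimensional k W)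
      (r : RegRep (⊤ : Subgroup (Pt k A)) W) (w : W), w ≠ 0 ∧ r.lineStab w = B ∧ IsClosed (r.cone w) ∧
        Submodule.span k (Set.range fun g => r.ρ g w) = ⊤ := by
  have hKc : IsClosed ((⊤ : Subgroup (Pt k A)) : Set (Pt k A)) := by rw [Subgroup.coe_top]; exact isClosed_univ
  have hK : _root_.IsPreconnected ((⊤ : Subgroup (Pt k A)) : Set (Pt k A)) := by rwa [Subgroup.coe_top]
  obtain ⟨V, _, _, _, r, v, hv, hst⟩ := exists_line_rep hB.closed
  let W := Submodule.span k (Set.range fun g => r.ρ g v)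
  have hW : r.Stable ⊤ W := by
    intro g _ w hw
    induction hw using Submodule.span_induction with
    | mem x hx =>
      obtain ⟨h, rfl⟩ := hx
      exact Submodule.subset_span ⟨g * h, r.mul_apply trivial trivial v⟩
    | zero => simp
    | add x y _ _ hx hy => rw [map_add]; exact W.add_mem hx hy
    | smul a x _ hx => rw [map_smul]; exact W.smul_mem a hx
  obtain ⟨r₁, hr₁⟩ := r.exists_sub hW
  let w : W := ⟨v, Submodule.subset_span ⟨1, by simp [r.map_one]⟩⟩
  have hw : w ≠ 0 := fun h => hv (congrArg Subtype.val h)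
  have hst' : r₁.lineStab w = B := by
    rw [← hst]
    refine SetLike.ext fun g => and_congr_right fun hg => exists_congr fun a => ?_
    rw [Subtype.ext_iff, hr₁ g hg, Submodule.coe_smul]
  refine ⟨W, _, _, inferInstance, r₁, w, hw, hst',
    r₁.isClosed_cone_of_complete hKc (hB.complete hKc hK) hw hst'.ge, ?_⟩
  refine Submodule.map_injective_of_injective W.injective_subtype ?_
  rw [Submodule.map_span, Submodule.map_top, Submodule.range_subtype, ← Set.range_comp]
  exact congrArg (fun S => Submodule.span k (Set.range S)) (funext fun g => hr₁ g trivial w)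

/-- An eigenfunctional of a unipotent group separates a fixed vector only from a fixed line. -/
theorem RegRep.fixes_of_invariant (r : RegRep (⊤ : Subgroup (Pt k A)) V) {J : Subgroup (Pt k A)}
    (hJc : _root_.IsPreconnected (J : Set (Pt k A))) (hJs : IsSol J)
    (hu : ∀ u ∈ J, ∃ N : ℕ, (r.ρ u - 1) ^ N = 0) {ℓ : Module.Dual k V} (hℓ : ∀ u ∈ J, ∀ z, ℓ (r.ρ u z) = ℓ z)
    {x y : V} (hy : y ∈ Submodule.span k ((fun u => r.ρ u x) '' (J : Set (Pt k A))))
    (hyfix : ∀ u ∈ J, r.ρ u y = y) (hly : ℓ y ≠ 0) : ∃ a : k, x = a • y := by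
  set S := Submodule.span k ((fun u => r.ρ u x) '' (J : Set (Pt k A))) with hS
  by_contra hx
  push Not at hx
  have hxS : x ∈ S := Submodule.subset_span ⟨1, J.one_mem, by simp [r.map_one]⟩
  -- functionals killing the fixed vector
  let M : Submodule k (Module.Dual k V) := (k ∙ y).dualAnnihilator
  let M₀ : Submodule k (Module.Dual k V) := S.dualAnnihilator
  have hsub : S.dualAnnihilator ≤ M :=
    Submodule.dualAnnihilator_anti ((Submodule.span_singleton_le_iff_mem _ _).2 hy)
  obtain ⟨f, hfM, hfx⟩ : ∃ f ∈ M, f x ≠ 0 := by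
    by_contra hno
    push Not at hno
    have : x ∈ k ∙ y := by
      rw [← Subspace.dualAnnihilator_dualCoannihilator_eq (W := k ∙ y), Submodule.mem_dualCoannihilator]
      exact hno
    obtain ⟨a, ha⟩ := Submodule.mem_span_singleton.1 this
    exact hx a ha.symm
  have hSst : ∀ u ∈ J, ∀ z ∈ S, r.ρ u z ∈ S := by
    intro u hu z hz
    induction hz using Submodule.span_induction with
    | mem z hz =>
      obtain ⟨g, hg, rfl⟩ := hz
      exact Submodule.subset_span ⟨u * g, J.mul_mem hu hg, r.mul_apply trivial trivial x⟩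
    | zero => simp
    | add z z' _ _ hz hz' => rw [map_add]; exact S.add_mem hz hz'
    | smul a z _ hz => rw [map_smul]; exact S.smul_mem a hz
  -- a functional, invariant modulo the annihilator of the orbit
  let rd := r.dual.mono (le_top : J ≤ ⊤)
  have hM₀ : rd.Stable J M₀ := fun u hu φ hφ => (Submodule.mem_dualAnnihilator _).2 fun z hz =>
    (Submodule.mem_dualAnnihilator _).1 hφ _ (hSst _ (J.inv_mem hu) z hz)
  obtain ⟨r₂, s, hs⟩ : ∃ (r₂ : RegRep J (Module.Dual k V ⧸ M₀)) (_ : True),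
      ∀ u ∈ J, ∀ φ, r₂.ρ u (M₀.mkQ φ) = M₀.mkQ (rd.ρ u φ) := by
    obtain ⟨r₂, h₂⟩ := rd.exists_quot hM₀
    exact ⟨r₂, trivial, h₂⟩
  let W := M.map M₀.mkQ
  have hW : W ≠ ⊥ := fun h => hfx <| by
    have : M₀.mkQ f = 0 := by rw [← Submodule.mem_bot k, ← h]; exact Submodule.mem_map_of_mem hfM
    exact (Submodule.mem_dualAnnihilator _).1 ((Submodule.Quotient.mk_eq_zero _).1 this) x hxS
  have hWst : r₂.Stable J W := by
    rintro u hu _ ⟨φ, hφ, rfl⟩
    refine ⟨rd.ρ u φ, (Submodule.mem_dualAnnihilator _).2 fun z hz => ?_, (hs u hu φ).symm⟩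
    obtain ⟨a, rfl⟩ := Submodule.mem_span_singleton.1 hz
    show φ (r.ρ u⁻¹ (a • y)) = 0
    rw [map_smul, hyfix _ (J.inv_mem hu)]
    exact (Submodule.mem_dualAnnihilator _).1 hφ _ hz
  obtain ⟨q, hqW, hq0, hqw⟩ := r₂.exists_weight_of_isSol le_rfl hJc hJs hW hWst
  obtain ⟨φ, hφM, rfl⟩ := hqW
  have hinv : ∀ u ∈ J, ∀ z ∈ S, φ (r.ρ u z) = φ z := by
    intro u huJ z hz
    obtain ⟨a, ha⟩ := hqw u⁻¹ (J.inv_mem huJ)
    rw [hs _ (J.inv_mem huJ), ← map_smul, Submodule.mkQ_apply, Submodule.mkQ_apply, Submodule.Quotient.eq] at ha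
    have key : ∀ z ∈ S, φ (r.ρ u z) = a * φ z := fun z hz => by
      have := (Submodule.mem_dualAnnihilator _).1 ha z hz
      rw [LinearMap.sub_apply, LinearMap.smul_apply, sub_eq_zero, smul_eq_mul] at this
      rw [← this]
      show φ (r.ρ u z) = φ (r.ρ (u⁻¹)⁻¹ z)
      rw [inv_inv]
    obtain ⟨z₀, hz₀, hz₀φ⟩ : ∃ z ∈ S, φ z ≠ 0 := by
      by_contra hno
      push Not at hno
      exact hq0 ((Submodule.Quotient.mk_eq_zero _).2 ((Submodule.mem_dualAnnihilator _).2 hno))
    obtain ⟨N, hN⟩ := hu u huJ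
    have hiter : ∀ n, ∀ z ∈ S, ((r.ρ u - 1) ^ n) z ∈ S ∧ φ (((r.ρ u - 1) ^ n) z) = (a - 1) ^ n * φ z := by
      intro n
      induction n with
      | zero => intro z hz; simpa using hz
      | succ n ih =>
        intro z hz
        obtain ⟨h1, h2⟩ := ih z hz
        rw [pow_succ', Module.End.mul_apply, LinearMap.sub_apply, Module.End.one_apply, map_sub, key _ h1, h2]
        exact ⟨S.sub_mem (hSst u huJ _ h1) h1, by ring⟩
    have h0 := (hiter N z₀ hz₀).2
    rw [hN, LinearMap.zero_apply, map_zero, eq_comm, mul_eq_zero] at h0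
    have ha1 : a = 1 := sub_eq_zero.1 (eq_zero_of_pow_eq_zero (h0.resolve_right hz₀φ))
    rw [key z hz, ha1, one_mul]
  -- both functionals are constant on the orbit
  have hker : S ≤ LinearMap.ker (φ x • ℓ - ℓ x • φ) := by
    rw [hS, Submodule.span_le]
    rintro _ ⟨u, hu, rfl⟩
    simp only [SetLike.mem_coe, LinearMap.mem_ker, LinearMap.sub_apply, LinearMap.smul_apply, smul_eq_mul,
      hℓ u hu, hinv u hu x hxS]
    ring
  have h := LinearMap.mem_ker.1 (hker hy)
  rw [LinearMap.sub_apply, LinearMap.smul_apply, LinearMap.smul_apply,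
    (Submodule.mem_dualAnnihilator _).1 hφM y (Submodule.mem_span_singleton_self y), smul_zero, sub_zero,
    smul_eq_mul, mul_eq_zero] at h
  refine hq0 ((Submodule.Quotient.mk_eq_zero _).2 ((Submodule.mem_dualAnnihilator _).2 ?_))
  intro z hz
  refine Submodule.span_induction ?_ (map_zero φ) (fun z z' _ _ h1 h2 => by rw [map_add, h1, h2, add_zero])
    (fun c z _ h1 => by rw [map_smul, h1, smul_zero]) hz
  rintro _ ⟨u, hu, rfl⟩
  rw [hinv u hu x hxS]
  exact h.resolve_right hly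

variable {T J : Subgroup (Pt k A)}

/-- The elements fixing the line through a translate of the vector. -/
theorem RegRep.mem_conjSub_lineStab (r : RegRep (⊤ : Subgroup (Pt k A)) V) (g x : Pt k A) {v : V} :
    x ∈ conjSub g (r.lineStab v) ↔ ∃ a : k, r.ρ x (r.ρ g v) = a • r.ρ g v := by
  rw [mem_conjSub]
  constructor
  · rintro ⟨-, a, ha⟩
    refine ⟨a, ?_⟩
    have h := congrArg (r.ρ g) ha
    rw [map_smul, ← r.mul_apply trivial trivial, show g * (g⁻¹ * x * g) = x * g by group,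
      r.mul_apply (g := x) trivial trivial] at h
    exact h
  · rintro ⟨a, ha⟩
    refine ⟨trivial, a, ?_⟩
    rw [r.mul_apply trivial trivial, r.mul_apply trivial trivial, ha, map_smul, r.inv_apply trivial]

/-- **Chevalley, after Luna**: a connected unipotent group inside every Borel subgroup containing a maximal torus
lies in every Borel subgroup. -/
theorem le_of_le_borels (hconn : _root_.IsPreconnected (Set.univ : Set (Pt k A))) (hTmax : IsMaxTor ⊤ T)
    (hJc : _root_.IsPreconnected (J : Set (Pt k A))) (hJs : IsSol J)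
    (hJ : ∀ B : Subgroup (Pt k A), IsBor ⊤ B → T ≤ B → J ≤ B)
    (hu : ∀ (W : Type u) [AddCommGroup W] [Module k W] [FiniteDimensional k W]
      (r : RegRep (⊤ : Subgroup (Pt k A)) W), ∀ u ∈ J, ∃ N : ℕ, (r.ρ u - 1) ^ N = 0)
    {B : Subgroup (Pt k A)} (hB : IsBor ⊤ B) : J ≤ B := by
  classical
  have hKc : IsClosed ((⊤ : Subgroup (Pt k A)) : Set (Pt k A)) := by rw [Subgroup.coe_top]; exact isClosed_univ
  have hK : _root_.IsPreconnected ((⊤ : Subgroup (Pt k A)) : Set (Pt k A)) := by rwa [Subgroup.coe_top]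
  obtain ⟨W, _, _, _, r, v, hv, hst, hC, hspan⟩ := hB.exists_cone_rep hconn
  suffices key : ∀ g, ∀ u ∈ J, ∃ a : k, r.ρ u (r.ρ g v) = a • r.ρ g v by
    intro u hu
    have := (r.mem_conjSub_lineStab 1 u (v := v)).2 (key 1 u hu)
    rwa [conjSub_one, hst] at this
  haveI : Nontrivial W := ⟨⟨v, 0, hv⟩⟩
  -- an eigenvector of a subgroup fixed by a unipotent group
  have fixed : ∀ {U : Type u} [AddCommGroup U] [Module k U] [FiniteDimensional k U]
      (q : RegRep (⊤ : Subgroup (Pt k A)) U) {z : U}, q.IsWeight J z → ∀ u ∈ J, q.ρ u z = z := by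
    intro U _ _ _ q z hz u huJ
    obtain ⟨a, ha⟩ := hz u huJ
    rcases eq_or_ne z 0 with rfl | hz0
    · rw [map_zero]
    obtain ⟨N, hN⟩ := hu U q u huJ
    have hiter : ∀ n : ℕ, ((q.ρ u - 1) ^ n) z = (a - 1) ^ n • z := by
      intro n
      induction n with
      | zero => simp
      | succ n ih =>
        rw [pow_succ', Module.End.mul_apply, ih, map_smul, LinearMap.sub_apply, Module.End.one_apply, ha,
          show a • z - z = (a - 1) • z by rw [sub_smul, one_smul], smul_smul, pow_succ]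
    have h0 := hiter N
    rw [hN, LinearMap.zero_apply, eq_comm, smul_eq_zero] at h0
    rw [ha, sub_eq_zero.1 (eq_zero_of_pow_eq_zero (h0.resolve_right hz0)), one_smul]
  -- weight vectors of the torus in the cone
  have hfix : ∀ g, r.IsWeight T (r.ρ g v) → ∀ u ∈ J, r.ρ u (r.ρ g v) = r.ρ g v := by
    intro g hg
    refine fixed r fun u hu => ?_
    have hle : T ≤ conjSub g (r.lineStab v) := fun s hs => (r.mem_conjSub_lineStab g s).2 (hg s hs)
    rw [hst] at hle
    exact (r.mem_conjSub_lineStab g u).1 (hst.symm ▸ hJ _ (hB.conjSub trivial) hle hu)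
  have hT := hTmax.tor
  obtain ⟨P, hP0, hPidem, hPw, hPd, hPZ, hPZd⟩ := hT.exists_extreme r
  -- a closed cone of functionals
  let rd := r.dual
  obtain ⟨f₀, hf₀, hZd⟩ := rd.exists_closed_cone hKc hK
  obtain ⟨B₀, hB₀, -, -⟩ := IsBor.exists_conj_universal hKc hK
  obtain ⟨y₁, hy₁, hy₁ne, hy₁w⟩ := rd.exists_weight_in_cone le_top hB₀.conn hB₀.sol hZd
    (fun c _ y hy => rd.cone_smul hy c) (fun h _ y hy => rd.cone_stable trivial hy)
    ⟨_, rd.mem_cone_self f₀, by rwa [pv_vp]⟩
  obtain ⟨g₁, -, c₁, hc₁⟩ := hy₁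
  have hc₁0 : c₁ ≠ 0 := fun h => hy₁ne (by rw [hc₁, h, zero_smul])
  have hB₀' : B₀ ≤ conjSub g₁ (rd.lineStab f₀) := fun s hs => by
    refine (rd.mem_conjSub_lineStab g₁ s).2 ?_
    obtain ⟨a, ha⟩ := hy₁w s hs
    rw [hc₁, map_smul, smul_comm a c₁] at ha
    exact ⟨a, smul_right_injective _ hc₁0 ha⟩
  -- eigenfunctionals of the torus in the cone are invariant
  have hfixd : ∀ g, rd.IsWeight T (rd.ρ g f₀) → ∀ u ∈ J, ∀ z, rd.ρ g f₀ (r.ρ u z) = rd.ρ g f₀ z := by
    intro g hg u hu z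
    suffices h : ∀ u ∈ J, rd.ρ u (rd.ρ g f₀) = rd.ρ g f₀ by
      have := LinearMap.congr_fun (h u⁻¹ (J.inv_mem hu)) z
      simpa [rd, RegRep.dual] using this
    refine fixed rd fun u hu => (rd.mem_conjSub_lineStab g u).1 ?_
    -- the stabiliser contains a Borel subgroup through the torus
    have hT' : T ≤ conjSub g (rd.lineStab f₀) := fun s hs => (rd.mem_conjSub_lineStab g s).2 (hg s hs)
    have hBle : conjSub (g * g₁⁻¹) B₀ ≤ conjSub g (rd.lineStab f₀) := by
      have := conjSub_mono (a := g * g₁⁻¹) hB₀'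
      rwa [conjSub_conjSub, inv_mul_cancel_right] at this
    set P₁ := conjSub g (rd.lineStab f₀)
    have hP₁c : IsClosed (P₁ : Set (Pt k A)) := isClosed_conjSub (rd.isClosed_lineStab hKc hf₀)
    have hB₁ := hB₀.conjSub (a := g * g₁⁻¹) trivial
    have hbor : IsBor (neut P₁) (conjSub (g * g₁⁻¹) B₀) := ⟨le_neut hB₁.conn hBle, hB₁.closed, hB₁.conn, hB₁.sol,
      fun H _ hc hp hs hle => hB₁.maximal H le_top hc hp hs hle⟩
    obtain ⟨a, ha, hle⟩ := hbor.exists_conj_le (isClosed_neut hP₁c) (isPreconnected_neut _)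
      (le_neut hT.conn hT') hT.conn hT.isSol
    have hTB : T ≤ conjSub (a⁻¹ * (g * g₁⁻¹)) B₀ := by
      have := conjSub_mono (a := a⁻¹) hle
      rwa [conjSub_conjSub, inv_mul_cancel, conjSub_one, conjSub_conjSub] at this
    have hmem := hJ _ (hB₀.conjSub trivial) hTB hu
    rw [← conjSub_conjSub] at hmem
    exact conjSub_le ((neut_le P₁) ((neut P₁).inv_mem ha)) hBle hmem
  -- a translate with non-zero extreme component and a functional seeing it
  obtain ⟨g₂, hg₂⟩ : ∃ g₂, P (r.ρ g₂ v) ≠ 0 := by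
    by_contra hno
    push Not at hno
    refine hP0 (LinearMap.ext_on_range hspan fun g => ?_)
    rw [hno g]
    rfl
  set y₀ := P (r.ρ g₂ v)
  have hy₀mem : vp (k := k) y₀ ∈ r.cone v :=
    hPZ _ hC (fun d _ y hy => r.cone_smul hy d) (fun s _ y hy => r.cone_stable trivial hy) _
      ⟨g₂, trivial, 1, by rw [pv_vp, one_smul]⟩
  obtain ⟨h₀, -, d₀, hd₀⟩ := hy₀mem
  rw [pv_vp] at hd₀
  have hd₀0 : d₀ ≠ 0 := fun h => hg₂ (by rw [hd₀, h, zero_smul])
  obtain ⟨g₃, hg₃⟩ : ∃ g₃, rd.ρ g₃ f₀ y₀ ≠ 0 := by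
    by_contra hno
    push Not at hno
    refine hf₀ (LinearMap.ext_on_range hspan fun g => ?_)
    have h : f₀ (r.ρ ((g * h₀⁻¹)⁻¹)⁻¹ y₀) = 0 := hno (g * h₀⁻¹)⁻¹
    rw [inv_inv, hd₀, map_smul, map_smul, smul_eq_mul, mul_eq_zero, ← r.mul_apply trivial trivial,
      inv_mul_cancel_right] at h
    exact h.resolve_left hd₀0
  have hℓ₀mem : vp (k := k) ((rd.ρ g₃ f₀).comp P) ∈ rd.cone f₀ :=
    hPZd _ hZd (fun d _ y hy => rd.cone_smul hy d) (fun s _ y hy => rd.cone_stable trivial hy) _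
      ⟨g₃, trivial, 1, by rw [pv_vp, one_smul]⟩
  obtain ⟨g₄, -, d₄, hd₄⟩ := hℓ₀mem
  rw [pv_vp] at hd₄
  have hPy : (rd.ρ g₃ f₀).comp P = d₄ • rd.ρ g₄ f₀ := hd₄
  obtain ⟨g₅, hg₅⟩ : ∃ g₅, rd.ρ g₃ f₀ (P (r.ρ g₅ v)) ≠ 0 := ⟨g₂, hg₃⟩
  have hd₄0 : d₄ ≠ 0 := fun h => hg₅ (by
    have := LinearMap.congr_fun hPy (r.ρ g₅ v)
    rwa [h, zero_smul] at this)
  have hwt₄ : rd.IsWeight T (rd.ρ g₄ f₀) := fun s hs => by
    obtain ⟨a, ha⟩ := hPd (rd.ρ g₃ f₀) s hs
    rw [hPy, map_smul, smul_comm a d₄] at ha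
    exact ⟨a, smul_right_injective _ hd₄0 ha⟩
  -- the extreme fixed vector
  set z₀ := r.ρ h₀ v
  have hwz₀ : r.IsWeight T z₀ := fun s hs => by
    obtain ⟨a, ha⟩ := hPw (r.ρ g₂ v) s hs
    change r.ρ s y₀ = a • y₀ at ha
    rw [hd₀, map_smul, smul_comm a d₀] at ha
    exact ⟨a, smul_right_injective _ hd₀0 ha⟩
  have hpair : rd.ρ g₄ f₀ z₀ ≠ 0 := fun h => by
    have e1 := LinearMap.congr_fun hPy y₀
    have e2 : P y₀ = y₀ := hPidem _
    rw [LinearMap.comp_apply, e2, LinearMap.smul_apply, smul_eq_mul, hd₀, map_smul, smul_eq_mul, map_smul,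
      smul_eq_mul, h, mul_zero, mul_zero] at e1
    exact hg₃ (by rw [hd₀, map_smul, smul_eq_mul, e1])
  intro g
  suffices h : ∀ u ∈ J, r.ρ u (r.ρ g v) = r.ρ g v from fun u hu => ⟨1, by rw [h u hu, one_smul]⟩
  set x := r.ρ g v
  let S := Submodule.span k ((fun u => r.ρ u x) '' (J : Set (Pt k A)))
  -- a fixed vector of the cone in the span of the orbit
  let Z := r.cone v ∩ {y | pv y ∈ S}
  have hSst : ∀ u ∈ J, ∀ z ∈ S, r.ρ u z ∈ S := by
    intro u hu z hz
    induction hz using Submodule.span_induction with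
    | mem z hz =>
      obtain ⟨w, hw, rfl⟩ := hz
      exact Submodule.subset_span ⟨u * w, J.mul_mem hu hw, r.mul_apply trivial trivial x⟩
    | zero => simp
    | add z z' _ _ hz hz' => rw [map_add]; exact S.add_mem hz hz'
    | smul a z _ hz => rw [map_smul]; exact S.smul_mem a hz
  obtain ⟨y, ⟨hyC, hyS⟩, hyne, hyw⟩ := r.exists_weight_in_cone le_top hJc hJs (Z := Z)
    (hC.inter (isClosed_pv_mem S))
    (fun a _ y hy => ⟨r.cone_smul hy.1 a, by show pv (vp (a • pv y)) ∈ S; rw [pv_vp]; exact S.smul_mem a hy.2⟩)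
    (fun u hu y hy => ⟨r.cone_stable trivial hy.1, by show pv (vp (r.ρ u (pv y))) ∈ S; rw [pv_vp]; exact hSst u hu _ hy.2⟩)
    ⟨vp x, ⟨⟨g, trivial, 1, by rw [pv_vp, one_smul]⟩, by
      show pv (vp x) ∈ S
      rw [pv_vp]; exact Submodule.subset_span ⟨1, J.one_mem, by simp [r.map_one]⟩⟩, by
      rw [pv_vp]; exact r.apply_ne_zero trivial hv⟩
  obtain ⟨g', -, e', he'⟩ := hyC
  -- some invariant functional does not vanish on it
  obtain ⟨g₆, hg₆, hne⟩ : ∃ g₆, rd.IsWeight T (rd.ρ g₆ f₀) ∧ rd.ρ g₆ f₀ (pv y) ≠ 0 := by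
    by_contra hno
    push Not at hno
    let Z₀ : Set (Pt k (VPoly k W)) := r.cone v ∩
      ⋂ (h : {h : Pt k A // rd.IsWeight T (rd.ρ h f₀)}), {z | rd.ρ h.1 f₀ (pv z) = 0}
    have hZ₀ : IsClosed Z₀ := hC.inter (isClosed_iInter fun h => (isReg_pv _).isClosed_eq (IsReg.const 0))
    obtain ⟨z, ⟨⟨hh, -, c, hc⟩, hz0⟩, hzne, hzw⟩ := r.exists_weight_in_cone le_top hT.conn hT.isSol (Z := Z₀) hZ₀
      (fun a _ z hz => ⟨r.cone_smul hz.1 a, Set.mem_iInter.2 fun h => by
        show rd.ρ h.1 f₀ (pv (vp (a • pv z))) = 0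
        rw [pv_vp, map_smul, show rd.ρ h.1 f₀ (pv z) = 0 from Set.mem_iInter.1 hz.2 h, smul_zero]⟩)
      (fun s hs z hz => ⟨r.cone_stable trivial hz.1, Set.mem_iInter.2 fun h => by
        show rd.ρ h.1 f₀ (pv (vp (r.ρ s (pv z)))) = 0
        obtain ⟨a, ha⟩ := h.2 s⁻¹ (T.inv_mem hs)
        have e := LinearMap.congr_fun ha (pv z)
        rw [LinearMap.smul_apply, show rd.ρ h.1 f₀ (pv z) = 0 from Set.mem_iInter.1 hz.2 h, smul_zero] at e
        rw [pv_vp, ← e]
        show _ = rd.ρ h.1 f₀ (r.ρ (s⁻¹)⁻¹ (pv z))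
        rw [inv_inv]⟩)
      ⟨y, ⟨⟨g', trivial, e', he'⟩, Set.mem_iInter.2 fun h => hno h.1 h.2⟩, hyne⟩
    have hc0 : c ≠ 0 := fun h => hzne (by rw [hc, h, zero_smul])
    have hT₁ : T ≤ conjSub hh B := fun s hs => hst ▸ (r.mem_conjSub_lineStab hh s).2 (by
      obtain ⟨a, ha⟩ := hzw s hs
      rw [hc, map_smul, smul_comm a c] at ha
      exact ⟨a, smul_right_injective _ hc0 ha⟩)
    have hT₀ : T ≤ conjSub h₀ B := fun s hs => hst ▸ (r.mem_conjSub_lineStab h₀ s).2 (hwz₀ s hs)
    obtain ⟨w, hwB, hwT⟩ := exists_conj_pair hconn (hB.conjSub (a := h₀) trivial) hTmax hT₀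
      (hB.conjSub (a := hh) trivial) hTmax hT₁
    have hnB : hh⁻¹ * (w * h₀) ∈ B := hB.mem_of_normalizing hKc hK trivial (by
      rw [← conjSub_conjSub, ← conjSub_conjSub w, hwB, conjSub_conjSub, inv_mul_cancel, conjSub_one])
    obtain ⟨a, ha⟩ := ((hst ▸ hnB : _ ∈ r.lineStab v)).2
    have hℓw : rd.IsWeight T (rd.ρ (w * g₄) f₀) := fun s hs => by
      have hs' : w⁻¹ * s * w ∈ T := by rw [← mem_conjSub, hwT]; exact hs
      obtain ⟨b, hb⟩ := hwt₄ _ hs'
      refine ⟨b, ?_⟩
      have := congrArg (rd.ρ w) hb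
      rw [map_smul] at this
      simp only [← rd.mul_apply (Subgroup.mem_top _) (Subgroup.mem_top _)] at this ⊢
      simp only [_root_.mul_assoc, mul_inv_cancel_left] at this ⊢
      exact this
    have hz : rd.ρ (w * g₄) f₀ (pv z) = 0 := Set.mem_iInter.1 hz0 ⟨_, hℓw⟩
    have hnw : r.ρ hh v = a⁻¹ • r.ρ (w * h₀) v := by
      have h2 := congrArg (r.ρ hh) ha
      rw [map_smul, ← r.mul_apply trivial trivial, mul_inv_cancel_left] at h2
      have ha0 : a ≠ 0 := fun h => r.apply_ne_zero (g := w * h₀) trivial hv (by rw [h2, h, zero_smul])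
      rw [h2, smul_smul, inv_mul_cancel₀ ha0, one_smul]
    have ha0 : a⁻¹ ≠ 0 := fun h => r.apply_ne_zero (g := hh) trivial hv (by rw [hnw, h, zero_smul])
    rw [hc, hnw, map_smul, map_smul, smul_eq_mul, smul_eq_mul] at hz
    refine hpair ?_
    have h3 : f₀ (r.ρ (w * g₄)⁻¹ (r.ρ (w * h₀) v)) = 0 := (mul_eq_zero.1 ((mul_eq_zero.1 hz).resolve_left hc0)).resolve_left ha0
    rw [← r.mul_apply trivial trivial, show (w * g₄)⁻¹ * (w * h₀) = g₄⁻¹ * h₀ by group,
      r.mul_apply trivial trivial] at h3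
    exact h3
  have hyfix := fixed r hyw
  obtain ⟨a, ha⟩ := r.fixes_of_invariant hJc hJs (hu W r) (ℓ := rd.ρ g₆ f₀) (hfixd g₆ hg₆) hyS hyfix hne
  intro u huJ
  rw [ha, map_smul, hyfix u huJ]

end Groth.Agent.BorelLib

end
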