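import Groth.Agent.BorelLib.Const

/-!
# Over a field, anything commuting with a Borel subgroup is central
-/

set_option autoImplicit false
set_option linter.style.haveILetI false
set_option backward.isDefEq.respectTransparency false

universe u

open CategoryTheory CategoryTheory.Limits MonoidalCategory CartesianMonoidalCategory AlgebraicGeometry WithConv
open scoped MonObj

noncomputable section

attribute [-instance] CategoryTheory.Hom.commGroup

namespace Groth.Agent.BorelLib

attribute [local instance] pTop pTopTensor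

variable {k : Type u} [Field k] {G : Over (Spec (CommRingCat.of k))} [GrpObj G] [IsAffine G.left] [Smooth G.hom]
  [ConnectedSpace G.left] {B : Over (Spec (CommRingCat.of k))} [GrpObj B] {iB : B ⟶ G}

/-- A point commuting with a Borel subgroup commutes with every point. -/
theorem comm_of_comm_borel (hB : Red.IsBorel iB) {X : Over (Spec (CommRingCat.of k))} (g : X ⟶ G)
    (hg : ∀ (X' : Over (Spec (CommRingCat.of k))) (x : X' ⟶ X) (b : X' ⟶ B),
      (x ≫ g) * (b ≫ iB) = (b ≫ iB) * (x ≫ g))
    {X' : Over (Spec (CommRingCat.of k))} (x : X' ⟶ X) (h : X' ⟶ G) : (x ≫ g) * h = h * (x ≫ g) := by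
  let s : ↥(Spec (CommRingCat.of k)) := IsLocalRing.closedPoint k
  let t := Red.geomPt s
  obtain ⟨hA', hS', hC'⟩ := geom_facts s G
  haveI := hA'; haveI := hS'; haveI := hC'
  haveI := hB.1
  let Y : Over (Spec (CommRingCat.of (AlgebraicClosure ((Spec (CommRingCat.of k)).residueField s)))) :=
    (Over.pullback t).obj X'
  let ε : (Over.map t).obj Y ⟶ X' := (Over.mapPullbackAdj t).counit.app X'
  haveI : Epi ε := by
    have e : ε.left = pullback.fst X'.hom t := by simp [ε]
    haveI := flat_geomPt s
    haveI : Flat (pullback.fst X'.hom t) := inferInstance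
    haveI := surjective_fst s X'
    haveI : Epi ε.left := e ▸ Flat.epi_of_flat_of_surjective _
    exact Over.epi_of_epi_left ε
  have hBs := hB.2.2.2 s
  haveI := hBs.1; haveI := hBs.2.1
  obtain ⟨A, _, _, v, hv, hA, hAred⟩ := exists_setup (Red.geomFibre s G)
  haveI := hv; haveI := hA; haveI := hAred
  haveI : QuasiCompact (Red.geomFibre s G).hom := inferInstance
  haveI : PreconnectedSpace (Red.geomFibre s G).left := inferInstance
  have key := comm_of_comm_bor v (PowEtCentralLib.adjEquiv t Y (ε ≫ x ≫ g)) (PowEtCentralLib.adjEquiv t Y (ε ≫ h))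
    (isBor_ptsSub v hBs) fun b hb => by
      obtain ⟨c, hc⟩ := (mem_ptsSub v).1 hb
      obtain ⟨β, hβ⟩ := ((Over.mapPullbackAdj t).homEquiv Y B).surjective (toUnit Y ≫ c)
      have h2 : toUnit Y ≫ ptEquiv v b = PowEtCentralLib.adjEquiv t Y (β ≫ iB) := by
        rw [← hc, ← Category.assoc, ← hβ]
        exact (Adjunction.homEquiv_naturality_right (Over.mapPullbackAdj t) β iB).symm
      rw [h2, ← map_mul, ← map_mul, ← Category.assoc, hg _ (ε ≫ x) β, Category.assoc]
  rw [← map_mul, ← map_mul] at key
  have h3 := (PowEtCentralLib.adjEquiv t Y).injective key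
  rw [← MonObj.comp_mul, ← MonObj.comp_mul, cancel_epi] at h3
  exact h3

end Groth.Agent.BorelLib

end
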