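import Groth.Agent.BorelLib.Pts
import Groth.Agent.S0389

/-!
# Generic openness: images of saturated closed sets
-/

set_option autoImplicit false
set_option linter.style.haveILetI false

noncomputable section

universe u

open WithConv
open scoped TensorProduct

namespace Groth.Agent.BorelLib

attribute [local instance] pTop pTopTensor

variable {k : Type u} [Field k] {R R₁ R₂ : Type u} [CommRing R] [Algebra k R] [CommRing R₁] [Algebra k R₁]
  [CommRing R₂] [Algebra k R₂]

lemma pull_lTensor_pair (φ : R₂ →ₐ[k] R₁) (s : Pt k R) (x : Pt k R₁) :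
    pull (Algebra.TensorProduct.lTensor (S := k) R φ) (pair s x) = pair s (pull φ x) := by
  refine WithConv.ext (AlgHom.ext fun t => ?_)
  induction t using TensorProduct.induction_on with
  | zero => simp
  | add a b ha hb => simp only [map_add, ha, hb]
  | tmul a b =>
    show (pair s x).ofConv (a ⊗ₜ φ b) = _
    rw [pair_tmul, pair_tmul]
    rfl

lemma isClosed_toP (x : Pt k R) : (toP x).asIdeal.IsMaximal := by
  rw [toP_asIdeal]
  exact RingHom.ker_isMaximal_of_surjective _ fun c => ⟨algebraMap k R c, x.ofConv.commutes c⟩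

lemma toP_injective : Function.Injective (toP : Pt k R → PrimeSpectrum R) := by
  intro x y h
  refine WithConv.ext (AlgHom.ext fun a => ?_)
  have hmem : a - algebraMap k R (x.ofConv a) ∈ (toP x).asIdeal := by
    rw [toP_asIdeal, RingHom.mem_ker]
    simp
  rw [h, toP_asIdeal, RingHom.mem_ker] at hmem
  simp only [map_sub, AlgHom.toRingHom_eq_coe, RingHom.coe_coe, AlgHom.commutes, Algebra.algebraMap_self,
    RingHom.id_apply, sub_eq_zero] at hmem
  exact hmem.symm

lemma toP_pull (φ : R →ₐ[k] R₁) (x : Pt k R₁) : toP (pull φ x) = PrimeSpectrum.comap φ.toRingHom (toP x) :=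
  PrimeSpectrum.ext (by
    simp only [toP_asIdeal, PrimeSpectrum.comap_asIdeal]
    rfl)

/-- A point lifts as soon as its prime does. -/
lemma exists_pull_eq [IsAlgClosed k] [Algebra.FiniteType k R₁] (φ : R →ₐ[k] R₁) (y : Pt k R)
    {U : Set (PrimeSpectrum R₁)} (hU : IsOpen U) (h : ∃ p ∈ U, PrimeSpectrum.comap φ.toRingHom p = toP y) :
    ∃ x : Pt k R₁, toP x ∈ U ∧ pull φ x = y := by
  obtain ⟨p, hpU, hp⟩ := h
  have hc : IsClosed ({toP y} : Set (PrimeSpectrum R)) :=
    (PrimeSpectrum.isClosed_singleton_iff_isMaximal _).2 (isClosed_toP y)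
  obtain ⟨x, hxU, hx⟩ := exists_pt_mem (k := k)
    (Z := U ∩ PrimeSpectrum.comap φ.toRingHom ⁻¹' {toP y}) ⟨p, hpU, hp⟩
    (hU.isLocallyClosed.inter (hc.preimage (PrimeSpectrum.continuous_comap _)).isLocallyClosed)
  exact ⟨x, hxU, toP_injective (by rw [toP_pull]; exact hx)⟩

/-- Flat maps of finite type between algebras of finite type are open on points. -/
theorem isOpenMap_pull [IsAlgClosed k] [Algebra.FiniteType k R] [Algebra.FiniteType k R₁] (φ : R →ₐ[k] R₁)
    (hφ : φ.toRingHom.Flat) : IsOpenMap (pull φ : Pt k R₁ → Pt k R) := by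
  letI := φ.toRingHom.toAlgebra
  have : IsScalarTower k R R₁ := IsScalarTower.of_algHom φ
  have : Module.Flat R R₁ := hφ
  have : IsNoetherianRing R := Algebra.FiniteType.isNoetherianRing k R
  have : Algebra.FiniteType R R₁ := Algebra.FiniteType.of_restrictScalars_finiteType k R R₁
  have : Algebra.FinitePresentation R R₁ := Algebra.FinitePresentation.of_finiteType.mp inferInstance
  have hopen : IsOpenMap (PrimeSpectrum.comap φ.toRingHom) :=
    PrimeSpectrum.isOpenMap_comap_of_hasGoingDown_of_finitePresentation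
  intro U hU
  obtain ⟨U', hU', rfl⟩ := isOpen_induced_iff.1 hU
  refine isOpen_induced_iff.2 ⟨_, hopen U' hU', Set.Subset.antisymm ?_ ?_⟩
  · rintro y ⟨p, hp, hpy⟩
    obtain ⟨x, hx, hxy⟩ := exists_pull_eq φ y hU' ⟨p, hp, hpy⟩
    exact ⟨x, hx, hxy⟩
  · rintro _ ⟨x, hx, rfl⟩
    exact ⟨toP x, hx, (toP_pull φ x).symm⟩

lemma isPrime_vanish {X : Set (Pt k R)} (hX : IsIrreducible X) : (vanish X).IsPrime := by
  refine ⟨fun h => ?_, fun {a b} hab => ?_⟩
  · obtain ⟨x, hx⟩ := hX.nonempty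
    simpa using (Ideal.eq_top_iff_one _).1 h x hx
  · by_contra hne
    simp only [mem_vanish, not_or, not_forall] at hne
    obtain ⟨⟨x, hx, hxa⟩, ⟨y, hy, hyb⟩⟩ := hne
    obtain ⟨z, hz, hza, hzb⟩ := hX.2 _ _ (isOpen_ne a) (isOpen_ne b) ⟨x, hx, hxa⟩ ⟨y, hy, hyb⟩
    exact (mul_ne_zero hza hzb) (by rw [← map_mul]; exact hab z hz)

variable [IsAlgClosed k] [Algebra.FiniteType k R₁] [Algebra.FiniteType k R₂]

/-- Saturated closed sets have closed images over an open `W` which flattens the map. -/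
theorem closed_image_of_flat_model {Bb A' : Type u} [CommRing Bb] [Algebra k Bb] [CommRing A'] [Algebra k A']
    [Algebra.FiniteType k Bb] [Algebra.FiniteType k A'] (φ : R₂ →ₐ[k] R₁) (ρ : Bb →ₐ[k] A') (i : R₁ →ₐ[k] A')
    (j : R₂ →ₐ[k] Bb) (b₀ : R₂) {X : Set (Pt k R₁)}
    (hρ : ρ.toRingHom.Flat) (hsurj : ∀ y' : Pt k Bb, ∃ a : Pt k A', pull ρ a = y')
    (hdown : ∀ a : Pt k A', pull j (pull ρ a) = pull φ (pull i a)) (hi : ∀ a : Pt k A', pull i a ∈ X)
    (hu : IsUnit (j b₀)) (hj : ∀ x : Bb, ∃ (m : ℕ) (r : R₂), j r = x * j b₀ ^ m)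
    (hlift : ∀ y : Pt k R₂, y.ofConv b₀ ≠ 0 → y ∈ closure (pull φ '' X) → ∃ y' : Pt k Bb, pull j y' = y)
    (S : Type u) [CommRing S] [Algebra k S] [Algebra.FiniteType k S] {Y : Set (Pt k (S ⊗[k] R₁))}
    (hY : IsClosed Y) (hYX : ∀ y ∈ Y, sndP y ∈ X)
    (hsat : ∀ (s : Pt k S) (x x' : Pt k R₁), x ∈ X → x' ∈ X → pull φ x = pull φ x' → (pull φ x).ofConv b₀ ≠ 0 →
      pair s x ∈ Y → pair s x' ∈ Y)
    {z : Pt k (S ⊗[k] R₂)} (hz : z ∈ closure (pull (Algebra.TensorProduct.lTensor (S := k) S φ) '' Y))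
    (hzW : (sndP z).ofConv b₀ ≠ 0) : z ∈ pull (Algebra.TensorProduct.lTensor (S := k) S φ) '' Y := by
  have hft : Algebra.FiniteType k (S ⊗[k] Bb) := finiteType_tensor
  have hft' : Algebra.FiniteType k (S ⊗[k] A') := finiteType_tensor
  have hcl : ∀ x ∈ X, pull φ x ∈ closure (pull φ '' X) := fun x hx => subset_closure ⟨x, hx, rfl⟩
  have hfrac : ∀ t : S ⊗[k] Bb, ∃ (m : ℕ) (t₀ : S ⊗[k] R₂),
      Algebra.TensorProduct.lTensor (S := k) S j t₀ = t * ((1 : S) ⊗ₜ j b₀) ^ m := by
    intro t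
    induction t using TensorProduct.induction_on with
    | zero => exact ⟨0, 0, by simp⟩
    | tmul s x =>
      obtain ⟨m, r, hr⟩ := hj x
      refine ⟨m, s ⊗ₜ r, ?_⟩
      rw [Algebra.TensorProduct.tmul_pow, one_pow, Algebra.TensorProduct.tmul_mul_tmul, mul_one]
      show s ⊗ₜ[k] j r = _
      rw [hr]
    | add x y hx hy =>
      obtain ⟨m, x₀, hx⟩ := hx
      obtain ⟨m', y₀, hy⟩ := hy
      refine ⟨m + m', x₀ * ((1 : S) ⊗ₜ b₀) ^ m' + y₀ * ((1 : S) ⊗ₜ b₀) ^ m, ?_⟩
      have e : Algebra.TensorProduct.lTensor (S := k) S j ((1 : S) ⊗ₜ b₀) = (1 : S) ⊗ₜ j b₀ := rfl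
      rw [map_add, map_mul, map_mul, map_pow, map_pow, hx, hy, e, add_mul, pow_add]
      ring
  have hind : Topology.IsInducing (pull (k := k) (R := S ⊗[k] R₂) (R' := S ⊗[k] Bb)
      (Algebra.TensorProduct.lTensor (S := k) S j)) :=
    isInducing_pull_of_frac _ fun t => by
      obtain ⟨m, t₀, ht⟩ := hfrac t
      exact ⟨t₀, _, ((hu.map (Algebra.TensorProduct.includeRight (R := k) (A := S))).pow m), ht⟩
  have hopen : IsOpenMap (pull (k := k) (R := S ⊗[k] Bb) (R' := S ⊗[k] A')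
      (Algebra.TensorProduct.lTensor (S := k) S ρ)) :=
    isOpenMap_pull _ (RingHom.Flat.lTensor (S := k) S hρ)
  let U := pull (Algebra.TensorProduct.lTensor (S := k) S i) ⁻¹' Yᶜ
  have hU : IsOpen U := hY.isOpen_compl.preimage (continuous_pull _)
  have himg : ∀ z' ∈ pull (Algebra.TensorProduct.lTensor (S := k) S φ) '' Y, sndP z' ∈ closure (pull φ '' X) := by
    rintro _ ⟨y, hy, rfl⟩
    rw [← pair_fstP_sndP y, pull_lTensor_pair, sndP_pair]
    exact hcl _ (hYX y hy)
  have hzc : sndP z ∈ closure (pull φ '' X) :=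
    closure_minimal himg (isClosed_closure.preimage IsMor.sndP.continuous) hz
  by_contra hno
  obtain ⟨w', hw'⟩ := hlift _ hzW hzc
  obtain ⟨a, ha⟩ := hsurj w'
  have haU : pair (fstP z) a ∈ U := by
    show pull _ (pair (fstP z) a) ∉ Y
    rw [pull_lTensor_pair]
    intro hmem
    refine hno ⟨_, hmem, ?_⟩
    rw [pull_lTensor_pair, ← hdown, ha, hw', pair_fstP_sndP]
  obtain ⟨O, hO, hOe⟩ := hind.isOpen_iff.1 (hopen U hU)
  have hzO : z ∈ O ∩ sndP ⁻¹' {y : Pt k R₂ | y.ofConv b₀ ≠ 0} := ⟨by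
    have h' : pair (fstP z) w' ∈ pull (Algebra.TensorProduct.lTensor (S := k) S j) ⁻¹' O := by
      rw [hOe]
      exact ⟨_, haU, by rw [pull_lTensor_pair, ha]⟩
    rwa [Set.mem_preimage, pull_lTensor_pair, hw', pair_fstP_sndP] at h', hzW⟩
  obtain ⟨z₁, ⟨hz₁O, hz₁W⟩, y, hy, hyz⟩ :=
    mem_closure_iff.1 hz _ (hO.inter ((isOpen_ne b₀).preimage IsMor.sndP.continuous)) hzO
  rw [← pair_fstP_sndP y, pull_lTensor_pair] at hyz
  subst hyz
  rw [Set.mem_preimage, Set.mem_setOf_eq, sndP_pair] at hz₁W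
  obtain ⟨w₁, hw₁⟩ := hlift _ hz₁W (hcl _ (hYX y hy))
  have h1 : pair (fstP y) w₁ ∈ pull (Algebra.TensorProduct.lTensor (S := k) S ρ) '' U := by
    rw [← hOe, Set.mem_preimage, pull_lTensor_pair, hw₁]
    exact hz₁O
  obtain ⟨u, hu, hu'⟩ := h1
  rw [← pair_fstP_sndP u, pull_lTensor_pair] at hu'
  have hs : fstP u = fstP y := by simpa using congrArg fstP hu'
  have ha₁ : pull ρ (sndP u) = w₁ := by simpa using congrArg sndP hu'
  apply hu
  rw [← pair_fstP_sndP u, pull_lTensor_pair, hs]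
  refine hsat (fstP y) (sndP y) _ (hYX y hy) (hi _) ?_ hz₁W (by simpa using hy)
  rw [← hdown, ha₁, hw₁]

/-- **Generic openness**: over a dense open of its closure the image of an irreducible closed set is everything,
and images of saturated closed sets are closed there, after any base change. -/
theorem exists_open_saturated (φ : R₂ →ₐ[k] R₁) {X : Set (Pt k R₁)} (hXc : IsClosed X) (hX : IsIrreducible X) :
    ∃ W : Set (Pt k R₂), IsOpen W ∧ (W ∩ closure (pull φ '' X)).Nonempty ∧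
      W ∩ closure (pull φ '' X) ⊆ pull φ '' X ∧
      ∀ (S : Type u) [CommRing S] [Algebra k S] [Algebra.FiniteType k S] (Y : Set (Pt k (S ⊗[k] R₁))),
        IsClosed Y → (∀ y ∈ Y, sndP y ∈ X) →
        (∀ (s : Pt k S) (x x' : Pt k R₁), x ∈ X → x' ∈ X → pull φ x = pull φ x' → pull φ x ∈ W →
          pair s x ∈ Y → pair s x' ∈ Y) →
        ∀ z ∈ closure (pull (Algebra.TensorProduct.lTensor (S := k) S φ) '' Y), sndP z ∈ W →
          z ∈ pull (Algebra.TensorProduct.lTensor (S := k) S φ) '' Y := by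
  classical
  let I := vanish X
  haveI hI : I.IsPrime := isPrime_vanish hX
  let A := R₁ ⧸ I
  let π : R₁ →ₐ[k] A := Ideal.Quotient.mkₐ k I
  let θ : R₂ →ₐ[k] A := π.comp φ
  let B := R₂ ⧸ RingHom.ker θ
  haveI : (RingHom.ker θ).IsPrime := RingHom.ker_isPrime θ
  let ψ : B →ₐ[k] A := Ideal.kerLiftAlg θ
  have hψ : Function.Injective ψ := Ideal.kerLiftAlg_injective θ
  letI : Algebra B A := ψ.toRingHom.toAlgebra
  haveI : IsScalarTower k B A := IsScalarTower.of_algHom ψ
  haveI : IsNoetherianRing B := Algebra.FiniteType.isNoetherianRing k B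
  haveI : Algebra.FiniteType B A := Algebra.FiniteType.of_restrictScalars_finiteType k B A
  obtain ⟨b, hb, -, hfree, hfp, -⟩ := S0389.result (R := B) (S := A) (M := A)
  let Bb := Localization.Away b
  let A' := Bb ⊗[B] A
  haveI : Module.Free Bb A' := hfree
  haveI : Algebra.FinitePresentation Bb A' := hfp
  haveI : Algebra.FiniteType k Bb :=
    Algebra.FiniteType.trans (R := k) (S := B) (A := Bb) inferInstance inferInstance
  haveI : IsScalarTower k Bb A' := inferInstance
  haveI : Algebra.FiniteType k A' :=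
    Algebra.FiniteType.trans (R := k) (S := Bb) (A := A') inferInstance inferInstance
  haveI : Nontrivial A' := by
    let g : Bb →ₐ[B] FractionRing A := IsLocalization.liftAlgHom (M := Submonoid.powers b)
      (f := (Algebra.ofId B (FractionRing A))) (fun y => by
        obtain ⟨m, hm⟩ := y.2
        show IsUnit (algebraMap B (FractionRing A) (y : B))
        rw [← hm, map_pow]
        refine IsUnit.pow _ (isUnit_iff_ne_zero.2 fun h => hb ?_)
        rw [IsScalarTower.algebraMap_apply B A (FractionRing A)] at h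
        exact hψ (((injective_iff_map_eq_zero _).1 (IsFractionRing.injective A (FractionRing A)) _ h).trans
          (map_zero ψ).symm))
    exact (Algebra.TensorProduct.lift g (IsScalarTower.toAlgHom B A (FractionRing A))
      fun _ _ => Commute.all _ _).toRingHom.domain_nontrivial
  haveI : Module.FaithfullyFlat Bb A' := inferInstance
  let ρ : Bb →ₐ[k] A' := IsScalarTower.toAlgHom k Bb A'
  have hρ : ρ.toRingHom.Flat := by
    rw [show ρ.toRingHom = algebraMap Bb A' from rfl, RingHom.flat_algebraMap_iff]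
    infer_instance
  let iA : A →ₐ[k] A' := (Algebra.TensorProduct.includeRight (R := B) (A := Bb) (B := A)).restrictScalars k
  let i : R₁ →ₐ[k] A' := iA.comp π
  let j : R₂ →ₐ[k] Bb := (IsScalarTower.toAlgHom k B Bb).comp (Ideal.Quotient.mkₐ k _)
  have hcomm : ρ.comp j = i.comp φ := AlgHom.ext fun r => by
    show (algebraMap Bb A' (algebraMap B Bb (Ideal.Quotient.mk _ r))) = (1 : Bb) ⊗ₜ[B] (π (φ r))
    rw [← IsScalarTower.algebraMap_apply B Bb A', Algebra.algebraMap_eq_smul_one, Algebra.TensorProduct.one_def,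
      ← TensorProduct.tmul_smul, Algebra.smul_def, mul_one]
    congr 1
  obtain ⟨b₀, hb₀⟩ := Ideal.Quotient.mk_surjective b
  let W : Set (Pt k R₂) := {y | y.ofConv b₀ ≠ 0}
  -- lifting points of the closure of the image
  have hlift : ∀ y ∈ W, y ∈ closure (pull φ '' X) → ∃ y' : Pt k Bb, pull j y' = y := by
    intro y hy hyc
    have hker : ∀ r ∈ RingHom.ker θ, y.ofConv r = 0 := fun r hr => mem_closure_iff_forall.1 hyc r (by
      rintro _ ⟨x, hx, rfl⟩
      exact (Ideal.Quotient.eq_zero_iff_mem.1 hr) x hx)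
    let yB : B →ₐ[k] k := Ideal.Quotient.liftₐ _ y.ofConv hker
    have hunit : ∀ m : Submonoid.powers b, IsUnit (yB.toRingHom (m : B)) := fun m => by
      obtain ⟨n, hn⟩ := m.2
      rw [← hn, map_pow, ← hb₀]
      exact IsUnit.pow _ (isUnit_iff_ne_zero.2 hy)
    let y' : Bb →+* k := IsLocalization.lift (M := Submonoid.powers b) hunit
    refine ⟨toConv ⟨y', fun c => ?_⟩, WithConv.ext (AlgHom.ext fun r => ?_)⟩
    · rw [IsScalarTower.algebraMap_apply k B Bb]
      exact (IsLocalization.lift_eq hunit _).trans (yB.commutes c)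
    · show y' (algebraMap B Bb (Ideal.Quotient.mk _ r)) = y.ofConv r
      exact IsLocalization.lift_eq hunit _
  have hi : ∀ a : Pt k A', pull i a ∈ X := fun a => by
    rw [← zeros_vanish_of_isClosed hXc]
    intro r hr
    show a.ofConv (iA (π r)) = 0
    rw [show π r = 0 from Ideal.Quotient.eq_zero_iff_mem.2 hr, map_zero, map_zero]
  have hcl : ∀ x ∈ X, pull φ x ∈ closure (pull φ '' X) := fun x hx => subset_closure ⟨x, hx, rfl⟩
  have hsurj : ∀ y' : Pt k Bb, ∃ a : Pt k A', pull ρ a = y' := fun y' => by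
    obtain ⟨p, hp⟩ := PrimeSpectrum.comap_surjective_of_faithfullyFlat (A := Bb) (B := A') (toP y')
    obtain ⟨a, -, ha⟩ := exists_pull_eq ρ y' isOpen_univ ⟨p, trivial, hp⟩
    exact ⟨a, ha⟩
  have hdown : ∀ a : Pt k A', pull j (pull ρ a) = pull φ (pull i a) := fun a => by
    rw [← pull_comp, hcomm, pull_comp]
  have hWj : ∀ y' : Pt k Bb, pull j y' ∈ W := fun y' => by
    show y'.ofConv (algebraMap B Bb (Ideal.Quotient.mk _ b₀)) ≠ 0
    rw [hb₀]
    exact ((IsLocalization.Away.algebraMap_isUnit b).map y'.ofConv).ne_zero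
  refine ⟨W, isOpen_ne _, ?_, ?_, ?_⟩
  · obtain ⟨a, -⟩ := exists_pt_ne (k := k) (R := A') (a := 1) not_isNilpotent_one
    exact ⟨_, hWj (pull ρ a), by rw [hdown]; exact hcl _ (hi a)⟩
  · rintro y ⟨hy, hyc⟩
    obtain ⟨y', rfl⟩ := hlift y hy hyc
    obtain ⟨a, rfl⟩ := hsurj y'
    exact ⟨_, hi a, (hdown a).symm⟩
  intro S _ _ _ Y hY hYX hsat z hz hzW
  refine closed_image_of_flat_model φ ρ i j b₀ hρ hsurj hdown hi ?_ ?_ hlift S hY hYX hsat hz hzW
  · show IsUnit (algebraMap B Bb (Ideal.Quotient.mk _ b₀))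
    rw [hb₀]
    exact IsLocalization.Away.algebraMap_isUnit b
  · intro x
    obtain ⟨m, r, hr⟩ := IsLocalization.Away.surj b x
    obtain ⟨r₀, rfl⟩ := Ideal.Quotient.mk_surjective r
    refine ⟨m, r₀, ?_⟩
    show algebraMap B Bb (Ideal.Quotient.mk _ r₀) = x * algebraMap B Bb (Ideal.Quotient.mk _ b₀) ^ m
    rw [hb₀]
    exact hr.symm

end Groth.Agent.BorelLib
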