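import Groth.Agent.BorelLib.Vec
import Groth.Agent.BorelLib.Open

/-!
# Completeness of homogeneous spaces at the level of points
-/

set_option autoImplicit false

noncomputable section

universe u

open WithConv
open scoped TensorProduct

namespace Groth.Agent.BorelLib

attribute [local instance] pTop pTopTensor

variable {k : Type u} [Field k] {A : Type u} [CommRing A] [HopfAlgebra k A]

/-- `K/H` is complete: projections of closed right `H`-stable subsets of `S × K` are closed. -/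
def Complete (K H : Subgroup (Pt k A)) : Prop :=
  ∀ (S : Type u) [CommRing S] [Algebra k S] [Algebra.FiniteType k S] (Y : Set (Pt k (S ⊗[k] A))),
    IsClosed Y → (∀ y ∈ Y, sndP y ∈ K) → (∀ y ∈ Y, ∀ h ∈ H, pair (fstP y) (sndP y * h) ∈ Y) →
      IsClosed (fstP '' Y)

namespace Complete

variable {K H M : Subgroup (Pt k A)}

lemma mono_right {H' : Subgroup (Pt k A)} (hc : Complete K H) (h : H ≤ H') : Complete K H' :=
  fun S _ _ _ Y hY hYK hYH => hc S Y hY hYK fun y hy x hx => hYH y hy x (h hx)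

lemma mono_left {K' : Subgroup (Pt k A)} (hc : Complete K H) (h : K' ≤ K) : Complete K' H :=
  fun S _ _ _ Y hY hYK hYH => hc S Y hY (fun y hy => h (hYK y hy)) hYH

lemma self : Complete K K := by
  intro S _ _ _ Y hY hYK hYH
  have e : fstP '' Y = (fun s : Pt k S => pair s (1 : Pt k A)) ⁻¹' Y := by
    ext s
    constructor
    · rintro ⟨y, hy, rfl⟩
      have := hYH y hy _ (inv_mem (hYK y hy))
      rwa [mul_inv_cancel] at this
    · exact fun hs => ⟨_, hs, fstP_pair _ _⟩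
  rw [e]
  exact hY.preimage (IsMor.id.prod (IsMor.const 1)).continuous

lemma of_cosets (hHK : H ≤ K) {F : Finset (Pt k A)} (hF : ∀ r ∈ F, r ∈ K)
    (hcov : ∀ g ∈ K, ∃ r ∈ F, r⁻¹ * g ∈ H) : Complete K H := by
  intro S _ _ _ Y hY hYK hYH
  have e : fstP '' Y = ⋃ r ∈ F, (fun s : Pt k S => pair s r) ⁻¹' Y := by
    ext s
    simp only [Set.mem_iUnion, Set.mem_preimage]
    constructor
    · rintro ⟨y, hy, rfl⟩
      obtain ⟨r, hr, hrg⟩ := hcov _ (hYK y hy)
      refine ⟨r, hr, ?_⟩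
      have := hYH y hy _ (inv_mem hrg)
      rwa [mul_inv_rev, inv_inv, mul_inv_cancel_left] at this
    · rintro ⟨r, -, hr⟩
      exact ⟨_, hr, fstP_pair _ _⟩
  rw [e]
  exact F.finite_toSet.isClosed_biUnion fun r _ => hY.preimage (IsMor.id.prod (IsMor.const r)).continuous

lemma trans [Algebra.FiniteType k A] (h₁ : Complete K M) (h₂ : Complete M H) (hMK : M ≤ K)
    (hK : IsClosed (K : Set (Pt k A))) (hM : IsClosed (M : Set (Pt k A))) (hH : H ≤ M) :
    Complete K H := by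
  intro S _ _ _ Y hY hYK hYH
  have hft : Algebra.FiniteType k (S ⊗[k] A) := finiteType_tensor
  let Y' : Set (Pt k (S ⊗[k] A)) := fstP '' {w : Pt k ((S ⊗[k] A) ⊗[k] A) |
    (sndP (fstP w) ∈ K ∧ sndP w ∈ M) ∧ pair (fstP (fstP w)) (sndP (fstP w) * sndP w) ∈ Y}
  have hY'c : IsClosed Y' := by
    refine h₂ (S ⊗[k] A) _ ?_ (fun w hw => hw.1.2) ?_
    · exact ((hK.preimage (IsMor.sndP.comp IsMor.fstP).continuous).inter (hM.preimage IsMor.sndP.continuous)).inter
        (hY.preimage ((IsMor.fstP.comp IsMor.fstP).prod ((IsMor.sndP.comp IsMor.fstP).mul IsMor.sndP)).continuous)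
    · rintro w ⟨⟨h1, h2⟩, h3⟩ h hh
      refine ⟨⟨by simpa using h1, by simpa using M.mul_mem h2 (hH hh)⟩, ?_⟩
      simpa [mul_assoc] using hYH _ h3 h hh
  have e : fstP '' Y = fstP '' Y' := by
    ext s
    constructor
    · rintro ⟨y, hy, rfl⟩
      exact ⟨y, ⟨pair y 1, ⟨⟨by simpa using hYK y hy, by simp [M.one_mem]⟩, by simpa using hy⟩, by simp⟩, rfl⟩
    · rintro ⟨_, ⟨w, ⟨-, h3⟩, rfl⟩, rfl⟩
      exact ⟨_, h3, fstP_pair _ _⟩
  rw [e]
  refine h₁ S Y' hY'c ?_ ?_
  · rintro _ ⟨w, ⟨⟨h1, -⟩, -⟩, rfl⟩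
    exact h1
  · rintro _ ⟨w, ⟨⟨h1, h2⟩, h3⟩, rfl⟩ m hm
    refine ⟨pair (pair (fstP (fstP w)) (sndP (fstP w) * m)) (m⁻¹ * sndP w), ⟨⟨?_, ?_⟩, ?_⟩, by simp⟩
    · simpa using K.mul_mem h1 (hMK hm)
    · simpa using M.mul_mem (inv_mem hm) h2
    · simpa [mul_assoc] using h3

end Complete

section cone

variable [IsAlgClosed k] {K : Subgroup (Pt k A)} {V : Type u} [AddCommGroup V] [Module k V] [FiniteDimensional k V]
  (r : RegRep K V)

/-- The stabiliser of the line through a vector. -/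
def RegRep.lineStab (v : V) : Subgroup (Pt k A) where
  carrier := {g | g ∈ K ∧ ∃ c : k, r.ρ g v = c • v}
  one_mem' := ⟨K.one_mem, 1, by rw [r.map_one, Module.End.one_apply, one_smul]⟩
  mul_mem' := by
    rintro a b ⟨ha, c, hc⟩ ⟨hb, e, he⟩
    exact ⟨K.mul_mem ha hb, e * c, by rw [r.mul_apply ha hb, he, map_smul, hc, smul_smul]⟩
  inv_mem' := by
    rintro a ⟨ha, c, hc⟩
    refine ⟨inv_mem ha, c⁻¹, ?_⟩
    rcases eq_or_ne v 0 with rfl | hv
    · simp
    have hc0 : c ≠ 0 := fun h => r.apply_ne_zero ha hv (by rw [hc, h, zero_smul])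
    have h := r.inv_apply ha v
    rw [hc, map_smul] at h
    rw [eq_inv_smul_iff₀ hc0, h]

lemma RegRep.lineStab_le (v : V) : r.lineStab v ≤ K := fun _ hg => hg.1

omit [IsAlgClosed k] [FiniteDimensional k V] in
lemma exists_eq_smul_iff {v x : V} (hv : v ≠ 0) :
    (∃ c : k, x = c • v) ↔ ∀ φ ψ : V →ₗ[k] k, φ x * ψ v = ψ x * φ v := by
  constructor
  · rintro ⟨c, rfl⟩ φ ψ
    simp only [map_smul, smul_eq_mul]
    ring
  · intro h
    obtain ⟨ψ, hψ⟩ := ComodLib.exists_dual_ne (k := k) hv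
    refine ⟨(ψ v)⁻¹ * ψ x, ?_⟩
    by_contra hne
    obtain ⟨φ, hφ⟩ := ComodLib.exists_dual_ne (k := k) (sub_ne_zero.2 hne)
    apply hφ
    rw [map_sub, map_smul, smul_eq_mul, mul_assoc, ← h φ ψ, mul_comm (φ x), inv_mul_cancel_left₀ hψ, sub_self]

lemma RegRep.isClosed_lineStab (hK : IsClosed (K : Set (Pt k A))) {v : V} (hv : v ≠ 0) :
    IsClosed (r.lineStab v : Set (Pt k A)) := by
  have e : (r.lineStab v : Set (Pt k A)) =
      (K : Set (Pt k A)) ∩ ⋂ φ : V →ₗ[k] k, ⋂ ψ : V →ₗ[k] k, {g | φ (r.ρ g v) * ψ v = ψ (r.ρ g v) * φ v} := by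
    ext g
    simp only [Set.mem_inter_iff, SetLike.mem_coe, Set.mem_iInter, Set.mem_ofPred_eq, ← exists_eq_smul_iff hv]
    exact Iff.rfl
  rw [e]
  exact hK.inter (isClosed_iInter fun φ => isClosed_iInter fun ψ =>
    ((r.reg φ v).mul (IsReg.const _)).isClosed_eq ((r.reg ψ v).mul (IsReg.const _)))

/-- The cone over the orbit of a vector. -/
def RegRep.cone (v : V) : Set (Pt k (VPoly k V)) := {y | ∃ g ∈ K, ∃ c : k, pv y = c • r.ρ g v}

lemma RegRep.isMor_orbit (v : V) :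
    IsMor fun x : Pt k (A ⊗[k] Polynomial k) => vp (k := k) (lineCoord (sndP x) • r.ρ (fstP x) v) :=
  isMor_vp fun φ => by
    simp only [map_smul, smul_eq_mul]
    exact (isReg_lineCoord.comp IsMor.sndP).mul ((r.reg φ v).comp IsMor.fstP)

lemma RegRep.cone_eq_image (v : V) :
    r.cone v = (fun x : Pt k (A ⊗[k] Polynomial k) => vp (k := k) (lineCoord (sndP x) • r.ρ (fstP x) v)) ''
      {x | fstP x ∈ K} := by
  ext y
  constructor
  · rintro ⟨g, hg, c, hy⟩
    exact ⟨pair g (linePt c), by simpa using hg, by simp only [fstP_pair, sndP_pair, lineCoord_linePt, ← hy, vp_pv]⟩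
  · rintro ⟨x, hx, rfl⟩
    exact ⟨fstP x, hx, lineCoord (sndP x), by simp⟩

lemma isIrreducible_line : IsIrreducible (Set.univ : Set (Pt k (Polynomial k))) := isIrreducible_univ

lemma isIrreducible_orbitSource [Algebra.FiniteType k A] (hKc : IsClosed (K : Set (Pt k A)))
    (hK : IsPreconnected (K : Set (Pt k A))) : IsIrreducible {x : Pt k (A ⊗[k] Polynomial k) | fstP x ∈ K} := by
  simpa using isIrreducible_prod (isIrreducible_of_connected hKc hK) (isIrreducible_line (k := k))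

/-- **The orbit of a line is complete when the cone over it is closed.** -/
theorem RegRep.complete_lineStab [Algebra.FiniteType k A] (hKc : IsClosed (K : Set (Pt k A)))
    (hK : IsPreconnected (K : Set (Pt k A))) {v : V} (hv : v ≠ 0) (hC : IsClosed (r.cone v)) :
    Complete K (r.lineStab v) := by
  classical
  intro S _ _ _ Y hY hYK hYP
  have hft : Algebra.FiniteType k (A ⊗[k] Polynomial k) := finiteType_tensor
  have hX := isIrreducible_orbitSource hKc hK
  have hXc : IsClosed {x : Pt k (A ⊗[k] Polynomial k) | fstP x ∈ K} := hKc.preimage IsMor.fstP.continuous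
  obtain ⟨φ, hφ⟩ := r.isMor_orbit v
  have himage : pull φ '' {x | fstP x ∈ K} = r.cone v := by
    rw [r.cone_eq_image v]
    exact Set.image_congr fun x _ => (hφ x).symm
  obtain ⟨W, hWo, hWne, -, hW⟩ := exists_open_saturated φ hXc hX
  rw [himage, hC.closure_eq] at hWne
  have hCirr : IsIrreducible (r.cone v) := himage ▸ hX.image _ (continuous_pull φ).continuousOn
  obtain ⟨w₀, hw₀C, hw₀W, hw₀ne⟩ := hCirr.2 W {y | pv (V := V) y ≠ 0} hWo
    isClosed_pv_eq_zero.isOpen_compl (Set.inter_comm W _ ▸ hWne)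
    ⟨vp v, ⟨1, K.one_mem, 1, by rw [pv_vp, r.map_one, one_smul, Module.End.one_apply]⟩, by simpa using hv⟩
  obtain ⟨g₀, hg₀, c₀, hw₀⟩ := hw₀C
  have hc₀ : c₀ ≠ 0 := fun h => hw₀ne (by rw [hw₀, h, zero_smul])
  let E : Set (Pt k (S ⊗[k] VPoly k V)) :=
    {z | ∃ y ∈ Y, ∃ c : k, c ≠ 0 ∧ fstP z = fstP y ∧ pv (sndP z) = c • r.ρ (sndP y) v}
  have hEC : closure E ⊆ sndP ⁻¹' r.cone v :=
    closure_minimal (fun z ⟨y, hy, c, _, _, hz⟩ => ⟨_, hYK y hy, c, hz⟩) (hC.preimage IsMor.sndP.continuous)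
  -- the closure of the image only adds the vertex
  have key : ∀ z ∈ closure E, pv (V := V) (sndP z) ≠ 0 → z ∈ E := by
    intro z hz hzne
    obtain ⟨h, hh, a, ha⟩ := hEC hz
    have ha0 : a ≠ 0 := fun e => hzne (by rw [ha, e, zero_smul])
    set m := g₀ * h⁻¹ with hm_def
    have hm : m ∈ K := K.mul_mem hg₀ (inv_mem hh)
    let T : Pt k (S ⊗[k] VPoly k V) → Pt k (S ⊗[k] VPoly k V) := fun z' =>
      pair (fstP z') (vp ((c₀ * a⁻¹) • r.ρ m (pv (V := V) (sndP z'))))
    have hT : IsMor T := IsMor.fstP.prod (isMor_vp fun ψ =>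
      (isReg_pv (ψ ∘ₗ ((c₀ * a⁻¹) • r.ρ m))).comp IsMor.sndP)
    have hTz : T z = pair (fstP z) w₀ := by
      simp only [T]
      rw [ha, map_smul, smul_smul, mul_assoc, inv_mul_cancel₀ ha0, mul_one, ← r.mul_apply hm hh, hm_def,
        inv_mul_cancel_right, ← hw₀, vp_pv]
    let Y₁ : Set (Pt k (S ⊗[k] (A ⊗[k] Polynomial k))) :=
      {y | fstP (sndP y) ∈ K ∧ (pair (fstP y) (m⁻¹ * fstP (sndP y)) ∈ Y ∨ pv (V := V) (pull φ (sndP y)) = 0)}
    have hY₁ : IsClosed Y₁ := (hKc.preimage (IsMor.fstP.comp IsMor.sndP).continuous).inter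
      ((hY.preimage (IsMor.fstP.prod ((IsMor.const m⁻¹).mul (IsMor.fstP.comp IsMor.sndP))).continuous).union
        (isClosed_pv_eq_zero.preimage ((IsMor.pull φ).comp IsMor.sndP).continuous))
    have hsat : ∀ (s : Pt k S) (x x' : Pt k (A ⊗[k] Polynomial k)), fstP x ∈ K → fstP x' ∈ K →
        pull φ x = pull φ x' → pull φ x ∈ W → pair s x ∈ Y₁ → pair s x' ∈ Y₁ := by
      intro s x x' hx hx' he _ hmem
      refine ⟨by simpa using hx', ?_⟩
      by_cases h0 : pv (V := V) (pull φ x) = 0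
      · exact Or.inr (by rw [sndP_pair, ← he]; exact h0)
      left
      rcases hmem.2 with h1 | h1
      swap
      · rw [sndP_pair] at h1; exact absurd h1 h0
      simp only [fstP_pair, sndP_pair] at h1 ⊢
      have e1 : pv (V := V) (pull φ x) = lineCoord (sndP x) • r.ρ (fstP x) v := by rw [← hφ, pv_vp]
      have e2 : pv (V := V) (pull φ x) = lineCoord (sndP x') • r.ρ (fstP x') v := by rw [he, ← hφ, pv_vp]
      have hP : (fstP x)⁻¹ * fstP x' ∈ r.lineStab v := by
        have hc2 : lineCoord (sndP x') ≠ 0 := fun e => h0 (by rw [e2, e, zero_smul])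
        refine ⟨K.mul_mem (inv_mem hx) hx', (lineCoord (sndP x'))⁻¹ * lineCoord (sndP x), ?_⟩
        have h2 := congrArg (r.ρ (fstP x)⁻¹) (e1.symm.trans e2)
        rw [map_smul, map_smul, r.inv_apply hx, ← r.mul_apply (inv_mem hx) hx'] at h2
        rw [← smul_smul, h2, smul_smul, inv_mul_cancel₀ hc2, one_smul]
      have := hYP _ h1 _ hP
      rwa [fstP_pair, sndP_pair, show m⁻¹ * fstP x * ((fstP x)⁻¹ * fstP x') = m⁻¹ * fstP x' by group] at this
    have himg : T '' E ⊆ pull (Algebra.TensorProduct.lTensor (S := k) S φ) '' Y₁ := by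
      rintro _ ⟨e, ⟨y, hy, c, -, hs, he⟩, rfl⟩
      refine ⟨pair (fstP y) (pair (m * sndP y) (linePt (c₀ * a⁻¹ * c))), ⟨?_, Or.inl ?_⟩, ?_⟩
      · simpa using K.mul_mem hm (hYK y hy)
      · simpa using hy
      · rw [pull_lTensor_pair, ← hφ]
        simp only [T, hs, fstP_pair, sndP_pair, lineCoord_linePt, he, map_smul, smul_smul,
          r.mul_apply hm (hYK y hy)]
    have hTcl : T z ∈ closure (pull (Algebra.TensorProduct.lTensor (S := k) S φ) '' Y₁) :=
      closure_mono himg (mem_closure_image hT.continuous.continuousAt hz)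
    obtain ⟨y', hy', hy'e⟩ := hW S Y₁ hY₁ (fun y hy => hy.1) hsat _ hTcl (by rw [hTz, sndP_pair]; exact hw₀W)
    rw [hTz, ← pair_fstP_sndP y', pull_lTensor_pair] at hy'e
    have e1 : fstP y' = fstP z := by simpa using congrArg fstP hy'e
    have e2 : pull φ (sndP y') = w₀ := by simpa using congrArg sndP hy'e
    rcases hy'.2 with h1 | h1
    swap
    · rw [e2] at h1; exact absurd h1 hw₀ne
    have e3 : pv (V := V) w₀ = lineCoord (sndP (sndP y')) • r.ρ (fstP (sndP y')) v := by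
      rw [← e2, ← hφ, pv_vp]
    have hc' : lineCoord (sndP (sndP y')) ≠ 0 := fun e => hw₀ne (by rw [e3, e, zero_smul])
    refine ⟨_, h1, a * c₀⁻¹ * lineCoord (sndP (sndP y')),
      mul_ne_zero (mul_ne_zero ha0 (inv_ne_zero hc₀)) hc', by rw [fstP_pair, e1], ?_⟩
    have e4 := congrArg (fun w => (a * c₀⁻¹) • r.ρ m⁻¹ w) e3
    simp only [map_smul, smul_smul] at e4
    rw [← r.mul_apply (inv_mem hm) hy'.1, hw₀, map_smul, smul_smul, mul_assoc a, inv_mul_cancel₀ hc₀, mul_one,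
      ← r.mul_apply (inv_mem hm) hg₀, hm_def, show (g₀ * h⁻¹)⁻¹ * g₀ = h by group, ← ha] at e4
    rw [sndP_pair]
    exact e4
  have hcone : IsConical (closure E) := by
    intro c z hc hz
    have hT : IsMor fun z' : Pt k (S ⊗[k] VPoly k V) => pair (fstP z') (ofVec (c • vec (sndP z'))) :=
      IsMor.fstP.prod (isMor_ofVec fun i => by
        simp only [Pi.smul_apply, smul_eq_mul]
        exact (IsReg.const c).mul ((isReg_vec i).comp IsMor.sndP))
    refine map_mem_closure (f := fun z' => pair (fstP z') (ofVec (c • vec (sndP z')))) hT.continuous hz ?_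
    rintro e ⟨y, hy, d, hd, hs, he⟩
    exact ⟨y, hy, c * d, mul_ne_zero hc hd, by simpa using hs,
      by rw [sndP_pair, vec_smul_eq, pv_vp, he, smul_smul]⟩
  have hproj := isClosed_image_cone (E := closure E) isClosed_closure hcone
  convert hproj using 1
  ext s
  constructor
  · rintro ⟨y, hy, rfl⟩
    refine ⟨pair (fstP y) (vp (r.ρ (sndP y) v)), ⟨subset_closure ⟨y, hy, 1, one_ne_zero, by simp, by simp⟩, ?_⟩,
      by simp⟩
    rw [sndP_pair, ne_eq, ← pv_eq_zero_iff, pv_vp]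
    exact r.apply_ne_zero (hYK y hy) hv
  · rintro ⟨z, ⟨hz, hz0⟩, rfl⟩
    obtain ⟨y, hy, c, -, hs, -⟩ := key z hz (fun h => hz0 ((pv_eq_zero_iff _).1 h))
    exact ⟨y, hy, hs.symm⟩

end cone

end Groth.Agent.BorelLib
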