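import Groth.Agent.BorelLib.SelfNormField
import Groth.Agent.BorelLib.Fun
import Groth.Agent.GITAffLib.Pres

/-!
# Anything commuting with a Borel subgroup is central
-/

set_option autoImplicit false
set_option linter.style.haveILetI false
set_option backward.isDefEq.respectTransparency false

universe u

open CategoryTheory CategoryTheory.Limits MonoidalCategory CartesianMonoidalCategory AlgebraicGeometry WithConv
open scoped MonObj TensorProduct
open CoactBr (sp)

noncomputable section

attribute [-instance] CategoryTheory.Hom.commGroup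

namespace Groth.Agent.BorelLib

attribute [local instance] pTop pTopTensor

section alg

variable {k : Type u} [Field k] {R A : Type u} [CommRing R] [Algebra k R] [CommRing A] [Algebra k A]

/-- Specialisation of the second factor at a point. -/
def evalR (h : Pt k A) : R ⊗[k] A →ₐ[k] R :=
  Algebra.TensorProduct.lift (AlgHom.id k R) ((Algebra.ofId k R).comp h.ofConv) fun _ _ => .all _ _

/-- Slicing the first factor by a functional. -/
def sliceR (l : R →ₗ[k] k) : R ⊗[k] A →ₗ[k] A := (TensorProduct.lid k A).toLinearMap ∘ₗ LinearMap.rTensor A l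

lemma apply_sliceR (l : R →ₗ[k] k) (h : Pt k A) (z : R ⊗[k] A) : h.ofConv (sliceR l z) = l (evalR h z) := by
  induction z using TensorProduct.induction_on with
  | zero => simp
  | add a b ha hb => simp only [map_add, ha, hb]
  | tmul r a =>
    simp only [sliceR, evalR, LinearMap.coe_comp, LinearEquiv.coe_coe, Function.comp_apply, LinearMap.rTensor_tmul,
      TensorProduct.lid_tmul, map_smul, Algebra.TensorProduct.lift_tmul, AlgHom.id_apply, AlgHom.coe_comp,
      smul_eq_mul, Algebra.ofId_apply]
    rw [mul_comm r, ← Algebra.smul_def, map_smul, smul_eq_mul, mul_comm]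

lemma eq_zero_of_sliceR {z : R ⊗[k] A} (h : ∀ l : R →ₗ[k] k, sliceR l z = 0) : z = 0 := by
  let b := Module.Free.chooseBasis k R
  refine (TensorProduct.equivFinsuppOfBasisLeft (N := A) b).injective (Finsupp.ext fun i => ?_)
  have key : ∀ w : R ⊗[k] A, TensorProduct.equivFinsuppOfBasisLeft b w i = sliceR (b.coord i) w := by
    intro w
    induction w using TensorProduct.induction_on with
    | zero => simp
    | add a c ha hc => simp only [map_add, Finsupp.add_apply, ha, hc]
    | tmul r a =>
      rw [TensorProduct.equivFinsuppOfBasisLeft_apply_tmul_apply, sliceR, LinearMap.coe_comp, LinearEquiv.coe_coe,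
        Function.comp_apply, LinearMap.rTensor_tmul, TensorProduct.lid_tmul, Module.Basis.coord_apply]
  rw [key, h, map_zero, Finsupp.zero_apply]

end alg

variable {k : Type u} [Field k] [IsAlgClosed k] {A : Type u} [CommRing A] [HopfAlgebra k A] [Algebra.FiniteType k A]
  [_root_.IsReduced A] {G : Over (Spec (CommRingCat.of k))} [GrpObj G] (v : sp k A ≅ G) [IsMonHom v.hom]

lemma toUnit_ptEquiv (R : Type u) [CommRing R] [Algebra k R] (x : Pt k A) :
    toUnit (sp k R) ≫ ptEquiv v x = CoactBr.pt ((Algebra.ofId k R).comp x.ofConv) ≫ v.hom := by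
  haveI : IsIso (sp k k).hom := by
    change IsIso (Spec.map (CommRingCat.ofHom (algebraMap k k)))
    rw [show CommRingCat.ofHom (algebraMap k k) = 𝟙 _ from rfl]
    infer_instance
  have h1 : toUnit (sp k R) ≫ Groth.Agent.HopfPoints.exists_unit_hom.some = CoactBr.pt (Algebra.ofId k R) :=
    Over.OverMorphism.ext (by rw [← cancel_mono (sp k k).hom, Over.w, Over.w])
  show toUnit (sp k R) ≫ Groth.Agent.HopfPoints.exists_unit_hom.some ≫ CoactBr.pt x.ofConv ≫ v.hom = _
  rw [← Category.assoc, h1, ← Category.assoc, ← CoactBr.pt_comp]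

/-- A point with values in an affine scheme commuting with a Borel subgroup commutes with everything. -/
theorem comm_of_comm_bor_affine [PreconnectedSpace G.left] {R : Type u} [CommRing R] [Algebra k R] (g h : sp k R ⟶ G)
    {B : Subgroup (Pt k A)} (hB : IsBor ⊤ B)
    (hg : ∀ b ∈ B, g * (toUnit (sp k R) ≫ ptEquiv v b) = (toUnit (sp k R) ≫ ptEquiv v b) * g) :
    g * h = h * g := by
  obtain ⟨hKc, hK⟩ := facts_top v
  let inl : sp k (R ⊗[k] A) ⟶ sp k R := CoactBr.pt Algebra.TensorProduct.includeLeft
  let H : sp k (R ⊗[k] A) ⟶ G := CoactBr.pt Algebra.TensorProduct.includeRight ≫ v.hom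
  let Φ : sp k (R ⊗[k] A) ⟶ G := H * (inl ≫ g) * H⁻¹ * (inl ≫ g)⁻¹
  obtain ⟨α, hα⟩ := DiagRep.exists_pt (R := k) (A := A) (C := R ⊗[k] A) (Φ ≫ v.inv)
  let c : Pt k A → (sp k R ⟶ G) := fun x => toUnit (sp k R) ≫ ptEquiv v x
  have hev : ∀ x : Pt k A, CoactBr.pt (evalR x) ≫ Φ = c x * g * (c x)⁻¹ * g⁻¹ := by
    intro x
    have e1 : CoactBr.pt (evalR (R := R) x) ≫ inl = 𝟙 _ := by
      rw [← CoactBr.pt_comp, evalR, Algebra.TensorProduct.lift_comp_includeLeft, CoactBr.pt_id]
    have e2 : CoactBr.pt (evalR (R := R) x) ≫ H = c x := by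
      rw [← Category.assoc, ← CoactBr.pt_comp, show (evalR (R := R) x).comp Algebra.TensorProduct.includeRight =
        (Algebra.ofId k R).comp x.ofConv from AlgHom.ext fun a => by simp [evalR], ← toUnit_ptEquiv]
    simp only [Φ, MonObj.comp_mul, GrpObj.comp_inv, ← Category.assoc, e1, e2, Category.id_comp]
  have hev' : ∀ x y : Pt k A, CoactBr.pt (evalR x) ≫ Φ = CoactBr.pt (evalR y) ≫ Φ →
      (evalR (R := R) x).comp α = (evalR y).comp α := by
    intro x y e
    apply CoactBr.pt_injective
    rw [CoactBr.pt_comp, CoactBr.pt_comp, ← hα, ← Category.assoc, ← Category.assoc, e]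
  have hconst : ∀ x : Pt k A, (evalR (R := R) x).comp α = (evalR 1).comp α := by
    intro x
    refine AlgHom.ext fun f => (Module.forall_dual_apply_eq_zero_iff k _).1 (fun l => ?_) |> sub_eq_zero.1
    rw [map_sub, sub_eq_zero]
    have hreg := (hB.complete hKc hK).reg_const le_top hKc hK (IsReg.eval (sliceR l (α f))) (fun y _ b hb => by
      show (y * b).ofConv _ = y.ofConv _
      rw [apply_sliceR, apply_sliceR]
      congr 1
      exact AlgHom.congr_fun (hev' _ _ (by
        rw [hev, hev, show c (y * b) = c y * c b by simp only [c, map_mul, MonObj.comp_mul]]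
        have hb' : c b * g = g * c b := (hg b hb).symm
        rw [_root_.mul_inv_rev, _root_.mul_assoc (c y) (c b) g, hb']
        group)) f) (g := x) trivial
    simpa only [apply_sliceR, AlgHom.comp_apply] using hreg
  have hfac : Φ = inl ≫ CoactBr.pt (evalR 1) ≫ Φ := by
    rw [← cancel_mono v.inv, Category.assoc, Category.assoc, hα, ← CoactBr.pt_comp, ← CoactBr.pt_comp]
    congr 1
    refine AlgHom.ext fun f => sub_eq_zero.1 (eq_zero_of_sliceR (k := k) fun l => ?_)
    refine eq_zero_of_forall (k := k) fun x => ?_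
    have h0 : evalR (R := R) x ((Algebra.TensorProduct.includeLeft : R →ₐ[k] R ⊗[k] A) (evalR (R := R) (1 : Pt k A) (α f))) =
        evalR (R := R) 1 (α f) := by simp [evalR]
    rw [apply_sliceR, map_sub, AlgHom.comp_apply, AlgHom.comp_apply, h0,
      show evalR x (α f) = evalR 1 (α f) from AlgHom.congr_fun (hconst x) f, sub_self, map_zero]
  have hΦ : Φ = 1 := by
    rw [hfac, hev]
    simp only [c, map_one, MonObj.comp_one, _root_.one_mul, inv_one, mul_one, mul_inv_cancel]
  obtain ⟨q, hq⟩ := DiagRep.exists_pt (R := k) (A := A) (C := R) (h ≫ v.inv)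
  let j : sp k R ⟶ sp k (R ⊗[k] A) :=
    CoactBr.pt (Algebra.TensorProduct.lift (AlgHom.id k R) q fun _ _ => .all _ _)
  have e1 : j ≫ inl = 𝟙 _ := by
    rw [← CoactBr.pt_comp, Algebra.TensorProduct.lift_comp_includeLeft, CoactBr.pt_id]
  have e2 : j ≫ H = h := by
    rw [← Category.assoc, ← CoactBr.pt_comp, show (Algebra.TensorProduct.lift (AlgHom.id k R) q fun _ _ =>
      .all _ _).comp Algebra.TensorProduct.includeRight = q from AlgHom.ext fun a => by simp, ← hq, Category.assoc,
      v.inv_hom_id, Category.comp_id]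
  have e3 := congrArg (fun m => j ≫ m) hΦ
  simp only [Φ, MonObj.comp_mul, GrpObj.comp_inv, MonObj.comp_one, ← Category.assoc, e1, e2, Category.id_comp] at e3
  have e4 := mul_inv_eq_one.1 e3
  rw [mul_inv_eq_iff_eq_mul] at e4
  exact e4.symm

/-- A point commuting with the rational points of a Borel subgroup commutes with everything. -/
theorem comm_of_comm_bor [PreconnectedSpace G.left] {X : Over (Spec (CommRingCat.of k))} (g h : X ⟶ G)
    {B : Subgroup (Pt k A)} (hB : IsBor ⊤ B)
    (hg : ∀ b ∈ B, g * (toUnit X ≫ ptEquiv v b) = (toUnit X ≫ ptEquiv v b) * g) : g * h = h * g := by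
  refine Over.OverMorphism.ext (X.left.affineCover.hom_ext _ _ fun j => ?_)
  let U : Over (Spec (CommRingCat.of k)) := Over.mk (X.left.affineCover.f j ≫ X.hom)
  let ι' : U ⟶ X := Over.homMk (X.left.affineCover.f j) rfl
  haveI : IsAffine U.left := inferInstanceAs (IsAffine (X.left.affineCover.X j))
  obtain ⟨R, _, _, ⟨e⟩⟩ := GITAffLib.exists_iso_sp U
  have h1 := comm_of_comm_bor_affine v ((e.hom ≫ ι') ≫ g) ((e.hom ≫ ι') ≫ h) hB fun b hb => by
    have h2 := congrArg (fun m => (e.hom ≫ ι') ≫ m) (hg b hb)
    simp only [MonObj.comp_mul, ← Category.assoc, toUnit_unique _ (toUnit (sp k R))] at h2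
    exact h2
  rw [← MonObj.comp_mul, ← MonObj.comp_mul, Category.assoc, Category.assoc, cancel_epi] at h1
  exact congrArg Over.Hom.left h1

end Groth.Agent.BorelLib

end
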