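import Groth.Agent.BorelLib.Complete
import Groth.Agent.HopfFFLib.Stab.Subspace

/-!
# Borel subgroups of the points: existence, completeness, conjugacy
-/

set_option autoImplicit false

noncomputable section

universe u

open WithConv
open scoped TensorProduct ComodLib

namespace Groth.Agent.BorelLib

attribute [local instance] pTop pTopTensor

variable {k : Type u} [Field k] {A : Type u} [CommRing A] [HopfAlgebra k A]

/-- A faithful regular representation. -/
theorem exists_faithful [Algebra.FiniteType k A] :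
    ∃ (V : Type u) (_ : AddCommGroup V) (_ : Module k V) (_ : FiniteDimensional k V)
      (r : RegRep (⊤ : Subgroup (Pt k A)) V), ∀ g, r.ρ g = 1 → g = 1 := by
  obtain ⟨F, hF⟩ := Algebra.FiniteType.out (R := k) (A := A)
  obtain ⟨W, hW, hFW, hsub⟩ := HopfFF.exists_finite_subcomod (k := k) F
  letI := HopfFF.selfComod (k := k) (A := A)
  let r : RegRep (⊤ : Subgroup (Pt k A)) A :=
    { ρ := fun g => LieKolchinLib.rep A g
      map_one := map_one _
      map_mul := fun g _ h _ => map_mul _ g h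
      reg := fun φ v => ⟨ComodLib.coeff (A := A) φ v, fun g => LieKolchinLib.apply_rep φ g v⟩ }
  have hs : r.Stable ⊤ W := fun g _ w hw => by
    obtain ⟨t, ht⟩ := hsub w hw
    show ComodLib.slice (LieKolchinLib.fn g).ofConv (CoalgebraStruct.comul (R := k) w) ∈ W
    rw [← ht]
    clear ht
    induction t using TensorProduct.induction_on with
    | zero => simp
    | add a b ha hb => rw [map_add, map_add]; exact W.add_mem ha hb
    | tmul a b => simpa using W.smul_mem _ a.2
  obtain ⟨r₁, hr₁⟩ := r.exists_sub hs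
  refine ⟨W, _, _, hW, r₁, fun g hg => ?_⟩
  refine WithConv.ext (AlgHom.ext_of_adjoin_eq_top hF fun a ha => ?_)
  have h1 : r.ρ g a = a := by
    have := hr₁ g trivial ⟨a, hFW a ha⟩
    rw [hg] at this
    exact this.symm
  have h2 : CoalgebraStruct.counit (R := k) (r.ρ g a) = g.ofConv a := by
    have := LieKolchinLib.apply_rep (A := A) (V := A) (CoalgebraStruct.counit (R := k)) g a
    rwa [ComodLib.coeff_counit] at this
  rw [← h2, h1, AlgHom.convOne_apply]
  simp

lemma exists_big_irred [Algebra.FiniteType k A] {K : Subgroup (Pt k A)} (hns : ¬ IsSol K) :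
    ∃ (U : Type u) (_ : AddCommGroup U) (_ : Module k U) (_ : FiniteDimensional k U) (r : RegRep K U),
      2 ≤ Module.finrank k U ∧ r.Irred := by
  obtain ⟨V, _, _, _, r, hr⟩ := exists_faithful (k := k) (A := A)
  rcases exists_irred_or_der _ V (r.mono (le_top : K ≤ ⊤)) le_rfl with h | ⟨n, hn⟩
  · exact h
  · exact absurd ⟨n, le_bot_iff.1 fun g hg => hr g (hn g hg)⟩ hns

section orbit

variable [IsAlgClosed k] [Algebra.FiniteType k A] {K : Subgroup (Pt k A)} {V : Type u} [AddCommGroup V]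
  [Module k V] [FiniteDimensional k V] (r : RegRep K V)

lemma RegRep.cone_smul {v : V} {y : Pt k (VPoly k V)} (hy : y ∈ r.cone v) (c : k) :
    vp (k := k) (c • pv (V := V) y) ∈ r.cone v := by
  obtain ⟨g, hg, d, hd⟩ := hy
  exact ⟨g, hg, c * d, by rw [pv_vp, hd, smul_smul]⟩

lemma RegRep.cone_stable {v : V} {g : Pt k A} (hg : g ∈ K) {y : Pt k (VPoly k V)} (hy : y ∈ r.cone v) :
    vp (k := k) (r.ρ g (pv y)) ∈ r.cone v := by
  obtain ⟨h, hh, d, hd⟩ := hy
  exact ⟨g * h, K.mul_mem hg hh, d, by rw [pv_vp, hd, map_smul, r.mul_apply hg hh]⟩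

lemma RegRep.mem_cone_self (v : V) : vp (k := k) v ∈ r.cone v :=
  ⟨1, K.one_mem, 1, by rw [pv_vp, r.map_one, one_smul, Module.End.one_apply]⟩

/-- A vector with closed orbit cone. -/
theorem RegRep.exists_closed_cone [Nontrivial V] (hKc : IsClosed (K : Set (Pt k A)))
    (hK : IsPreconnected (K : Set (Pt k A))) : ∃ v : V, v ≠ 0 ∧ IsClosed (r.cone v) := by
  have := noetherianSpace (k := k) (R := VPoly k V)
  obtain ⟨v₀, hv₀⟩ := exists_ne (0 : V)
  obtain ⟨C, ⟨hCsmul, hCstab, y₀, hy₀, hy₀ne⟩, hmin⟩ := wellFounded_lt.has_min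
    {C : TopologicalSpace.Closeds (Pt k (VPoly k V)) | (∀ c : k, ∀ y ∈ C, vp (V := V) (c • pv y) ∈ C) ∧
      (∀ g ∈ K, ∀ y ∈ C, vp (r.ρ g (pv y)) ∈ C) ∧ ∃ y ∈ C, pv (V := V) y ≠ 0}
    ⟨⊤, fun _ _ _ => trivial, fun _ _ _ _ => trivial, vp v₀, trivial, by rwa [pv_vp]⟩
  set v := pv (V := V) y₀ with hv
  have hsub : ∀ y ∈ C, r.cone (pv y) ⊆ C := by
    rintro y hy z ⟨g, hg, c, hz⟩
    have := hCsmul c _ (hCstab g hg y hy)
    rwa [pv_vp, ← hz, vp_pv] at this
  have hdense : ∀ y ∈ C, pv (V := V) y ≠ 0 → closure (r.cone (pv y)) = (C : Set _) := by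
    intro y hy hne
    let D : TopologicalSpace.Closeds (Pt k (VPoly k V)) := ⟨closure (r.cone (pv y)), isClosed_closure⟩
    have hD : D ≤ C := closure_minimal (hsub y hy) C.isClosed
    have hmem : D = C := by
      by_contra hDC
      refine hmin D ⟨fun c z hz => ?_, fun g hg z hz => ?_, y, subset_closure ?_, hne⟩ (lt_of_le_of_ne hD hDC)
      · exact map_mem_closure (f := fun z => vp (k := k) (c • pv (V := V) z))
          (isMor_vp fun φ => by
            simp only [map_smul, smul_eq_mul]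
            exact (IsReg.const c).mul (isReg_pv φ)).continuous hz fun w hw => r.cone_smul hw c
      · exact map_mem_closure (f := fun z => vp (k := k) (r.ρ g (pv (V := V) z)))
          (isMor_vp fun φ => isReg_pv (φ ∘ₗ r.ρ g)).continuous hz fun w hw => r.cone_stable hg hw
      · have := r.mem_cone_self (pv (V := V) y)
        rwa [vp_pv] at this
    exact congrArg SetLike.coe hmem
  -- the orbit contains a non-empty open part of its closure
  have hft : Algebra.FiniteType k (A ⊗[k] Polynomial k) := finiteType_tensor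
  obtain ⟨φ, hφ⟩ := r.isMor_orbit v
  have himage : pull φ '' {x | fstP x ∈ K} = r.cone v := by
    rw [r.cone_eq_image v]
    exact Set.image_congr fun x _ => (hφ x).symm
  have hX := isIrreducible_orbitSource hKc hK
  obtain ⟨W, hWo, hWne, hWsub, -⟩ :=
    exists_open_saturated φ (X := {x : Pt k (A ⊗[k] Polynomial k) | fstP x ∈ K}) (hKc.preimage IsMor.fstP.continuous) hX
  rw [himage, hdense y₀ hy₀ hy₀ne] at hWne hWsub
  have hirr : IsIrreducible (C : Set (Pt k (VPoly k V))) := by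
    rw [← hdense y₀ hy₀ hy₀ne, ← himage]
    exact (hX.image _ (continuous_pull φ).continuousOn).closure
  obtain ⟨w₀, hw₀C, hw₀W, hw₀ne⟩ := hirr.2 W {y | pv (V := V) y ≠ 0} hWo isClosed_pv_eq_zero.isOpen_compl
    (Set.inter_comm W _ ▸ hWne) ⟨y₀, hy₀, hy₀ne⟩
  refine ⟨v, hy₀ne, ?_⟩
  suffices r.cone v = C by rw [this]; exact C.isClosed
  refine (hsub y₀ hy₀).antisymm fun w hw => ?_
  by_cases hw0 : pv (V := V) w = 0
  · exact ⟨1, K.one_mem, 0, by rw [hw0, zero_smul]⟩
  obtain ⟨x, ⟨hxW, hxne⟩, hxw⟩ := mem_closure_iff.1 ((hdense w hw hw0).symm ▸ hw₀C) _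
    (hWo.inter isClosed_pv_eq_zero.isOpen_compl) ⟨hw₀W, hw₀ne⟩
  obtain ⟨g, hg, c, hc⟩ := hxw
  have hxv : x ∈ r.cone v := hWsub ⟨hxW, hsub w hw ⟨g, hg, c, hc⟩⟩
  have hc0 : c ≠ 0 := fun h => hxne (show pv (V := V) x = 0 by rw [hc, h, zero_smul])
  have := r.cone_smul (r.cone_stable (inv_mem hg) hxv) c⁻¹
  rwa [pv_vp, hc, map_smul, r.inv_apply hg, smul_smul, inv_mul_cancel₀ hc0, one_smul, vp_pv] at this

end orbit

variable [IsAlgClosed k] [Algebra.FiniteType k A]

/-- **Borel subgroups**: a connected closed subgroup contains a connected solvable closed subgroup with complete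
quotient into which all connected solvable subgroups are conjugate. -/
theorem exists_complete_sol {K : Subgroup (Pt k A)} (hKc : IsClosed (K : Set (Pt k A)))
    (hK : IsPreconnected (K : Set (Pt k A))) :
    ∃ B : Subgroup (Pt k A), B ≤ K ∧ IsClosed (B : Set (Pt k A)) ∧ IsPreconnected (B : Set (Pt k A)) ∧ IsSol B ∧
      Complete K B ∧ ∀ H : Subgroup (Pt k A), H ≤ K → IsPreconnected (H : Set (Pt k A)) → IsSol H →
        ∃ g ∈ K, conjSub g⁻¹ H ≤ B := by
  revert hK
  refine closed_induction (motive := fun K => IsPreconnected (K : Set (Pt k A)) →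
    ∃ B : Subgroup (Pt k A), B ≤ K ∧ IsClosed (B : Set (Pt k A)) ∧ IsPreconnected (B : Set (Pt k A)) ∧ IsSol B ∧
      Complete K B ∧ ∀ H : Subgroup (Pt k A), H ≤ K → IsPreconnected (H : Set (Pt k A)) → IsSol H →
        ∃ g ∈ K, conjSub g⁻¹ H ≤ B) ?_ hKc
  intro K hKc ih hK
  by_cases hs : IsSol K
  · exact ⟨K, le_rfl, hKc, hK, hs, Complete.self, fun H hH _ _ => ⟨1, K.one_mem, by rwa [inv_one, conjSub_one]⟩⟩
  obtain ⟨U, _, _, _, r, h2, hirr⟩ := exists_big_irred hs
  have : Nontrivial U := Module.nontrivial_of_finrank_pos (R := k) (by omega)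
  obtain ⟨v, hv, hC⟩ := r.exists_closed_cone hKc hK
  set P := r.lineStab v
  have hPK : P ≤ K := r.lineStab_le v
  have hPc : IsClosed (P : Set (Pt k A)) := r.isClosed_lineStab hKc hv
  have hPne : P ≠ K := by
    intro hPe
    have hst : r.Stable K (k ∙ v) := by
      intro g hg w hw
      obtain ⟨c, rfl⟩ := Submodule.mem_span_singleton.1 hw
      obtain ⟨-, d, hd⟩ := (hPe.symm ▸ hg : g ∈ P)
      exact Submodule.mem_span_singleton.2 ⟨c * d, by rw [map_smul, hd, smul_smul]⟩
    rcases hirr _ hst with h | h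
    · exact hv (Submodule.span_singleton_eq_bot.1 h)
    · have h1 := finrank_span_singleton (K := k) hv
      rw [h, finrank_top] at h1
      omega
  obtain ⟨B, hBP, hBc, hB, hBs, hcomp, hconj⟩ := ih (neut P) (isClosed_neut hPc)
    (lt_of_le_of_lt (neut_le P) (lt_of_le_of_ne hPK hPne)) (isPreconnected_neut P)
  obtain ⟨F, hFP, hcov⟩ := exists_neut_cosets hPc
  refine ⟨B, hBP.trans ((neut_le P).trans hPK), hBc, hB, hBs,
    (r.complete_lineStab hKc hK hv hC).trans
      ((Complete.of_cosets (neut_le P) hFP hcov).trans hcomp (neut_le P) hPc (isClosed_neut hPc) hBP)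
      hPK hKc hPc (hBP.trans (neut_le P)), fun H hHK hH hHs => ?_⟩
  obtain ⟨y, hy, hyne, hwt⟩ := r.exists_weight_in_cone hHK hH hHs hC (fun c _ y hy => r.cone_smul hy c)
    (fun h hh y hy => r.cone_stable (hHK hh) hy) ⟨_, r.mem_cone_self v, by rwa [pv_vp]⟩
  obtain ⟨g, hg, c, hc⟩ := hy
  have hc0 : c ≠ 0 := fun h => hyne (by rw [hc, h, zero_smul])
  have hle : conjSub g⁻¹ H ≤ P := by
    intro x hx
    rw [mem_conjSub, inv_inv] at hx
    have hgh : g⁻¹ * (g * x * g⁻¹) * g = x := by group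
    refine ⟨hgh ▸ K.mul_mem (K.mul_mem (inv_mem hg) (hHK hx)) hg, ?_⟩
    obtain ⟨d, hd⟩ := hwt _ hx
    refine ⟨d, ?_⟩
    rw [hc, map_smul, smul_smul, mul_comm, ← smul_smul] at hd
    have hd' := smul_right_injective U hc0 hd
    conv_lhs => rw [← hgh]
    rw [r.mul_apply (K.mul_mem (inv_mem hg) (hHK hx)) hg, r.mul_apply (inv_mem hg) (hHK hx), hd', map_smul,
      r.inv_apply hg]
  obtain ⟨p, hp, hle'⟩ := hconj (conjSub g⁻¹ H) (le_neut (isPreconnected_conjSub hH) hle)
    (isPreconnected_conjSub hH) (hHs.conjSub _)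
  refine ⟨g * p, K.mul_mem hg (hPK (neut_le P hp)), ?_⟩
  rwa [mul_inv_rev, ← conjSub_conjSub]

/-- A Borel subgroup of a connected closed subgroup of points. -/
structure IsBor (K B : Subgroup (Pt k A)) : Prop where
  le : B ≤ K
  closed : IsClosed (B : Set (Pt k A))
  conn : IsPreconnected (B : Set (Pt k A))
  sol : IsSol B
  maximal : ∀ H : Subgroup (Pt k A), H ≤ K → IsClosed (H : Set (Pt k A)) → IsPreconnected (H : Set (Pt k A)) →
    IsSol H → B ≤ H → H = B

namespace IsBor

variable {K B B' : Subgroup (Pt k A)}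

lemma exists_conj_universal (hKc : IsClosed (K : Set (Pt k A))) (hK : IsPreconnected (K : Set (Pt k A))) :
    ∃ B : Subgroup (Pt k A), IsBor K B ∧ Complete K B ∧ ∀ H : Subgroup (Pt k A), H ≤ K →
      IsPreconnected (H : Set (Pt k A)) → IsSol H → ∃ g ∈ K, conjSub g⁻¹ H ≤ B := by
  obtain ⟨B, hle, hc, hconn, hsol, hcomp, hconj⟩ := exists_complete_sol hKc hK
  refine ⟨B, ⟨hle, hc, hconn, hsol, fun H hHK hHc hH hHs hBH => ?_⟩, hcomp, hconj⟩
  obtain ⟨g, -, hg⟩ := hconj H hHK hH hHs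
  exact (le_antisymm hBH ((conjSub_eq_of_le hHc (hg.trans hBH)) ▸ hg)).symm

lemma conjSub (hB : IsBor K B) {a : Pt k A} (ha : a ∈ K) : IsBor K (BorelLib.conjSub a B) := by
  refine ⟨conjSub_le ha hB.le, isClosed_conjSub hB.closed, isPreconnected_conjSub hB.conn, hB.sol.conjSub a,
    fun H hHK hHc hH hHs hle => ?_⟩
  have h := hB.maximal (BorelLib.conjSub a⁻¹ H) (conjSub_le (inv_mem ha) hHK) (isClosed_conjSub hHc)
    (isPreconnected_conjSub hH) (hHs.conjSub _) (by
      have := conjSub_mono (a := a⁻¹) hle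
      rwa [conjSub_conjSub, inv_mul_cancel, conjSub_one] at this)
  rw [← h, conjSub_conjSub, mul_inv_cancel, conjSub_one]

/-- Borel subgroups are conjugate. -/
theorem exists_conj (hKc : IsClosed (K : Set (Pt k A))) (hK : IsPreconnected (K : Set (Pt k A)))
    (hB : IsBor K B) (hB' : IsBor K B') : ∃ g ∈ K, BorelLib.conjSub g B = B' := by
  obtain ⟨B₀, hB₀, -, huniv⟩ := exists_conj_universal hKc hK
  have key : ∀ B : Subgroup (Pt k A), IsBor K B → ∃ g ∈ K, BorelLib.conjSub g B = B₀ := fun B hB => by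
    obtain ⟨g, hg, hle⟩ := huniv B hB.le hB.conn hB.sol
    refine ⟨g⁻¹, inv_mem hg, ((hB.conjSub (inv_mem hg)).maximal B₀ hB₀.le hB₀.closed hB₀.conn hB₀.sol hle).symm⟩
  obtain ⟨g, hg, e⟩ := key B hB
  obtain ⟨g', hg', e'⟩ := key B' hB'
  refine ⟨g'⁻¹ * g, K.mul_mem (inv_mem hg') hg, ?_⟩
  rw [← conjSub_conjSub, e, ← e', conjSub_conjSub, inv_mul_cancel, conjSub_one]

/-- Every connected solvable subgroup is conjugate into a given Borel subgroup. -/
theorem exists_conj_le (hKc : IsClosed (K : Set (Pt k A))) (hK : IsPreconnected (K : Set (Pt k A)))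
    (hB : IsBor K B) {H : Subgroup (Pt k A)} (hHK : H ≤ K) (hH : IsPreconnected (H : Set (Pt k A))) (hs : IsSol H) :
    ∃ g ∈ K, BorelLib.conjSub g H ≤ B := by
  obtain ⟨B₀, hB₀, -, huniv⟩ := exists_conj_universal hKc hK
  obtain ⟨g, hg, hle⟩ := huniv H hHK hH hs
  obtain ⟨a, ha, e⟩ := hB₀.exists_conj hKc hK hB
  exact ⟨a * g⁻¹, K.mul_mem ha (inv_mem hg), by rw [← conjSub_conjSub, ← e]; exact conjSub_mono hle⟩

/-- The quotient by a Borel subgroup is complete. -/
theorem complete (hKc : IsClosed (K : Set (Pt k A))) (hK : IsPreconnected (K : Set (Pt k A))) (hB : IsBor K B) :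
    Complete K B := by
  obtain ⟨B₀, hB₀, hcomp, -⟩ := exists_conj_universal hKc hK
  obtain ⟨a, ha, e⟩ := hB₀.exists_conj hKc hK hB
  intro S _ _ _ Y hY hYK hYB
  -- translate by `a`
  let Y' : Set (Pt k (S ⊗[k] A)) := {y | pair (fstP y) (sndP y * a⁻¹) ∈ Y}
  have himg : fstP '' Y' = fstP '' Y := by
    ext s
    constructor
    · rintro ⟨y, hy, rfl⟩
      exact ⟨_, hy, fstP_pair _ _⟩
    · rintro ⟨y, hy, rfl⟩
      exact ⟨pair (fstP y) (sndP y * a), by simpa [Y'] using hy, fstP_pair _ _⟩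
  rw [← himg]
  refine hcomp S Y' (hY.preimage (IsMor.fstP.prod (IsMor.sndP.mul (IsMor.const a⁻¹))).continuous) ?_ ?_
  · intro y hy
    have := hYK _ hy
    rw [sndP_pair, mul_mem_cancel_right (inv_mem ha)] at this
    exact this
  · intro y hy b hb
    have hb' : a * b * a⁻¹ ∈ B := by
      rw [← e, mem_conjSub]
      simpa [mul_assoc] using hb
    have := hYB _ hy _ hb'
    simpa [Y', mul_assoc] using this

end IsBor

end Groth.Agent.BorelLib
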