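import Groth.Agent.BorelLib.Frame
import Groth.Agent.ProjDimLib.Join
import Groth.Agent.FibDimLib.Formula

/-!
# A dominance criterion by fibre dimension
-/

set_option autoImplicit false
set_option linter.style.haveILetI false

noncomputable section

universe u

open WithConv
open scoped TensorProduct

namespace Groth.Agent.BorelLib

attribute [local instance] pTop pTopTensor

variable {k : Type u} [Field k] [IsAlgClosed k] {R R' : Type u} [CommRing R] [Algebra k R] [CommRing R'] [Algebra k R']
  [Algebra.FiniteType k R] [Algebra.FiniteType k R']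

omit [Algebra.FiniteType k R'] in
/-- A reduced algebra with irreducible space of points is a domain. -/
lemma isDomain_of_irreducible [IsReduced R] (h : IsIrreducible (Set.univ : Set (Pt k R))) : IsDomain R := by
  have hv : vanish (Set.univ : Set (Pt k R)) = ⊥ :=
    le_bot_iff.1 fun a ha => (Ideal.mem_bot).2 (eq_zero_of_forall (k := k) fun x => ha x trivial)
  haveI : (⊥ : Ideal R).IsPrime := hv ▸ isPrime_vanish h
  exact IsDomain.of_bot_isPrime R

lemma isReduced_tensor [IsReduced R] [IsReduced R'] : IsReduced (R ⊗[k] R') :=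
  ⟨fun t ht => eq_zero_of_forall_pair fun x y => (ht.map (pair x y).ofConv).eq_zero⟩

lemma isDomain_tensor [IsDomain R] [IsDomain R'] : IsDomain (R ⊗[k] R') := by
  haveI := finiteType_tensor (k := k) (R := R) (R' := R')
  haveI := isReduced_tensor (k := k) (R := R) (R' := R')
  have h := isIrreducible_prod (isIrreducible_univ (k := k) (R := R)) (isIrreducible_univ (k := k) (R := R'))
  simp only [Set.mem_univ, and_self, Set.setOf_true] at h
  exact isDomain_of_irreducible h

lemma exists_dim (k : Type u) [Field k] (S : Type u) [CommRing S] [Algebra k S] [Algebra.FiniteType k S] [Nontrivial S] :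
    ∃ n : ℕ, ringKrullDim S = (n : WithBot ℕ∞) := by
  obtain ⟨r, g, hg, hgf⟩ := exists_finite_inj_algHom_of_fg k S
  letI := g.toRingHom.toAlgebra
  haveI : Module.Finite (MvPolynomial (Fin r) k) S := hgf
  refine ⟨r, ?_⟩
  rw [CommAlgDim.ringKrullDim_eq_of_integral (MvPolynomial (Fin r) k) S hg,
    MvPolynomial.ringKrullDim_of_isNoetherianRing, ringKrullDim_eq_zero_of_field, zero_add]
  simp

/-- A map from an irreducible space with one non-empty fibre covered by finitely many closed images of spaces of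
dimension at most `dim R' - dim R` is dominant. -/
theorem closure_range_eq_univ [IsDomain R] [IsDomain R'] (φ : R →ₐ[k] R') {y : Pt k R} {n c : ℕ}
    (hn : ringKrullDim R = (n : WithBot ℕ∞)) (hN : ringKrullDim R' = ((n + c : ℕ) : WithBot ℕ∞))
    (hy : ∃ x, pull φ x = y) {ι : Type u} [Fintype ι] {C : Type u} [CommRing C] [Algebra k C]
    (ψ : ι → (R' →ₐ[k] C)) (hψ : ∀ i, Function.Surjective (ψ i)) (hc : ringKrullDim C = (c : WithBot ℕ∞))
    (hfib : ∀ x, pull φ x = y → ∃ i z, pull (ψ i) z = x) : closure (Set.range (pull φ)) = Set.univ := by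
  classical
  haveI : IsNoetherianRing R := Algebra.FiniteType.isNoetherianRing k R
  haveI : IsNoetherianRing R' := Algebra.FiniteType.isNoetherianRing k R'
  set p := RingHom.ker φ with hp_def
  haveI : p.IsPrime := RingHom.ker_isPrime _
  by_cases hp : p = ⊥
  · refine Set.eq_univ_of_forall fun x => mem_closure_iff_forall.2 fun a ha => ?_
    have : φ a = 0 := eq_zero_of_forall (k := k) fun z => ha _ ⟨z, rfl⟩
    have : a = 0 := (Submodule.mem_bot R).1 (hp ▸ (this : a ∈ p))
    rw [this, map_zero]
  exfalso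
  obtain ⟨x₀, hx₀⟩ := hy
  let A' := R ⧸ p
  let φ' : A' →ₐ[k] R' := Ideal.kerLiftAlg φ
  haveI : Algebra.FiniteType k A' := Algebra.FiniteType.of_surjective (Ideal.Quotient.mkₐ k p) Ideal.Quotient.mk_surjective
  haveI : IsNoetherianRing A' := Algebra.FiniteType.isNoetherianRing k A'
  let y' : Pt k A' := pull φ' x₀
  letI := φ'.toRingHom.toAlgebra
  let m : Ideal A' := (toP y').asIdeal
  haveI : m.IsMaximal := isClosed_toP y'
  have hle : m.map (algebraMap A' R') ≤ (toP x₀).asIdeal := by
    rw [Ideal.map_le_iff_le_comap]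
    intro a ha
    simp only [m, toP_asIdeal, RingHom.mem_ker] at ha
    rw [Ideal.mem_comap, toP_asIdeal, RingHom.mem_ker]
    exact ha
  haveI : (toP x₀).asIdeal.IsPrime := (toP x₀).isPrime
  obtain ⟨Q, hQ, -⟩ := Ideal.exists_minimalPrimes_le hle
  haveI : Q.IsPrime := hQ.1.1
  haveI : Q.LiesOver m := ⟨(Ideal.IsMaximal.eq_of_le inferInstance (Ideal.IsPrime.ne_top inferInstance)
    (Ideal.map_le_iff_le_comap.1 hQ.1.2))⟩
  -- heights
  have h0 : (Q.map (Ideal.Quotient.mk (m.map (algebraMap A' R')))).height = 0 := by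
    haveI : (Q.map (Ideal.Quotient.mk (m.map (algebraMap A' R')))).IsPrime :=
      Ideal.map_isPrime_of_surjective Ideal.Quotient.mk_surjective (by rw [Ideal.mk_ker]; exact hQ.1.2)
    rw [Ideal.height_eq_zero_iff]
    have h1 := Ideal.minimalPrimes_map_of_surjective (f := Ideal.Quotient.mk (m.map (algebraMap A' R')))
      Ideal.Quotient.mk_surjective (⊥ : Ideal R')
    rw [Ideal.map_bot, bot_sup_eq, Ideal.mk_ker] at h1
    show _ ∈ (⊥ : Ideal (R' ⧸ m.map (algebraMap A' R'))).minimalPrimes
    rw [h1]
    exact ⟨Q, hQ, rfl⟩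
  have hQh : Q.height ≤ m.height := by
    have := Ideal.height_le_height_add_of_liesOver m Q
    rwa [h0, add_zero] at this
  obtain ⟨h, hh⟩ : ∃ h : ℕ, Q.height = h := ⟨_, (ENat.natCast_toNat (Ideal.height_ne_top (Ideal.IsPrime.ne_top inferInstance))).symm⟩
  obtain ⟨d, hd⟩ := exists_dim k (R' ⧸ Q)
  obtain ⟨a, ha⟩ := exists_dim k A'
  obtain ⟨e, he⟩ : ∃ e : ℕ, p.height = e := ⟨_, (ENat.natCast_toNat (Ideal.height_ne_top (Ideal.IsPrime.ne_top inferInstance))).symm⟩
  have hm : (m.height : WithBot ℕ∞) ≤ ringKrullDim A' := Ideal.height_le_ringKrullDim_of_ne_top (Ideal.IsPrime.ne_top inferInstance)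
  have e1 := FibDimLib.ringKrullDim_quotient_add_height_affine k R' Q
  have e2 := FibDimLib.ringKrullDim_quotient_add_height_affine k R p
  rw [hh, hd, hN] at e1
  rw [he, ha, hn] at e2
  have e1' : d + h = n + c := by exact_mod_cast e1
  have e2' : a + e = n := by exact_mod_cast e2
  have e3 : h ≤ a := by
    have h1 : (Q.height : WithBot ℕ∞) ≤ ringKrullDim A' := le_trans (by exact_mod_cast hQh) hm
    rw [hh, ha] at h1
    exact_mod_cast h1
  have e4 : e ≠ 0 := fun h0 => hp (by
    have : p.height = 0 := by rw [he, h0]; rfl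
    exact Ideal.height_eq_zero_iff_eq_bot.1 this)
  -- the fibre
  have hker : ∀ a ∈ Finset.univ.prod (fun i => RingHom.ker (ψ i)), a ∈ Q := by
    intro b hb
    haveI : Algebra.FiniteType k (R' ⧸ Q) :=
      Algebra.FiniteType.of_surjective (Ideal.Quotient.mkₐ k Q) Ideal.Quotient.mk_surjective
    refine Ideal.Quotient.eq_zero_iff_mem.1 (eq_zero_of_forall (k := k) fun z => ?_)
    let x := pull (Ideal.Quotient.mkₐ k Q) z
    have hxy : pull φ x = y := by
      have h1 : pull φ' x = y' := by
        refine WithConv.ext (AlgHom.ext fun u => ?_)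
        have hmem : u - algebraMap k A' (y'.ofConv u) ∈ m := by
          simp [m, toP_asIdeal, RingHom.mem_ker]
        have hz : Ideal.Quotient.mk Q (φ' (u - algebraMap k A' (y'.ofConv u))) = 0 :=
          Ideal.Quotient.eq_zero_iff_mem.2 (hQ.1.2 (Ideal.mem_map_of_mem _ hmem))
        have hz' := congrArg z.ofConv hz
        rw [map_zero, map_sub, AlgHom.commutes] at hz'
        have : x.ofConv (φ' u - algebraMap k R' (y'.ofConv u)) = 0 := hz'
        rw [map_sub, AlgHom.commutes, sub_eq_zero] at this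
        exact this
      rw [← hx₀]
      refine WithConv.ext (AlgHom.ext fun u => ?_)
      exact congrArg (fun w : Pt k A' => w.ofConv (Ideal.Quotient.mk p u)) h1
    obtain ⟨i, w, hw⟩ := hfib x hxy
    have hbi : b ∈ RingHom.ker (ψ i) := (Ideal.prod_le_inf.trans (Finset.inf_le (Finset.mem_univ i))) hb
    show x.ofConv b = 0
    rw [← hw, pull_apply, show ψ i b = 0 from hbi, map_zero]
  obtain ⟨i, -, hi⟩ := (Ideal.IsPrime.prod_le (inferInstance : Q.IsPrime)).1 hker
  have hdc : d ≤ c := by
    let g : C ≃ₐ[k] R' ⧸ RingHom.ker (ψ i) := (Ideal.quotientKerAlgEquivOfSurjective (hψ i)).symm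
    have h1 : ringKrullDim (R' ⧸ Q) ≤ ringKrullDim C :=
      ringKrullDim_le_of_surjective ((Ideal.Quotient.factor hi).comp g.toRingEquiv.toRingHom)
        ((Ideal.Quotient.factor_surjective hi).comp g.surjective)
    rw [hd, hc] at h1
    exact_mod_cast h1
  omega

end Groth.Agent.BorelLib
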