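import Groth.Agent.BorelLib.Cartan
import Groth.Agent.BorelLib.Dim

/-!
# Conjugates of the Cartan subgroup are dense; every element lies in a Borel subgroup
-/

set_option autoImplicit false
set_option linter.style.haveILetI false

noncomputable section

universe u

open WithConv
open scoped TensorProduct

namespace Groth.Agent.BorelLib

attribute [local instance] pTop pTopTensor

variable {k : Type u} [Field k] [IsAlgClosed k] {A : Type u} [CommRing A] [HopfAlgebra k A] [Algebra.FiniteType k A]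

/-- The normaliser of a subgroup. -/
def normSub (T : Subgroup (Pt k A)) : Subgroup (Pt k A) where
  carrier := {a | conjSub a T = T}
  one_mem' := conjSub_one T
  mul_mem' := fun {a b} (ha : conjSub a T = T) (hb : conjSub b T = T) => by
    show conjSub (a * b) T = T
    rw [← conjSub_conjSub, hb, ha]
  inv_mem' := fun {a} (ha : conjSub a T = T) => by
    show conjSub a⁻¹ T = T
    conv_lhs => rw [← ha]
    rw [conjSub_conjSub, inv_mul_cancel, conjSub_one]

lemma mem_normSub {T : Subgroup (Pt k A)} {a : Pt k A} : a ∈ normSub T ↔ conjSub a T = T := Iff.rfl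

lemma isClosed_normSub {T : Subgroup (Pt k A)} (hT : IsClosed (T : Set (Pt k A))) :
    IsClosed (normSub T : Set (Pt k A)) := by
  have e : (normSub T : Set (Pt k A)) = (⋂ s ∈ T, (fun a => a * s * a⁻¹) ⁻¹' (T : Set (Pt k A))) ∩
      ⋂ s ∈ T, (fun a => a⁻¹ * s * a) ⁻¹' (T : Set (Pt k A)) := by
    ext a
    simp only [SetLike.mem_coe, mem_normSub, Set.mem_inter_iff, Set.mem_iInter, Set.mem_preimage]
    constructor
    · intro h
      refine ⟨fun s hs => ?_, fun s hs => ?_⟩
      · rw [← h, mem_conjSub, show a⁻¹ * (a * s * a⁻¹) * a = s by group]; exact hs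
      · rw [← h] at hs; exact mem_conjSub.1 hs
    · rintro ⟨h1, h2⟩
      ext s
      rw [mem_conjSub]
      exact ⟨fun hs => by simpa [mul_assoc] using h1 _ hs, h2 s⟩
  rw [e]
  exact (isClosed_biInter fun s _ => hT.preimage ((IsMor.id.mul (IsMor.const s)).mul IsMor.id.inv).continuous).inter
    (isClosed_biInter fun s _ => hT.preimage ((IsMor.id.inv.mul (IsMor.const s)).mul IsMor.id).continuous)

variable [IsReduced A]

/-- **The conjugates of the Cartan subgroup are dense.** -/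
theorem dense_conj_cart (hconn : IsPreconnected (Set.univ : Set (Pt k A))) {T : Subgroup (Pt k A)}
    (hT : IsMaxTor ⊤ T) : closure {x | ∃ a : Pt k A, ∃ b ∈ cart ⊤ T, a * b * a⁻¹ = x} = Set.univ := by
  classical
  have hKc : IsClosed ((⊤ : Subgroup (Pt k A)) : Set (Pt k A)) := by rw [Subgroup.coe_top]; exact isClosed_univ
  have hK : IsPreconnected ((⊤ : Subgroup (Pt k A)) : Set (Pt k A)) := by rwa [Subgroup.coe_top]
  haveI : IsDomain A := isDomain_of_irreducible (k := k) (by
    simpa using isIrreducible_of_connected hKc hK)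
  have hCc := isClosed_cart hKc T
  obtain ⟨B, _, _, g, hft, hred, hgm, hind, hinj, hrange, φC, hφC, hgφ⟩ := exists_frame hCc
  haveI := hft; haveI := hred
  have hBconn := isPreconnected_univ_frame hind (hrange.symm ▸ isPreconnected_neut _)
  haveI : IsDomain B := isDomain_of_irreducible (k := k) (by
    simpa using isIrreducible_of_connected (K := (⊤ : Subgroup (Pt k B))) (by rw [Subgroup.coe_top]; exact isClosed_univ)
      (by rwa [Subgroup.coe_top]))
  haveI := finiteType_tensor (k := k) (R := A) (R' := B)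
  haveI := isDomain_tensor (k := k) (R := A) (R' := B)
  have hgC : ∀ w, g w ∈ cart ⊤ T := fun w => hrange ▸ ⟨w, rfl⟩
  obtain ⟨t, ht, htt, hreg⟩ := hT.tor.exists_regular
  obtain ⟨R, hR, hcov⟩ := exists_neut_cosets (isClosed_normSub (T := T) hT.tor.closed)
  have hN : neut (normSub T) ≤ cart ⊤ T := le_neut (isPreconnected_neut _) fun x hx => ⟨trivial,
    Subgroup.mem_centralizer_iff.2 fun s hs => (hT.tor.commute_of_normalizing (isPreconnected_neut _)
      (fun h hh s hs => by
        have hn : conjSub h T = T := neut_le _ hh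
        rw [← hn, mem_conjSub, show h⁻¹ * (h * s * h⁻¹) * h = s by group]; exact hs) x hx s hs).symm⟩
  -- the conjugation map
  obtain ⟨φ, hφ⟩ := ((IsMor.fstP.mul (hgm.comp IsMor.sndP)).mul IsMor.fstP.inv :
    IsMor fun z : Pt k (A ⊗[k] B) => fstP z * g (sndP z) * (fstP z)⁻¹)
  -- the pieces of the fibre
  have hT' : ∀ r : R, ∃ w, g w = (r : Pt k A)⁻¹ * t * r := fun r => by
    have h1 : (r : Pt k A)⁻¹ * t * r ∈ T := by
      have h2 : conjSub (r : Pt k A) T = T := hR r r.2
      rw [← h2] at ht; exact mem_conjSub.1 ht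
    have h3 : (r : Pt k A)⁻¹ * t * r ∈ g.range := hrange.symm ▸ hT.le_cart h1
    exact h3
  choose w hw using hT'
  have hmor : ∀ r : R, IsMor fun x : Pt k B => pair ((r : Pt k A) * g x) (w r) := fun r =>
    ((IsMor.const (r : Pt k A)).mul hgm).prod (IsMor.const (w r))
  choose ψ hψ using hmor
  have hsurj : ∀ r, Function.Surjective (ψ r) := by
    intro r b
    obtain ⟨a₀, rfl⟩ := hφC b
    obtain ⟨a, ha⟩ := ((IsReg.eval a₀).comp ((IsMor.const (r : Pt k A)⁻¹).mul IsMor.id) :
      IsReg fun x : Pt k A => ((r : Pt k A)⁻¹ * x).ofConv a₀)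
    refine ⟨a ⊗ₜ 1, sub_eq_zero.1 (eq_zero_of_forall (k := k) fun x => ?_)⟩
    rw [map_sub, sub_eq_zero]
    calc x.ofConv (ψ r (a ⊗ₜ 1)) = (pair ((r : Pt k A) * g x) (w r)).ofConv (a ⊗ₜ 1) :=
          (congrArg (fun y : Pt k (A ⊗[k] B) => y.ofConv (a ⊗ₜ 1)) (hψ r x)).symm
      _ = ((r : Pt k A) * g x).ofConv a := by simp
      _ = ((r : Pt k A)⁻¹ * ((r : Pt k A) * g x)).ofConv a₀ := (ha _).symm
      _ = (g x).ofConv a₀ := by rw [inv_mul_cancel_left]
      _ = x.ofConv (φC a₀) := by rw [hgφ]; rfl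
  obtain ⟨n, hn⟩ := exists_dim k A
  obtain ⟨c, hc⟩ := exists_dim k B
  obtain ⟨w₀, hw₀⟩ : ∃ w₀, g w₀ = t := by
    have h3 : t ∈ g.range := hrange.symm ▸ hT.le_cart ht
    exact h3
  have hdense := closure_range_eq_univ φ (y := t) hn (ProjDimLib.ringKrullDim_tensor A B hn hc)
    ⟨pair 1 w₀, by rw [← hφ]; simp [hw₀]⟩ (ι := R) ψ hsurj hc (fun z hz => by
      rw [← hφ] at hz
      set a := fstP z
      set b := g (sndP z)
      have hb : b = a⁻¹ * t * a := by
        rw [show t = a * b * a⁻¹ from hz.symm]; group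
      have hbT : b ∈ T := hT.mem_of_isPT hKc (hgC _) (hb ▸ by simpa using htt.conj a⁻¹)
      have hle : conjSub a T ≤ cart ⊤ T := le_neut (isPreconnected_conjSub hT.tor.conn) fun x hx => by
        refine ⟨trivial, Subgroup.mem_centralizer_iff.2 fun s hs => (hreg x ?_ s hs).symm⟩
        rw [mem_conjSub] at hx
        have h1 := hT.tor.comm _ hx b hbT
        rw [hb] at h1
        calc x * t = a * ((a⁻¹ * x * a) * (a⁻¹ * t * a)) * a⁻¹ := by group
          _ = a * ((a⁻¹ * t * a) * (a⁻¹ * x * a)) * a⁻¹ := by rw [h1]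
          _ = t * x := by group
      have hleT : conjSub a T ≤ T := fun x hx => by
        refine hT.tor.closed.closure_subset_iff.2 (fun y hy => ?_) ((hT.tor.conjSub a).dense hx)
        exact hT.mem_of_isPT hKc (hle hy.1) hy.2
      have haN : a ∈ normSub T := conjSub_eq_of_le hT.tor.closed hleT
      obtain ⟨r, hr, hra⟩ := hcov a haN
      obtain ⟨x, hx⟩ : ∃ x, g x = r⁻¹ * a := by
        have h3 : r⁻¹ * a ∈ g.range := hrange.symm ▸ hN hra
        exact h3
      refine ⟨⟨r, hr⟩, x, ?_⟩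
      rw [← hψ ⟨r, hr⟩]
      have e1 : (r : Pt k A) * g x = a := by rw [hx, mul_inv_cancel_left]
      have e2 : w ⟨r, hr⟩ = sndP z := hinj (by
        rw [hw]
        show r⁻¹ * t * r = b
        have hrt : r⁻¹ * t * r ∈ T := by
          have h2 : conjSub r T = T := hR r hr
          rw [← h2] at ht; exact mem_conjSub.1 ht
        have hcomm := commute_of_mem_cart (hN hra) hrt
        rw [hb]
        calc r⁻¹ * t * r = (r⁻¹ * a)⁻¹ * ((r⁻¹ * a) * (r⁻¹ * t * r)) := by group
          _ = (r⁻¹ * a)⁻¹ * ((r⁻¹ * t * r) * (r⁻¹ * a)) := by rw [hcomm]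
          _ = a⁻¹ * t * a := by group)
      show pair ((r : Pt k A) * g x) (w ⟨r, hr⟩) = z
      rw [e1, e2, pair_fstP_sndP])
  refine Set.eq_univ_of_univ_subset (hdense.symm.subset.trans (closure_mono ?_))
  rintro _ ⟨z, rfl⟩
  exact ⟨fstP z, g (sndP z), hgC _, hφ z⟩

/-- **A connected group is the union of the conjugates of a Borel subgroup.** -/
theorem exists_conj_mem_bor (hconn : IsPreconnected (Set.univ : Set (Pt k A))) {B : Subgroup (Pt k A)}
    (hB : IsBor ⊤ B) (x : Pt k A) : ∃ a : Pt k A, a⁻¹ * x * a ∈ B := by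
  have hKc : IsClosed ((⊤ : Subgroup (Pt k A)) : Set (Pt k A)) := by rw [Subgroup.coe_top]; exact isClosed_univ
  have hK : IsPreconnected ((⊤ : Subgroup (Pt k A)) : Set (Pt k A)) := by rwa [Subgroup.coe_top]
  obtain ⟨T, hT, -⟩ := exists_isMaxTor hKc hK
  obtain ⟨h, -, hh⟩ := hB.exists_conj_le hKc hK (le_top : cart ⊤ T ≤ ⊤) (isPreconnected_neut _) (hT.isSol_cart hKc)
  let U : Set (Pt k A) := fstP '' {y : Pt k (A ⊗[k] A) | (sndP y)⁻¹ * fstP y * sndP y ∈ B}
  have hU : IsClosed U := hB.complete hKc hK A _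
    (hB.closed.preimage ((IsMor.sndP.inv.mul IsMor.fstP).mul IsMor.sndP).continuous)
    (fun y _ => trivial) fun y hy b hb => by
      show (sndP (pair (fstP y) (sndP y * b)))⁻¹ * fstP (pair (fstP y) (sndP y * b)) * sndP (pair (fstP y) (sndP y * b)) ∈ B
      rw [sndP_pair, fstP_pair, mul_inv_rev,
        show b⁻¹ * (sndP y)⁻¹ * fstP y * (sndP y * b) = b⁻¹ * ((sndP y)⁻¹ * fstP y * sndP y) * b by group]
      exact B.mul_mem (B.mul_mem (B.inv_mem hb) hy) hb
  have hsub : {x | ∃ a : Pt k A, ∃ b ∈ cart ⊤ T, a * b * a⁻¹ = x} ⊆ U := by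
    rintro _ ⟨a, b, hb, rfl⟩
    refine ⟨pair (a * b * a⁻¹) (a * h⁻¹), ?_, fstP_pair _ _⟩
    show (sndP _)⁻¹ * fstP _ * sndP _ ∈ B
    rw [sndP_pair, fstP_pair, show (a * h⁻¹)⁻¹ * (a * b * a⁻¹) * (a * h⁻¹) = h * b * h⁻¹ by group]
    exact hh ⟨b, hb, rfl⟩
  obtain ⟨y, hy, rfl⟩ : x ∈ U := hU.closure_subset_iff.2 hsub (by rw [dense_conj_cart hconn hT]; trivial)
  exact ⟨sndP y, hy⟩

end Groth.Agent.BorelLib
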