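import Groth.Agent.BorelLib.Pts

/-!
# Elimination: projections of closed cones are closed
-/

set_option autoImplicit false

noncomputable section

universe u

open WithConv
open scoped TensorProduct

namespace Groth.Agent.BorelLib

attribute [local instance] pTop pTopTensor

variable {k : Type u} [Field k] {n : ℕ} {R : Type u} [CommRing R] [Algebra k R]

/-- Coordinates of a point of affine space. -/
def vec (y : Pt k (MvPolynomial (Fin n) k)) : Fin n → k := fun i => y.ofConv (MvPolynomial.X i)

/-- The point of affine space with given coordinates. -/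
def ofVec (v : Fin n → k) : Pt k (MvPolynomial (Fin n) k) := toConv (MvPolynomial.aeval v)

@[simp] lemma vec_ofVec (v : Fin n → k) : vec (ofVec v) = v := by
  funext i
  simp [vec, ofVec]

@[simp] lemma ofVec_vec (y : Pt k (MvPolynomial (Fin n) k)) : ofVec (vec y) = y := by
  refine WithConv.ext (MvPolynomial.algHom_ext fun i => ?_)
  simp [vec, ofVec]

lemma isReg_vec (i : Fin n) : IsReg fun y : Pt k (MvPolynomial (Fin n) k) => vec y i := IsReg.eval _

/-- A map to affine space with regular coordinates is regular. -/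
lemma isMor_ofVec {F : Pt k R → (Fin n → k)} (h : ∀ i, IsReg fun x => F x i) : IsMor fun x => ofVec (F x) := by
  choose a ha using h
  refine ⟨MvPolynomial.aeval a, fun x => WithConv.ext (MvPolynomial.algHom_ext fun i => ?_)⟩
  simp [ofVec, ha i x]

/-- Restriction to the fibre over a point. -/
def atP (s : Pt k R) : R ⊗[k] MvPolynomial (Fin n) k →ₐ[k] MvPolynomial (Fin n) k :=
  Algebra.TensorProduct.lift ((Algebra.ofId k _).comp s.ofConv) (AlgHom.id k _) fun _ _ => Commute.all _ _

@[simp] lemma atP_tmul (s : Pt k R) (r : R) (p : MvPolynomial (Fin n) k) :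
    atP s (r ⊗ₜ p) = s.ofConv r • p := by
  rw [Algebra.smul_def]
  exact Algebra.TensorProduct.lift_tmul _ _ (fun _ _ => Commute.all _ _) r p

lemma atP_surjective (s : Pt k R) : Function.Surjective (atP (n := n) s) := fun p =>
  ⟨(1 : R) ⊗ₜ p, by rw [atP_tmul, map_one, one_smul]⟩

lemma pair_eq_atP (s : Pt k R) (v : Fin n → k) (f : R ⊗[k] MvPolynomial (Fin n) k) :
    (pair s (ofVec v)).ofConv f = MvPolynomial.aeval v (atP s f) := by
  induction f using TensorProduct.induction_on with
  | zero => simp
  | add a b ha hb => simp only [map_add, ha, hb]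
  | tmul r p =>
    rw [pair_tmul, atP_tmul, map_smul, smul_eq_mul]
    rfl

/-- Homogeneous components. -/
def comp (d : ℕ) : R ⊗[k] MvPolynomial (Fin n) k →ₗ[k] R ⊗[k] MvPolynomial (Fin n) k :=
  (MvPolynomial.homogeneousComponent d).lTensor R

lemma atP_comp (s : Pt k R) (d : ℕ) (f : R ⊗[k] MvPolynomial (Fin n) k) :
    atP s (comp d f) = MvPolynomial.homogeneousComponent d (atP s f) := by
  induction f using TensorProduct.induction_on with
  | zero => simp
  | add a b ha hb => simp only [map_add, ha, hb]
  | tmul r p =>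
    show atP s (r ⊗ₜ MvPolynomial.homogeneousComponent d p) = _
    rw [atP_tmul, atP_tmul, map_smul]

/-- The coefficient of a monomial. -/
def coeffAt (m : Fin n →₀ ℕ) : R ⊗[k] MvPolynomial (Fin n) k →ₗ[k] R :=
  (TensorProduct.rid k R).toLinearMap ∘ₗ (MvPolynomial.lcoeff k m).lTensor R

lemma apply_coeffAt (s : Pt k R) (m : Fin n →₀ ℕ) (f : R ⊗[k] MvPolynomial (Fin n) k) :
    s.ofConv (coeffAt m f) = (atP s f).coeff m := by
  induction f using TensorProduct.induction_on with
  | zero => simp [coeffAt]
  | add a b ha hb => simp only [map_add, ha, hb, MvPolynomial.coeff_add]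
  | tmul r p =>
    rw [atP_tmul, MvPolynomial.coeff_smul]
    simp [coeffAt, mul_comm]

lemma aeval_smul_of_isHomogeneous {p : MvPolynomial (Fin n) k} {i : ℕ} (hp : p.IsHomogeneous i) (c : k)
    (v : Fin n → k) : MvPolynomial.aeval (c • v) p = c ^ i * MvPolynomial.aeval v p := by
  conv_lhs => rw [p.as_sum]
  conv_rhs => rw [p.as_sum]
  rw [map_sum, map_sum, Finset.mul_sum]
  refine Finset.sum_congr rfl fun d hd => ?_
  rw [hp.degree_eq_sum_deg_support hd, MvPolynomial.aeval_monomial, MvPolynomial.aeval_monomial,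
    Finsupp.prod, Finsupp.prod]
  simp only [Pi.smul_apply, smul_eq_mul, mul_pow, Finset.prod_mul_distrib, Finset.prod_pow_eq_pow_sum]
  exact mul_left_comm _ _ _

section cone

variable [IsAlgClosed k] {E : Set (Pt k (R ⊗[k] MvPolynomial (Fin n) k))}

/-- A set of points of `S × kⁿ` stable under scaling the second factor. -/
def IsConical (E : Set (Pt k (R ⊗[k] MvPolynomial (Fin n) k))) : Prop :=
  ∀ (c : k) (z : Pt k (R ⊗[k] MvPolynomial (Fin n) k)), c ≠ 0 → z ∈ E →
    pair (fstP z) (ofVec (c • vec (sndP z))) ∈ E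

lemma comp_mem_vanish (hE : IsConical E) {f : R ⊗[k] MvPolynomial (Fin n) k} (hf : f ∈ vanish E) (d : ℕ) :
    comp d f ∈ vanish E := by
  intro z hz
  set s := fstP z
  set v := vec (sndP z)
  have hzv : z = pair s (ofVec v) := by simp [s, v]
  set p := atP (n := n) s f
  let q : Polynomial k := ∑ i ∈ Finset.range (p.totalDegree + 1),
    Polynomial.C (MvPolynomial.aeval v (MvPolynomial.homogeneousComponent i p)) * Polynomial.X ^ i
  have hq : ∀ c : k, c ≠ 0 → q.eval c = 0 := by
    intro c hc
    have h0 := hf _ (hE c z hc hz)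
    rw [pair_eq_atP] at h0
    conv_lhs at h0 => rw [← MvPolynomial.sum_homogeneousComponent (atP s f)]
    rw [map_sum] at h0
    rw [← h0]
    simp only [q, Polynomial.eval_finsetSum, Polynomial.eval_mul, Polynomial.eval_C, Polynomial.eval_pow,
      Polynomial.eval_X]
    refine Finset.sum_congr rfl fun i _ => ?_
    rw [aeval_smul_of_isHomogeneous (MvPolynomial.homogeneousComponent_isHomogeneous i p), mul_comm]
  have hq0 : q = 0 := Polynomial.eq_zero_of_infinite_isRoot q
    ((Set.Finite.infinite_compl (Set.finite_singleton (0 : k))).mono fun c hc => hq c hc)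
  rw [hzv, pair_eq_atP, atP_comp]
  by_cases hd : d ∈ Finset.range (p.totalDegree + 1)
  · have := congrArg (fun r : Polynomial k => r.coeff d) hq0
    simpa only [q, Polynomial.finsetSum_coeff, Polynomial.coeff_C_mul_X_pow, Finset.sum_ite_eq,
      if_pos hd, Polynomial.coeff_zero] using this
  · rw [MvPolynomial.homogeneousComponent_eq_zero _ _ (by simpa using hd), map_zero]

/-- **Elimination**: the projection of a closed cone minus its vertex section is closed. -/
theorem isClosed_image_cone [Algebra.FiniteType k R] (hcl : IsClosed E) (hE : IsConical E) :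
    IsClosed (fstP '' {z | z ∈ E ∧ vec (sndP z) ≠ 0}) := by
  classical
  rw [← isOpen_compl_iff, isOpen_iff_forall_mem_open]
  intro s hs
  -- near s all powers of the coordinates lie in the ideal
  have hrad : ∀ i, ∃ N : ℕ, ∃ f ∈ vanish E, atP (n := n) s f = MvPolynomial.X i ^ N := by
    intro i
    let J := (vanish E).map (atP (n := n) s).toRingHom
    have hz : MvPolynomial.zeroLocus k J ⊆ {0} := by
      intro v hv
      by_contra hv0
      refine hs ⟨pair s (ofVec v), ⟨?_, by simpa using hv0⟩, by simp⟩
      rw [← zeros_vanish_of_isClosed hcl]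
      intro f hf
      rw [pair_eq_atP]
      exact hv _ (Ideal.mem_map_of_mem _ hf)
    have hX : MvPolynomial.X i ∈ MvPolynomial.vanishingIdeal k (MvPolynomial.zeroLocus k J) := by
      intro v hv
      simp [show v = 0 from hz hv]
    rw [MvPolynomial.vanishingIdeal_zeroLocus_eq_radical] at hX
    obtain ⟨N, hN⟩ := hX
    obtain ⟨f, hf, hfe⟩ := (Ideal.mem_map_iff_of_surjective _ (atP_surjective s)).1 hN
    exact ⟨N, f, hf, hfe⟩
  choose N f hf hfe using hrad
  let m := n * (∑ i, N i) + 1
  let Mon : Finset (Fin n →₀ ℕ) := Finset.univ.finsuppAntidiag m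
  have hMon : ∀ α : Fin n →₀ ℕ, α ∈ Mon ↔ α.degree = m := fun α => by
    simp [Mon, Finset.mem_finsuppAntidiag, Finsupp.degree_eq_sum]
  have hbig : ∀ α : {α // α ∈ Mon}, ∃ i, N i ≤ α.1 i := by
    intro α
    by_contra hlt
    push Not at hlt
    have h1 : α.1.degree = m := (hMon _).1 α.2
    rw [Finsupp.degree_eq_sum] at h1
    have h2 : ∑ i, α.1 i ≤ ∑ _i : Fin n, ∑ j, N j := Finset.sum_le_sum fun i _ =>
      (hlt i).le.trans (Finset.single_le_sum (fun j _ => Nat.zero_le (N j)) (Finset.mem_univ i))
    simp only [Finset.sum_const, Finset.card_univ, Fintype.card_fin, smul_eq_mul] at h2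
    omega
  choose ix hix using hbig
  let h : {α // α ∈ Mon} → R ⊗[k] MvPolynomial (Fin n) k := fun α =>
    comp m (f (ix α) * ((1 : R) ⊗ₜ MvPolynomial.monomial (α.1 - Finsupp.single (ix α) (N (ix α))) (1 : k)))
  have hh : ∀ α, h α ∈ vanish E := fun α => comp_mem_vanish hE (Ideal.mul_mem_right _ _ (hf _)) _
  have hhs : ∀ α, atP s (h α) = MvPolynomial.monomial α.1 (1 : k) := fun α => by
    rw [atP_comp, map_mul, hfe, atP_tmul, map_one, one_smul, MvPolynomial.X_pow_eq_monomial,
      MvPolynomial.monomial_mul, one_mul, add_tsub_cancel_of_le (Finsupp.single_le_iff.2 (hix α)),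
      MvPolynomial.homogeneousComponent_of_mem (MvPolynomial.isHomogeneous_monomial (1 : k) ((hMon _).1 α.2)),
      if_pos rfl]
  let M : Matrix {α // α ∈ Mon} {α // α ∈ Mon} R := Matrix.of fun α β => coeffAt β.1 (h α)
  refine ⟨{s' | s'.ofConv M.det ≠ 0}, ?_, isOpen_ne _, ?_⟩
  · intro s' hs'
    rintro ⟨z, ⟨hzE, hz0⟩, rfl⟩
    apply hz0
    set v := vec (sndP z)
    let w : {α // α ∈ Mon} → k := fun β => MvPolynomial.aeval v (MvPolynomial.monomial β.1 (1 : k))
    have hMw : (M.map (fstP z).ofConv).mulVec w = 0 := by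
      funext α
      have h0 : MvPolynomial.aeval v (atP (fstP z) (h α)) = 0 := by
        rw [← pair_eq_atP]
        simpa [v] using hh α z hzE
      have hhom : (atP (fstP z) (h α)).IsHomogeneous m := by
        simp only [h, atP_comp]
        exact MvPolynomial.homogeneousComponent_isHomogeneous m _
      set P := atP (fstP z) (h α) with hP
      have hsupp : P.support ⊆ Mon := fun β hβ => (hMon β).2 (hhom.degree_eq_sum_deg_support hβ).symm
      have hexp : MvPolynomial.aeval v P = ∑ β ∈ Mon, P.coeff β * MvPolynomial.aeval v (MvPolynomial.monomial β (1 : k)) := by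
        conv_lhs => rw [P.as_sum]
        rw [map_sum, Finset.sum_subset hsupp (fun β _ hβ => by
          rw [MvPolynomial.notMem_support_iff.1 hβ, map_zero, map_zero])]
        refine Finset.sum_congr rfl fun β _ => ?_
        rw [MvPolynomial.aeval_monomial, MvPolynomial.aeval_monomial, map_one, one_mul, Algebra.algebraMap_self,
          RingHom.id_apply]
      show ∑ β, (fstP z).ofConv (coeffAt β.1 (h α)) * w β = 0
      rw [← h0, hexp, ← Finset.sum_coe_sort Mon]
      exact Finset.sum_congr rfl fun β _ => by rw [apply_coeffAt]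
    have hdet : (M.map (fstP z).ofConv).det ≠ 0 := by
      rw [show M.map (fstP z).ofConv = (fstP z).ofConv.mapMatrix M from rfl, ← AlgHom.map_det]
      exact hs'
    have hw := Matrix.eq_zero_of_mulVec_eq_zero hdet hMw
    funext i
    have hmem : Finsupp.single i m ∈ Mon := (hMon _).2 (Finsupp.degree_single i m)
    have := congrFun hw ⟨_, hmem⟩
    simp only [w, ← MvPolynomial.X_pow_eq_monomial, map_pow, MvPolynomial.aeval_X, Pi.zero_apply] at this
    exact eq_zero_of_pow_eq_zero this
  · show s.ofConv M.det ≠ 0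
    rw [AlgHom.map_det]
    have h1 : s.ofConv.mapMatrix M = 1 := by
      ext α β
      show s.ofConv (coeffAt β.1 (h α)) = _
      rw [apply_coeffAt, hhs, MvPolynomial.coeff_monomial, Matrix.one_apply]
      by_cases hab : α = β
      · rw [if_pos hab, if_pos (congrArg Subtype.val hab)]
      · rw [if_neg hab, if_neg fun h' => hab (Subtype.ext h')]
    rw [h1, Matrix.det_one]
    exact one_ne_zero

end cone

end Groth.Agent.BorelLib
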