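import Groth.Agent.BorelLib.Borel
import Groth.Agent.AlbNormLib.Rosen
import Groth.Agent.AlbLib.AffineHom
import Groth.Agent.AntiAffLib.Smooth
import Groth.Agent.AntiAffLib.RigidGrp
import Groth.Agent.NRQuotLib.Basic
import Groth.Agent.S4141
import Groth.Agent.OrbitLib.Homogeneous
import Groth.Agent.CommSubLib.Main

/-!
# Points of smooth groups which need not be affine
-/

set_option autoImplicit false
set_option linter.style.haveILetI false
set_option linter.unusedSectionVars false
set_option backward.isDefEq.respectTransparency false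

universe u

open CategoryTheory CategoryTheory.Limits MonoidalCategory CartesianMonoidalCategory AlgebraicGeometry
open scoped MonObj

noncomputable section

attribute [-instance] CategoryTheory.Hom.commGroup

namespace Groth.Agent.BorelLib.NA

variable {k : Type u} [Field k] [IsAlgClosed k]

section tools

variable {G H H' : Over (Spec (CommRingCat.of k))}

/-- A reduced scheme factors through a closed one as soon as its points do. -/
theorem exists_factor_of_pts [LocallyOfFiniteType H.hom] [AlgebraicGeometry.IsReduced H.left] (i : H ⟶ G)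
    (i' : H' ⟶ G) [IsClosedImmersion i'.left] (h : ∀ a : RPt H, ∃ b : RPt H', b ≫ i' = a ≫ i) :
    ∃ f : H ⟶ H', f ≫ i' = i := by
  have hr : Set.range i.left ⊆ Set.range i'.left :=
    AVAmpleLib.range_subset_of_points i i'.left.isClosedEmbedding.isClosed_range fun z => by
      obtain ⟨b, hb⟩ := h z
      rw [← hb]
      exact ⟨b.left (IsLocalRing.closedPoint k), rfl⟩
  obtain ⟨l, hl⟩ := AVAmpleLib.exists_lift_of_reduced i'.left i.left hr
  exact ⟨Over.homMk l (by rw [← Over.w i, ← hl, Category.assoc, Over.w i']), Over.OverMorphism.ext hl⟩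

/-- Reduced closed subschemes with the same points are isomorphic over the ambient scheme. -/
theorem exists_iso_of_pts [LocallyOfFiniteType G.hom] [AlgebraicGeometry.IsReduced H.left]
    [AlgebraicGeometry.IsReduced H'.left] (i : H ⟶ G) [IsClosedImmersion i.left] (i' : H' ⟶ G)
    [IsClosedImmersion i'.left] (h : ∀ a : RPt G, (∃ b : RPt H, b ≫ i = a) ↔ ∃ b : RPt H', b ≫ i' = a) :
    ∃ e : H ≅ H', e.hom ≫ i' = i := by
  haveI : LocallyOfFiniteType H.hom := by rw [← Over.w i]; infer_instance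
  haveI : LocallyOfFiniteType H'.hom := by rw [← Over.w i']; infer_instance
  obtain ⟨f, hf⟩ := exists_factor_of_pts i i' fun a => (h (a ≫ i)).1 ⟨a, rfl⟩
  obtain ⟨g, hg⟩ := exists_factor_of_pts i' i fun a => (h (a ≫ i')).2 ⟨a, rfl⟩
  haveI : Mono i := DiagRep.mono_of_isClosedImmersion i inferInstance
  haveI : Mono i' := DiagRep.mono_of_isClosedImmersion i' inferInstance
  exact ⟨⟨f, g, by rw [← cancel_mono i, Category.assoc, hg, hf, Category.id_comp],
    by rw [← cancel_mono i', Category.assoc, hf, hg, Category.id_comp]⟩, hf⟩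

variable [GrpObj G] [GrpObj H] [Smooth G.hom] [QuasiCompact G.hom]

/-- A point in the range of a closed subscheme is a point of it. -/
theorem exists_pt_of_mem_range [LocallyOfFiniteType H.hom] (f : H ⟶ G) (g : RPt G)
    (h : g.left (IsLocalRing.closedPoint k) ∈ Set.range f.left) : ∃ b : RPt H, b ≫ f = g := by
  obtain ⟨z, hz⟩ := h
  obtain ⟨b, hb⟩ := NRQuotLib.exists_pt_mem (X := H) (Z := f.left ⁻¹' {NRQuotLib.pt g}) ⟨z, hz⟩
    ((NRQuotLib.isClosed_pt g).preimage f.left.continuous)
  exact ⟨b, Over.OverMorphism.ext (ext_of_apply_closedPoint_eq G.hom (Over.w _) (Over.w _) hb)⟩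

/-- **The image of a homomorphism, as a smooth closed subgroup.** -/
theorem exists_image [Smooth H.hom] [QuasiCompact H.hom] (f : H ⟶ G) [IsMonHom f] :
    ∃ (C : Over (Spec (CommRingCat.of k))) (_ : GrpObj C) (c : C ⟶ G), IsMonHom c ∧ IsClosedImmersion c.left ∧
      Smooth C.hom ∧ (∀ g : RPt G, (∃ b : RPt C, b ≫ c = g) ↔ ∃ a : RPt H, a ≫ f = g) ∧
      (ConnectedSpace H.left → ConnectedSpace C.left) := by
  haveI : IsSeparated G.hom := Groth.Agent.GrpField.isSeparated_grp (G := G)
  haveI : QuasiCompact f.left := by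
    haveI : QuasiCompact (f.left ≫ G.hom) := by rw [Over.w f]; infer_instance
    exact QuasiCompact.of_comp f.left G.hom
  obtain ⟨C, _, c, hc, hcc, hcs, hr⟩ := DenseSubLib.exists_smooth_subgroup (A := G) (ptHom f).range
  haveI := hc; haveI := hcc; haveI := hcs
  have hcl := GrpHom.isClosed_range f
  have hsub : Set.range c.left ⊆ Set.range f.left := by
    rw [hr]
    refine closure_minimal ?_ hcl
    rintro _ ⟨_, ⟨a, rfl⟩, rfl⟩
    exact ⟨a.left (IsLocalRing.closedPoint k), rfl⟩
  haveI : LocallyOfFiniteType C.hom := inferInstance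
  have hpts : ∀ g : RPt G, (∃ b : RPt C, b ≫ c = g) ↔ ∃ a : RPt H, a ≫ f = g := by
    intro g
    constructor
    · rintro ⟨b, rfl⟩
      exact exists_pt_of_mem_range f _ (hsub ⟨b.left (IsLocalRing.closedPoint k), rfl⟩)
    · rintro ⟨a, rfl⟩
      refine exists_pt_of_mem_range c _ ?_
      rw [hr]
      exact subset_closure ⟨_, ⟨a, rfl⟩, rfl⟩
  refine ⟨C, inferInstance, c, hc, hcc, hcs, hpts, fun hH => ?_⟩
  haveI : AlgebraicGeometry.IsReduced H.left := AlgSpLib.isReduced_of_smooth H.hom
  obtain ⟨p, hp⟩ := exists_factor_of_pts f c fun a => (hpts _).2 ⟨a, rfl⟩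
  have hs : Function.Surjective p.left := fun x => by
    obtain ⟨z, hz⟩ := hsub ⟨x, rfl⟩
    refine ⟨z, c.left.isClosedEmbedding.injective ?_⟩
    rw [← hz, ← hp]
    rfl
  exact hs.connectedSpace p.left.continuous

omit [Smooth G.hom] [QuasiCompact G.hom] in
/-- A group whose points are images of the points of a solvable group is solvable. -/
theorem isSolvableGrp_of_surjective [Smooth H.hom] {C : Over (Spec (CommRingCat.of k))} [GrpObj C] [Smooth C.hom]
    (f : H ⟶ G) [IsMonHom f] (c : C ⟶ G) [IsMonHom c] [Mono c] (hs : Red.IsSolvableGrp H)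
    (h : ∀ b : RPt C, ∃ a : RPt H, a ≫ f = b ≫ c) : Red.IsSolvableGrp C := by
  obtain ⟨n, hn⟩ := hs
  refine isSolvableGrp_of_points (n := n) ?_
  have hinj : Function.Injective (ptHom c) := fun a b hab => (cancel_mono c).1 hab
  refine (Subgroup.map_eq_bot_iff_of_injective _ hinj).1 (le_bot_iff.1 ?_)
  have key : ∀ m, (derivedSeries (RPt C) m).map (ptHom c) ≤ (derivedSeries (RPt H) m).map (ptHom f) := by
    intro m
    induction m with
    | zero =>
      rintro _ ⟨b, -, rfl⟩
      obtain ⟨a, ha⟩ := h b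
      exact ⟨a, Subgroup.mem_top _, ha⟩
    | succ m ih =>
      rw [derivedSeries_succ, derivedSeries_succ, Subgroup.map_commutator, Subgroup.map_commutator]
      exact Subgroup.commutator_mono ih ih
  refine (key n).trans ?_
  rw [hn (𝟙_ _), Subgroup.map_bot]

end tools

variable {G : Over (Spec (CommRingCat.of k))} [GrpObj G] [Smooth G.hom] [QuasiCompact G.hom] [ConnectedSpace G.left]

/-- An affine part `L` and a central connected anti-affine part `D` of a connected group. -/
structure Split (G : Over (Spec (CommRingCat.of k))) [GrpObj G] where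
  L : Over (Spec (CommRingCat.of k))
  grpL : GrpObj L
  l : L ⟶ G
  D : Over (Spec (CommRingCat.of k))
  grpD : GrpObj D
  d : D ⟶ G
  hl : IsMonHom l
  hlc : IsClosedImmersion l.left
  haff : IsAffine L.left
  hLs : Smooth L.hom
  hLconn : ConnectedSpace L.left
  hfac : ∀ (H : Over (Spec (CommRingCat.of k))) [GrpObj H] [Smooth H.hom] [ConnectedSpace H.left] [IsAffine H.left]
    (f : H ⟶ G) [IsMonHom f], ∃ f' : H ⟶ L, f' ≫ l = f
  hd : IsMonHom d
  hdc : IsClosedImmersion d.left
  hDs : Smooth D.hom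
  hDqc : QuasiCompact D.hom
  hDconn : ConnectedSpace D.left
  hcentral : ∀ (X : Over (Spec (CommRingCat.of k))) (a : X ⟶ D) (g : X ⟶ G), (a ≫ d) * g = g * (a ≫ d)
  hmul : ∀ g : RPt G, ∃ (a : RPt L) (b : RPt D), (a ≫ l) * (b ≫ d) = g

attribute [instance] Split.grpL Split.grpD Split.hl Split.hlc Split.haff Split.hLs Split.hLconn Split.hd Split.hdc
  Split.hDs Split.hDqc Split.hDconn

/-- Splittings exist. -/
theorem exists_split : Nonempty (Split G) := by
  haveI : GeometricallyIntegral G.hom := AlbLib.geometricallyIntegral_grp G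
  obtain ⟨L, _, l, Q, _, q, h1, h2, h3, h4, h5, h6, h7, h8, h9, h10, h11, h12, h13, -⟩ := Groth.Agent.S4141.result k G
  haveI := h1; haveI := h2; haveI := h3; haveI := h4; haveI := h5; haveI := h7; haveI := h11
  haveI : Mono l := DiagRep.mono_of_isClosedImmersion l h2
  have hfac : ∀ (H : Over (Spec (CommRingCat.of k))) [GrpObj H] [Smooth H.hom] [ConnectedSpace H.left]
      [IsAffine H.left] (f : H ⟶ G) [IsMonHom f], ∃ f' : H ⟶ L, f' ≫ l = f := by
    intro H _ _ _ _ f _
    exact AntiAffLib.exists_lift_kernel h10 f (AlbLib.eq_one_of_affine (f ≫ q))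
  haveI hs := AlbNormLib.surjective_gAff_antiAff l h6 fun N' _ i' _ _ _ _ _ _ => hfac N' i'
  haveI : Smooth (AntiAffLib.ker G).hom := AntiAffLib.smooth_of_antiAff (AntiAffLib.ker G)
  haveI : ConnectedSpace (AntiAffLib.ker G).left := AntiAffLib.connectedSpace_of_antiAff _
  refine ⟨⟨L, inferInstance, l, AntiAffLib.ker G, inferInstance, AntiAffLib.kerIncl G, h1, h2, h3, h4, h5, hfac,
    inferInstance, inferInstance, inferInstance, inferInstance, inferInstance, fun X a g => ?_, fun g => ?_⟩⟩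
  · have e := congrArg (lift a g ≫ ·) (AntiAffLib.comm_of_hom (AntiAffLib.kerIncl G))
    simpa only [MonObj.comp_mul, lift_fst_assoc, lift_snd, Category.comp_id] using e
  · haveI : IsSeparated G.hom := Groth.Agent.GrpField.isSeparated_grp (G := G)
    haveI : LocallyOfFiniteType (L ⊗ AntiAffLib.ker G).hom :=
      inferInstanceAs (LocallyOfFiniteType (pullback.fst L.hom (AntiAffLib.ker G).hom ≫ L.hom))
    obtain ⟨w, rfl⟩ := AVAmpleLib.exists_pt_lift ((l ⊗ₘ AntiAffLib.kerIncl G) ≫ μ[G]) g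
    refine ⟨w ≫ fst _ _, w ≫ snd _ _, ?_⟩
    rw [show (l ⊗ₘ AntiAffLib.kerIncl G) ≫ μ[G] = (fst L _ ≫ l) * (snd L _ ≫ AntiAffLib.kerIncl G) by
      rw [Hom.mul_def]; congr 1]
    simp only [MonObj.comp_mul, Category.assoc]

namespace Split

variable (S : Split G) {P : Over (Spec (CommRingCat.of k))} [GrpObj P] (i : P ⟶ G) [IsMonHom i]

/-- The product homomorphism `P × D → G`. -/
def prodHom : P ⊗ S.D ⟶ G := (fst P S.D ≫ i) * (snd P S.D ≫ S.d)

omit [Smooth G.hom] [QuasiCompact G.hom] [ConnectedSpace G.left] in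
lemma comp_prodHom {T : Over (Spec (CommRingCat.of k))} (p : T ⟶ P ⊗ S.D) :
    p ≫ S.prodHom i = (p ≫ fst P S.D ≫ i) * (p ≫ snd P S.D ≫ S.d) := MonObj.comp_mul _ _ _

omit [Smooth G.hom] [QuasiCompact G.hom] [ConnectedSpace G.left] in
lemma lift_prodHom {T : Over (Spec (CommRingCat.of k))} (a : T ⟶ P) (b : T ⟶ S.D) :
    lift a b ≫ S.prodHom i = (a ≫ i) * (b ≫ S.d) := by
  rw [comp_prodHom, lift_fst_assoc, lift_snd_assoc]

omit [Smooth G.hom] [QuasiCompact G.hom] [ConnectedSpace G.left] in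
instance isMonHom_prodHom : IsMonHom (S.prodHom i) where
  one_hom := by
    have h : (1 : 𝟙_ (Over (Spec (CommRingCat.of k))) ⟶ P ⊗ S.D) ≫ S.prodHom i = 1 := by
      rw [comp_prodHom, ← Category.assoc, ← Category.assoc, MonObj.one_comp, MonObj.one_comp, MonObj.one_comp,
        MonObj.one_comp, _root_.mul_one]
    simpa [Hom.one_def] using h
  mul_hom := by
    have h : ((fst (P ⊗ S.D) (P ⊗ S.D)) * (snd (P ⊗ S.D) (P ⊗ S.D))) ≫ S.prodHom i =
        (fst (P ⊗ S.D) (P ⊗ S.D) ≫ S.prodHom i) * (snd (P ⊗ S.D) (P ⊗ S.D) ≫ S.prodHom i) := by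
      simp only [comp_prodHom, ← Category.assoc, MonObj.mul_comp]
      set a := (fst (P ⊗ S.D) (P ⊗ S.D) ≫ fst P S.D) ≫ i
      set b := (fst (P ⊗ S.D) (P ⊗ S.D) ≫ snd P S.D) ≫ S.d
      set a' := (snd (P ⊗ S.D) (P ⊗ S.D) ≫ fst P S.D) ≫ i
      set b' := (snd (P ⊗ S.D) (P ⊗ S.D) ≫ snd P S.D) ≫ S.d
      calc a * a' * (b * b') = a * (a' * b) * b' := by simp only [_root_.mul_assoc]
        _ = a * (b * a') * b' := by rw [S.hcentral]
        _ = a * b * (a' * b') := by simp only [_root_.mul_assoc]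
    rw [show μ[P ⊗ S.D] = fst (P ⊗ S.D) (P ⊗ S.D) * snd (P ⊗ S.D) (P ⊗ S.D) by
        rw [Hom.mul_def, lift_fst_snd, Category.id_comp], h, Hom.mul_def]
    congr 1

omit [Smooth G.hom] [QuasiCompact G.hom] [ConnectedSpace G.left] in
lemma smooth_prod [Smooth P.hom] : Smooth (P ⊗ S.D).hom :=
  inferInstanceAs (Smooth (pullback.fst P.hom S.D.hom ≫ P.hom))

omit [Smooth G.hom] [QuasiCompact G.hom] [ConnectedSpace G.left] in
lemma qc_prod [QuasiCompact P.hom] : QuasiCompact (P ⊗ S.D).hom :=
  inferInstanceAs (QuasiCompact (pullback.fst P.hom S.D.hom ≫ P.hom))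

omit [Smooth G.hom] [QuasiCompact G.hom] [ConnectedSpace G.left] in
lemma connected_prod [Smooth P.hom] [QuasiCompact P.hom] [ConnectedSpace P.left] : ConnectedSpace (P ⊗ S.D).left := by
  haveI := CommSubLib.geometricallyIrreducible_of_connected P
  haveI : IrreducibleSpace S.D.left := by
    haveI := CommSubLib.geometricallyIrreducible_of_connected S.D
    exact GeometricallyIrreducible.irreducibleSpace_of_subsingleton S.D.hom
  haveI := Groth.Agent.GrpField.universallyOpen_field P.hom
  show ConnectedSpace ↥(pullback P.hom S.D.hom)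
  infer_instance

omit [Smooth G.hom] [QuasiCompact G.hom] [ConnectedSpace G.left] in
/-- The anti-affine part is commutative. -/
lemma comm_D {X : Over (Spec (CommRingCat.of k))} (a b : X ⟶ S.D) : a * b = b * a := by
  haveI : Mono S.d := DiagRep.mono_of_isClosedImmersion S.d inferInstance
  rw [← cancel_mono S.d, MonObj.mul_comp, MonObj.mul_comp, S.hcentral]

omit [Smooth G.hom] [QuasiCompact G.hom] [ConnectedSpace G.left] in
lemma isSolvableGrp_prod (hP : Red.IsSolvableGrp P) : Red.IsSolvableGrp (P ⊗ S.D) := by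
  obtain ⟨n, hn⟩ := hP
  refine ⟨n + 1, fun X => le_bot_iff.1 ?_⟩
  let f : (X ⟶ P ⊗ S.D) →* (X ⟶ P) := MonoidHom.mk' (fun g => g ≫ fst P S.D) fun a b => MonObj.mul_comp a b _
  have hker : ∀ g ∈ derivedSeries (X ⟶ P ⊗ S.D) n, g ≫ fst P S.D = 1 := fun g hg => by
    have := map_derivedSeries_le_derivedSeries f n ⟨g, hg, rfl⟩
    rwa [hn X, Subgroup.mem_bot] at this
  rw [derivedSeries_succ, Subgroup.commutator_le]
  intro a ha b hb
  rw [Subgroup.mem_bot, commutatorElement_eq_one_iff_mul_comm]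
  apply CartesianMonoidalCategory.hom_ext
  · rw [MonObj.mul_comp, MonObj.mul_comp, hker a ha, hker b hb]
  · rw [MonObj.mul_comp, MonObj.mul_comp, S.comm_D]

end Split

end Groth.Agent.BorelLib.NA

end
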