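import Groth.Agent.BorelLib.BaseChange
import Groth.Agent.BorelLib.ImageField
import Groth.Agent.BorelLib.NonAffBasic
import Groth.Agent.AlbNormLib.LangTorsor
import Groth.Agent.S7795
import Mathlib.FieldTheory.Finite.GaloisField

/-!
# Galois descent of points and subgroups over a finite field
-/

set_option autoImplicit false
set_option linter.style.haveILetI false
set_option linter.unusedSectionVars false
set_option backward.isDefEq.respectTransparency false

universe u

open CategoryTheory CategoryTheory.Limits MonoidalCategory CartesianMonoidalCategory AlgebraicGeometry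
open scoped MonObj

noncomputable section

attribute [-instance] CategoryTheory.Hom.commGroup

namespace Groth.Agent.BorelLib.FF

variable {k : Type u} [Field k] [Finite k] {K : Type u} [Field K] [Algebra k K]

/-- The Frobenius of an extension of a finite field. -/
def frobA (k : Type u) [Field k] [Finite k] (K : Type u) [Field K] [Algebra k K] : K →ₐ[k] K :=
  haveI := Fintype.ofFinite k
  FiniteField.frobeniusAlgHom k K

theorem frobA_apply (x : K) : frobA k K x = x ^ Nat.card k :=
  (@Nat.card_eq_fintype_card k (Fintype.ofFinite k)).symm ▸ rfl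

/-- Two embeddings of a finite field differ by a power of the Frobenius. -/
theorem exists_pow_eq (L : Type u) [Field L] [Finite L] [Algebra k L] (φ ψ : L →ₐ[k] K) :
    ∃ n : ℕ, φ = (frobA k K ^ n).comp ψ := by
  letI := Fintype.ofFinite k
  letI : Algebra L K := ψ.toRingHom.toAlgebra
  haveI : IsScalarTower k L K := IsScalarTower.of_algebraMap_eq fun a => (ψ.commutes a).symm
  obtain ⟨n, hn⟩ := (FiniteField.bijective_frobeniusAlgHom_pow k L).2
    ((Normal.algHomEquivAut k K L φ : Gal(L/k)) : L →ₐ[k] L)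
  refine ⟨n.1, AlgHom.ext fun x => ?_⟩
  have h1 : ψ ((Normal.algHomEquivAut k K L φ : Gal(L/k)) x) = φ x :=
    congrArg (fun f : L →ₐ[k] K => f x) ((Normal.algHomEquivAut k K L).symm_apply_apply φ)
  have h2 : (FiniteField.frobeniusAlgHom k L ^ n.1) x = (Normal.algHomEquivAut k K L φ : Gal(L/k)) x :=
    congrArg (fun f : L →ₐ[k] L => f x) hn
  rw [← h1, ← h2, AlgHom.comp_apply, frobA, AlgHom.coe_pow, AlgHom.coe_pow, FiniteField.coe_frobeniusAlgHom,
    FiniteField.coe_frobeniusAlgHom, pow_iterate, pow_iterate, map_pow]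

variable (t : Spec (CommRingCat.of K) ⟶ Spec (CommRingCat.of k))
  (ht : t = Spec.map (CommRingCat.ofHom (algebraMap k K)))

/-- The Frobenius of the point. -/
def sigma : Over.mk t ⟶ Over.mk t :=
  Over.homMk (Spec.map (CommRingCat.ofHom (frobA k K).toRingHom)) (by
    subst ht
    show Spec.map _ ≫ Spec.map _ = Spec.map _
    rw [← Spec.map_comp, ← CommRingCat.ofHom_comp]
    congr 2
    exact (frobA k K).comp_algebraMap)

theorem sigma_iterate_left {X : Over (Spec (CommRingCat.of k))} (y : Over.mk t ⟶ X) (n : ℕ) :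
    ((fun a => sigma t ht ≫ a)^[n] y).left =
      Spec.map (CommRingCat.ofHom (frobA k K ^ n).toRingHom) ≫ y.left := by
  induction n with
  | zero =>
    rw [Function.iterate_zero_apply, pow_zero]
    refine (Category.id_comp _).symm.trans ?_
    congr 1
    exact (Spec.map_id (CommRingCat.of K)).symm
  | succ n ih =>
    rw [Function.iterate_succ_apply', Over.comp_left, ih]
    show Spec.map _ ≫ Spec.map _ ≫ _ = _
    rw [← Category.assoc, ← Spec.map_comp, ← CommRingCat.ofHom_comp, pow_succ']
    rfl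

/-- The image point. -/
abbrev img {X : Over (Spec (CommRingCat.of k))} (a : Over.mk t ⟶ X) : X.left := a.left (IsLocalRing.closedPoint K)

omit [Finite k] in
theorem img_comp {X Y : Over (Spec (CommRingCat.of k))} (a : Over.mk t ⟶ X) (f : X ⟶ Y) :
    img t (a ≫ f) = f.left (img t a) := rfl

/-- Every closed point carries a geometric point. -/
theorem exists_img_eq [IsAlgClosed K] (ht : t = Spec.map (CommRingCat.ofHom (algebraMap k K)))
    {X : Over (Spec (CommRingCat.of k))} [LocallyOfFiniteType X.hom] (z : X.left) (hz : IsClosed {z}) :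
    ∃ a : Over.mk t ⟶ X, img t a = z := by
  subst ht
  exact AVAmpleLib.exists_imgPt (Ω := K) hz

/-- Points with the same closed image are conjugate under the Frobenius. -/
theorem exists_iterate_eq {X : Over (Spec (CommRingCat.of k))} [LocallyOfFiniteType X.hom] (a b : Over.mk t ⟶ X)
    (hab : img t a = img t b) (hz : IsClosed {img t b}) :
    ∃ n : ℕ, a = (fun c => sigma t ht ≫ c)^[n] b := by
  generalize hz' : img t b = z at hab hz
  obtain ⟨f, hf⟩ := Spec.map_surjective (X.left.fromSpecResidueField z ≫ X.hom)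
  letI : Algebra k (X.left.residueField z) := f.hom.toAlgebra
  haveI : IsClosedImmersion (X.left.fromSpecResidueField z) := by
    rw [IsClosedImmersion.iff_isPreimmersion]
    exact ⟨inferInstance, by rw [Scheme.range_fromSpecResidueField]; exact hz⟩
  haveI hft : Algebra.FiniteType k (X.left.residueField z) := by
    have : LocallyOfFiniteType (Spec.map f) := by rw [hf]; infer_instance
    rw [HasRingHomProperty.Spec_iff (P := @LocallyOfFiniteType)] at this
    exact RingHom.finiteType_algebraMap.1 this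
  haveI : Module.Finite k (X.left.residueField z) := finite_of_finite_type_of_isJacobsonRing k _
  haveI : Finite (X.left.residueField z) := Module.finite_of_finite k
  have key : ∀ c : Over.mk t ⟶ X, img t c = z → ∃ ψ : X.left.residueField z →ₐ[k] K,
      Spec.map (CommRingCat.ofHom ψ.toRingHom) ≫ X.left.fromSpecResidueField z = c.left := by
    rintro c rfl
    let ψ₀ := Scheme.descResidueField (Scheme.stalkClosedPointTo c.left)
    have hψ : Spec.map ψ₀ ≫ X.left.fromSpecResidueField (img t c) = c.left :=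
      Scheme.descResidueField_stalkClosedPointTo_fromSpecResidueField K X.left c.left
    refine ⟨{ toRingHom := ψ₀.hom, commutes' := fun r => ?_ }, hψ⟩
    have h : f ≫ ψ₀ = CommRingCat.ofHom (algebraMap k K) := by
      refine Spec.map_injective ?_
      rw [Spec.map_comp, hf, reassoc_of% hψ, ← ht]
      exact Over.w c
    exact congr($h r)
  obtain ⟨φ, hφ⟩ := key a hab
  obtain ⟨ψ, hψ⟩ := key b hz'
  obtain ⟨n, hn⟩ := exists_pow_eq _ φ ψ
  refine ⟨n, Over.OverMorphism.ext ?_⟩
  rw [sigma_iterate_left, ← hψ, ← hφ, ← Category.assoc, ← Spec.map_comp, hn]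
  rfl

/-- A fixed point is rational. -/
theorem exists_rat_of_fixed {X : Over (Spec (CommRingCat.of k))} (a : Over.mk t ⟶ X) (ha : sigma t ht ≫ a = a) :
    ∃ g : 𝟙_ (Over (Spec (CommRingCat.of k))) ⟶ X, toUnit (Over.mk t) ≫ g = a := by
  set z := img t a with hzdef
  obtain ⟨ψ, hψ⟩ : ∃ ψ : X.left.residueField z ⟶ CommRingCat.of K,
      Spec.map ψ ≫ X.left.fromSpecResidueField z = a.left :=
    ⟨_, Scheme.descResidueField_stalkClosedPointTo_fromSpecResidueField K X.left a.left⟩
  have h2 : Spec.map (CommRingCat.ofHom (frobA k K).toRingHom) ≫ a.left = a.left :=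
    congrArg (fun m : Over.mk t ⟶ X => CommaMorphism.left m) ha
  rw [← hψ, ← Category.assoc, cancel_mono, ← Spec.map_comp] at h2
  have hpow : ∀ r, ψ.hom r ^ Nat.card k = ψ.hom r := fun r => by
    have h := congr($(Spec.map_injective h2) r)
    rw [← frobA_apply]
    exact h
  obtain ⟨f, hf⟩ := Spec.map_surjective (X.left.fromSpecResidueField z ≫ X.hom)
  have hfψ : f ≫ ψ = CommRingCat.ofHom (algebraMap k K) := by
    refine Spec.map_injective ?_
    rw [Spec.map_comp, hf, reassoc_of% hψ, ← ht]
    exact Over.w a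
  have hbij : Function.Bijective f.hom := by
    refine ⟨f.hom.injective, fun r => ?_⟩
    obtain ⟨b, hb⟩ := RingHom.mem_range.1 (AlbNormLib.mem_range_of_pow_card_eq (hpow r))
    refine ⟨b, ψ.hom.injective ?_⟩
    rw [← hb]
    exact congr($hfψ b)
  haveI : IsIso f := (ConcreteCategory.isIso_iff_bijective f).2 hbij
  let g : 𝟙_ (Over (Spec (CommRingCat.of k))) ⟶ X :=
    Over.homMk (Spec.map (inv f) ≫ X.left.fromSpecResidueField z) (by
      show (Spec.map (inv f) ≫ X.left.fromSpecResidueField z) ≫ X.hom = 𝟙 _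
      rw [Category.assoc, ← hf, ← Spec.map_comp, IsIso.hom_inv_id, Spec.map_id])
  refine ⟨g, Over.OverMorphism.ext ?_⟩
  rw [Over.comp_left, Over.toUnit_left]
  show t ≫ Spec.map (inv f) ≫ X.left.fromSpecResidueField z = a.left
  have ht' : t = Spec.map ψ ≫ Spec.map f := by rw [← Spec.map_comp, hfψ, ht]
  rw [show t ≫ Spec.map (inv f) ≫ X.left.fromSpecResidueField z =
      (Spec.map ψ ≫ Spec.map f) ≫ Spec.map (inv f) ≫ X.left.fromSpecResidueField z from congrArg (· ≫ _) ht',
    Category.assoc, ← Spec.map_comp_assoc (inv f) f, IsIso.inv_hom_id, Spec.map_id, Category.id_comp, hψ]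

/-- Lang's theorem on geometric points. -/
theorem exists_lang [IsAlgClosed K] {C : Over (Spec (CommRingCat.of k))} [GrpObj C] [IsAffine C.left] [Smooth C.hom]
    [ConnectedSpace C.left] (c : Over.mk t ⟶ C) : ∃ g : Over.mk t ⟶ C, g * (sigma t ht ≫ g)⁻¹ = c := by
  obtain ⟨π, hπ, hle, -, happ⟩ := AVAmpleLib.exists_frob C
  have hF : ∀ s : Γ(C.left, ⊤), π.left.appTop s = s ^ Nat.card k := fun s => by
    rw [← happ ⊤ s]
    simp [Scheme.Hom.appLE, Scheme.Hom.appTop]
  haveI := hπ
  subst ht
  obtain ⟨g, hg⟩ := AlbNormLib.exists_lang_preimage π hF K c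
  refine ⟨g, ?_⟩
  rw [← hg, MonObj.comp_mul, GrpObj.comp_inv, Category.comp_id]
  congr 2
  refine Over.OverMorphism.ext (AlbNormLib.sectMap_injective ?_)
  ext s
  show (AlbNormLib.sectMap (Spec.map (CommRingCat.ofHom (frobA k K).toRingHom) ≫ g.left)).hom s = _
  rw [AlbNormLib.sectMap_comp]
  show frobA k K ((AlbNormLib.sectMap g.left).hom s) = (Scheme.ΓSpecIso (CommRingCat.of K)).hom (g.left.appTop (π.left.appTop s))
  rw [hF, frobA_apply, map_pow, map_pow]
  rfl

section pts

variable {K : Type u} [Field K] (t : Spec (CommRingCat.of K) ⟶ Spec (CommRingCat.of k))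

/-- The terminal object over the big field, pushed down. -/
def oneIso : (Over.map t).obj (𝟙_ (Over (Spec (CommRingCat.of K)))) ≅ Over.mk t :=
  Over.isoMk (Iso.refl _) (by
    show 𝟙 _ ≫ t = 𝟙 _ ≫ t
    rfl)

/-- Geometric points as points of the base change. -/
def ptK (G : Over (Spec (CommRingCat.of k))) [GrpObj G] : (Over.mk t ⟶ G) ≃* RPt (Red.bc t G) :=
  MulEquiv.mk'
    ((Iso.homCongr (oneIso t) (Iso.refl G)).symm.trans (PowEtCentralLib.adjEquiv t _).toEquiv)
    (fun a b => by
      show PowEtCentralLib.adjEquiv t _ ((oneIso t).hom ≫ (a * b) ≫ 𝟙 G) =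
        PowEtCentralLib.adjEquiv t _ ((oneIso t).hom ≫ a ≫ 𝟙 G) *
          PowEtCentralLib.adjEquiv t _ ((oneIso t).hom ≫ b ≫ 𝟙 G)
      rw [← map_mul, Category.comp_id, Category.comp_id, Category.comp_id, MonObj.comp_mul])

variable {G H : Over (Spec (CommRingCat.of k))} [GrpObj G] [GrpObj H]

omit [Finite k] in
theorem ptK_left_fst (a : Over.mk t ⟶ G) : (ptK t G a).left ≫ pullback.fst G.hom t = a.left := by
  show ((Over.mapPullbackAdj t).homEquiv _ _ ((oneIso t).hom ≫ a ≫ 𝟙 G)).left ≫ _ = _
  simp [oneIso, Over.mapPullbackAdj]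

omit [Finite k] in
theorem ptK_comp (b : Over.mk t ⟶ H) (f : H ⟶ G) : ptK t H b ≫ (Over.pullback t).map f = ptK t G (b ≫ f) := by
  refine Over.OverMorphism.ext (pullback.hom_ext ?_ ?_)
  · rw [ptK_left_fst]
    show ((ptK t H b).left ≫ ((Over.pullback t).map f).left) ≫ _ = _
    rw [Category.assoc, show ((Over.pullback t).map f).left ≫ pullback.fst G.hom t = pullback.fst H.hom t ≫ f.left from
      pullback.lift_fst _ _ _, ← Category.assoc, ptK_left_fst]
    rfl
  · exact (Over.w (ptK t H b ≫ (Over.pullback t).map f)).trans (Over.w (ptK t G (b ≫ f))).symm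

omit [Finite k] in
theorem fst_ptK (a : Over.mk t ⟶ G) :
    pullback.fst G.hom t ((ptK t G a).left (IsLocalRing.closedPoint K)) = img t a := by
  exact congrArg (fun m : (𝟙_ (Over (Spec (CommRingCat.of K)))).left ⟶ G.left => m (IsLocalRing.closedPoint K))
    (ptK_left_fst t a)

variable [IsAlgClosed K]

/-- Geometric points separate closed subschemes. -/
theorem exists_factor [Algebra k K] (ht : t = Spec.map (CommRingCat.ofHom (algebraMap k K)))
    {X Y G : Over (Spec (CommRingCat.of k))} [LocallyOfFiniteType X.hom]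
    [AlgebraicGeometry.IsReduced X.left] (f : X ⟶ G) (j : Y ⟶ G) [IsClosedImmersion j.left]
    (h : ∀ a : Over.mk t ⟶ X, ∃ b : Over.mk t ⟶ Y, b ≫ j = a ≫ f) : ∃ l : X ⟶ Y, l ≫ j = f := by
  haveI : JacobsonSpace X.left := LocallyOfFiniteType.jacobsonSpace X.hom
  have hr : Set.range f.left ⊆ Set.range j.left := by
    rintro _ ⟨x, rfl⟩
    have hW : IsClosed (f.left ⁻¹' Set.range j.left) :=
      j.left.isClosedEmbedding.isClosed_range.preimage f.left.continuous
    suffices f.left ⁻¹' Set.range j.left = Set.univ from this.ge (Set.mem_univ x)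
    rw [← hW.closure_eq, ← dense_iff_closure_eq]
    refine Dense.mono (fun y hy => ?_) (dense_iff_closure_eq.mpr (closure_closedPoints (X := X.left)))
    obtain ⟨a, rfl⟩ := exists_img_eq t ht y (mem_closedPoints_iff.1 hy)
    obtain ⟨b, hb⟩ := h a
    refine ⟨img t b, ?_⟩
    rw [← img_comp, hb, img_comp]
  obtain ⟨l, hl⟩ := AVAmpleLib.exists_lift_of_reduced j.left f.left hr
  exact ⟨Over.homMk l (by rw [← Over.w f, ← hl, Category.assoc, Over.w j]), Over.OverMorphism.ext hl⟩

/-- A point whose image lies in a closed subscheme lifts to it. -/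
theorem exists_lift [Algebra k K] (ht : t = Spec.map (CommRingCat.ofHom (algebraMap k K)))
    {X G : Over (Spec (CommRingCat.of k))} [LocallyOfFiniteType X.hom] [LocallyOfFiniteType G.hom] (j : X ⟶ G)
    [IsClosedImmersion j.left] (a : Over.mk t ⟶ G) (hcl : IsClosed {img t a}) (ha : img t a ∈ Set.range j.left) :
    ∃ b : Over.mk t ⟶ X, b ≫ j = a := by
  obtain ⟨y, hy⟩ := ha
  obtain ⟨b, hb⟩ := exists_img_eq t ht y (by
    have := hcl.preimage j.left.continuous
    rw [← hy, ← Set.image_singleton, Set.preimage_image_eq _ j.left.isClosedEmbedding.injective] at this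
    exact this)
  obtain ⟨n, hn⟩ := exists_iterate_eq t ht a (b ≫ j) (by rw [img_comp t b, hb, hy]) (by
    rw [img_comp t b, hb, hy]; exact hcl)
  refine ⟨(fun c => sigma t ht ≫ c)^[n] b, ?_⟩
  rw [hn]
  clear hn
  induction n with
  | zero => rfl
  | succ n ih => rw [Function.iterate_succ_apply', Function.iterate_succ_apply', Category.assoc, ih]

/-- A Frobenius stable closed subgroup of the base change is defined over the finite field. -/
theorem exists_descent [Algebra k K] [Algebra.IsAlgebraic k K]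
    (ht : t = Spec.map (CommRingCat.ofHom (algebraMap k K))) [LocallyOfFiniteType G.hom] [QuasiCompact G.hom]
    {H₁ : Over (Spec (CommRingCat.of K))} [GrpObj H₁] (i : H₁ ⟶ Red.bc t G) [IsMonHom i] [IsClosedImmersion i.left]
    [AlgebraicGeometry.IsReduced H₁.left]
    (hst : ∀ a : Over.mk t ⟶ G, (∃ b, b ≫ i = ptK t G a) → ∃ b, b ≫ i = ptK t G (sigma t ht ≫ a)) :
    ∃ (H : Over (Spec (CommRingCat.of k))) (_ : GrpObj H) (j : H ⟶ G), IsMonHom j ∧ IsClosedImmersion j.left ∧
      Smooth H.hom ∧ ∃ e : Red.bc t H ≅ H₁, e.hom ≫ i = (Over.pullback t).map j := by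
  haveI : IsIntegralHom t := by
    rw [ht, IsIntegralHom.SpecMap_iff, CommRingCat.hom_ofHom, algebraMap_isIntegral_iff]
    exact Algebra.IsAlgebraic.isIntegral
  let p := pullback.fst G.hom t
  haveI : IsIntegralHom p := MorphismProperty.pullback_fst (P := @IsIntegralHom) G.hom t inferInstance
  haveI : LocallyOfFiniteType (Red.bc t G).hom := inferInstanceAs (LocallyOfFiniteType (pullback.snd G.hom t))
  haveI : IsSeparated (Red.bc t G).hom := Groth.Agent.GrpField.isSeparated_grp (G := Red.bc t G)
  haveI : LocallyOfFiniteType H₁.hom := by rw [← Over.w i]; infer_instance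
  haveI : JacobsonSpace H₁.left := LocallyOfFiniteType.jacobsonSpace H₁.hom
  let C : Set G.left := p '' Set.range i.left
  have hC : IsClosed C := p.isClosedMap _ i.left.isClosedEmbedding.isClosed_range
  have hpt : ∀ x : RPt (Red.bc t G), IsClosed {x.left (IsLocalRing.closedPoint K)} := fun x => by
    haveI : IsClosedImmersion (x.left ≫ (Red.bc t G).hom) := by
      rw [Over.w x]; exact inferInstanceAs (IsClosedImmersion (𝟙 (Spec (CommRingCat.of K))))
    haveI := IsClosedImmersion.of_comp x.left (Red.bc t G).hom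
    have := x.left.isClosedEmbedding.isClosedMap {IsLocalRing.closedPoint K} (IsLocalRing.isClosed_singleton_closedPoint K)
    rwa [Set.image_singleton] at this
  have hclosed : ∀ a : Over.mk t ⟶ G, IsClosed {img t a} := fun a => by
    rw [← fst_ptK, ← Set.image_singleton]
    exact p.isClosedMap _ (hpt _)
  -- the points in the image are exactly those of the subgroup
  have hmem : ∀ a : Over.mk t ⟶ G, img t a ∈ C ↔ ∃ b : RPt H₁, b ≫ i = ptK t G a := by
    intro a
    constructor
    · intro ha
      have hcl := hclosed a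
      obtain ⟨_, ⟨w, rfl⟩, hw⟩ := ha
      obtain ⟨w', hw', hwc⟩ := nonempty_inter_closedPoints (X := H₁.left) (Z := (i.left ≫ p) ⁻¹' {img t a})
        ⟨w, hw⟩ (hcl.preimage (i.left ≫ p).continuous).isLocallyClosed
      let b : RPt H₁ := Over.homMk (pointOfClosedPoint H₁.hom w' hwc) (pointOfClosedPoint_comp _ _ _)
      obtain ⟨c, hc⟩ := (ptK t G).surjective (b ≫ i)
      have himg : img t a = img t c := by
        rw [← fst_ptK t c, hc]
        show _ = p (i.left (pointOfClosedPoint H₁.hom w' hwc _))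
        rw [pointOfClosedPoint_apply]
        exact hw'.symm
      obtain ⟨n, rfl⟩ := exists_iterate_eq t ht a c himg (himg ▸ hcl)
      clear himg hw' hw hcl
      induction n with
      | zero => exact ⟨b, hc.symm⟩
      | succ n ih => rw [Function.iterate_succ_apply']; exact hst _ ih
    · rintro ⟨b, hb⟩
      exact ⟨_, ⟨b.left (IsLocalRing.closedPoint K), rfl⟩, by rw [← fst_ptK t a, ← hb]; rfl⟩
  let I := Scheme.IdealSheafData.vanishingIdeal (⟨C, hC⟩ : TopologicalSpace.Closeds G.left)
  haveI : AlgebraicGeometry.IsReduced I.subscheme := DevissLib.isReduced_vanishingIdeal' _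
  let H : Over (Spec (CommRingCat.of k)) := Over.mk (I.subschemeι ≫ G.hom)
  let j : H ⟶ G := Over.homMk I.subschemeι rfl
  haveI : IsClosedImmersion j.left := inferInstanceAs (IsClosedImmersion I.subschemeι)
  haveI : AlgebraicGeometry.IsReduced H.left := inferInstanceAs (AlgebraicGeometry.IsReduced I.subscheme)
  haveI : LocallyOfFiniteType H.hom := inferInstanceAs (LocallyOfFiniteType (I.subschemeι ≫ G.hom))
  have hr : Set.range j.left = C := by
    show Set.range I.subschemeι = C
    rw [Scheme.IdealSheafData.range_subschemeι, Scheme.IdealSheafData.coe_support_vanishingIdeal]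
    rfl
  haveI : Mono j := Over.mono_of_mono_left j
  have hjC : ∀ a : Over.mk t ⟶ H, img t (a ≫ j) ∈ C := fun a => hr ▸ ⟨img t a, rfl⟩
  have hfac : ∀ (Z : Over (Spec (CommRingCat.of k))) (h : Z ⟶ G), AlgebraicGeometry.IsReduced Z.left →
      LocallyOfFiniteType Z.hom → (∀ a : Over.mk t ⟶ Z, img t (a ≫ h) ∈ C) → ∃ l : Z ⟶ H, l ≫ j = h := by
    intro Z h _ _ hz
    refine exists_factor t ht h j fun a => exists_lift t ht j _ (hclosed _) (hr.symm ▸ hz a)
  have hsub : ∀ a b : Over.mk t ⟶ G, img t a ∈ C → img t b ∈ C → img t (a * b⁻¹) ∈ C := by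
    intro a b ha hb
    obtain ⟨a', ha'⟩ := (hmem a).1 ha
    obtain ⟨b', hb'⟩ := (hmem b).1 hb
    exact (hmem _).2 ⟨a' * b'⁻¹, by rw [MonObj.mul_comp, GrpObj.inv_comp, ha', hb', map_mul, map_inv]⟩
  have h1 : img t (1 : Over.mk t ⟶ G) ∈ C := (hmem 1).2 ⟨1, by rw [MonObj.one_comp, map_one]⟩
  haveI : GeometricallyReduced H.hom := AVAmpleLib.gr_of_isReduced H.hom
  haveI : IsLocallyNoetherian H.left := LocallyOfFiniteType.isLocallyNoetherian H.hom
  haveI : AlgebraicGeometry.IsReduced (H ⊗ H).left := inferInstanceAs (AlgebraicGeometry.IsReduced (pullback H.hom H.hom))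
  haveI : LocallyOfFiniteType (H ⊗ H).hom :=
    inferInstanceAs (LocallyOfFiniteType (pullback.fst H.hom H.hom ≫ H.hom))
  obtain ⟨_, hj⟩ := Groth.Agent.SubDesc.exists_grpObj_of_mono j
    (hfac (H ⊗ H) _ inferInstance inferInstance fun a => by
      rw [MonObj.comp_mul, ← Category.assoc, ← Category.assoc, ← inv_inv ((a ≫ snd H H) ≫ j)]
      refine hsub _ _ (hjC _) ?_
      rw [← one_mul ((a ≫ snd H H) ≫ j)⁻¹]
      exact hsub _ _ h1 (hjC _))
    (hfac _ _ (inferInstanceAs (AlgebraicGeometry.IsReduced (Spec (CommRingCat.of k))))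
      (inferInstanceAs (LocallyOfFiniteType (𝟙 (Spec (CommRingCat.of k))))) fun a => by
      rw [MonObj.comp_one]; exact h1)
    (hfac H _ inferInstance inferInstance fun a => by
      rw [GrpObj.comp_inv, ← one_mul (a ≫ j)⁻¹]; exact hsub _ _ h1 (hjC _))
  haveI := hj
  haveI : Flat H.hom := Groth.Agent.GrpField.flat_field _
  haveI : LocallyOfFinitePresentation H.hom :=
    LocallyOfFinitePresentation.iff_locallyOfFiniteType.2 inferInstance
  haveI hsm : Smooth H.hom := Groth.Agent.S7795.result H
  haveI : Smooth (Red.bc t H).hom := MorphismProperty.pullback_snd (P := @Smooth) _ _ inferInstance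
  haveI : AlgebraicGeometry.IsReduced (Red.bc t H).left := AlgSpLib.isReduced_of_smooth (Red.bc t H).hom
  haveI : IsClosedImmersion ((Over.pullback t).map j).left := isClosedImmersion_bc t j
  refine ⟨H, inferInstance, j, hj, inferInstance, hsm,
    NA.exists_iso_of_pts ((Over.pullback t).map j) i fun x => ?_⟩
  obtain ⟨a, rfl⟩ := (ptK t G).surjective x
  rw [← hmem]
  constructor
  · rintro ⟨b, hb⟩
    obtain ⟨b, rfl⟩ := (ptK t H).surjective b
    rw [ptK_comp, EquivLike.apply_eq_iff_eq] at hb
    exact hb ▸ hjC b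
  · intro ha
    obtain ⟨b, hb⟩ := exists_lift t ht j a (hclosed a) (hr.symm ▸ ha)
    exact ⟨ptK t H b, by rw [ptK_comp, hb]⟩

end pts

end Groth.Agent.BorelLib.FF

end
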