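import Mathlib

/-!
# Lifting and conjugating torsion elements along abelian uniquely divisible layers
-/

set_option autoImplicit false

open scoped commutatorElement

namespace Groth.Agent.BorelLib

variable {Γ : Type*} [Group Γ]

/-- A chain of normal subgroups with abelian uniquely `m`-divisible layers. -/
structure IsLayered (U : ℕ → Subgroup Γ) (m : ℕ) : Prop where
  normal : ∀ i, (U i).Normal
  anti : ∀ i, U (i + 1) ≤ U i
  comm : ∀ i, ∀ a ∈ U i, ∀ b ∈ U i, ⁅a, b⁆ ∈ U (i + 1)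
  tf : ∀ i, ∀ a ∈ U i, a ^ m ∈ U (i + 1) → a ∈ U (i + 1)
  div : ∀ i, ∀ a ∈ U i, ∃ w ∈ U i, a⁻¹ * w ^ m ∈ U (i + 1)
  top : ∃ N, U N = ⊥

namespace IsLayered

variable {U : ℕ → Subgroup Γ} {m : ℕ}

lemma step_lift (h : IsLayered U m) (i : ℕ) {x : Γ} (hx : x ^ m ∈ U i) :
    ∃ u ∈ U i, (x * u) ^ m ∈ U (i + 1) := by
  haveI := h.normal (i + 1)
  obtain ⟨w, hw, hw'⟩ := h.div i (x ^ m)⁻¹ ((U i).inv_mem hx)
  refine ⟨w, hw, ?_⟩
  let π := QuotientGroup.mk' (U (i + 1))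
  have e0 : ∀ g, g ∈ U (i + 1) ↔ π g = 1 := fun g => (QuotientGroup.eq_one_iff g).symm
  have hA : ∀ a ∈ U i, ∀ b ∈ U i, Commute (π a) (π b) := fun a ha b hb => by
    have := (e0 _).1 (h.comm i a ha b hb)
    rw [map_commutatorElement, commutatorElement_eq_one_iff_mul_comm] at this
    exact this
  have hwm : π w ^ m = (π x ^ m)⁻¹ := by
    have := (e0 _).1 hw'
    rw [inv_inv, map_mul, map_pow, map_pow] at this
    exact eq_inv_of_mul_eq_one_right this
  have hwc : x * w * x⁻¹ ∈ U i := (h.normal i).conj_mem w hw x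
  have hd : x * w * x⁻¹ * w⁻¹ ∈ U (i + 1) := by
    refine h.tf i _ ((U i).mul_mem hwc ((U i).inv_mem hw)) ((e0 _).2 ?_)
    rw [map_pow, map_mul, map_inv, ((hA _ hwc w hw).inv_right).mul_pow, inv_pow]
    rw [map_mul, map_mul, map_inv, conj_pow, hwm]
    group
  have hcomm : Commute (π x) (π w) := by
    have := (e0 _).1 hd
    rw [map_mul, map_mul, map_mul, map_inv, map_inv, ← commutatorElement_def,
      commutatorElement_eq_one_iff_mul_comm] at this
    exact this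
  rw [e0, map_pow, map_mul, hcomm.mul_pow, hwm, mul_inv_cancel]

lemma lift_aux (h : IsLayered U m) : ∀ i, ∀ x : Γ, x ^ m ∈ U 0 → ∃ u ∈ U 0, (x * u) ^ m ∈ U i
  | 0, x, hx => ⟨1, one_mem _, by rwa [mul_one]⟩
  | i + 1, x, hx => by
    obtain ⟨u, hu, hu'⟩ := lift_aux h i x hx
    obtain ⟨w, hw, hw'⟩ := h.step_lift i hu'
    have hle : U i ≤ U 0 := by
      clear hu' hw hw'
      induction i with
      | zero => exact le_rfl
      | succ j ih => exact (h.anti j).trans ih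
    exact ⟨u * w, (U 0).mul_mem hu (hle hw), by rwa [← mul_assoc]⟩

/-- Torsion elements of the quotient lift. -/
theorem exists_lift (h : IsLayered U m) {x : Γ} (hx : x ^ m ∈ U 0) : ∃ u ∈ U 0, (x * u) ^ m = 1 := by
  obtain ⟨N, hN⟩ := h.top
  obtain ⟨u, hu, hu'⟩ := h.lift_aux N x hx
  exact ⟨u, hu, by rwa [hN, Subgroup.mem_bot] at hu'⟩

lemma step_conj (h : IsLayered U m) (i : ℕ) {x x' : Γ} (hx : x ^ m = 1) (hx' : x' ^ m = 1)
    (hc : x' * x⁻¹ ∈ U i) : ∃ u ∈ U i, x' * (u * x * u⁻¹)⁻¹ ∈ U (i + 1) := by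
  haveI := h.normal (i + 1)
  haveI := h.normal i
  set c := x' * x⁻¹ with hc_def
  let π := QuotientGroup.mk' (U (i + 1))
  have e0 : ∀ g, g ∈ U (i + 1) ↔ π g = 1 := fun g => (QuotientGroup.eq_one_iff g).symm
  have hA : ∀ a ∈ U i, ∀ b ∈ U i, Commute (π a) (π b) := fun a ha b hb => by
    have := (e0 _).1 (h.comm i a ha b hb)
    rw [map_commutatorElement, commutatorElement_eq_one_iff_mul_comm] at this
    exact this
  let A := (U i).map π
  letI : CommGroup A :=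
    { (inferInstance : Group A) with
      mul_comm := fun a b => Subtype.ext (by
        obtain ⟨a', ha', ea⟩ := a.2
        obtain ⟨b', hb', eb⟩ := b.2
        show (a : Γ ⧸ U (i + 1)) * b = b * a
        rw [← ea, ← eb]
        exact hA a' ha' b' hb') }
  have hmem : ∀ j, x' ^ j * (x ^ j)⁻¹ ∈ U i := fun j => by
    induction j with
    | zero => simpa using (U i).one_mem
    | succ j ih =>
      have e : x' ^ (j + 1) * (x ^ (j + 1))⁻¹ = c * (x * (x' ^ j * (x ^ j)⁻¹) * x⁻¹) := by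
        rw [hc_def, pow_succ', pow_succ']; group
      rw [e]
      exact (U i).mul_mem hc ((h.normal i).conj_mem _ ih x)
  let a : ℕ → A := fun j => ⟨π (x' ^ j * (x ^ j)⁻¹), _, hmem j, rfl⟩
  let C : A := ⟨π c, _, hc, rfl⟩
  let φ : A →* A := ((MulAut.conj (π x)).toMonoidHom.comp A.subtype).codRestrict A fun z => by
    obtain ⟨z', hz', ez⟩ := z.2
    refine ⟨x * z' * x⁻¹, (h.normal i).conj_mem z' hz' x, ?_⟩
    simp [← ez]
  have hφa : ∀ j, φ (a j) = C⁻¹ * a (j + 1) := fun j => Subtype.ext (by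
    show π x * π (x' ^ j * (x ^ j)⁻¹) * (π x)⁻¹ = (π c)⁻¹ * π (x' ^ (j + 1) * (x ^ (j + 1))⁻¹)
    simp only [← map_inv, ← map_mul]
    congr 1
    rw [hc_def, pow_succ' x' j, pow_succ' x j]
    group)
  have hP : φ (∏ j ∈ Finset.range m, a j) = (C ^ m)⁻¹ * ∏ j ∈ Finset.range m, a j := by
    rw [map_prod, Finset.prod_congr rfl fun j _ => hφa j, Finset.prod_mul_distrib, Finset.prod_const,
      Finset.card_range, inv_pow]
    congr 1
    have h0 : a 0 = 1 := Subtype.ext (by simp [a])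
    have hm : a m = 1 := Subtype.ext (by simp [a, hx, hx'])
    have h1 := Finset.prod_range_succ' a m
    rw [Finset.prod_range_succ, hm, h0, mul_one, mul_one] at h1
    exact h1.symm
  obtain ⟨P, hP₁, hP₂⟩ := (∏ j ∈ Finset.range m, a j).2
  obtain ⟨w, hw, hw'⟩ := h.div i P hP₁
  let W : A := ⟨π w, _, hw, rfl⟩
  have hW : W ^ m = ∏ j ∈ Finset.range m, a j := Subtype.ext (by
    have := (e0 _).1 hw'
    rw [map_mul, map_inv, map_pow, inv_mul_eq_one] at this
    rw [Subgroup.coe_pow, ← hP₂]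
    exact this.symm)
  have hWpow : (φ W * (C⁻¹ * W)⁻¹) ^ m = 1 := by
    rw [mul_pow, ← map_pow, inv_pow, mul_pow, inv_pow, hW, hP, mul_inv_cancel]
  have hWeq : φ W = C⁻¹ * W := by
    obtain ⟨z, hz, ez⟩ := (φ W * (C⁻¹ * W)⁻¹).2
    have : z ∈ U (i + 1) := h.tf i z hz ((e0 _).2 (by
      rw [map_pow, ez, ← Subgroup.coe_pow, hWpow, Subgroup.coe_one]))
    rw [← mul_inv_eq_one]
    exact Subtype.ext (ez.symm.trans ((e0 _).1 this))
  refine ⟨w, hw, (e0 _).2 ?_⟩
  have hWv : π x * π w * (π x)⁻¹ = (π c)⁻¹ * π w := congrArg Subtype.val hWeq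
  have hcw : Commute (π c) (π w) := hA c hc w hw
  have key : π w * π x * (π w)⁻¹ * (π x)⁻¹ = π c := by
    rw [show π w * π x * (π w)⁻¹ * (π x)⁻¹ = π w * (π x * π w * (π x)⁻¹)⁻¹ by group, hWv, mul_inv_rev,
      inv_inv, mul_inv_cancel_left]
  have hwx : π w * π x * (π w)⁻¹ = π x' := by
    rw [mul_inv_eq_iff_eq_mul.1 key, ← map_mul, hc_def, inv_mul_cancel_right]
  rw [map_mul, map_inv, map_mul, map_mul, map_inv, hwx, mul_inv_cancel]

lemma conj_aux (h : IsLayered U m) : ∀ i, ∀ x x' : Γ, x ^ m = 1 → x' ^ m = 1 → x' * x⁻¹ ∈ U 0 →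
    ∃ u ∈ U 0, x' * (u * x * u⁻¹)⁻¹ ∈ U i
  | 0, x, x', _, _, hc => ⟨1, one_mem _, by simpa using hc⟩
  | i + 1, x, x', hx, hx', hc => by
    obtain ⟨u, hu, hu'⟩ := conj_aux h i x x' hx hx' hc
    obtain ⟨w, hw, hw'⟩ := h.step_conj i (x := u * x * u⁻¹) (by rw [conj_pow, hx]; group) hx' hu'
    have hle : U i ≤ U 0 := by
      clear hu' hw hw'
      induction i with
      | zero => exact le_rfl
      | succ j ih => exact (h.anti j).trans ih
    refine ⟨w * u, (U 0).mul_mem (hle hw) hu, ?_⟩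
    convert hw' using 2
    group

/-- Two lifts of the same torsion element are conjugate. -/
theorem exists_conj (h : IsLayered U m) {x x' : Γ} (hx : x ^ m = 1) (hx' : x' ^ m = 1) (hc : x' * x⁻¹ ∈ U 0) :
    ∃ u ∈ U 0, u * x * u⁻¹ = x' := by
  obtain ⟨N, hN⟩ := h.top
  obtain ⟨u, hu, hu'⟩ := h.conj_aux N x x' hx hx' hc
  exact ⟨u, hu, (mul_inv_eq_one.1 (by rwa [hN, Subgroup.mem_bot] at hu')).symm⟩

end IsLayered

end Groth.Agent.BorelLib
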