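import Groth.Agent.BorelLib.Core
import Groth.Agent.BorelLib.Layers

/-!
# The unipotent filtration of a connected solvable group of points
-/

set_option autoImplicit false

noncomputable section

universe u

open WithConv
open scoped TensorProduct commutatorElement

namespace Groth.Agent.BorelLib

attribute [local instance] pTop pTopTensor

variable {k : Type u} [Field k] {A : Type u} [CommRing A] [HopfAlgebra k A]

/-- A faithful representation with a flag on whose layers a subgroup acts by scalars. -/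
structure FlagRep (K : Subgroup (Pt k A)) where
  /-- the space -/
  V : Type u
  [addCommGroup : AddCommGroup V]
  [module : Module k V]
  [finite : FiniteDimensional k V]
  /-- the representation -/
  r : RegRep (⊤ : Subgroup (Pt k A)) V
  faithful : ∀ g, r.ρ g = 1 → g = 1
  /-- the flag -/
  F : ℕ → Submodule k V
  F_zero : F 0 = ⊥
  Fmono : Monotone F
  Ftop : ∃ N, F N = ⊤
  scalar : ∀ g ∈ K, ∀ j, ∃ c : k, ∀ v ∈ F (j + 1), r.ρ g v - c • v ∈ F j

attribute [instance] FlagRep.addCommGroup FlagRep.module FlagRep.finite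

variable [IsAlgClosed k]

theorem exists_flagRep_of {K : Subgroup (Pt k A)} {V : Type u} [AddCommGroup V] [Module k V] [FiniteDimensional k V]
    (r : RegRep (⊤ : Subgroup (Pt k A)) V) (hr : ∀ g, r.ρ g = 1 → g = 1) [Algebra.FiniteType k A]
    (hK : IsPreconnected (K : Set (Pt k A))) (hs : IsSol K) :
    ∃ D : FlagRep K, ∃ e : D.V ≃ₗ[k] V, ∀ g v, e (D.r.ρ g v) = r.ρ g (e v) := by
  classical
  let Good : Submodule k V → Prop := fun W => (r.mono (le_top : K ≤ ⊤)).Stable K W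
  have hstep : ∀ W : Submodule k V, Good W → ∃ W' : Submodule k V, Good W' ∧ W ≤ W' ∧ (W ≠ ⊤ → W < W') ∧
      ∀ g ∈ K, ∃ c : k, ∀ v ∈ W', r.ρ g v - c • v ∈ W := by
    intro W hW
    by_cases hWt : W = ⊤
    · exact ⟨W, hW, le_rfl, fun h => absurd hWt h, fun g _ => ⟨0, fun v _ => by rw [hWt]; exact Submodule.mem_top⟩⟩
    obtain ⟨rq, hrq⟩ := (r.mono (le_top : K ≤ ⊤)).exists_quot hW
    have : Nontrivial (V ⧸ W) := Submodule.Quotient.nontrivial_iff.2 hWt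
    obtain ⟨q, -, hq0, hq⟩ := rq.exists_weight_of_isSol le_rfl hK hs (W := ⊤) top_ne_bot fun _ _ _ _ => trivial
    obtain ⟨w, rfl⟩ := W.mkQ_surjective q
    have hwW : w ∉ W := fun h => hq0 ((Submodule.Quotient.mk_eq_zero W).2 h)
    have hsc : ∀ g ∈ K, ∃ c : k, ∀ v ∈ W ⊔ k ∙ w, r.ρ g v - c • v ∈ W := by
      intro g hg
      obtain ⟨c, hc⟩ := hq g hg
      refine ⟨c, fun v hv => ?_⟩
      obtain ⟨a, ha, b, hb, rfl⟩ := Submodule.mem_sup.1 hv
      obtain ⟨d, rfl⟩ := Submodule.mem_span_singleton.1 hb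
      rw [hrq g hg] at hc
      change W.mkQ (r.ρ g w) = c • W.mkQ w at hc
      have hmem : r.ρ g w - c • w ∈ W := by
        rw [← Submodule.Quotient.mk_eq_zero, ← Submodule.mkQ_apply, map_sub, map_smul, hc, sub_self]
      have e : r.ρ g (a + d • w) - c • (a + d • w) = (r.ρ g a - c • a) + d • (r.ρ g w - c • w) := by
        rw [map_add, map_smul, smul_sub, smul_add, smul_comm c d w]
        abel
      rw [e]
      exact W.add_mem (W.sub_mem (hW g hg a ha) (W.smul_mem c ha)) (W.smul_mem d hmem)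
    refine ⟨W ⊔ k ∙ w, fun g hg v hv => ?_, le_sup_left, fun _ => lt_of_le_of_ne le_sup_left fun e => hwW ?_, hsc⟩
    · obtain ⟨c, hc⟩ := hsc g hg
      have := (W ⊔ k ∙ w).add_mem (Submodule.mem_sup_left (hc v hv)) ((W ⊔ k ∙ w).smul_mem c hv)
      rwa [sub_add_cancel] at this
    · rw [e]; exact Submodule.mem_sup_right (Submodule.mem_span_singleton_self w)
  choose next hnext hle hlt hscal using hstep
  let Fg : ℕ → {W : Submodule k V // Good W} := fun j => Nat.rec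
    ⟨⊥, fun g _ w hw => by rw [(Submodule.mem_bot k).1 hw, map_zero]; exact zero_mem _⟩
    (fun _ W => ⟨next W.1 W.2, hnext W.1 W.2⟩) j
  have hmono : Monotone fun j => (Fg j).1 := monotone_nat_of_le_succ fun j => hle (Fg j).1 (Fg j).2
  refine ⟨{ V := V, r := r, faithful := hr, F := fun j => (Fg j).1, F_zero := rfl, Fmono := hmono,
            Ftop := ?_, scalar := fun g hg j => hscal (Fg j).1 (Fg j).2 g hg }, LinearEquiv.refl k V, fun _ _ => rfl⟩
  obtain ⟨N, hN⟩ := monotone_stabilizes_iff_noetherian.mpr (inferInstance : IsNoetherian k V) ⟨_, hmono⟩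
  refine ⟨N, ?_⟩
  by_contra hne
  exact absurd (hN (N + 1) (Nat.le_succ N)) (hlt (Fg N).1 (Fg N).2 hne).ne

theorem exists_flagRep [Algebra.FiniteType k A] {K : Subgroup (Pt k A)}
    (hK : IsPreconnected (K : Set (Pt k A))) (hs : IsSol K) : Nonempty (FlagRep K) := by
  obtain ⟨V, _, _, _, r, hr⟩ := exists_faithful (k := k) (A := A)
  exact ⟨(exists_flagRep_of r hr hK hs).choose⟩

namespace FlagRep

variable {K : Subgroup (Pt k A)} (D : FlagRep K)

omit [IsAlgClosed k] in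
lemma ρ_mul (g h : Pt k A) : D.r.ρ (g * h) = D.r.ρ g * D.r.ρ h :=
  D.r.map_mul g trivial h trivial

omit [IsAlgClosed k] in
lemma stable {g : Pt k A} (hg : g ∈ K) {j : ℕ} {v : D.V} (hv : v ∈ D.F j) : D.r.ρ g v ∈ D.F j := by
  rcases j with _ | j
  · rw [D.F_zero, Submodule.mem_bot] at hv ⊢
    rw [hv, map_zero]
  · obtain ⟨c, hc⟩ := D.scalar g hg j
    have := (D.F (j + 1)).add_mem (D.Fmono (Nat.le_succ j) (hc v hv)) ((D.F (j + 1)).smul_mem c hv)
    rwa [sub_add_cancel] at this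

/-- Endomorphisms lowering the flag by `i`. -/
def low (i : ℕ) : Submodule k (Module.End k D.V) where
  carrier := {f | ∀ j, ∀ v ∈ D.F j, f v ∈ D.F (j - i)}
  zero_mem' := fun j v _ => by simp
  add_mem' := fun {f f'} hf hf' j v hv => by simpa using (D.F (j - i)).add_mem (hf j v hv) (hf' j v hv)
  smul_mem' := fun c f hf j v hv => by simpa using (D.F (j - i)).smul_mem c (hf j v hv)

omit [IsAlgClosed k] in
lemma low_anti {i i' : ℕ} (h : i ≤ i') : D.low i' ≤ D.low i :=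
  fun _ hf j v hv => D.Fmono (Nat.sub_le_sub_left h j) (hf j v hv)

omit [IsAlgClosed k] in
lemma low_mul {i i' : ℕ} {f f' : Module.End k D.V} (hf : f ∈ D.low i) (hf' : f' ∈ D.low i') :
    f * f' ∈ D.low (i' + i) := fun j v hv => by
  rw [← Nat.sub_sub]
  exact hf _ _ (hf' j v hv)

omit [IsAlgClosed k] in
lemma ρ_mem_low {g : Pt k A} (hg : g ∈ K) : D.r.ρ g ∈ D.low 0 := fun j v hv => D.stable hg hv

/-- The terms of the unipotent filtration. -/
def U (i : ℕ) : Subgroup (Pt k A) where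
  carrier := {g | g ∈ K ∧ D.r.ρ g - 1 ∈ D.low i}
  one_mem' := ⟨K.one_mem, by rw [D.r.map_one, sub_self]; exact (D.low i).zero_mem⟩
  mul_mem' := by
    rintro a b ⟨ha, ha'⟩ ⟨hb, hb'⟩
    refine ⟨K.mul_mem ha hb, ?_⟩
    have e : D.r.ρ (a * b) - 1 = (D.r.ρ a - 1) * D.r.ρ b + (D.r.ρ b - 1) := by
      rw [D.ρ_mul, sub_mul, one_mul]; abel
    rw [e]
    exact (D.low i).add_mem (by simpa using D.low_mul ha' (D.ρ_mem_low hb)) hb'
  inv_mem' := by
    rintro a ⟨ha, ha'⟩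
    refine ⟨inv_mem ha, ?_⟩
    have e : D.r.ρ a⁻¹ - 1 = -(D.r.ρ a⁻¹ * (D.r.ρ a - 1)) := by
      rw [mul_sub, ← D.ρ_mul, inv_mul_cancel, D.r.map_one, mul_one]; abel
    rw [e]
    exact (D.low i).neg_mem (by simpa using D.low_mul (D.ρ_mem_low (inv_mem ha)) ha')

omit [IsAlgClosed k] in
lemma mem_U {i : ℕ} {g : Pt k A} : g ∈ D.U i ↔ g ∈ K ∧ D.r.ρ g - 1 ∈ D.low i := Iff.rfl

omit [IsAlgClosed k] in
lemma U_le (i : ℕ) : D.U i ≤ K := fun _ hg => hg.1

omit [IsAlgClosed k] in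
lemma U_anti {i i' : ℕ} (h : i ≤ i') : D.U i' ≤ D.U i := fun _ hg => ⟨hg.1, D.low_anti h hg.2⟩

omit [IsAlgClosed k] in
lemma isClosed_U (hK : IsClosed (K : Set (Pt k A))) (i : ℕ) : IsClosed (D.U i : Set (Pt k A)) := by
  have e : (D.U i : Set (Pt k A)) = (K : Set (Pt k A)) ∩
      ⋂ (j : ℕ) (v : D.F j) (φ : (D.F (j - i)).dualAnnihilator),
        {g | (φ : D.V →ₗ[k] k) (D.r.ρ g v) = (φ : D.V →ₗ[k] k) v} := by
    ext g
    simp only [SetLike.mem_coe, Set.mem_inter_iff, Set.mem_iInter, Set.mem_ofPred_eq, mem_U]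
    refine and_congr_right fun _ => forall_congr' fun j => ⟨fun h v φ => ?_, fun h v hv => ?_⟩
    · have h' := (Submodule.mem_dualAnnihilator _).1 φ.2 _ (h v v.2)
      rwa [LinearMap.sub_apply, Module.End.one_apply, map_sub, sub_eq_zero] at h'
    · rw [← Subspace.dualAnnihilator_dualCoannihilator_eq (W := D.F (j - i)), Submodule.mem_dualCoannihilator]
      intro φ hφ
      rw [LinearMap.sub_apply, Module.End.one_apply, map_sub, sub_eq_zero]
      exact h ⟨v, hv⟩ ⟨φ, hφ⟩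
  rw [e]
  exact hK.inter (isClosed_iInter fun j => isClosed_iInter fun v => isClosed_iInter fun φ =>
    (D.r.reg _ _).isClosed_eq (IsReg.const _))

omit [IsAlgClosed k] in
lemma conj_mem_U {i : ℕ} {g a : Pt k A} (hg : g ∈ K) (ha : a ∈ D.U i) : g * a * g⁻¹ ∈ D.U i := by
  refine ⟨K.mul_mem (K.mul_mem hg ha.1) (inv_mem hg), ?_⟩
  have e : D.r.ρ (g * a * g⁻¹) - 1 = D.r.ρ g * (D.r.ρ a - 1) * D.r.ρ g⁻¹ := by
    rw [mul_sub, mul_one, sub_mul, ← D.ρ_mul, ← D.ρ_mul, ← D.ρ_mul, mul_inv_cancel, D.r.map_one]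
  rw [e]
  simpa using D.low_mul (D.low_mul (D.ρ_mem_low hg) ha.2) (D.ρ_mem_low (inv_mem hg))

omit [IsAlgClosed k] in
lemma exists_U_bot : ∃ N, D.U N = ⊥ := by
  obtain ⟨N, hN⟩ := D.Ftop
  refine ⟨N, le_bot_iff.1 fun g hg => Subgroup.mem_bot.2 (D.faithful g (sub_eq_zero.1 (LinearMap.ext fun v => ?_)))⟩
  have := hg.2 N v (hN ▸ Submodule.mem_top)
  rwa [Nat.sub_self, D.F_zero, Submodule.mem_bot] at this

omit [IsAlgClosed k] in
/-- The quotient by the first term is commutative. -/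
lemma commutator_mem_U {a b : Pt k A} (ha : a ∈ K) (hb : b ∈ K) : ⁅a, b⁆ ∈ D.U 1 := by
  have hmem : a * b * a⁻¹ * b⁻¹ ∈ K := K.mul_mem (K.mul_mem (K.mul_mem ha hb) (inv_mem ha)) (inv_mem hb)
  refine ⟨hmem, ?_⟩
  have hlow : D.r.ρ a * D.r.ρ b - D.r.ρ b * D.r.ρ a ∈ D.low 1 := by
    intro j v hv
    rcases j with _ | j
    · rw [D.F_zero, Submodule.mem_bot] at hv
      simp [hv]
    obtain ⟨c, hc⟩ := D.scalar a ha j
    obtain ⟨d, hd⟩ := D.scalar b hb j
    have e : (D.r.ρ a * D.r.ρ b - D.r.ρ b * D.r.ρ a) v =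
        D.r.ρ a (D.r.ρ b v - d • v) + d • (D.r.ρ a v - c • v) -
          (D.r.ρ b (D.r.ρ a v - c • v) + c • (D.r.ρ b v - d • v)) := by
      simp only [LinearMap.sub_apply, Module.End.mul_apply, map_sub, map_smul, smul_sub, smul_smul,
        mul_comm c d]
      abel
    rw [e, Nat.add_sub_cancel]
    exact (D.F j).sub_mem ((D.F j).add_mem (D.stable ha (hd v hv)) ((D.F j).smul_mem d (hc v hv)))
      ((D.F j).add_mem (D.stable hb (hc v hv)) ((D.F j).smul_mem c (hd v hv)))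
  have e : D.r.ρ ⁅a, b⁆ - 1 = (D.r.ρ a * D.r.ρ b - D.r.ρ b * D.r.ρ a) * D.r.ρ (b * a)⁻¹ := by
    rw [sub_mul, ← D.ρ_mul, ← D.ρ_mul, ← D.ρ_mul, ← D.ρ_mul, mul_inv_cancel, D.r.map_one,
      show a * b * (b * a)⁻¹ = ⁅a, b⁆ by rw [commutatorElement_def]; group]
  rw [e]
  simpa using D.low_mul hlow (D.ρ_mem_low (inv_mem (K.mul_mem hb ha)))

omit [IsAlgClosed k] in
lemma commutator_mem_succ {i : ℕ} (hi : 1 ≤ i) {a b : Pt k A} (ha : a ∈ D.U i) (hb : b ∈ D.U i) :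
    ⁅a, b⁆ ∈ D.U (i + 1) := by
  refine ⟨(D.commutator_mem_U ha.1 hb.1).1, ?_⟩
  have hlow : D.r.ρ a * D.r.ρ b - D.r.ρ b * D.r.ρ a ∈ D.low (i + 1) := by
    have e : D.r.ρ a * D.r.ρ b - D.r.ρ b * D.r.ρ a =
        (D.r.ρ a - 1) * (D.r.ρ b - 1) - (D.r.ρ b - 1) * (D.r.ρ a - 1) := by
      simp only [mul_sub, sub_mul, one_mul, mul_one]; abel
    rw [e]
    exact D.low_anti (by omega : i + 1 ≤ i + i) ((D.low (i + i)).sub_mem (D.low_mul ha.2 hb.2) (D.low_mul hb.2 ha.2))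
  have e : D.r.ρ ⁅a, b⁆ - 1 = (D.r.ρ a * D.r.ρ b - D.r.ρ b * D.r.ρ a) * D.r.ρ (b * a)⁻¹ := by
    rw [sub_mul, ← D.ρ_mul, ← D.ρ_mul, ← D.ρ_mul, ← D.ρ_mul, mul_inv_cancel, D.r.map_one,
      show a * b * (b * a)⁻¹ = ⁅a, b⁆ by rw [commutatorElement_def]; group]
  rw [e]
  simpa using D.low_mul hlow (D.ρ_mem_low (inv_mem (K.mul_mem hb.1 ha.1)))

omit [IsAlgClosed k] in
lemma pow_sub_nsmul_mem {i : ℕ} (hi : 1 ≤ i) {a : Pt k A} (ha : a ∈ D.U i) :
    ∀ m : ℕ, (D.r.ρ (a ^ m) - 1) - (m : k) • (D.r.ρ a - 1) ∈ D.low (i + 1) := by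
  intro m
  induction m with
  | zero => simp [D.r.map_one]
  | succ m hm =>
    have h2 : (D.r.ρ (a ^ m) - 1) * (D.r.ρ a - 1) ∈ D.low (i + 1) :=
      D.low_anti (by omega : i + 1 ≤ i + i) (D.low_mul ((D.U i).pow_mem ha m).2 ha.2)
    have e : (D.r.ρ (a ^ (m + 1)) - 1) - ((m + 1 : ℕ) : k) • (D.r.ρ a - 1) =
        ((D.r.ρ (a ^ m) - 1) - (m : k) • (D.r.ρ a - 1)) + (D.r.ρ (a ^ m) - 1) * (D.r.ρ a - 1) := by
      rw [pow_succ, D.ρ_mul, Nat.cast_succ, add_smul, one_smul]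
      simp only [mul_sub, sub_mul, one_mul, mul_one]
      abel
    rw [e]
    exact (D.low (i + 1)).add_mem hm h2

omit [IsAlgClosed k] in
lemma tf_U {i m : ℕ} (hi : 1 ≤ i) (hm : (m : k) ≠ 0) {a : Pt k A} (ha : a ∈ D.U i) (h : a ^ m ∈ D.U (i + 1)) :
    a ∈ D.U (i + 1) := by
  refine ⟨ha.1, ?_⟩
  have h' := (D.low (i + 1)).sub_mem h.2 (D.pow_sub_nsmul_mem hi ha m)
  rw [sub_sub_cancel] at h'
  simpa [smul_smul, inv_mul_cancel₀ hm] using (D.low (i + 1)).smul_mem (m : k)⁻¹ h'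

end FlagRep

end Groth.Agent.BorelLib
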