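import Groth.Agent.BorelLib.Tori

/-!
# Closed subgroups of points as groups of points
-/

set_option autoImplicit false
set_option linter.style.haveILetI false

noncomputable section

universe u

open WithConv
open scoped TensorProduct

namespace Groth.Agent.BorelLib

attribute [local instance] pTop pTopTensor

variable {k : Type u} [Field k] [IsAlgClosed k]

/-- A tensor over a reduced algebra killed by all pairs of points vanishes. -/
lemma eq_zero_of_forall_pair {R R' : Type u} [CommRing R] [Algebra k R] [IsReduced R] [Algebra.FiniteType k R]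
    [CommRing R'] [Algebra k R'] [IsReduced R'] [Algebra.FiniteType k R']
    {t : R ⊗[k] R'} (h : ∀ (x : Pt k R) (y : Pt k R'), (pair x y).ofConv t = 0) : t = 0 := by
  let b := Module.Free.chooseBasis k R'
  obtain ⟨c, rfl⟩ := TensorProduct.eq_repr_basis_right b t
  have hc : ∀ i, c i = 0 := fun i => eq_zero_of_forall (k := k) fun x => by
    by_contra hne
    have he : c.sum (fun i a => x.ofConv a • b i) = 0 := eq_zero_of_forall (k := k) fun y => by
      rw [← h x y]
      simp [Finsupp.sum, map_sum]
    have := congrArg (fun z => b.repr z i) he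
    simp [Finsupp.sum, map_sum, Finsupp.single_apply, hne] at this
    exact hne (by rw [this, map_zero])
  simp [Finsupp.sum, hc]

variable {A : Type u} [CommRing A] [HopfAlgebra k A]

omit [IsAlgClosed k] in
/-- The convolution product on points. -/
lemma mul_ofConv (x y : Pt k A) (a : A) : (x * y).ofConv a = (pair x y).ofConv (CoalgebraStruct.comul (R := k) a) := by
  rw [AlgHom.convMul_apply]
  generalize CoalgebraStruct.comul (R := k) a = t
  induction t using TensorProduct.induction_on with
  | zero => simp
  | add a c ha hc => simp only [map_add, ha, hc]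
  | tmul a c => simp

variable [Algebra.FiniteType k A]

/-- **Frames**: a closed subgroup of points is a group of points. -/
theorem exists_frame {S : Subgroup (Pt k A)} (hS : IsClosed (S : Set (Pt k A))) :
    ∃ (B : Type u) (_ : CommRing B) (_ : HopfAlgebra k B) (f : Pt k B →* Pt k A),
      Algebra.FiniteType k B ∧ IsReduced B ∧ IsMor f ∧ Topology.IsInducing f ∧ Function.Injective f ∧ f.range = S ∧
      (∃ φ : A →ₐ[k] B, Function.Surjective φ ∧ ∀ x, f x = pull φ x) := by
  let I := vanish (k := k) (S : Set (Pt k A))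
  let mk : A →ₐ[k] A ⧸ I := Ideal.Quotient.mkₐ k I
  haveI hft : Algebra.FiniteType k (A ⧸ I) := Algebra.FiniteType.of_surjective mk Ideal.Quotient.mk_surjective
  have hsurj : Function.Surjective mk := Ideal.Quotient.mk_surjective
  have hmem : ∀ x : Pt k (A ⧸ I), pull mk x ∈ S := fun x => by
    refine isClosed_iff.1 hS _ fun a ha => ?_
    show x.ofConv (mk a) = 0
    rw [show mk a = 0 from Ideal.Quotient.eq_zero_iff_mem.2 ha, map_zero]
  have hlift : ∀ s ∈ S, ∃ x : Pt k (A ⧸ I), pull mk x = s := fun s hs =>
    ⟨toConv (Ideal.Quotient.liftₐ I s.ofConv fun a ha => ha s hs), rfl⟩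
  haveI hred : IsReduced (A ⧸ I) := by
    refine ⟨fun q hq => ?_⟩
    obtain ⟨a, rfl⟩ := hsurj q
    refine Ideal.Quotient.eq_zero_iff_mem.2 fun s hs => ?_
    obtain ⟨x, rfl⟩ := hlift s hs
    exact (hq.map x.ofConv).eq_zero
  haveI hco : (I.restrictScalars k).IsCoideal := by
    refine ⟨fun a ha => ?_, fun a ha => ?_⟩
    · have := ha 1 S.one_mem
      simpa [AlgHom.convOne_apply] using this
    · let m : A ⊗[k] A →ₐ[k] (A ⧸ I) ⊗[k] (A ⧸ I) := Algebra.TensorProduct.map mk mk
      have h0 : m (CoalgebraStruct.comul (R := k) a) = 0 := eq_zero_of_forall_pair fun x y => by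
        have e : ∀ t : A ⊗[k] A, (pair x y).ofConv (m t) = (pair (pull mk x) (pull mk y)).ofConv t := fun t => by
          induction t using TensorProduct.induction_on with
          | zero => simp
          | add a c ha hc => simp only [map_add, ha, hc]
          | tmul a c => simp [m]
        rw [e, ← mul_ofConv]
        exact ha _ (S.mul_mem (hmem x) (hmem y))
      exact h0
  haveI : I.IsHopfIdeal k := by
    refine @Ideal.IsHopfIdeal.mk _ _ _ _ _ _ hco ?_
    intro a ha s hs
    exact ha s⁻¹ (inv_mem hs)
  let f : Pt k (A ⧸ I) →* Pt k A := MonoidHom.mk' (pull mk) fun x y => WithConv.ext (AlgHom.ext fun a => by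
    rw [pull_apply, mul_ofConv, mul_ofConv]
    show (pair x y).ofConv (CoalgebraStruct.comul (R := k) (Ideal.Quotient.mk I a)) = _
    rw [Bialgebra.Quotient.comul_mk]
    generalize CoalgebraStruct.comul (R := k) a = t
    induction t using TensorProduct.induction_on with
    | zero => simp
    | add a c ha hc => simp only [map_add, ha, hc]
    | tmul a c => simp [mk])
  refine ⟨A ⧸ I, inferInstance, inferInstance, f, hft, hred, IsMor.pull mk,
    isInducing_pull_of_frac mk fun b => (hsurj b).elim fun a ha => ⟨a, 1, isUnit_one, by rw [ha, mul_one]⟩,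
    pull_injective_of_surjective hsurj, ?_, mk, hsurj, fun x => rfl⟩
  refine SetLike.ext fun s => ⟨?_, fun hs => hlift s hs⟩
  rintro ⟨x, rfl⟩
  exact hmem x

variable {B : Type u} [CommRing B] [HopfAlgebra k B] {f : Pt k B →* Pt k A}

omit [IsAlgClosed k] [Algebra.FiniteType k A] in
lemma IsPT.map {x : Pt k B} (hx : IsPT x) (f : Pt k B →* Pt k A) : IsPT (f x) :=
  hx.imp fun m ⟨hm, hxm⟩ => ⟨hm, by rw [← map_pow, hxm, map_one]⟩

omit [IsAlgClosed k] [Algebra.FiniteType k A] in
lemma IsPT.of_map (hf : Function.Injective f) {x : Pt k B} (hx : IsPT (f x)) : IsPT x :=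
  hx.imp fun m ⟨hm, hxm⟩ => ⟨hm, hf (by rw [map_pow, hxm, map_one])⟩

omit [IsAlgClosed k] [Algebra.FiniteType k A] in
/-- The preimage of a torus in a frame. -/
lemma IsTor.comap (hind : Topology.IsInducing f) (hf : Function.Injective f) {T : Subgroup (Pt k A)} (hT : IsTor T)
    (hle : T ≤ f.range) : IsTor (T.comap f) := by
  have e : f '' (T.comap f : Set (Pt k B)) = T := by
    rw [Subgroup.coe_comap, Set.image_preimage_eq_iff]
    exact hle
  refine ⟨hT.closed.preimage hind.continuous, hind.isPreconnected_image.1 (e.symm ▸ hT.conn),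
    fun a ha b hb => hf (by rw [map_mul, map_mul]; exact hT.comm _ ha _ hb), fun x hx => ?_⟩
  rw [hind.closure_eq_preimage_closure_image]
  refine closure_mono ?_ (hT.dense hx)
  rintro y ⟨hy, hyt⟩
  obtain ⟨z, rfl⟩ := hle hy
  exact ⟨z, ⟨hy, hyt.of_map hf⟩, rfl⟩

omit [IsAlgClosed k] [Algebra.FiniteType k A] in
/-- The image of a torus of a frame. -/
lemma IsTor.map_frame (hind : Topology.IsInducing f) (hrange : IsClosed (f.range : Set (Pt k A))) {T : Subgroup (Pt k B)}
    (hT : IsTor T) : IsTor (T.map f) := by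
  have hcl : IsClosed (f '' (T : Set (Pt k B))) := by
    rw [MonoidHom.coe_range] at hrange
    obtain ⟨C, hC, hCe⟩ := hind.isClosed_iff.1 hT.closed
    rw [← hCe, Set.image_preimage_eq_inter_range]
    exact hC.inter hrange
  refine ⟨hcl, hT.conn.image _ hind.continuous.continuousOn, ?_, ?_⟩
  · rintro _ ⟨a, ha, rfl⟩ _ ⟨b, hb, rfl⟩
    rw [← map_mul, hT.comm a ha b hb, map_mul]
  · rintro _ ⟨a, ha, rfl⟩
    exact map_mem_closure hind.continuous (hT.dense ha) fun x hx => ⟨⟨x, hx.1, rfl⟩, hx.2.map f⟩

omit [IsAlgClosed k] [Algebra.FiniteType k A] in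
lemma isPreconnected_univ_frame (hind : Topology.IsInducing f) (h : IsPreconnected (f.range : Set (Pt k A))) :
    IsPreconnected (Set.univ : Set (Pt k B)) :=
  hind.isPreconnected_image.1 (by rwa [Set.image_univ, ← MonoidHom.coe_range])

end Groth.Agent.BorelLib
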