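import Groth.Agent.BorelLib.Pts

/-!
# Closed and connected subgroups of the points of an affine group
-/

set_option autoImplicit false

noncomputable section

universe u

open WithConv
open scoped TensorProduct commutatorElement

namespace Groth.Agent.BorelLib

attribute [local instance] pTop pTopTensor

variable {k : Type u} [Field k] {A : Type u} [CommRing A] [HopfAlgebra k A] {R : Type u} [CommRing R] [Algebra k R]

namespace IsMor

lemma mul {F F' : Pt k R → Pt k A} (h : IsMor F) (h' : IsMor F') : IsMor fun x => F x * F' x := by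
  obtain ⟨φ, hφ⟩ := h
  obtain ⟨ψ, hψ⟩ := h'
  refine ⟨(toConv φ * toConv ψ).ofConv, fun x => ?_⟩
  show F x * F' x = toConv (x.ofConv.comp (toConv φ * toConv ψ).ofConv)
  rw [AlgHom.comp_convMul_distrib, hφ, hψ]
  rfl

lemma inv {F : Pt k R → Pt k A} (h : IsMor F) : IsMor fun x => (F x)⁻¹ := by
  obtain ⟨φ, hφ⟩ := h
  exact ⟨φ.comp (HopfAlgebra.antipodeAlgHom k A), fun x => by simp only [hφ]; rfl⟩

lemma pow {F : Pt k R → Pt k A} (h : IsMor F) : ∀ n : ℕ, IsMor fun x => F x ^ n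
  | 0 => by simpa using (IsMor.const (1 : Pt k A) : IsMor fun _ : Pt k R => (1 : Pt k A))
  | n + 1 => by simpa only [pow_succ] using (IsMor.pow h n).mul h

end IsMor

lemma continuous_const_mul (a : Pt k A) : Continuous fun g : Pt k A => a * g :=
  ((IsMor.const a).mul IsMor.id).continuous

lemma continuous_mul_const (a : Pt k A) : Continuous fun g : Pt k A => g * a :=
  (IsMor.id.mul (IsMor.const a)).continuous

lemma continuous_inv : Continuous fun g : Pt k A => g⁻¹ :=
  IsMor.id.inv.continuous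

lemma continuous_conjBy (a : Pt k A) : Continuous fun g : Pt k A => a * g * a⁻¹ :=
  (((IsMor.const a).mul IsMor.id).mul (IsMor.const a⁻¹)).continuous

/-- The conjugate of a subgroup. -/
abbrev conjSub (a : Pt k A) (H : Subgroup (Pt k A)) : Subgroup (Pt k A) :=
  H.map (MulAut.conj a).toMonoidHom

lemma mem_conjSub {a g : Pt k A} {H : Subgroup (Pt k A)} : g ∈ conjSub a H ↔ a⁻¹ * g * a ∈ H := by
  constructor
  · rintro ⟨h, hh, rfl⟩
    simpa [mul_assoc] using hh
  · exact fun h => ⟨_, h, by simp [mul_assoc]⟩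

lemma coe_conjSub (a : Pt k A) (H : Subgroup (Pt k A)) :
    (conjSub a H : Set (Pt k A)) = (fun g => a⁻¹ * g * a) ⁻¹' (H : Set (Pt k A)) :=
  Set.ext fun _ => mem_conjSub

lemma conjSub_conjSub (a b : Pt k A) (H : Subgroup (Pt k A)) : conjSub a (conjSub b H) = conjSub (a * b) H := by
  ext g
  simp only [mem_conjSub, mul_inv_rev, mul_assoc]

lemma conjSub_one (H : Subgroup (Pt k A)) : conjSub 1 H = H := by
  ext g
  simp [mem_conjSub]

lemma conjSub_mono {a : Pt k A} {H H' : Subgroup (Pt k A)} (h : H ≤ H') : conjSub a H ≤ conjSub a H' :=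
  Subgroup.map_mono h

lemma conjSub_eq_self {a : Pt k A} {K : Subgroup (Pt k A)} (ha : a ∈ K) : conjSub a K = K := by
  ext g
  rw [mem_conjSub, mul_mem_cancel_right ha, mul_mem_cancel_left (inv_mem ha)]

lemma conjSub_le {a : Pt k A} {H K : Subgroup (Pt k A)} (ha : a ∈ K) (hH : H ≤ K) : conjSub a H ≤ K :=
  (conjSub_mono hH).trans (conjSub_eq_self ha).le

lemma isClosed_conjSub {a : Pt k A} {H : Subgroup (Pt k A)} (hH : IsClosed (H : Set (Pt k A))) :
    IsClosed (conjSub a H : Set (Pt k A)) := by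
  rw [coe_conjSub]
  exact hH.preimage (by simpa using continuous_conjBy a⁻¹)

lemma isPreconnected_conjSub {a : Pt k A} {H : Subgroup (Pt k A)} (hH : IsPreconnected (H : Set (Pt k A))) :
    IsPreconnected (conjSub a H : Set (Pt k A)) := by
  rw [Subgroup.coe_map]
  exact hH.image _ (continuous_conjBy a).continuousOn

/-- The neutral component of a subgroup. -/
def neut (P : Subgroup (Pt k A)) : Subgroup (Pt k A) where
  carrier := connectedComponentIn (P : Set (Pt k A)) 1
  one_mem' := mem_connectedComponentIn P.one_mem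
  mul_mem' {a b} ha hb := by
    have hsub := connectedComponentIn_subset (P : Set (Pt k A)) 1
    have h1 : IsPreconnected ((fun g => a * g) '' connectedComponentIn (P : Set (Pt k A)) 1) :=
      isPreconnected_connectedComponentIn.image _ (continuous_const_mul a).continuousOn
    have h2 : (fun g => a * g) '' connectedComponentIn (P : Set (Pt k A)) 1 ⊆ (P : Set (Pt k A)) := by
      rintro _ ⟨g, hg, rfl⟩
      exact P.mul_mem (hsub ha) (hsub hg)
    have h3 := h1.subset_connectedComponentIn ⟨1, mem_connectedComponentIn P.one_mem, mul_one a⟩ h2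
    rw [← connectedComponentIn_eq ha] at h3
    exact h3 ⟨b, hb, rfl⟩
  inv_mem' {a} ha := by
    have hsub := connectedComponentIn_subset (P : Set (Pt k A)) 1
    have h1 : IsPreconnected ((fun g => a⁻¹ * g) '' connectedComponentIn (P : Set (Pt k A)) 1) :=
      isPreconnected_connectedComponentIn.image _ (continuous_const_mul a⁻¹).continuousOn
    have h2 : (fun g => a⁻¹ * g) '' connectedComponentIn (P : Set (Pt k A)) 1 ⊆ (P : Set (Pt k A)) := by
      rintro _ ⟨g, hg, rfl⟩
      exact P.mul_mem (P.inv_mem (hsub ha)) (hsub hg)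
    exact h1.subset_connectedComponentIn ⟨a, ha, inv_mul_cancel a⟩ h2
      ⟨1, mem_connectedComponentIn P.one_mem, mul_one _⟩

lemma neut_le (P : Subgroup (Pt k A)) : neut P ≤ P := connectedComponentIn_subset _ _

lemma isPreconnected_neut (P : Subgroup (Pt k A)) : IsPreconnected (neut P : Set (Pt k A)) :=
  isPreconnected_connectedComponentIn

lemma isClosed_neut {P : Subgroup (Pt k A)} (hP : IsClosed (P : Set (Pt k A))) :
    IsClosed (neut P : Set (Pt k A)) := by
  refine closure_subset_iff_isClosed.1 ?_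
  exact (isPreconnected_connectedComponentIn.closure).subset_connectedComponentIn
    (subset_closure (mem_connectedComponentIn P.one_mem))
    (closure_minimal (connectedComponentIn_subset _ _) hP)

lemma le_neut {H P : Subgroup (Pt k A)} (hH : IsPreconnected (H : Set (Pt k A))) (hle : H ≤ P) : H ≤ neut P :=
  hH.subset_connectedComponentIn H.one_mem hle

variable [Algebra.FiniteType k A]

/-- Closed sets of points are finite unions of irreducible ones. -/
lemma exists_irreducible_cover {X : Set (Pt k A)} (hX : IsClosed X) :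
    ∃ T : Finset (Set (Pt k A)), (∀ t ∈ T, IsClosed t) ∧ (∀ t ∈ T, IsIrreducible t) ∧ X = ⋃₀ (T : Set (Set (Pt k A))) := by
  have := noetherianSpace (k := k) (R := A)
  obtain ⟨S, hSf, hSc, hSi, hSU⟩ := TopologicalSpace.NoetherianSpace.exists_finite_set_isClosed_irreducible hX
  exact ⟨hSf.toFinset, fun t ht => hSc t (hSf.mem_toFinset.1 ht), fun t ht => hSi t (hSf.mem_toFinset.1 ht),
    by rw [hSf.coe_toFinset]; exact hSU⟩

/-- The neutral component has finite index. -/
lemma exists_neut_cosets {P : Subgroup (Pt k A)} (hP : IsClosed (P : Set (Pt k A))) :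
    ∃ F : Finset (Pt k A), (∀ r ∈ F, r ∈ P) ∧ ∀ g ∈ P, ∃ r ∈ F, r⁻¹ * g ∈ neut P := by
  classical
  obtain ⟨T, -, hTi, hTU⟩ := exists_irreducible_cover hP
  have hmem : ∀ t ∈ T, t ⊆ (P : Set (Pt k A)) := fun t ht => hTU ▸ Set.subset_sUnion_of_mem ht
  refine ⟨T.attach.image fun t => (hTi t.1 t.2).nonempty.some, ?_, fun g hg => ?_⟩
  · intro r hr
    obtain ⟨t, -, rfl⟩ := Finset.mem_image.1 hr
    exact hmem t.1 t.2 (hTi t.1 t.2).nonempty.some_mem
  · rw [← SetLike.mem_coe, hTU] at hg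
    obtain ⟨t, ht, hgt⟩ := hg
    set r := (hTi t ht).nonempty.some
    refine ⟨r, Finset.mem_image.2 ⟨⟨t, ht⟩, Finset.mem_attach _ _, rfl⟩, ?_⟩
    refine (IsPreirreducible.isPreconnected (hTi t ht).2 |>.image _ (continuous_const_mul r⁻¹).continuousOn).subset_connectedComponentIn
      ⟨r, (hTi t ht).nonempty.some_mem, inv_mul_cancel r⟩ ?_ ⟨g, hgt, rfl⟩
    rintro _ ⟨y, hy, rfl⟩
    exact P.mul_mem (P.inv_mem (hmem t ht (hTi t ht).nonempty.some_mem)) (hmem t ht hy)

/-- A connected closed subgroup is irreducible. -/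
lemma isIrreducible_of_connected {K : Subgroup (Pt k A)} (hKc : IsClosed (K : Set (Pt k A)))
    (hK : IsPreconnected (K : Set (Pt k A))) : IsIrreducible (K : Set (Pt k A)) := by
  classical
  obtain ⟨T, hTc, hTi, hTU⟩ := exists_irreducible_cover hKc
  let M : Finset (Set (Pt k A)) := T.filter fun t => ∀ t' ∈ T, t ⊆ t' → t' = t
  have hsubK : ∀ t ∈ T, t ⊆ (K : Set (Pt k A)) := fun t ht => hTU ▸ Set.subset_sUnion_of_mem ht
  have hup : ∀ Z : Set (Pt k A), IsIrreducible Z → Z ⊆ (K : Set (Pt k A)) → ∃ t ∈ M, Z ⊆ t := by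
    intro Z hZ hZK
    obtain ⟨t, ht, hZt⟩ := isIrreducible_iff_sUnion_isClosed.1 hZ T hTc (hTU ▸ hZK)
    obtain ⟨m, htm, hm⟩ := T.exists_le_maximal ht
    exact ⟨m, Finset.mem_filter.2 ⟨hm.1, fun t' ht' hle => le_antisymm (hm.2 ht' hle) hle⟩, hZt.trans htm⟩
  have hMT : ∀ t ∈ M, t ∈ T := fun t ht => (Finset.mem_filter.1 ht).1
  have hMmax : ∀ t ∈ M, ∀ t' ∈ M, t ⊆ t' → t' = t := fun t ht t' ht' => (Finset.mem_filter.1 ht).2 t' (hMT t' ht')
  have hMcov : ∀ g ∈ K, ∃ t ∈ M, g ∈ t := fun g hg => by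
    obtain ⟨t, ht, h⟩ := hup {g} isIrreducible_singleton (Set.singleton_subset_iff.2 hg)
    exact ⟨t, ht, h rfl⟩
  obtain ⟨Z₀, hZ₀, -⟩ := hMcov 1 K.one_mem
  obtain ⟨x, hx, hxonly⟩ : ∃ x ∈ Z₀, ∀ t ∈ M, x ∈ t → t = Z₀ := by
    by_contra hno
    push Not at hno
    obtain ⟨t, ht, hZt⟩ := isIrreducible_iff_sUnion_isClosed.1 (hTi _ (hMT _ hZ₀)) (M.erase Z₀)
      (fun t ht => hTc t (hMT t (Finset.mem_of_mem_erase ht))) (fun y hy => by
        obtain ⟨t, ht, hyt, hne⟩ := hno y hy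
        exact ⟨t, Finset.mem_coe.2 (Finset.mem_erase.2 ⟨hne, ht⟩), hyt⟩)
    exact (Finset.mem_erase.1 ht).1 (hMmax _ hZ₀ t (Finset.mem_of_mem_erase ht) hZt)
  have hxK : x ∈ K := hsubK _ (hMT _ hZ₀) hx
  have htrans : ∀ a ∈ K, ∀ t ∈ T, ∃ t' ∈ M, (fun g => a * g) '' t ⊆ t' := fun a ha t ht =>
    hup _ ((hTi t ht).image _ (continuous_const_mul a).continuousOn) (by
      rintro _ ⟨y, hy, rfl⟩
      exact K.mul_mem ha (hsubK t ht hy))
  have hdisj : ∀ t ∈ M, ∀ t' ∈ M, ∀ y ∈ t, y ∈ t' → t = t' := by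
    intro t ht t' ht' y hyt hyt'
    have hyK := hsubK t (hMT t ht) hyt
    have key : ∀ s ∈ M, y ∈ s → (fun g => (x * y⁻¹) * g) '' s ⊆ Z₀ := fun s hs hys => by
      obtain ⟨s', hs', hsub⟩ := htrans _ (K.mul_mem hxK (K.inv_mem hyK)) s (hMT s hs)
      rwa [hxonly s' hs' (hsub ⟨y, hys, by simp⟩)] at hsub
    obtain ⟨Z₁, hZ₁, hsub⟩ := htrans _ (K.inv_mem (K.mul_mem hxK (K.inv_mem hyK))) Z₀ (hMT _ hZ₀)
    have hle : ∀ s ∈ M, y ∈ s → Z₁ = s := fun s hs hys => hMmax s hs Z₁ hZ₁ fun g hg => by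
      simpa [mul_assoc] using hsub ⟨_, key s hs hys ⟨g, hg, rfl⟩, rfl⟩
    exact (hle t ht hyt).symm.trans (hle t' ht' hyt')
  suffices (K : Set (Pt k A)) = Z₀ by rw [this]; exact hTi _ (hMT _ hZ₀)
  refine Set.Subset.antisymm ?_ (hsubK _ (hMT _ hZ₀))
  by_contra hne
  obtain ⟨g, hgK, hgZ⟩ := Set.not_subset.1 hne
  obtain ⟨t, ht, hgt⟩ := hMcov g hgK
  obtain ⟨w, -, hw₀, hw₁⟩ := isPreconnected_closed_iff.1 hK Z₀ (⋃₀ ((M.erase Z₀ : Finset _) : Set (Set (Pt k A))))
    (hTc _ (hMT _ hZ₀))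
    (Set.sUnion_eq_biUnion ▸ (M.erase Z₀).finite_toSet.isClosed_biUnion
      fun t ht => hTc t (hMT t (Finset.mem_of_mem_erase ht)))
    (fun y hy => by
      obtain ⟨s, hs, hys⟩ := hMcov y hy
      by_cases hs0 : s = Z₀
      · exact Or.inl (hs0 ▸ hys)
      · exact Or.inr ⟨s, Finset.mem_coe.2 (Finset.mem_erase.2 ⟨hs0, hs⟩), hys⟩)
    ⟨x, hxK, hx⟩
    ⟨g, hgK, t, Finset.mem_coe.2 (Finset.mem_erase.2 ⟨fun h => hgZ (h ▸ hgt), ht⟩), hgt⟩
  obtain ⟨s, hs, hws⟩ := hw₁
  exact (Finset.mem_erase.1 hs).1 (hdisj s (Finset.mem_of_mem_erase hs) Z₀ hZ₀ w hws hw₀)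

/-- Noetherian induction on closed subgroups. -/
theorem closed_induction {motive : Subgroup (Pt k A) → Prop}
    (step : ∀ K : Subgroup (Pt k A), IsClosed (K : Set (Pt k A)) →
      (∀ K' : Subgroup (Pt k A), IsClosed (K' : Set (Pt k A)) → K' < K → motive K') → motive K)
    {K : Subgroup (Pt k A)} (hK : IsClosed (K : Set (Pt k A))) : motive K := by
  have := noetherianSpace (k := k) (R := A)
  suffices ∀ C : TopologicalSpace.Closeds (Pt k A), ∀ K : Subgroup (Pt k A), (K : Set (Pt k A)) = C → motive K from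
    this ⟨_, hK⟩ K rfl
  intro C
  refine wellFounded_lt.induction (C := fun C : TopologicalSpace.Closeds (Pt k A) =>
    ∀ K : Subgroup (Pt k A), (K : Set (Pt k A)) = C → motive K) C fun C ih => ?_
  · intro K hKC
    refine step K (hKC ▸ C.isClosed) fun K' hK' hlt => ih ⟨_, hK'⟩ ?_ K' rfl
    rw [← SetLike.coe_ssubset_coe]
    show (K' : Set (Pt k A)) ⊂ C
    rw [← hKC]
    exact SetLike.coe_ssubset_coe.2 hlt

/-- A closed subgroup conjugate into itself is equal to its conjugate. -/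
theorem conjSub_eq_of_le {a : Pt k A} {H : Subgroup (Pt k A)} (hH : IsClosed (H : Set (Pt k A)))
    (h : conjSub a H ≤ H) : conjSub a H = H := by
  revert h
  refine closed_induction (motive := fun H => conjSub a H ≤ H → conjSub a H = H) ?_ hH
  intro K hK ih hle
  by_contra hne
  have := ih _ (isClosed_conjSub hK) (lt_of_le_of_ne hle hne) (conjSub_mono hle)
  apply hne
  have h' := congrArg (conjSub a⁻¹) this
  simp only [conjSub_conjSub, ← mul_assoc, inv_mul_cancel, one_mul, conjSub_one] at h'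
  exact h'

end Groth.Agent.BorelLib
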