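import Groth.Agent.BorelLib.CentralPreimage
import Groth.Agent.BorelLib.NonAffImage

/-!
# Images of maximal tori in groups which need not be connected
-/

set_option autoImplicit false
set_option linter.style.haveILetI false
set_option linter.unusedSectionVars false
set_option backward.isDefEq.respectTransparency false
set_option maxHeartbeats 1000000
set_option synthInstance.maxHeartbeats 400000

universe u

open CategoryTheory CategoryTheory.Limits MonoidalCategory CartesianMonoidalCategory AlgebraicGeometry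
open scoped MonObj

noncomputable section

attribute [-instance] CategoryTheory.Hom.commGroup

namespace Groth.Agent.BorelLib.NA

variable {k : Type u} [Field k] [IsAlgClosed k] {G G' : Over (Spec (CommRingCat.of k))} [GrpObj G] [GrpObj G']
  [Smooth G.hom] [QuasiCompact G.hom] [Smooth G'.hom] [QuasiCompact G'.hom] (u : G ⟶ G') [IsMonHom u]
  [Surjective u.left]

/-- The identity component maps onto the identity component. -/
theorem exists_comp_map :
    ∃ (A A' : Over (Spec (CommRingCat.of k))) (_ : GrpObj A) (_ : GrpObj A') (a : A ⟶ G) (a' : A' ⟶ G') (u₀ : A ⟶ A'),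
      IsMonHom a ∧ IsMonHom a' ∧ IsClosedImmersion a.left ∧ IsClosedImmersion a'.left ∧
      IsOpenImmersion a.left ∧ IsOpenImmersion a'.left ∧
      (Smooth A.hom ∧ QuasiCompact A.hom ∧ ConnectedSpace A.left) ∧
      (Smooth A'.hom ∧ QuasiCompact A'.hom ∧ ConnectedSpace A'.left) ∧
      IsMonHom u₀ ∧ Surjective u₀.left ∧ u₀ ≫ a' = a ≫ u ∧
      (∀ (H : Over (Spec (CommRingCat.of k))) [GrpObj H] [AlgebraicGeometry.IsReduced H.left]
        [PreconnectedSpace H.left] (f : H ⟶ G) [IsMonHom f], ∃ f' : H ⟶ A, f' ≫ a = f) ∧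
      (∀ (H : Over (Spec (CommRingCat.of k))) [GrpObj H] [AlgebraicGeometry.IsReduced H.left]
        [PreconnectedSpace H.left] (f : H ⟶ G') [IsMonHom f], ∃ f' : H ⟶ A', f' ≫ a' = f) := by
  obtain ⟨A, _, a, ha, hac, hao, hAs, hAconn, hfac⟩ := CentPre.exists_comp_open (G := G)
  obtain ⟨A', _, a', ha', hac', hao', hAs', hAconn', hfac'⟩ := CentPre.exists_comp_open (G := G')
  haveI := ha; haveI := hac; haveI := hao; haveI := hAs; haveI := hAconn
  haveI := ha'; haveI := hac'; haveI := hao'; haveI := hAs'; haveI := hAconn'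
  haveI : Mono a' := DiagRep.mono_of_isClosedImmersion a' hac'
  haveI : QuasiCompact A.hom := by rw [← Over.w a]; infer_instance
  haveI : QuasiCompact A'.hom := by rw [← Over.w a']; infer_instance
  haveI : AlgebraicGeometry.IsReduced A.left := AlgSpLib.isReduced_of_smooth A.hom
  haveI : AlgebraicGeometry.IsReduced G'.left := AlgSpLib.isReduced_of_smooth G'.hom
  haveI : IsSeparated G'.hom := Groth.Agent.GrpField.isSeparated_grp (G := G')
  haveI : IsSeparated A'.hom := Groth.Agent.GrpField.isSeparated_grp (G := A')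
  obtain ⟨u₀, hu₀⟩ := hfac' A (a ≫ u)
  haveI : IsMonHom (u₀ ≫ a') := by rw [hu₀]; infer_instance
  haveI : IsMonHom u₀ := DiagRep.isMonHom_of_comp_mono u₀ a'
  haveI : QuasiCompact u₀.left := by
    haveI : QuasiCompact (u₀.left ≫ A'.hom) := by rw [Over.w]; infer_instance
    exact QuasiCompact.of_comp u₀.left A'.hom
  haveI : Flat u.left := AntiAffLib.flat_of_surjective u
  haveI : LocallyOfFinitePresentation u.left := AntiAffLib.lfp_of_lft u
  have ho : IsOpen (Set.range u₀.left) := by
    have h1 : IsOpen (Set.range (u₀ ≫ a').left) := by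
      rw [hu₀, Over.comp_left, Scheme.Hom.comp_base, TopCat.coe_comp, Set.range_comp]
      exact u.left.isOpenMap _ a.left.isOpenEmbedding.isOpen_range
    rw [Over.comp_left, Scheme.Hom.comp_base, TopCat.coe_comp, Set.range_comp] at h1
    exact a'.left.isOpenEmbedding.isOpen_iff_image_isOpen.2 h1
  have hs : Surjective u₀.left :=
    ⟨fun x => (IsClopen.eq_univ (s := Set.range u₀.left) ⟨GrpHom.isClosed_range u₀, ho⟩
      (Set.range_nonempty _)).ge (Set.mem_univ x)⟩
  exact ⟨A, A', inferInstance, inferInstance, a, a', u₀, ha, ha', hac, hac', hao, hao', ⟨hAs, inferInstance, hAconn⟩,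
    ⟨hAs', inferInstance, hAconn'⟩, inferInstance, hs, hu₀, hfac, hfac'⟩

/-- **The image of a maximal torus is a maximal torus**, connected or not. -/
theorem isMaxTorus_image' {T T' : Over (Spec (CommRingCat.of k))} [GrpObj T] [GrpObj T'] {i : T ⟶ G}
    (hT : AGF.IsMaxTorus i) (i' : T' ⟶ G') [IsMonHom i'] [Mono i'] (hT' : Red.IsTorus T') (w : T ⟶ T') [Flat w.left]
    [Surjective w.left] (hw : w ≫ i' = i ≫ u) : AGF.IsMaxTorus i' := by
  obtain ⟨A, A', _, _, a, a', u₀, ha, ha', hac, hac', -, -, ⟨hAs, hAq, hAconn⟩, ⟨hAs', hAq', hAconn'⟩, hu₀, hs, hu,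
    hfac, hfac'⟩ := exists_comp_map u
  haveI := ha; haveI := ha'; haveI := hac; haveI := hac'; haveI := hAs; haveI := hAq; haveI := hAconn
  haveI := hAs'; haveI := hAq'; haveI := hAconn'; haveI := hu₀; haveI := hs
  haveI : Mono a := DiagRep.mono_of_isClosedImmersion a hac
  haveI : Mono a' := DiagRep.mono_of_isClosedImmersion a' hac'
  haveI := hT.1; haveI := hT.2.1
  obtain ⟨-, -, hTconn, -, hTred, -⟩ := torus_props i hT.2.2.1
  obtain ⟨-, -, hTconn', -, hTred', -⟩ := torus_props i' hT'
  haveI := hTconn; haveI := hTred; haveI := hTconn'; haveI := hTred'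
  obtain ⟨t, ht⟩ := hfac T i
  obtain ⟨t', ht'⟩ := hfac' T' i'
  haveI : IsMonHom (t' ≫ a') := by rw [ht']; infer_instance
  haveI : IsMonHom t' := DiagRep.isMonHom_of_comp_mono t' a'
  haveI : Mono (t' ≫ a') := by rw [ht']; infer_instance
  haveI : Mono t' := mono_of_mono t' a'
  obtain ⟨-, -, -, h⟩ := isMaxTorus_image (u := u₀) (isMaxTorus_of_sub a hT ht) t' w (by
    rw [← cancel_mono a', Category.assoc, ht', hw, Category.assoc, hu, ← Category.assoc, ht])
  refine ⟨inferInstance, inferInstance, hT', fun T'' _ j _ _ f hT'' hf => ?_⟩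
  obtain ⟨-, -, hconn'', -, hred'', -⟩ := torus_props j hT''
  haveI := hconn''; haveI := hred''
  obtain ⟨j₀, hj₀⟩ := hfac' T'' j
  haveI : IsMonHom (j₀ ≫ a') := by rw [hj₀]; infer_instance
  haveI : IsMonHom j₀ := DiagRep.isMonHom_of_comp_mono j₀ a'
  haveI : Mono (j₀ ≫ a') := by rw [hj₀]; infer_instance
  haveI : Mono j₀ := mono_of_mono j₀ a'
  exact h T'' j₀ f hT'' (by rw [← cancel_mono a', Category.assoc, hj₀, hf, ht'])

end Groth.Agent.BorelLib.NA

end
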