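import Groth.Agent.HomCorrLib.Bridge
import Groth.Agent.DiagHopfLib.FieldQuot
import Groth.Agent.AVThetaLib.SubPts
import Groth.Agent.MultTorusLib.Univ
import Groth.Agent.RedRankLib.CommRel

/-!
# Closed subgroups of tori over a field and their maximal tori
-/

set_option autoImplicit false
set_option linter.style.haveILetI false
set_option linter.unusedSectionVars false
set_option backward.isDefEq.respectTransparency false
set_option maxHeartbeats 1000000
set_option synthInstance.maxHeartbeats 400000

universe u

open CategoryTheory CategoryTheory.Limits MonoidalCategory CartesianMonoidalCategory AlgebraicGeometry CoactBr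
open scoped MonObj TensorProduct

noncomputable section

attribute [-instance] CategoryTheory.Hom.commGroup
attribute [local instance] CoactBr.braidedAlgSpecOf

namespace Groth.Agent.BorelLib

variable {k : Type u} [Field k] {T K : Over (Spec (CommRingCat.of k))} [GrpObj T] [GrpObj K]

/-- A closed subgroup of a group of multiplicative type over a field is of multiplicative type. -/
theorem isMultTypeFT_of_closed (hT : SGA3x.IsMultTypeFT T) (i : K ⟶ T) [IsMonHom i] [IsClosedImmersion i.left] :
    SGA3x.IsMultTypeFT K := by
  haveI := Groth.Agent.MultEq.isAffineHom_of_isMultTypeFT hT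
  haveI := Groth.Agent.MultEq.lfp_of_isMultTypeFT hT
  haveI : IsAffine T.left := isAffine_of_isAffineHom T.hom
  haveI : IsAffine K.left := isAffine_of_isAffineHom i.left
  obtain ⟨A, _, _, v, hv, hv'⟩ := HomCorr.exists_hopf T
  haveI := hv; haveI := hv'
  obtain ⟨B, _, _, w, hw, hw'⟩ := HomCorr.exists_hopf K
  haveI := hw; haveI := hw'
  obtain ⟨φ, hφ⟩ := DiagRep.exists_pt (w.hom ≫ i ≫ v.inv)
  haveI : IsMonHom (pt φ) := hφ ▸ inferInstance
  have hcl : IsClosedImmersion (pt φ).left := by
    rw [← hφ, Over.comp_left, Over.comp_left]
    haveI : IsIso w.hom.left := (Over.forget _).map_isIso w.hom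
    haveI : IsIso v.inv.left := (Over.forget _).map_isIso v.inv
    infer_instance
  have hsurj : Function.Surjective φ := DiagRep.surjective_of_isClosedImmersion φ hcl
  have hcomul : (Algebra.TensorProduct.map φ φ).comp (Bialgebra.comulAlgHom k A) =
      (Bialgebra.comulAlgHom k B).comp φ := by
    refine AlgHom.ext fun a => ?_
    have h := congrArg (fun x : WithConv (A →ₐ[k] B ⊗[k] B) => x a) (DiagRep.comul_comp_of_isMonHom φ)
    simp only [AlgHom.convMul_apply] at h
    refine Eq.trans ?_ h.symm
    show Algebra.TensorProduct.map φ φ (CoalgebraStruct.comul (R := k) a) = _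
    generalize CoalgebraStruct.comul (R := k) a = t
    induction t using TensorProduct.induction_on with
    | zero => simp
    | add x y hx hy => simp only [map_add, hx, hy]
    | tmul x y => simp
  haveI : Algebra.FiniteType k A := by
    haveI : IsIso v.hom.left := (Over.forget _).map_isIso v.hom
    have h : LocallyOfFiniteType (sp k A).hom := by rw [← Over.w v.hom]; infer_instance
    change LocallyOfFiniteType (Spec.map (CommRingCat.ofHom (algebraMap k A))) at h
    rwa [HasRingHomProperty.Spec_iff (P := @LocallyOfFiniteType), CommRingCat.hom_ofHom,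
      RingHom.finiteType_algebraMap] at h
  haveI : Algebra.FiniteType k B := Algebra.FiniteType.of_surjective φ hsurj
  have hA : SGA3b.IsMultType k A := by
    refine HomCorr.isMultType_of_locally v.hom ?_
    obtain ⟨S', f, hflat, hs, hcov, hloc⟩ := hT
    refine ⟨S', f, hflat, hs, hcov, fun x => ?_⟩
    obtain ⟨U, hU, M, hM, -, he⟩ := hloc x
    exact ⟨U, hU, M, hM, he⟩
  exact HomCorr.isMultTypeFT_of_isMultType w.hom
    (DiagHopf.isMultType_of_surjective (BialgHom.ofAlgHom φ (DiagRep.counit_comp_of_isMonHom φ) hcomul) hsurj hA)

end Groth.Agent.BorelLib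

end
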