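import Groth.Agent.BorelLib.NonAffTori
import Groth.Agent.BorelLib.Schemes
import Groth.Agent.BorelLib.Facts
import Groth.Agent.BorelLib.MaxTor
import Groth.Agent.BorelLib.Norm
import Groth.Agent.BorelLib.Dense
import Groth.Agent.BorelLib.ImageField

/-!
# Borel subgroups of smooth groups which need not be affine
-/

set_option autoImplicit false
set_option linter.style.haveILetI false
set_option linter.unusedSectionVars false
set_option backward.isDefEq.respectTransparency false

universe u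

open CategoryTheory CategoryTheory.Limits MonoidalCategory CartesianMonoidalCategory AlgebraicGeometry WithConv
open scoped MonObj
open CoactBr (sp)

noncomputable section

attribute [-instance] CategoryTheory.Hom.commGroup

namespace Groth.Agent.BorelLib.NA

attribute [local instance] pTop pTopTensor

variable {k : Type u} [Field k] [IsAlgClosed k] {G : Over (Spec (CommRingCat.of k))} [GrpObj G] [Smooth G.hom]
  [QuasiCompact G.hom] [ConnectedSpace G.left] (S : Split G) {A : Type u} [CommRing A] [HopfAlgebra k A]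
  [Algebra.FiniteType k A] (v : sp k A ≅ S.L) [IsMonHom v.hom]

/-- The point of the group given by a point of the affine part. -/
def toG : Pt k A →* RPt G := (ptHom S.l).comp (ptEquiv v).toMonoidHom

lemma toG_apply (a : Pt k A) : toG S v a = ptEquiv v a ≫ S.l := rfl

lemma toG_injective : Function.Injective (toG S v) := fun a b h => by
  haveI : Mono S.l := DiagRep.mono_of_isClosedImmersion S.l inferInstance
  exact (ptEquiv v).injective ((cancel_mono S.l).1 h)

lemma conjSub_neut_eq {P : Subgroup (Pt k A)} {a : Pt k A} (ha : a ∈ P) : conjSub a (neut P) = neut P := by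
  have h : ∀ c ∈ P, conjSub c (neut P) ≤ neut P := fun c hc =>
    le_neut (isPreconnected_conjSub (isPreconnected_neut P)) (conjSub_le hc (neut_le P))
  refine le_antisymm (h a ha) ?_
  have := conjSub_mono (a := a) (h a⁻¹ (inv_mem ha))
  rwa [conjSub_conjSub, mul_inv_cancel, conjSub_one] at this

variable {B : Over (Spec (CommRingCat.of k))} [GrpObj B] (b : B ⟶ G) [IsMonHom b]

/-- The part of a subgroup in the affine part, on points. -/
def lpart : Subgroup (Pt k A) := (ptHom b).range.comap (toG S v)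

lemma mem_lpart {a : Pt k A} : a ∈ lpart S v b ↔ ∃ c : RPt B, c ≫ b = ptEquiv v a ≫ S.l := Iff.rfl

lemma isClosed_lpart [IsClosedImmersion b.left] : IsClosed (lpart S v b : Set (Pt k A)) := by
  haveI : IsSeparated G.hom := Groth.Agent.GrpField.isSeparated_grp (G := G)
  haveI : LocallyOfFiniteType B.hom := by rw [← Over.w b]; infer_instance
  have e : (lpart S v b : Set (Pt k A)) = toP ⁻¹' (v.hom.left ⁻¹' (S.l.left ⁻¹' Set.range b.left)) := by
    ext a
    rw [SetLike.mem_coe, mem_lpart, Set.mem_preimage, Set.mem_preimage, ← pt_ptEquiv v a, Set.mem_preimage]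
    constructor
    · rintro ⟨c, hc⟩
      refine ⟨c.left (IsLocalRing.closedPoint k), ?_⟩
      exact congrArg NRQuotLib.pt hc
    · exact fun h => exists_pt_of_mem_range b (ptEquiv v a ≫ S.l) h
  rw [e]
  exact ((b.left.isClosedEmbedding.isClosed_range.preimage S.l.left.continuous).preimage
    v.hom.left.continuous).preimage continuous_induced_dom

lemma isSol_lpart [Mono b] (hs : Red.IsSolvableGrp B) : IsSol (lpart S v b) := by
  obtain ⟨n, hn⟩ := hs
  refine ⟨n, le_bot_iff.1 ?_⟩
  have key : ∀ m, (der (lpart S v b) m).map (toG S v) ≤ (derivedSeries (RPt B) m).map (ptHom b) := by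
    intro m
    induction m with
    | zero =>
      rintro _ ⟨a, ha, rfl⟩
      rw [der_zero] at ha
      obtain ⟨c, hc⟩ := (mem_lpart S v b).1 ha
      exact ⟨c, Subgroup.mem_top _, hc⟩
    | succ m ih =>
      rw [der_succ, derivedSeries_succ, Subgroup.map_commutator, Subgroup.map_commutator]
      exact Subgroup.commutator_mono ih ih
  intro a ha
  have := key n ⟨a, ha, rfl⟩
  rw [hn (𝟙_ _), Subgroup.map_bot, Subgroup.mem_bot, ← (toG S v).map_one] at this
  exact toG_injective S v this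

/-- `B` contains the anti-affine part on points. -/
def ContainsD : Prop := ∀ d : RPt S.D, ∃ c : RPt B, c ≫ b = d ≫ S.d

/-- Points of a subgroup containing the anti-affine part. -/
lemma pts_iff (hD : ContainsD S b) (g : RPt G) :
    (∃ c : RPt B, c ≫ b = g) ↔ ∃ a ∈ lpart S v b, ∃ d : RPt S.D, toG S v a * (d ≫ S.d) = g := by
  constructor
  · rintro ⟨c, rfl⟩
    obtain ⟨a, d, h⟩ := S.hmul (c ≫ b)
    obtain ⟨x, rfl⟩ := (ptEquiv v).surjective a
    obtain ⟨e, he⟩ := hD d
    refine ⟨x, (mem_lpart S v b).2 ⟨c * e⁻¹, ?_⟩, d, h⟩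
    rw [MonObj.mul_comp, GrpObj.inv_comp, he, ← h, mul_inv_cancel_right]
  · rintro ⟨a, ha, d, rfl⟩
    obtain ⟨c, hc⟩ := (mem_lpart S v b).1 ha
    obtain ⟨e, he⟩ := hD d
    exact ⟨c * e, by rw [MonObj.mul_comp, hc, he]; rfl⟩

variable [Smooth B.hom] [QuasiCompact B.hom]

/-- The product of a subgroup with the anti-affine part. -/
theorem exists_prodImage : ∃ (C : Over (Spec (CommRingCat.of k))) (_ : GrpObj C) (c : C ⟶ G),
    IsMonHom c ∧ IsClosedImmersion c.left ∧ Smooth C.hom ∧
      (∀ g : RPt G, (∃ z : RPt C, z ≫ c = g) ↔ ∃ (x : RPt B) (d : RPt S.D), (x ≫ b) * (d ≫ S.d) = g) ∧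
      (ConnectedSpace B.left → ConnectedSpace C.left) ∧ (Red.IsSolvableGrp B → Red.IsSolvableGrp C) ∧
      ContainsD S c := by
  haveI := S.smooth_prod (P := B); haveI := S.qc_prod (P := B)
  obtain ⟨C, _, c, hc, hcc, hcs, hpts, hconn⟩ := exists_image (S.prodHom b)
  haveI := hc; haveI := hcc; haveI := hcs
  haveI : Mono c := DiagRep.mono_of_isClosedImmersion c inferInstance
  have hpts' : ∀ g : RPt G, (∃ z : RPt C, z ≫ c = g) ↔ ∃ (x : RPt B) (d : RPt S.D), (x ≫ b) * (d ≫ S.d) = g :=
    fun g => (hpts g).trans ⟨fun ⟨p, hp⟩ => ⟨p ≫ fst B S.D, p ≫ snd B S.D, by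
        rw [← hp, S.comp_prodHom, Category.assoc, Category.assoc]⟩,
      fun ⟨x, d, h⟩ => ⟨lift x d, by rw [S.lift_prodHom, h]⟩⟩
  refine ⟨C, inferInstance, c, hc, hcc, hcs, hpts', fun hB => ?_, fun hB => ?_, fun d => ?_⟩
  · haveI := hB
    exact hconn (S.connected_prod (P := B))
  · exact isSolvableGrp_of_surjective (S.prodHom b) c (S.isSolvableGrp_prod hB) fun z => (hpts _).1 ⟨z, rfl⟩
  · exact (hpts' _).2 ⟨1, d, by rw [MonObj.one_comp, _root_.one_mul]⟩

/-- A subgroup containing the anti-affine part whose affine part is a Borel subgroup is a Borel subgroup. -/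
theorem isBorelOver_of_lpart [IsClosedImmersion b.left] [ConnectedSpace B.left] (hs : Red.IsSolvableGrp B)
    (hD : ContainsD S b) (hbor : IsBor ⊤ (lpart S v b)) : Red.IsBorelOver k b := by
  refine ⟨inferInstance, inferInstance, inferInstance, inferInstance, hs, ?_⟩
  intro B' _ b' _ f hb'c hb's hb'conn hb'sol hf
  haveI := hb'c; haveI := hb's; haveI := hb'conn
  haveI : Mono b' := DiagRep.mono_of_isClosedImmersion b' inferInstance
  haveI : Mono b := DiagRep.mono_of_isClosedImmersion b inferInstance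
  haveI : QuasiCompact B'.hom := by rw [← Over.w b']; infer_instance
  haveI : AlgebraicGeometry.IsReduced B.left := AlgSpLib.isReduced_of_smooth B.hom
  haveI : AlgebraicGeometry.IsReduced B'.left := AlgSpLib.isReduced_of_smooth B'.hom
  obtain ⟨hKc, hK⟩ := facts_top v
  have hD' : ContainsD S b' := fun d => by
    obtain ⟨c, hc⟩ := hD d
    exact ⟨c ≫ f, by rw [Category.assoc, hf, hc]⟩
  have hle : lpart S v b ≤ lpart S v b' := fun a ha => by
    obtain ⟨c, hc⟩ := (mem_lpart S v b).1 ha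
    exact (mem_lpart S v b').2 ⟨c ≫ f, by rw [Category.assoc, hf, hc]⟩
  have hPc := isClosed_lpart S v b'
  have heq : neut (lpart S v b') = lpart S v b :=
    hbor.maximal _ le_top (isClosed_neut hPc) (isPreconnected_neut _)
      ((isSol_lpart S v b' hb'sol).mono (neut_le _)) (le_neut hbor.conn hle)
  have hge : lpart S v b' ≤ lpart S v b := fun a ha => by
    refine hbor.mem_of_normalizing hKc hK (Subgroup.mem_top a) ?_
    rw [← heq]
    exact conjSub_neut_eq ha
  obtain ⟨e, he⟩ := exists_iso_of_pts b b' fun g => by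
    rw [pts_iff S v b hD, pts_iff S v b' hD', le_antisymm hle hge]
  rw [show f = e.hom by rw [← cancel_mono b', hf, he]]
  infer_instance

/-- A Borel subgroup of the affine part gives one of the group. -/
theorem exists_borel_of_isBor {T : Subgroup (Pt k A)} (hT : IsBor ⊤ T) :
    ∃ (B : Over (Spec (CommRingCat.of k))) (_ : GrpObj B) (b : B ⟶ G) (_ : IsMonHom b),
      Red.IsBorelOver k b ∧ ContainsD S b ∧ lpart S v b = T := by
  obtain ⟨BL, _, iBL, hi, hBL, hpts⟩ := BorelLib.exists_borel_of_isBor v hT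
  obtain ⟨-, hBLc, hBLs, hBLconn, hBLsol, -⟩ := hBL
  haveI := hi; haveI := hBLc; haveI := hBLs; haveI := hBLconn
  haveI : IsAffine BL.left := isAffine_of_isAffineHom iBL.left
  haveI : QuasiCompact BL.hom := inferInstance
  haveI : Mono S.l := DiagRep.mono_of_isClosedImmersion S.l inferInstance
  obtain ⟨C, _, c, hc, hcc, hcs, hcpts, hcconn, hcsol, hcD⟩ := exists_prodImage S (iBL ≫ S.l)
  haveI := hc; haveI := hcc; haveI := hcs; haveI := hcconn inferInstance
  haveI : QuasiCompact C.hom := by rw [← Over.w c]; infer_instance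
  obtain ⟨hKc, hK⟩ := facts_top v
  have hle : T ≤ lpart S v c := fun a ha => by
    rw [← hpts] at ha
    obtain ⟨x, hx⟩ := (mem_ptsSub v).1 ha
    exact (mem_lpart S v c).2 ((hcpts _).2 ⟨x, 1, by rw [MonObj.one_comp, _root_.mul_one, ← Category.assoc, hx]⟩)
  haveI : Mono c := DiagRep.mono_of_isClosedImmersion c inferInstance
  have hneut := hT.maximal _ le_top (isClosed_neut (isClosed_lpart S v c)) (isPreconnected_neut _)
    ((isSol_lpart S v c (hcsol hBLsol)).mono (neut_le _)) (le_neut hT.conn hle)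
  have heq : lpart S v c = T := le_antisymm (fun a ha => hT.mem_of_normalizing hKc hK (Subgroup.mem_top a) (by
    rw [← hneut]; exact conjSub_neut_eq ha)) hle
  exact ⟨C, inferInstance, c, hc, isBorelOver_of_lpart S v c (hcsol hBLsol) hcD (heq ▸ hT), hcD, heq⟩

/-- **Every Borel subgroup comes from the affine part.** -/
theorem facts_of_isBorelOver (hB : Red.IsBorelOver k b) : ContainsD S b ∧ IsBor ⊤ (lpart S v b) := by
  obtain ⟨-, hBc, -, hBconn, hBsol, hmax⟩ := hB
  haveI := hBc; haveI := hBconn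
  haveI : Mono b := DiagRep.mono_of_isClosedImmersion b inferInstance
  haveI : AlgebraicGeometry.IsReduced B.left := AlgSpLib.isReduced_of_smooth B.hom
  haveI : LocallyOfFiniteType B.hom := inferInstance
  have hD : ContainsD S b := by
    obtain ⟨C, _, c, hc, hcc, hcs, hcpts, hcconn, hcsol, hcD⟩ := exists_prodImage S b
    haveI := hc; haveI := hcc; haveI := hcs
    obtain ⟨f, hf⟩ := exists_factor_of_pts b c fun x => (hcpts _).2 ⟨x, 1, by rw [MonObj.one_comp, _root_.mul_one]⟩
    haveI := hmax C c f hcc hcs (hcconn inferInstance) (hcsol hBsol) hf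
    intro d
    obtain ⟨z, hz⟩ := hcD d
    exact ⟨z ≫ inv f, by rw [← hz, ← hf, Category.assoc, IsIso.inv_hom_id_assoc]⟩
  refine ⟨hD, ?_⟩
  obtain ⟨hKc, hK⟩ := facts_top v
  have hPc := isClosed_lpart S v b
  obtain ⟨B₀, hB₀, -, -⟩ := IsBor.exists_conj_universal hKc hK
  obtain ⟨g, -, hg⟩ := hB₀.exists_conj_le hKc hK (le_top : neut (lpart S v b) ≤ ⊤) (isPreconnected_neut _)
    ((isSol_lpart S v b hBsol).mono (neut_le _))
  have hS' : IsBor ⊤ (conjSub g⁻¹ B₀) := hB₀.conjSub (Subgroup.mem_top _)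
  have hle : neut (lpart S v b) ≤ conjSub g⁻¹ B₀ := by
    have := conjSub_mono (a := g⁻¹) hg
    rwa [conjSub_conjSub, inv_mul_cancel, conjSub_one] at this
  obtain ⟨C, _, c, hc, hC, hcD, hcl⟩ := exists_borel_of_isBor S v hS'
  haveI := hc; haveI := hC.2.1; haveI := hC.2.2.1; haveI := hC.2.2.2.1
  obtain ⟨F, hF, hcov⟩ := exists_neut_cosets hPc
  -- finitely many translates of `C` cover `B`
  haveI : IsSeparated G.hom := Groth.Agent.GrpField.isSeparated_grp (G := G)
  let Z : Pt k A → Set ↥B.left := fun r =>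
    {z | ((toUnit B ≫ (toG S v r)⁻¹) * b).left z ∈ Set.range c.left}
  have hZc : ∀ r, IsClosed (Z r) := fun r => c.left.isClosedEmbedding.isClosed_range.preimage
    ((toUnit B ≫ (toG S v r)⁻¹) * b).left.continuous
  have hZ : ∀ r (x : RPt B), x.left (IsLocalRing.closedPoint k) ∈ Z r ↔ ∃ z : RPt C, z ≫ c = (toG S v r)⁻¹ * (x ≫ b) := by
    intro r x
    have e : x ≫ ((toUnit B ≫ (toG S v r)⁻¹) * b) =
        (toG S v r)⁻¹ * (x ≫ b) := by
      rw [MonObj.comp_mul, ← Category.assoc x, toUnit_unique (x ≫ toUnit _) (𝟙 _), Category.id_comp]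
    rw [← e]
    exact ⟨fun h => exists_pt_of_mem_range c (x ≫ ((toUnit B ≫ (toG S v r)⁻¹) * b)) h, fun ⟨z, hz⟩ =>
      ⟨z.left (IsLocalRing.closedPoint k), congrArg NRQuotLib.pt hz⟩⟩
  have hall : ∀ x : RPt B, ∃ r ∈ F, x.left (IsLocalRing.closedPoint k) ∈ Z r := by
    intro x
    obtain ⟨a, ha, d, had⟩ := (pts_iff S v b hD _).1 ⟨x, rfl⟩
    obtain ⟨r, hr, hra⟩ := hcov a ha
    refine ⟨r, hr, (hZ r x).2 ((pts_iff S v c hcD _).2 ⟨r⁻¹ * a, hcl ▸ hle hra, d, ?_⟩)⟩
    rw [← had, map_mul, map_inv, _root_.mul_assoc]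
  haveI : JacobsonSpace B.left := LocallyOfFiniteType.jacobsonSpace B.hom
  have hcover : (⋃ r ∈ F, Z r) = Set.univ := by
    refine Set.eq_univ_of_univ_subset ?_
    rw [← closure_closedPoints]
    refine closure_minimal (fun z hz => ?_) (F.finite_toSet.isClosed_biUnion fun r _ => hZc r)
    obtain ⟨x, hx⟩ := NRQuotLib.exists_pt (X := B) hz
    obtain ⟨r, hr, hxr⟩ := hall x
    exact Set.mem_biUnion hr (hx ▸ hxr)
  haveI : IrreducibleSpace B.left := by
    haveI := CommSubLib.geometricallyIrreducible_of_connected B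
    exact GeometricallyIrreducible.irreducibleSpace_of_subsingleton B.hom
  obtain ⟨r, hr⟩ : ∃ r, Z r = Set.univ := by
    classical
    obtain ⟨t, ht, htu⟩ := (isIrreducible_iff_sUnion_isClosed.1 (IrreducibleSpace.isIrreducible_univ B.left))
      (F.image Z) (fun t ht => by obtain ⟨r, -, rfl⟩ := Finset.mem_image.1 ht; exact hZc r)
      (by rw [Finset.coe_image, Set.sUnion_image]; exact hcover.symm.subset)
    obtain ⟨r, -, rfl⟩ := Finset.mem_image.1 ht
    exact ⟨r, Set.eq_univ_of_univ_subset htu⟩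
  have hsub : ∀ x : RPt B, ∃ z : RPt C, z ≫ c = x ≫ b := by
    intro x
    obtain ⟨z₁, hz₁⟩ := (hZ r x).1 (hr ▸ Set.mem_univ _)
    obtain ⟨z₀, hz₀⟩ := (hZ r 1).1 (hr ▸ Set.mem_univ _)
    rw [MonObj.one_comp, _root_.mul_one] at hz₀
    exact ⟨z₀⁻¹ * z₁, by rw [MonObj.mul_comp, GrpObj.inv_comp, hz₁, hz₀, inv_inv, mul_inv_cancel_left]⟩
  obtain ⟨f, hf⟩ := exists_factor_of_pts b c hsub
  haveI := hmax C c f hC.2.1 hC.2.2.1 hC.2.2.2.1 hC.2.2.2.2.1 hf
  have heq : lpart S v b = lpart S v c := by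
    ext a
    rw [mem_lpart, mem_lpart]
    exact ⟨fun ⟨x, hx⟩ => ⟨x ≫ f, by rw [Category.assoc, hf, hx]⟩,
      fun ⟨z, hz⟩ => ⟨z ≫ inv f, by rw [← hz, ← hf, Category.assoc, IsIso.inv_hom_id_assoc]⟩⟩
  rw [heq, hcl]
  exact hS'

end Groth.Agent.BorelLib.NA

end
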