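import Groth.Agent.BorelLib.BaseChange
import Groth.Agent.S5260
import Groth.Agent.TransporterLib.Factor

/-!
# Borel subgroups are their own normalisers, scheme-theoretically
-/

set_option autoImplicit false
set_option linter.style.haveILetI false
set_option backward.isDefEq.respectTransparency false

universe u

open CategoryTheory CategoryTheory.Limits MonoidalCategory CartesianMonoidalCategory AlgebraicGeometry WithConv
open scoped MonObj

noncomputable section

attribute [-instance] CategoryTheory.Hom.commGroup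

namespace Groth.Agent.BorelLib

attribute [local instance] pTop pTopTensor

section torsor

variable {S : Scheme.{u}} {G B T C N : Over S} [GrpObj G] [GrpObj B] [GrpObj T]
  {iB : B ⟶ G} [IsMonHom iB] [Mono iB] {iT : T ⟶ G} [IsMonHom iT] {t : T ⟶ B} {n : N ⟶ G} {c : C ⟶ G}

/-- The structure morphism of a scheme over `N`. -/
def str (X : Over N.left) : (Over.map N.hom).obj X ⟶ N := Over.homMk X.hom rfl

lemma map_str {X Y : Over N.left} (x : X ⟶ Y) : (Over.map N.hom).map x ≫ str Y = str X :=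
  Over.OverMorphism.ext (Over.w x)

/-- **Torsor trick, open form**: an element normalising `B` lies in `B` over an open containing its points in `B`, as
soon as the centraliser of the torus lies in `B`. -/
theorem exists_open_factor_of_transporter [IsMonHom t] [Smooth B.hom] [IsSeparated B.hom] [IsClosedImmersion iB.left]
    (hloc : TwC.Locally S TwC.Topology.fpqc (fun S' f => ∃ (M : Type) (_ : AddCommGroup M),
      Nonempty (Grp.mk (Red.bc f T) ≅ Grp.mk (Red.DS S' M))))
    (ht : t ≫ iB = iT)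
    (hC : ∀ (X : Over S) (g : X ⟶ G),
      (∀ (X' : Over S) (x : X' ⟶ X) (h : X' ⟶ T), (x ≫ g) * (h ≫ iT) = (h ≫ iT) * (x ≫ g)) → ∃ b : X ⟶ B, b ≫ iB = g)
    (hn : ∀ (X' : Over S) (x : X' ⟶ N) (h : X' ⟶ B), ∃ h' : X' ⟶ B, (x ≫ n) * (h ≫ iB) * (x ≫ n)⁻¹ = h' ≫ iB) :
    ∃ U : N.left.Opens,
      (∀ X : Over N.left, (∃ b : (Over.map N.hom).obj X ⟶ B, b ≫ iB = str X ≫ n) → Set.range X.hom ⊆ U) ∧
      ∃ m : Over.mk (U.ι ≫ N.hom) ⟶ B, m ≫ iB = Over.homMk U.ι rfl ≫ n := by
  let e := fun X : Over N.left => PowEtCentralLib.adjEquiv (G := B) N.hom X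
  let eG := fun X : Over N.left => PowEtCentralLib.adjEquiv (G := G) N.hom X
  let eT := fun X : Over N.left => PowEtCentralLib.adjEquiv (G := T) N.hom X
  have hnatB : ∀ (X : Over N.left) (b : (Over.map N.hom).obj X ⟶ B),
      e X b ≫ (Over.pullback N.hom).map iB = eG X (b ≫ iB) := fun X b =>
    (Adjunction.homEquiv_naturality_right (Over.mapPullbackAdj N.hom) b iB).symm
  have hnatT : ∀ (X : Over N.left) (h : (Over.map N.hom).obj X ⟶ T),
      eT X h ≫ (Over.pullback N.hom).map iT = eG X (h ≫ iT) := fun X h =>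
    (Adjunction.homEquiv_naturality_right (Over.mapPullbackAdj N.hom) h iT).symm
  have hnatx : ∀ {X Y : Over N.left} (x : X ⟶ Y) (g : (Over.map N.hom).obj Y ⟶ G),
      x ≫ eG Y g = eG X ((Over.map N.hom).map x ≫ g) := fun x g =>
    (Adjunction.homEquiv_naturality_left (Over.mapPullbackAdj N.hom) x g).symm
  have hnatxB : ∀ {X Y : Over N.left} (x : X ⟶ Y) (g : (Over.map N.hom).obj Y ⟶ B),
      x ≫ e Y g = e X ((Over.map N.hom).map x ≫ g) := fun x g =>
    (Adjunction.homEquiv_naturality_left (Over.mapPullbackAdj N.hom) x g).symm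
  set gX : 𝟙_ (Over N.left) ⟶ Red.bc N.hom G := eG _ (str _ ≫ n) with hgX
  have hunit : ∀ X : Over N.left, toUnit X ≫ gX = eG X (str X ≫ n) := fun X => by
    rw [hgX, hnatx, ← Category.assoc, map_str]
  haveI : Mono ((Over.pullback N.hom).map iB) := mono_bc N.hom iB
  haveI : IsMonHom (M := Red.bc N.hom B) (N := Red.bc N.hom G) ((Over.pullback N.hom).map iB) :=
    DiagRep.isMonHom_bc_map _ iB
  haveI : IsMonHom (M := Red.bc N.hom T) (N := Red.bc N.hom G) ((Over.pullback N.hom).map iT) :=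
    DiagRep.isMonHom_bc_map _ iT
  let u₁ : Red.bc N.hom T ⟶ Red.bc N.hom B := (Over.pullback N.hom).map t
  haveI : IsMonHom u₁ := DiagRep.isMonHom_bc_map _ t
  obtain ⟨h', hh'⟩ := hn (PowEtCentralLib.res N.hom T) (str _) (PowEtCentralLib.inc N.hom T ≫ t)
  let u₂ : Red.bc N.hom T ⟶ Red.bc N.hom B := e _ h'
  have hu₂ : u₂ ≫ (Over.pullback N.hom).map iB =
      AGF.conjBy (H := Red.bc N.hom T) gX ((Over.pullback N.hom).map iT) := by
    show e _ h' ≫ _ = (toUnit _ ≫ gX) * (Over.pullback N.hom).map iT * (toUnit _ ≫ gX)⁻¹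
    rw [hnatB, ← hh', hunit, map_mul, map_mul, map_inv, Category.assoc, ht, PowEtCentralLib.adjEquiv_inc]
  haveI : IsMonHom u₂ := by
    haveI := DiagRep.isMonHom_conjBy (G := Red.bc N.hom G) gX
    haveI : IsMonHom (u₂ ≫ (Over.pullback N.hom).map iB) := by
      rw [hu₂, DiagRep.conjBy_eq_comp]; infer_instance
    exact DiagRep.isMonHom_of_comp_mono u₂ ((Over.pullback N.hom).map iB)
  haveI hBs : Smooth (Red.bc N.hom B).hom := MorphismProperty.pullback_snd (P := @Smooth) _ _ inferInstance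
  haveI : IsSeparated (Red.bc N.hom B).hom :=
    MorphismProperty.pullback_snd (P := @IsSeparated) _ _ inferInstance
  have hloc' := Groth.Agent.Transporter.locally_bc N.hom hloc
  obtain ⟨Z, j, hj, hjf, hZ⟩ := Groth.Agent.Transporter.exists_transporter hloc' u₁ u₂
  haveI := hj; haveI := hjf
  haveI : LocallyOfFinitePresentation Z.hom := by rw [← Over.w j]; infer_instance
  haveI : Smooth Z.hom := Groth.Agent.Transporter.smooth_transporter hloc' hBs u₁ u₂ j hZ
  have key : ∀ (X : Over N.left) (x : X ⟶ Z) (b : (Over.map N.hom).obj X ⟶ B), e X b = x ≫ j →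
      ∀ (X' : Over S) (y : X' ⟶ (Over.map N.hom).obj X) (h : X' ⟶ T),
        (y ≫ b ≫ iB) * (h ≫ iT) * (y ≫ b ≫ iB)⁻¹ = (y ≫ str X ≫ n) * (h ≫ iT) * (y ≫ str X ≫ n)⁻¹ := by
    intro X x b hb X' y h
    let X₁ : Over N.left := Over.mk (y.left ≫ X.hom)
    let y₁ : X₁ ⟶ X := Over.homMk y.left rfl
    let ε : (Over.map N.hom).obj X₁ ≅ X' := Over.isoMk (Iso.refl _) (by
      show 𝟙 _ ≫ X'.hom = (y.left ≫ X.hom) ≫ N.hom
      rw [Category.id_comp, Category.assoc]
      exact (Over.w y).symm)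
    have hy : (Over.map N.hom).map y₁ = ε.hom ≫ y := Over.OverMorphism.ext (Category.id_comp _).symm
    have := congrArg (fun m => m ≫ (Over.pullback N.hom).map iB)
      ((hZ _ (x ≫ j)).1 ⟨x, rfl⟩ X₁ y₁ (eT _ (ε.hom ≫ h)))
    simp only [MonObj.mul_comp, GrpObj.inv_comp, Category.assoc] at this
    rw [hu₂] at this
    simp only [AGF.conjBy, MonObj.comp_mul, GrpObj.comp_inv] at this
    rw [← Category.assoc _ (toUnit _), toUnit_unique (eT _ (ε.hom ≫ h) ≫ toUnit _) (toUnit _)] at this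
    simp only [u₁] at this
    rw [← Functor.map_comp, ht, hnatT, ← Category.assoc x, ← hb, hnatB, hnatx, hunit, ← map_inv, ← map_mul, ← map_mul,
      ← map_inv, ← map_mul, ← map_mul] at this
    have h2 := (eG X₁).injective this
    rw [← map_str y₁, hy] at h2
    simp only [Category.assoc, ← MonObj.comp_mul, ← GrpObj.comp_inv] at h2
    exact (cancel_epi ε.hom).1 (by simpa only [Category.assoc, MonObj.comp_mul, GrpObj.comp_inv] using h2)
  let U : N.left.Opens := ⟨Set.range Z.hom, Z.hom.isOpenMap.isOpen_range⟩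
  have hmem : ∀ X : Over N.left, (∃ b : (Over.map N.hom).obj X ⟶ B, b ≫ iB = str X ≫ n) → Set.range X.hom ⊆ U := by
    rintro X ⟨b, hb⟩
    obtain ⟨z, -⟩ := (hZ X (e X b)).2 fun X₁ x₁ h₁ => by
      obtain ⟨h, rfl⟩ := (eT X₁).surjective h₁
      apply (cancel_mono ((Over.pullback N.hom).map iB)).1
      simp only [MonObj.mul_comp, GrpObj.inv_comp, Category.assoc]
      rw [hu₂]
      simp only [AGF.conjBy, MonObj.comp_mul, GrpObj.comp_inv]
      rw [← Category.assoc _ (toUnit _), toUnit_unique (eT X₁ h ≫ toUnit _) (toUnit _)]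
      simp only [u₁]
      rw [← Functor.map_comp, ht, hnatT, hnatB, hnatx, hunit, hb, ← Category.assoc, map_str]
    rw [← Over.w z]
    exact Set.range_comp_subset_range z.left Z.hom
  let P : Over S := (Over.map N.hom).obj Z
  obtain ⟨b, hb⟩ := (e Z).surjective j
  obtain ⟨w, hw⟩ := hC P ((b ≫ iB)⁻¹ * (str Z ≫ n)) fun X' x h => by
    have h1 := key Z (𝟙 Z) b (by rw [hb, Category.id_comp]) X' x h
    simp only [MonObj.comp_mul, GrpObj.comp_inv]
    set p := x ≫ b ≫ iB
    set q := x ≫ str Z ≫ n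
    set s := h ≫ iT
    calc p⁻¹ * q * s = p⁻¹ * (q * s * q⁻¹) * q := by group
      _ = p⁻¹ * (p * s * p⁻¹) * q := by rw [h1]
      _ = s * (p⁻¹ * q) := by group
  have hfac : (b * w) ≫ iB = str Z ≫ n := by rw [MonObj.mul_comp, hw, mul_inv_cancel_left]
  let Z' : Z.left ⟶ U.toScheme := IsOpenImmersion.lift U.ι Z.hom (by
    rw [Scheme.Opens.range_ι]; exact subset_rfl)
  have hZ' : Z' ≫ U.ι = Z.hom := IsOpenImmersion.lift_fac _ _ _
  haveI : Flat Z' := by
    haveI : Flat (Z' ≫ U.ι) := by rw [hZ']; infer_instance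
    exact MorphismProperty.of_postcomp (W := @Flat) (W' := @IsOpenImmersion) Z' U.ι inferInstance this
  obtain ⟨l, hl⟩ := Groth.Agent.Transporter.exists_lift_of_family iB.left (U.ι ≫ n.left)
    (Y' := fun _ : PUnit.{1} => Z.left) (fun _ => Z') (fun _ => inferInstance)
    (fun y => by
      obtain ⟨z, hz⟩ : U.ι y ∈ Set.range Z.hom := y.2
      refine ⟨PUnit.unit, z, U.ι.isOpenEmbedding.injective ?_⟩
      rw [← hz, ← Scheme.Hom.comp_apply, hZ']) (fun _ => ⟨(b * w).left, by
      rw [← Over.comp_left, hfac, ← Category.assoc, hZ']; rfl⟩)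
  exact ⟨U, hmem, Over.homMk l (by
    show l ≫ B.hom = U.ι ≫ N.hom
    rw [← Over.w n, ← Category.assoc, ← hl, Category.assoc, Over.w iB]), Over.OverMorphism.ext hl⟩

/-- **Torsor trick**: an element normalising `B` lies in `B` as soon as the smooth transporter of the torus is
surjective and the centraliser of the torus lies in `B`. -/
theorem exists_factor_of_transporter [IsMonHom t] [Smooth B.hom] [IsSeparated B.hom] [IsClosedImmersion iB.left]
    (hloc : TwC.Locally S TwC.Topology.fpqc (fun S' f => ∃ (M : Type) (_ : AddCommGroup M),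
      Nonempty (Grp.mk (Red.bc f T) ≅ Grp.mk (Red.DS S' M))))
    (ht : t ≫ iB = iT)
    (hC : ∀ (X : Over S) (g : X ⟶ G),
      (∀ (X' : Over S) (x : X' ⟶ X) (h : X' ⟶ T), (x ≫ g) * (h ≫ iT) = (h ≫ iT) * (x ≫ g)) → ∃ b : X ⟶ B, b ≫ iB = g)
    (hn : ∀ (X' : Over S) (x : X' ⟶ N) (h : X' ⟶ B), ∃ h' : X' ⟶ B, (x ≫ n) * (h ≫ iB) * (x ≫ n)⁻¹ = h' ≫ iB)
    (hpts : ∀ U : Set N.left, IsOpen U →
      (∀ (X : Over N.left), (∃ b : (Over.map N.hom).obj X ⟶ B, b ≫ iB = str X ≫ n) → Set.range X.hom ⊆ U) →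
      U = Set.univ) :
    ∃ m : N ⟶ B, m ≫ iB = n := by
  obtain ⟨U, hU, m, hm⟩ := exists_open_factor_of_transporter hloc ht hC hn
  have htop : (U : Set N.left) = Set.univ := hpts _ U.isOpen hU
  have htop' : U = ⊤ := TopologicalSpace.Opens.ext htop
  subst htop'
  let q : N ⟶ Over.mk ((⊤ : N.left.Opens).ι ≫ N.hom) := Over.homMk N.left.topIso.inv (by
    show N.left.topIso.inv ≫ (⊤ : N.left.Opens).ι ≫ N.hom = N.hom
    rw [← Scheme.topIso_hom, Iso.inv_hom_id_assoc])
  refine ⟨q ≫ m, ?_⟩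
  rw [Category.assoc, hm, ← Category.assoc]
  have : q ≫ Over.homMk (⊤ : N.left.Opens).ι rfl = 𝟙 N := Over.OverMorphism.ext N.left.topIso.inv_hom_id
  rw [this, Category.id_comp]

end torsor

variable {k : Type u} [Field k] [IsAlgClosed k]
  {G : Over (Spec (CommRingCat.of k))} [GrpObj G] [IsAffine G.left] [Smooth G.hom] [ConnectedSpace G.left]
  {B : Over (Spec (CommRingCat.of k))} [GrpObj B] {iB : B ⟶ G}

/-- **A Borel subgroup is its own scheme-theoretic normaliser.** -/
theorem isNormalizerOf_self (hB : Red.IsBorelOver k iB) : Red.IsNormalizerOf iB iB := by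
  obtain ⟨hBi, hBc, hBs, hBconn, -, -⟩ := id hB
  haveI := hBi; haveI := hBc; haveI := hBs; haveI := hBconn
  haveI : Mono iB := DiagRep.mono_of_isClosedImmersion iB hBc
  refine ⟨hBi, inferInstance, fun X g => ⟨?_, fun hg => ?_⟩⟩
  · rintro ⟨z, rfl⟩ X' x h
    exact ⟨⟨(x ≫ z) * h * (x ≫ z)⁻¹, by simp only [MonObj.mul_comp, GrpObj.inv_comp, Category.assoc]⟩,
      ⟨(x ≫ z)⁻¹ * h * (x ≫ z), by simp only [MonObj.mul_comp, GrpObj.inv_comp, Category.assoc]⟩⟩
  haveI : IsAffine B.left := isAffine_of_isAffineHom iB.left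
  haveI : QuasiCompact G.hom := inferInstance
  haveI : QuasiCompact B.hom := inferInstance
  haveI : QuasiSeparated B.hom := inferInstance
  haveI : QuasiSeparated G.hom := inferInstance
  haveI := CommSubLib.geometricallyIrreducible_of_connected B
  obtain ⟨N, _, n, hN, hnc, hnf⟩ := Groth.Agent.S5260.result G B (fun s => by
    haveI : IrreducibleSpace ↥(pullback B.hom ((Spec (CommRingCat.of k)).fromSpecResidueField s)) :=
      GeometricallyIrreducible.geometrically_irreducibleSpace (f := B.hom) _ _ _ (IsPullback.of_hasPullback _ _)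
    infer_instance) iB
  haveI := hN.1; haveI := hnc
  obtain ⟨z, rfl⟩ := (hN.2.2 X g).2 hg
  suffices h : ∃ m : N ⟶ B, m ≫ iB = n by
    obtain ⟨m, hm⟩ := h
    exact ⟨z ≫ m, by rw [Category.assoc, hm]⟩
  obtain ⟨A, _, _, v, hv, hA, -⟩ := exists_setup G
  haveI := hv; haveI := hA
  obtain ⟨hKc, hK⟩ := facts_top v
  have hbor := isBor_ptsSub v hB
  obtain ⟨S₀, hS₀, -⟩ := exists_isMaxTor hKc hK
  obtain ⟨a, -, ha⟩ := hbor.exists_conj_le hKc hK le_top hS₀.tor.conn hS₀.tor.isSol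
  obtain ⟨T, _, iT, hiT, hmT, hicT, hT, hiT', hpT⟩ := exists_torus_sub v (hS₀.tor.conjSub a)
  haveI := hiT; haveI := hmT; haveI := hicT
  have hTM : IsMaxTor ⊤ (ptsSub v iT) := by
    rw [hpT]
    refine ⟨le_top, hS₀.tor.conjSub a, fun S _ hS hle => ?_⟩
    have h := hS₀.maximal (conjSub a⁻¹ S) le_top (hS.conjSub _) (by
      have := conjSub_mono (a := a⁻¹) hle
      rwa [conjSub_conjSub, inv_mul_cancel, conjSub_one] at this)
    rw [← h, conjSub_conjSub, mul_inv_cancel, conjSub_one]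
  have hTmax := isMaxTorus_of_isMaxTor v hT hTM
  obtain ⟨-, hredT⟩ := facts_torus v (iT := iT) inferInstance hT
  haveI := hredT
  haveI : LocallyOfFiniteType T.hom := by rw [← Over.w iT]; infer_instance
  obtain ⟨t, ht⟩ := exists_factor_of_le v (i := iT) (i' := iB) (hpT.symm ▸ ha)
  haveI : IsMonHom (t ≫ iB) := ht ▸ hiT
  haveI : IsMonHom t := DiagRep.isMonHom_of_comp_mono t iB
  obtain ⟨⟨C, _, c, hc, -, -⟩, -⟩ := Groth.Agent.S3006.result _ G T iT hicT hT
  obtain ⟨f, hf⟩ := exists_factor_cartan iT hTmax hc hB ht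
  have hMT : SGA3x.IsMultTypeFT T := by
    obtain ⟨S', φ, hflat, hsurj, hcov, hloc⟩ := hT
    refine ⟨S', φ, hflat, hsurj, hcov, fun x => ?_⟩
    obtain ⟨U, hU, r, hr⟩ := hloc x
    exact ⟨U, hU, (Fin r → ℤ), inferInstance, inferInstance, hr⟩
  haveI : LocallyOfFiniteType N.hom := by rw [← Over.w n]; infer_instance
  haveI : JacobsonSpace N.left := LocallyOfFiniteType.jacobsonSpace N.hom
  haveI : IsAffineHom B.hom := inferInstance
  refine exists_factor_of_transporter (Groth.Agent.Transporter.locally_of_isMultTypeFT hMT) ht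
    (fun X g hg => ?_) (fun X' x h => ((hN.2.2 N n).1 ⟨𝟙 N, Category.id_comp n⟩ X' x h).1) fun U hU hmem => ?_
  · obtain ⟨w, hw⟩ := (hc.2.2 X g).2 hg
    exact ⟨w ≫ f, by rw [Category.assoc, hf, hw]⟩
  · by_contra hne
    obtain ⟨y, hy, hyc⟩ := nonempty_inter_closedPoints (Z := Uᶜ) (Set.nonempty_compl.2 hne)
      hU.isClosed_compl.isLocallyClosed
    obtain ⟨p, hp⟩ := AVAmpleLib.exists_pt_eq y hyc
    obtain ⟨x, hx⟩ := (ptEquiv v).surjective (p ≫ n)
    have hxn : x ∈ ptsSub v n := (mem_ptsSub v).2 ⟨p, hx.symm⟩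
    obtain ⟨b, hb⟩ := (mem_ptsSub v).1 (hbor.mem_of_normalizing hKc hK (x := x) trivial
      (conjSub_eq_of_normalizer v hN hxn))
    let X₀ : Over N.left := Over.mk p.left
    let ε : (Over.map N.hom).obj X₀ ≅ 𝟙_ (Over (Spec (CommRingCat.of k))) := Over.isoMk (Iso.refl _) (by
      show 𝟙 _ ≫ 𝟙 _ = p.left ≫ N.hom
      rw [Category.id_comp]; exact (Over.w p).symm)
    refine hy (hmem X₀ ⟨ε.hom ≫ b, ?_⟩ ⟨IsLocalRing.closedPoint k, hp⟩)
    rw [Category.assoc, hb, hx, ← Category.assoc]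
    congr 1

end Groth.Agent.BorelLib

end
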