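import Groth.Agent.BorelLib.NonAffBorelConn
import Groth.Agent.BorelLib.SelfNorm

/-!
# Borel subgroups of connected groups are their own normalisers
-/

set_option autoImplicit false
set_option linter.style.haveILetI false
set_option linter.unusedSectionVars false
set_option backward.isDefEq.respectTransparency false
set_option maxHeartbeats 1000000
set_option synthInstance.maxHeartbeats 400000

universe u

open CategoryTheory CategoryTheory.Limits MonoidalCategory CartesianMonoidalCategory AlgebraicGeometry WithConv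
open scoped MonObj
open CoactBr (sp)

noncomputable section

attribute [-instance] CategoryTheory.Hom.commGroup

namespace Groth.Agent.BorelLib.NA

attribute [local instance] pTop pTopTensor

variable {k : Type u} [Field k] [IsAlgClosed k] {G B : Over (Spec (CommRingCat.of k))} [GrpObj G] [GrpObj B]
  [Smooth G.hom] [QuasiCompact G.hom] [ConnectedSpace G.left] {b : B ⟶ G}

/-- **A Borel subgroup of a connected group is its own scheme-theoretic normaliser.** -/
theorem isNormalizerOf_self (hB : Red.IsBorelOver k b) : Red.IsNormalizerOf b b := by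
  obtain ⟨hBi, hBc, hBs, hBconn, -, -⟩ := id hB
  haveI := hBi; haveI := hBc; haveI := hBs; haveI := hBconn
  haveI : Mono b := DiagRep.mono_of_isClosedImmersion b hBc
  refine ⟨hBi, inferInstance, fun X g => ⟨?_, fun hg => ?_⟩⟩
  · rintro ⟨z, rfl⟩ X' x h
    exact ⟨⟨(x ≫ z) * h * (x ≫ z)⁻¹, by simp only [MonObj.mul_comp, GrpObj.inv_comp, Category.assoc]⟩,
      ⟨(x ≫ z)⁻¹ * h * (x ≫ z), by simp only [MonObj.mul_comp, GrpObj.inv_comp, Category.assoc]⟩⟩
  haveI : IsSeparated G.hom := Groth.Agent.GrpField.isSeparated_grp (G := G)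
  haveI : QuasiCompact B.hom := by rw [← Over.w b]; infer_instance
  haveI : IsSeparated B.hom := Groth.Agent.GrpField.isSeparated_grp (G := B)
  haveI : QuasiSeparated B.hom := inferInstance
  haveI : QuasiSeparated G.hom := inferInstance
  haveI := CommSubLib.geometricallyIrreducible_of_connected B
  obtain ⟨N, _, n, hN, hnc, hnf⟩ := Groth.Agent.S5260.result G B (fun s => by
    haveI : IrreducibleSpace ↥(pullback B.hom ((Spec (CommRingCat.of k)).fromSpecResidueField s)) :=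
      GeometricallyIrreducible.geometrically_irreducibleSpace (f := B.hom) _ _ _ (IsPullback.of_hasPullback _ _)
    infer_instance) b
  haveI := hN.1; haveI := hnc
  obtain ⟨z, rfl⟩ := (hN.2.2 X g).2 hg
  suffices h : ∃ m : N ⟶ B, m ≫ b = n by
    obtain ⟨m, hm⟩ := h
    exact ⟨z ≫ m, by rw [Category.assoc, hm]⟩
  obtain ⟨S⟩ := exists_split (G := G)
  obtain ⟨A, _, _, v, hv, hA, -⟩ := exists_setup S.L
  haveI := hv; haveI := hA
  haveI : Mono S.l := DiagRep.mono_of_isClosedImmersion S.l inferInstance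
  obtain ⟨hD, hbor⟩ := facts_of_isBorelOver S v b hB
  obtain ⟨hKc, hK⟩ := facts_top v
  obtain ⟨S₀, hS₀, -⟩ := exists_isMaxTor hKc hK
  obtain ⟨a, -, ha⟩ := hbor.exists_conj_le hKc hK le_top hS₀.tor.conn hS₀.tor.isSol
  obtain ⟨T, _, j, hjm, hjmo, hjc, hT, hj', hpT⟩ := exists_torus_sub v (hS₀.tor.conjSub a)
  haveI := hjm; haveI := hjmo; haveI := hjc
  have hTM : IsMaxTor ⊤ (ptsSub v j) := by
    rw [hpT]
    refine ⟨le_top, hS₀.tor.conjSub a, fun R _ hR hle => ?_⟩
    have h := hS₀.maximal (conjSub a⁻¹ R) le_top (hR.conjSub _) (by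
      have := conjSub_mono (a := a⁻¹) hle
      rwa [conjSub_conjSub, inv_mul_cancel, conjSub_one] at this)
    rw [← h, conjSub_conjSub, mul_inv_cancel, conjSub_one]
  have hTmax := isMaxTorus_of_isMaxTor v hT hTM
  obtain ⟨-, hTs, -, -, hTr, -⟩ := torus_props j hT
  haveI := hTs; haveI := hTr
  haveI : LocallyOfFiniteType T.hom := inferInstance
  haveI : Mono (j ≫ S.l) := mono_comp _ _
  obtain ⟨t, ht⟩ := exists_factor_of_pts (j ≫ S.l) b fun w => by
    obtain ⟨x, hx⟩ := (ptEquiv v).surjective (w ≫ j)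
    obtain ⟨c, hc⟩ := (mem_lpart S v b).1 (ha (hpT ▸ (mem_ptsSub v).2 ⟨w, hx.symm⟩ : x ∈ conjSub a S₀))
    exact ⟨c, by rw [hc, hx, Category.assoc]⟩
  haveI : IsMonHom (t ≫ b) := by rw [ht]; infer_instance
  haveI : IsMonHom t := DiagRep.isMonHom_of_comp_mono t b
  obtain ⟨⟨Z, _, z', hz, hzc, hzs⟩, -⟩ := Groth.Agent.S3006.result _ G T (j ≫ S.l)
    (by rw [Over.comp_left]; infer_instance) hT
  obtain ⟨⟨CL, _, cL, hcL, -, hcLs⟩, -⟩ := Groth.Agent.S3006.result _ S.L T j hjc hT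
  haveI := hzc; haveI := hzs; haveI := hcLs
  obtain ⟨BL, _, iBL, hiBL, hBL, hBLpts⟩ := BorelLib.exists_borel_of_isBor v hbor
  haveI := hiBL; haveI := hBL.2.1
  obtain ⟨tL, htL⟩ := exists_factor_of_le v (i := j) (i' := iBL) (by rw [hBLpts, hpT]; exact ha)
  obtain ⟨φ, hφ⟩ := exists_factor_cartan j hTmax hcL hBL htL
  haveI : AlgebraicGeometry.IsReduced Z.left := AlgSpLib.isReduced_of_smooth Z.hom
  obtain ⟨u, hu⟩ := exists_factor_of_pts z' b fun w => by
    obtain ⟨l, d, hld⟩ := S.hmul (w ≫ z')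
    obtain ⟨y, hy⟩ := (hcL.2.2 _ l).2 ((commutes_iff S j l d).1 fun X' x h => by
      rw [hld]; exact (hz.2.2 _ (w ≫ z')).1 ⟨w, rfl⟩ X' x h)
    obtain ⟨x, rfl⟩ := (ptEquiv v).surjective l
    refine (pts_iff S v b hD _).2 ⟨x, ?_, d, hld⟩
    rw [← hBLpts]
    exact (mem_ptsSub v).2 ⟨y ≫ φ, by rw [Category.assoc, hφ, hy]⟩
  have hMT : SGA3x.IsMultTypeFT T := by
    obtain ⟨S', φ', hflat, hsurj, hcov, hloc⟩ := hT
    refine ⟨S', φ', hflat, hsurj, hcov, fun x => ?_⟩
    obtain ⟨U, hU, r, hr⟩ := hloc x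
    exact ⟨U, hU, (Fin r → ℤ), inferInstance, inferInstance, hr⟩
  haveI : LocallyOfFiniteType N.hom := by rw [← Over.w n]; infer_instance
  haveI : JacobsonSpace N.left := LocallyOfFiniteType.jacobsonSpace N.hom
  refine exists_factor_of_transporter (Groth.Agent.Transporter.locally_of_isMultTypeFT hMT) ht
    (fun X g hg => ?_) (fun X' x h => ((hN.2.2 N n).1 ⟨𝟙 N, Category.id_comp n⟩ X' x h).1) fun U hU hmem => ?_
  · obtain ⟨w, hw⟩ := (hz.2.2 X g).2 hg
    exact ⟨w ≫ u, by rw [Category.assoc, hu, hw]⟩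
  · by_contra hne
    obtain ⟨y, hy, hyc⟩ := nonempty_inter_closedPoints (Z := Uᶜ) (Set.nonempty_compl.2 hne)
      hU.isClosed_compl.isLocallyClosed
    obtain ⟨p, hp⟩ := AVAmpleLib.exists_pt_eq y hyc
    obtain ⟨l, d, hld⟩ := S.hmul (p ≫ n)
    obtain ⟨x, rfl⟩ := (ptEquiv v).surjective l
    have hconjEq : ∀ q : Pt k A, (toG S v x * (d ≫ S.d)) * toG S v q * (toG S v x * (d ≫ S.d))⁻¹ =
        toG S v (x * q * x⁻¹) ∧
        (toG S v x * (d ≫ S.d))⁻¹ * toG S v q * (toG S v x * (d ≫ S.d)) = toG S v (x⁻¹ * q * x) := fun q => by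
      rw [map_mul, map_mul, map_inv, map_mul, map_mul, map_inv]
      set D := d ≫ S.d
      have hc : ∀ m : RPt G, D * m = m * D := fun m => S.hcentral _ d m
      constructor
      · rw [_root_.mul_inv_rev, _root_.mul_assoc (toG S v x) D, hc (toG S v q)]; group
      · calc _ = D⁻¹ * ((toG S v x)⁻¹ * toG S v q * toG S v x * D) := by group
          _ = D⁻¹ * (D * ((toG S v x)⁻¹ * toG S v q * toG S v x)) := by rw [← hc]
          _ = _ := by group
    have hmemN : ∀ q ∈ lpart S v b, x * q * x⁻¹ ∈ lpart S v b ∧ x⁻¹ * q * x ∈ lpart S v b := fun q hq => by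
      obtain ⟨c, hc⟩ := (mem_lpart S v b).1 hq
      obtain ⟨⟨c₁, h1⟩, ⟨c₂, h2⟩⟩ := (hN.2.2 _ (p ≫ n)).1 ⟨p, rfl⟩ _ (𝟙 _) c
      simp only [Category.id_comp] at h1 h2
      rw [← hld, hc] at h1 h2
      exact ⟨(mem_lpart S v b).2 ⟨c₁, h1.symm.trans (hconjEq q).1⟩,
        (mem_lpart S v b).2 ⟨c₂, h2.symm.trans (hconjEq q).2⟩⟩
    have hnorm : conjSub x (lpart S v b) = lpart S v b := by
      ext q
      rw [mem_conjSub]
      refine ⟨fun hq => ?_, fun hq => (hmemN q hq).2⟩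
      have := (hmemN _ hq).1
      simpa [_root_.mul_assoc] using this
    obtain ⟨c, hc⟩ := (pts_iff S v b hD _).2 ⟨x, hbor.mem_of_normalizing hKc hK trivial hnorm, d, hld⟩
    let X₀ : Over N.left := Over.mk p.left
    let ε : (Over.map N.hom).obj X₀ ≅ 𝟙_ (Over (Spec (CommRingCat.of k))) := Over.isoMk (Iso.refl _) (by
      show 𝟙 _ ≫ 𝟙 _ = p.left ≫ N.hom
      rw [Category.id_comp]; exact (Over.w p).symm)
    refine hy (hmem X₀ ⟨ε.hom ≫ c, ?_⟩ ⟨IsLocalRing.closedPoint k, hp⟩)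
    rw [Category.assoc, hc, ← Category.assoc]
    congr 1

end Groth.Agent.BorelLib.NA

end
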