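import Groth.Agent.BorelLib.NonAffBasic
import Groth.Agent.BorelLib.MaxTorGeom
import Groth.Agent.S3901
import Groth.Agent.S3908
import Groth.Agent.S3006

/-!
# Tori in smooth connected groups which need not be affine
-/

set_option autoImplicit false
set_option linter.style.haveILetI false
set_option linter.unusedSectionVars false
set_option backward.isDefEq.respectTransparency false

universe u

open CategoryTheory CategoryTheory.Limits MonoidalCategory CartesianMonoidalCategory AlgebraicGeometry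
open scoped MonObj

noncomputable section

attribute [-instance] CategoryTheory.Hom.commGroup

namespace Groth.Agent.BorelLib.NA

variable {k : Type u} [Field k] [IsAlgClosed k] {G : Over (Spec (CommRingCat.of k))} [GrpObj G] [Smooth G.hom]
  [QuasiCompact G.hom] {T : Over (Spec (CommRingCat.of k))} [GrpObj T]

/-- A torus is a smooth connected affine group, and closed in every group containing it. -/
theorem torus_props (i : T ⟶ G) [IsMonHom i] [Mono i] (hT : Red.IsTorus T) :
    IsAffine T.left ∧ Smooth T.hom ∧ ConnectedSpace T.left ∧ QuasiCompact T.hom ∧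
      AlgebraicGeometry.IsReduced T.left ∧ IsClosedImmersion i.left := by
  obtain ⟨r, w, -, -, hred, hirr, hlft, haff⟩ := torus_facts hT
  haveI := hred; haveI := hirr; haveI := hlft; haveI := haff
  haveI : IsSeparated G.hom := Groth.Agent.GrpField.isSeparated_grp (G := G)
  haveI : QuasiCompact i.left := by
    haveI : QuasiCompact (i.left ≫ G.hom) := by rw [Over.w i]; infer_instance
    exact QuasiCompact.of_comp i.left G.hom
  refine ⟨haff, ?_, inferInstance, inferInstance, hred, GrpHom.isClosedImmersion_of_mono i⟩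
  obtain ⟨C, _, c, hc, hcc, hcs, hpts, -⟩ : ∃ (C : Over (Spec (CommRingCat.of k))) (_ : GrpObj C) (c : C ⟶ T),
      IsMonHom c ∧ IsClosedImmersion c.left ∧ Smooth C.hom ∧
        (∀ g : RPt T, ∃ b : RPt C, b ≫ c = g) ∧ True := by
    haveI : IsSeparated T.hom := Groth.Agent.GrpField.isSeparated_grp (G := T)
    obtain ⟨C, _, c, hc, hcc, hcs, hr⟩ := DenseSubLib.exists_smooth_subgroup (A := T) (⊤ : Subgroup (RPt T))
    haveI := hcc
    refine ⟨C, inferInstance, c, hc, hcc, hcs, fun g => ?_, trivial⟩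
    haveI : LocallyOfFiniteType C.hom := by rw [← Over.w c]; infer_instance
    obtain ⟨z, hz⟩ : g.left (IsLocalRing.closedPoint k) ∈ Set.range c.left := by
      rw [hr]; exact subset_closure ⟨g, Subgroup.mem_top g, rfl⟩
    obtain ⟨b, hb⟩ := NRQuotLib.exists_pt_mem (X := C) (Z := c.left ⁻¹' {NRQuotLib.pt g}) ⟨z, hz⟩
      ((NRQuotLib.isClosed_pt g).preimage c.left.continuous)
    exact ⟨b, Over.OverMorphism.ext (ext_of_apply_closedPoint_eq T.hom (Over.w _) (Over.w _) hb)⟩
  haveI := hcc; haveI := hcs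
  haveI : AlgebraicGeometry.IsReduced C.left := AlgSpLib.isReduced_of_smooth C.hom
  haveI : IsClosedImmersion (𝟙 T : T ⟶ T).left := inferInstanceAs (IsClosedImmersion (𝟙 T.left))
  obtain ⟨e, -⟩ := exists_iso_of_pts (G := T) c (𝟙 T) fun a => ⟨fun _ => ⟨a, Category.comp_id a⟩, fun _ => hpts a⟩
  haveI : IsIso e.inv.left := (Over.forget _).map_isIso e.inv
  rw [← Over.w e.inv]; infer_instance

variable [ConnectedSpace G.left] (S : Split G)

/-- Tori lie in the affine part. -/
theorem exists_lift_torus (i : T ⟶ G) [IsMonHom i] [Mono i] (hT : Red.IsTorus T) :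
    ∃ j : T ⟶ S.L, j ≫ S.l = i ∧ IsMonHom j ∧ Mono j := by
  obtain ⟨ha, hs, hc, -, -, -⟩ := torus_props i hT
  haveI := ha; haveI := hs; haveI := hc
  obtain ⟨j, hj⟩ := S.hfac T i
  haveI : Mono S.l := DiagRep.mono_of_isClosedImmersion S.l inferInstance
  haveI : IsMonHom (j ≫ S.l) := hj ▸ ‹IsMonHom i›
  haveI : Mono (j ≫ S.l) := hj ▸ ‹Mono i›
  exact ⟨j, hj, DiagRep.isMonHom_of_comp_mono j S.l, mono_of_mono j S.l⟩

/-- Maximality of a torus can be tested in the affine part. -/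
theorem isMaxTorus_iff {j : T ⟶ S.L} : AGF.IsMaxTorus (j ≫ S.l) ↔ AGF.IsMaxTorus j := by
  haveI : Mono S.l := DiagRep.mono_of_isClosedImmersion S.l inferInstance
  constructor
  · rintro ⟨h1, h2, h3, h4⟩
    haveI := h1; haveI := h2
    exact ⟨DiagRep.isMonHom_of_comp_mono j S.l, mono_of_mono j S.l, h3,
      fun T' _ j' _ _ f hT' hf => h4 T' (j' ≫ S.l) f hT' (by rw [← Category.assoc, hf])⟩
  · rintro ⟨h1, h2, h3, h4⟩
    haveI := h1; haveI := h2
    refine ⟨inferInstance, mono_comp _ _, h3, fun T' _ j' _ _ f hT' hf => ?_⟩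
    obtain ⟨j'', hj'', hm, hmo⟩ := exists_lift_torus S j' hT'
    haveI := hm; haveI := hmo
    exact h4 T' j'' f hT' (by rw [← cancel_mono S.l, Category.assoc, hj'', hf])

omit [ConnectedSpace G.left] in
/-- **Conjugacy of maximal tori.** -/
theorem maxTorus_conj [ConnectedSpace G.left] {T' : Over (Spec (CommRingCat.of k))} [GrpObj T'] {i : T ⟶ G}
    {i' : T' ⟶ G} (h : AGF.IsMaxTorus i) (h' : AGF.IsMaxTorus i') :
    ∃ g : RPt G, SGA3x.ConjBy i i' g := by
  obtain ⟨S⟩ := exists_split (G := G)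
  haveI := h.1; haveI := h.2.1; haveI := h'.1; haveI := h'.2.1
  obtain ⟨j, rfl, -, -⟩ := exists_lift_torus S i h.2.2.1
  obtain ⟨j', rfl, -, -⟩ := exists_lift_torus S i' h'.2.2.1
  obtain ⟨g, f, hf⟩ := Groth.Agent.S3901.result k S.L T T' j j' ((isMaxTorus_iff S).1 h) ((isMaxTorus_iff S).1 h')
  refine ⟨g ≫ S.l, f, ?_⟩
  rw [← Category.assoc f.hom, hf]
  simp only [AGF.conjBy, MonObj.mul_comp, GrpObj.inv_comp, Category.assoc]

/-- A point commutes with a torus as soon as its affine component does. -/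
theorem commutes_iff (j : T ⟶ S.L) {X : Over (Spec (CommRingCat.of k))} (a : X ⟶ S.L) (b : X ⟶ S.D) :
    (∀ (X' : Over (Spec (CommRingCat.of k))) (x : X' ⟶ X) (h : X' ⟶ T),
      (x ≫ ((a ≫ S.l) * (b ≫ S.d))) * (h ≫ j ≫ S.l) = (h ≫ j ≫ S.l) * (x ≫ ((a ≫ S.l) * (b ≫ S.d)))) ↔
    ∀ (X' : Over (Spec (CommRingCat.of k))) (x : X' ⟶ X) (h : X' ⟶ T),
      (x ≫ a) * (h ≫ j) = (h ≫ j) * (x ≫ a) := by
  haveI : Mono S.l := DiagRep.mono_of_isClosedImmersion S.l inferInstance
  refine forall_congr' fun X' => forall_congr' fun x => forall_congr' fun h => ?_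
  rw [MonObj.comp_mul, ← Category.assoc x b, _root_.mul_assoc (x ≫ a ≫ S.l), S.hcentral, ← _root_.mul_assoc,
    ← _root_.mul_assoc (h ≫ j ≫ S.l), mul_left_inj, ← cancel_mono S.l, MonObj.mul_comp, MonObj.mul_comp]
  simp only [Category.assoc]

/-- **The centraliser of a torus in a connected group is smooth, closed and connected.** -/
theorem centralizer_torus (j : T ⟶ S.L) [IsMonHom j] [Mono j] (hT : Red.IsTorus T)
    {C : Over (Spec (CommRingCat.of k))} [GrpObj C] {c : C ⟶ G} (hc : Red.IsCentralizerOf (j ≫ S.l) c) :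
    Smooth C.hom ∧ IsClosedImmersion c.left ∧ ConnectedSpace C.left ∧
      ∀ g : RPt G, (∃ z : RPt C, z ≫ c = g) ↔ ∃ (a : RPt S.L) (b : RPt S.D), (a ≫ S.l) * (b ≫ S.d) = g ∧
        ∀ (X' : Over (Spec (CommRingCat.of k))) (x : X' ⟶ 𝟙_ _) (h : X' ⟶ T),
          (x ≫ a) * (h ≫ j) = (h ≫ j) * (x ≫ a) := by
  haveI : Mono S.l := DiagRep.mono_of_isClosedImmersion S.l inferInstance
  obtain ⟨haff, -, -, -, -, hcl⟩ := torus_props (j ≫ S.l) hT
  obtain ⟨-, -, -, -, -, hclL⟩ := torus_props j hT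
  haveI : IsSeparated G.hom := Groth.Agent.GrpField.isSeparated_grp (G := G)
  obtain ⟨⟨Z, _, z, hz, hzc, hzs⟩, -⟩ := Groth.Agent.S3006.result _ G T (j ≫ S.l) hcl hT
  obtain ⟨u, hu⟩ := (hz.2.2 C c).2 ((hc.2.2 C c).1 ⟨𝟙 C, Category.id_comp c⟩)
  obtain ⟨w, hw⟩ := (hc.2.2 Z z).2 ((hz.2.2 Z z).1 ⟨𝟙 Z, Category.id_comp z⟩)
  haveI := hz.2.1; haveI := hc.2.1
  haveI : IsIso u := ⟨w, by rw [← cancel_mono c, Category.assoc, hw, hu, Category.id_comp],
    by rw [← cancel_mono z, Category.assoc, hu, hw, Category.id_comp]⟩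
  haveI : IsIso u.left := (Over.forget _).map_isIso u
  haveI := hzc; haveI := hzs
  have hCs : Smooth C.hom := by rw [← Over.w u]; infer_instance
  have hCc : IsClosedImmersion c.left := by rw [← hu, Over.comp_left]; infer_instance
  haveI := hCs; haveI := hCc
  have hpts : ∀ g : RPt G, (∃ z : RPt C, z ≫ c = g) ↔ ∃ (a : RPt S.L) (b : RPt S.D), (a ≫ S.l) * (b ≫ S.d) = g ∧
      ∀ (X' : Over (Spec (CommRingCat.of k))) (x : X' ⟶ 𝟙_ _) (h : X' ⟶ T),
        (x ≫ a) * (h ≫ j) = (h ≫ j) * (x ≫ a) := by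
    intro g
    rw [hc.2.2 _ g]
    constructor
    · intro h
      obtain ⟨a, b, rfl⟩ := S.hmul g
      exact ⟨a, b, rfl, (commutes_iff S j a b).1 h⟩
    · rintro ⟨a, b, rfl, h⟩
      exact (commutes_iff S j a b).2 h
  refine ⟨hCs, hCc, ?_, hpts⟩
  obtain ⟨⟨CL, _, cL, hcL, hcLc, hcLs⟩, -⟩ := Groth.Agent.S3006.result _ S.L T j hclL hT
  haveI := hcL.1; haveI := hcLc; haveI := hcLs
  haveI : ConnectedSpace CL.left := Groth.Agent.S3908.result k S.L T j hT CL cL hcL
  haveI : IsAffine CL.left := isAffine_of_isAffineHom cL.left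
  haveI : QuasiCompact CL.hom := inferInstance
  haveI := S.smooth_prod (P := CL); haveI := S.qc_prod (P := CL); haveI := S.connected_prod (P := CL)
  obtain ⟨C', _, c', hc', hc'c, hc's, hc'pts, hc'conn⟩ := exists_image (S.prodHom (cL ≫ S.l))
  haveI := hc'c; haveI := hc's; haveI := hc'conn inferInstance
  haveI : AlgebraicGeometry.IsReduced C.left := AlgSpLib.isReduced_of_smooth C.hom
  haveI : AlgebraicGeometry.IsReduced C'.left := AlgSpLib.isReduced_of_smooth C'.hom
  obtain ⟨e, -⟩ := exists_iso_of_pts c' c fun g => by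
    rw [hc'pts, hpts]
    constructor
    · rintro ⟨p, rfl⟩
      exact ⟨p ≫ fst CL S.D ≫ cL, p ≫ snd CL S.D, by simp only [S.comp_prodHom, Category.assoc],
        (hcL.2.2 _ _).1 ⟨p ≫ fst CL S.D, Category.assoc _ _ _⟩⟩
    · rintro ⟨a, b, rfl, h⟩
      obtain ⟨a', ha'⟩ := (hcL.2.2 _ a).2 h
      exact ⟨lift a' b, by rw [S.lift_prodHom, ← Category.assoc, ha']⟩
  haveI : IsIso e.hom.left := (Over.forget _).map_isIso e.hom
  exact (show Function.Surjective e.hom.left.base from e.hom.left.surjective).connectedSpace e.hom.left.continuous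

end Groth.Agent.BorelLib.NA

end
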