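import Groth.Agent.BorelLib.ImageField
import Groth.Agent.BorelLib.Surj
import Groth.Agent.BorelLib.NonAffBasic
import Groth.Agent.GrpSchLib.Cartier

/-!
# Images and preimages of parabolic subgroups
-/

set_option autoImplicit false
set_option linter.style.haveILetI false
set_option linter.unusedSectionVars false
set_option backward.isDefEq.respectTransparency false
set_option maxHeartbeats 1000000
set_option synthInstance.maxHeartbeats 400000

universe u

open CategoryTheory CategoryTheory.Limits MonoidalCategory CartesianMonoidalCategory AlgebraicGeometry WithConv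
open scoped MonObj
open CoactBr (sp)

noncomputable section

attribute [-instance] CategoryTheory.Hom.commGroup

namespace Groth.Agent.BorelLib

attribute [local instance] pTop pTopTensor

variable {k : Type u} [Field k] [IsAlgClosed k] {G Q : Over (Spec (CommRingCat.of k))} [GrpObj G]
  [IsAffine G.left] [Smooth G.hom] [GrpObj Q] [IsAffine Q.left] [Smooth Q.hom] (q : G ⟶ Q) [IsMonHom q]
  [Surjective q.left]
  {A A' : Type u} [CommRing A] [HopfAlgebra k A] [Algebra.FiniteType k A] [CommRing A'] [HopfAlgebra k A']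
  [Algebra.FiniteType k A'] (v : sp k A ≅ G) [IsMonHom v.hom] (w : sp k A' ≅ Q) [IsMonHom w.hom]

/-- A surjective homomorphism on points. -/
theorem exists_ptsHom : ∃ f : Pt k A →* Pt k A', IsMor f ∧ Function.Surjective f ∧
    ∀ x, ptEquiv w (f x) = ptEquiv v x ≫ q := by
  let f : Pt k A →* Pt k A' := ((ptEquiv w).symm.toMonoidHom.comp (ptHom q)).comp (ptEquiv v).toMonoidHom
  have hfφ : ∀ x, ptEquiv w (f x) = ptEquiv v x ≫ q := fun x => (ptEquiv w).apply_symm_apply _
  refine ⟨f, ?_, fun y => ?_, hfφ⟩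
  · obtain ⟨F, ⟨φ, hφ⟩, hF⟩ := exists_isMor v w q
    exact ⟨φ, fun x => (ptEquiv w).injective (by rw [hfφ, ← hF, hφ])⟩
  · obtain ⟨g, hg⟩ := Groth.Agent.S14536.result k G Q q inferInstance (ptEquiv w y)
    refine ⟨(ptEquiv v).symm g, (ptEquiv w).injective ?_⟩
    rw [hfφ, MulEquiv.apply_symm_apply, hg]

variable [ConnectedSpace G.left] [ConnectedSpace Q.left]
  {P P' : Over (Spec (CommRingCat.of k))} [GrpObj P] [GrpObj P'] {iP : P ⟶ G} {iP' : P' ⟶ Q}

/-- The image of a parabolic subgroup. -/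
theorem isParabolicOver_image (hP : Red.IsParabolicOver k iP) [IsMonHom iP'] [IsClosedImmersion iP'.left]
    [AlgebraicGeometry.IsReduced P'.left] (p : P ⟶ P') (hp : p ≫ iP' = iP ≫ q) : Red.IsParabolicOver k iP' := by
  obtain ⟨A, _, _, v, hv, hA, -⟩ := exists_setup G
  haveI := hv; haveI := hA
  obtain ⟨A', _, _, w, hw, hA', -⟩ := exists_setup Q
  haveI := hw; haveI := hA'
  haveI : QuasiCompact G.hom := inferInstance
  haveI : QuasiCompact Q.hom := inferInstance
  obtain ⟨f, hfm, hfs, hfφ⟩ := exists_ptsHom q v w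
  obtain ⟨hiP, hiPc, hPs, B, _, b, hB⟩ := hP
  haveI := hiP; haveI := hiPc; haveI := hPs
  haveI : IsMonHom (b ≫ iP) := hB.1
  haveI : IsClosedImmersion (b ≫ iP).left := hB.2.1
  have hm := (isBor_ptsSub v hB).map hfm hfs (isPreconnected_univ_of_connected v)
  obtain ⟨C, _, iC, hiC, hC, hpts⟩ := exists_borel_of_isBor w hm
  haveI := hiC; haveI := hC.2.1; haveI := hC.2.2.1
  haveI : AlgebraicGeometry.IsReduced C.left := AlgSpLib.isReduced_of_smooth C.hom
  obtain ⟨c, hc⟩ := exists_factor_of_le w (i := iC) (i' := iP') (hpts.le.trans (by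
    rintro _ ⟨x, hx, rfl⟩
    obtain ⟨z, hz⟩ := (mem_ptsSub v).1 hx
    exact (mem_ptsSub w).2 ⟨z ≫ b ≫ p, by
      rw [hfφ, ← hz, Category.assoc, Category.assoc, Category.assoc, Category.assoc, hp]⟩))
  haveI : LocallyOfFiniteType P'.hom := by rw [← Over.w iP']; infer_instance
  exact ⟨inferInstance, inferInstance, GrpSchLib.smooth_of_isAlgClosed_of_isReduced P', C, inferInstance, c,
    hc.symm ▸ hC⟩

/-- A parabolic subgroup is the image of a parabolic subgroup. -/
theorem exists_parabolic_preimage (hP' : Red.IsParabolicOver k iP') :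
    ∃ (P : Over (Spec (CommRingCat.of k))) (_ : GrpObj P) (iP : P ⟶ G) (p : P ⟶ P'),
      Red.IsParabolicOver k iP ∧ Surjective p.left ∧ p ≫ iP' = iP ≫ q := by
  obtain ⟨A, _, _, v, hv, hA, -⟩ := exists_setup G
  haveI := hv; haveI := hA
  obtain ⟨A', _, _, w, hw, hA', -⟩ := exists_setup Q
  haveI := hw; haveI := hA'
  haveI : QuasiCompact G.hom := inferInstance
  haveI : QuasiCompact Q.hom := inferInstance
  obtain ⟨f, hfm, hfs, hfφ⟩ := exists_ptsHom q v w
  obtain ⟨hiP, hiPc, hPs, B', _, b', hB'⟩ := hP'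
  haveI := hiP; haveI := hiPc; haveI := hPs
  haveI : IsMonHom (b' ≫ iP') := hB'.1
  haveI : IsClosedImmersion (b' ≫ iP').left := hB'.2.1
  have hKc : IsClosed ((⊤ : Subgroup (Pt k A)) : Set (Pt k A)) := by rw [Subgroup.coe_top]; exact isClosed_univ
  have hK : _root_.IsPreconnected ((⊤ : Subgroup (Pt k A)) : Set (Pt k A)) := by
    rw [Subgroup.coe_top]; exact isPreconnected_univ_of_connected v
  have hKc' : IsClosed ((⊤ : Subgroup (Pt k A')) : Set (Pt k A')) := by rw [Subgroup.coe_top]; exact isClosed_univ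
  have hK' : _root_.IsPreconnected ((⊤ : Subgroup (Pt k A')) : Set (Pt k A')) := by
    rw [Subgroup.coe_top]; exact isPreconnected_univ_of_connected w
  obtain ⟨B₀, hB₀, -, -⟩ := IsBor.exists_conj_universal hKc hK
  obtain ⟨g, -, hg⟩ := (hB₀.map hfm hfs (isPreconnected_univ_of_connected v)).exists_conj hKc' hK'
    (isBor_ptsSub w hB')
  obtain ⟨g₀, rfl⟩ := hfs g
  rw [← map_conjSub] at hg
  have hcl : IsClosed ((ptsSub w iP').comap f : Set (Pt k A)) := (isClosed_ptsSub w).preimage hfm.continuous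
  obtain ⟨P, _, iP, hiP₀, hiPc₀, hPs₀, hptsP, -, -⟩ := exists_scheme_sub v hcl
  haveI := hiP₀; haveI := hiPc₀; haveI := hPs₀
  haveI : AlgebraicGeometry.IsReduced P.left := AlgSpLib.isReduced_of_smooth P.hom
  haveI : IsAffine P.left := isAffine_of_isAffineHom iP.left
  haveI : IsAffine P'.left := isAffine_of_isAffineHom iP'.left
  obtain ⟨p, hp⟩ := NA.exists_factor_of_pts (iP ≫ q) iP' fun a => by
    have hx : (ptEquiv v).symm (a ≫ iP) ∈ (ptsSub w iP').comap f :=
      hptsP.le ((mem_ptsSub v).2 ⟨a, ((ptEquiv v).apply_symm_apply _).symm⟩)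
    obtain ⟨z, hz⟩ := (mem_ptsSub w).1 hx
    exact ⟨z, by rw [hz, hfφ, MulEquiv.apply_symm_apply, Category.assoc]⟩
  obtain ⟨C, _, iC, hiC, hC, hpts⟩ := exists_borel_of_isBor v (hB₀.conjSub (Subgroup.mem_top g₀))
  haveI := hiC; haveI := hC.2.1; haveI := hC.2.2.1
  haveI : AlgebraicGeometry.IsReduced C.left := AlgSpLib.isReduced_of_smooth C.hom
  obtain ⟨c, hc⟩ := exists_factor_of_le v (i := iC) (i' := iP) (by
    rw [hpts, hptsP]
    intro x hx
    obtain ⟨z, hz⟩ := (mem_ptsSub w).1 (hg.le (Subgroup.mem_map_of_mem f hx))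
    exact (mem_ptsSub w).2 ⟨z ≫ b', by rw [Category.assoc, hz]⟩)
  refine ⟨P, inferInstance, iP, p, ⟨inferInstance, inferInstance, inferInstance, C, inferInstance, c, hc.symm ▸ hC⟩,
    surjective_of_pts p fun y => ?_, hp⟩
  obtain ⟨x, hx⟩ := hfs ((ptEquiv w).symm (y ≫ iP'))
  obtain ⟨z, hz⟩ := (mem_ptsSub v).1 (show x ∈ ptsSub v iP from hptsP.symm ▸ (mem_ptsSub w).2
    ⟨y, by rw [hx, MulEquiv.apply_symm_apply]⟩)
  refine ⟨z, ?_⟩
  haveI : Mono iP' := Groth.Agent.DiagRep.mono_of_isClosedImmersion iP' inferInstance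
  rw [← cancel_mono iP', Category.assoc, hp, ← Category.assoc, hz, ← hfφ, hx, MulEquiv.apply_symm_apply]

end Groth.Agent.BorelLib

end
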