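import Groth.Agent.BorelLib.RedPtsMore

/-!
# Semisimple groups of points are perfect
-/

set_option autoImplicit false
set_option linter.style.haveILetI false
set_option linter.unusedSectionVars false
set_option backward.isDefEq.respectTransparency false
set_option maxHeartbeats 1000000
set_option synthInstance.maxHeartbeats 400000

universe u

open CategoryTheory WithConv
open scoped TensorProduct MonObj commutatorElement

noncomputable section

attribute [-instance] CategoryTheory.Hom.commGroup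

namespace Groth.Agent.BorelLib

attribute [local instance] pTop pTopTensor

variable {k : Type u} [Field k] {A : Type u} [CommRing A] [HopfAlgebra k A] {K : Subgroup (Pt k A)}

section Slice

variable [IsAlgClosed k] {V : Type u} [AddCommGroup V] [Module k V] [FiniteDimensional k V]

/-- A closed cone meeting the kernel of a functional on a subspace only at the vertex has finite slices. -/
theorem finite_slice {Z : Set (Pt k (VPoly k V))} (hZc : IsClosed Z)
    (hcone : ∀ c : k, c ≠ 0 → ∀ y ∈ Z, vp (V := V) (c • pv y) ∈ Z) (W : Submodule k V) (F : V →ₗ[k] k)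
    (hker : ∀ y ∈ Z, pv y ∈ W → F (pv y) = 0 → pv (V := V) y = 0) (i : Fin (Module.finrank k V)) :
    ((fun y => vec y i) '' {y : Pt k (VPoly k V) | y ∈ Z ∧ pv y ∈ W ∧ F (pv y) = 1}).Finite := by
  let E : Set (Pt k (Polynomial k ⊗[k] VPoly k V)) :=
    {z | (sndP z ∈ Z ∧ pv (sndP z) ∈ W) ∧ lineCoord (fstP z) * vec (sndP z) i = F (pv (sndP z))}
  have hEc : IsClosed E := ((hZc.preimage IsMor.sndP.continuous).inter
    ((isClosed_pv_mem W).preimage IsMor.sndP.continuous)).inter
    (((isReg_lineCoord.comp IsMor.fstP).mul ((isReg_vec i).comp IsMor.sndP)).isClosed_eq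
      ((isReg_pv F).comp IsMor.sndP))
  have hEcone : IsConical E := by
    rintro c z hc ⟨⟨h1, h2⟩, h3⟩
    refine ⟨⟨?_, ?_⟩, ?_⟩ <;> simp only [fstP_pair, sndP_pair, vec_smul_eq, pv_vp]
    · exact hcone c hc _ h1
    · exact W.smul_mem c h2
    · rw [← vec_smul_eq, vec_ofVec, map_smul, Pi.smul_apply, smul_eq_mul, smul_eq_mul, ← h3]
      ring
  have hproj := isClosed_image_cone hEc hEcone
  have h0 : linePt (0 : k) ∉ fstP '' {z | z ∈ E ∧ vec (sndP z) ≠ 0} := by
    rintro ⟨z, ⟨⟨⟨h1, h2⟩, h3⟩, h4⟩, hz⟩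
    rw [hz, lineCoord_linePt, zero_mul] at h3
    exact h4 ((pv_eq_zero_iff _).1 (hker _ h1 h2 h3.symm))
  refine (((finite_lineCoord hproj h0).image fun u => u⁻¹).insert 0).subset ?_
  rintro _ ⟨y, ⟨hy, hyW, hy1⟩, rfl⟩
  by_cases hyi : vec y i = 0
  · exact Or.inl hyi
  refine Or.inr ⟨(vec y i)⁻¹, ⟨linePt (vec y i)⁻¹, ⟨pair (linePt (vec y i)⁻¹) y, ⟨⟨⟨?_, ?_⟩, ?_⟩, ?_⟩, ?_⟩, ?_⟩,
    inv_inv _⟩
  · simpa using hy
  · simpa using hyW
  · simp [hy1, hyi]
  · simp only [sndP_pair]
    exact fun e => hyi (congrFun e i)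
  · simp
  · simp

end Slice

variable [IsAlgClosed k] [Algebra.FiniteType k A] {T : Subgroup (Pt k A)}

/-- **A connected group centralised by the normaliser of a maximal torus, inside it, lies in every Borel subgroup.** -/
theorem le_radSub_of_commute_normalizer (hconn : _root_.IsPreconnected (Set.univ : Set (Pt k A)))
    (hT : IsMaxTor ⊤ T) {S : Subgroup (Pt k A)} (hST : S ≤ T) (hS : _root_.IsPreconnected (S : Set (Pt k A)))
    (hcen : ∀ n : Pt k A, conjSub n T = T → ∀ s ∈ S, n * s = s * n) : S ≤ radSub k A := by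
  classical
  have hKc : IsClosed ((⊤ : Subgroup (Pt k A)) : Set (Pt k A)) := by rw [Subgroup.coe_top]; exact isClosed_univ
  have hK : _root_.IsPreconnected ((⊤ : Subgroup (Pt k A)) : Set (Pt k A)) := by rwa [Subgroup.coe_top]
  obtain ⟨B₀, hB₀, -, -⟩ := IsBor.exists_conj_universal hKc hK
  obtain ⟨g₀, -, hg₀⟩ := hB₀.exists_conj_le hKc hK le_top hT.tor.conn hT.tor.isSol
  have hB := hB₀.conjSub (a := g₀⁻¹) trivial
  set B := conjSub g₀⁻¹ B₀ with hBdef
  have hTB : T ≤ B := by
    have := conjSub_mono (a := g₀⁻¹) hg₀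
    rwa [conjSub_conjSub, inv_mul_cancel, conjSub_one] at this
  obtain ⟨W, _, _, _, r, w, hw, hst, hC, -⟩ := hB.exists_cone_rep hconn
  obtain ⟨κ, _, b, χ, hχ, hb⟩ := hT.tor.exists_weight_basis r
  -- the character through which the group acts on the line of the Borel subgroup
  have hwS : ∀ s ∈ S, ∃ c : k, r.ρ s w = c • w := fun s hs => by
    have : s ∈ r.lineStab w := hst.symm ▸ hTB (hST hs)
    exact this.2
  obtain ⟨χ₀, hχ₀, hχ₀w⟩ := r.exists_reg_weight hw hwS
  -- torus weight vectors of the cone are eigenvectors of that character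
  have hwt : ∀ y ∈ r.cone w, r.IsWeight T (pv y) → ∀ s ∈ S, r.ρ s (pv y) = χ₀ s • pv y := by
    rintro y ⟨g, -, c, hy⟩ hyT s hs
    rcases eq_or_ne c 0 with rfl | hc
    · rw [hy, zero_smul, map_zero, smul_zero]
    have hTg : T ≤ conjSub g B := fun t ht => hst ▸ (r.mem_conjSub_lineStab g t).2 (by
      obtain ⟨a, ha⟩ := hyT t ht
      rw [hy, map_smul, smul_comm a c] at ha
      exact ⟨a, smul_right_injective _ hc ha⟩)
    obtain ⟨n, hnB, hnT⟩ := exists_conj_pair hconn hB hT hTB (hB.conjSub (a := g) trivial) hT hTg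
    have hb' : g⁻¹ * n ∈ B := hB.mem_of_normalizing hKc hK trivial (by
      rw [← conjSub_conjSub, hnB, conjSub_conjSub, inv_mul_cancel, conjSub_one])
    obtain ⟨a, ha⟩ := ((hst ▸ hb' : _ ∈ r.lineStab w)).2
    have hng : r.ρ n w = a • r.ρ g w := by
      rw [show n = g * (g⁻¹ * n) by group, r.mul_apply trivial trivial, ha, map_smul]
    have ha0 : a ≠ 0 := fun h => r.apply_ne_zero (g := n) trivial hw (by rw [hng, h, zero_smul])
    have hns : r.ρ s (r.ρ n w) = χ₀ s • r.ρ n w := by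
      rw [← r.mul_apply trivial trivial, ← hcen n hnT s hs, r.mul_apply trivial trivial, hχ₀w s hs, map_smul]
    rw [hng, map_smul, smul_comm (χ₀ s) a] at hns
    rw [hy, map_smul, smul_right_injective _ ha0 hns, smul_comm]
  -- the projection to the eigenspace of that character
  let Q : Module.End k W := b.constr k fun i => if ∀ s ∈ S, χ i s = χ₀ s then b i else 0
  have hQb : ∀ i, Q (b i) = if ∀ s ∈ S, χ i s = χ₀ s then b i else 0 := fun i => b.constr_basis k _ i
  have hQT : ∀ t ∈ T, ∀ x, Q (r.ρ t x) = r.ρ t (Q x) := fun t ht x => by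
    refine LinearMap.congr_fun (f := Q.comp (r.ρ t)) (g := (r.ρ t).comp Q) (b.ext fun i => ?_) x
    rw [LinearMap.comp_apply, LinearMap.comp_apply, hb i t ht, map_smul, hQb]
    split_ifs
    · rw [hb i t ht]
    · rw [map_zero, smul_zero]
  have hQS : ∀ s ∈ S, ∀ x, r.ρ s (Q x) = χ₀ s • Q x := fun s hs x => by
    refine LinearMap.congr_fun (f := (r.ρ s).comp Q) (g := χ₀ s • Q) (b.ext fun i => ?_) x
    rw [LinearMap.comp_apply, LinearMap.smul_apply, hQb]
    split_ifs with h
    · rw [hb i s (hST hs), h s hs]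
    · rw [map_zero, smul_zero]
  have hQfix : ∀ x, (∀ s ∈ S, r.ρ s x = χ₀ s • x) → Q x = x := fun x hx => by
    apply b.repr.injective
    ext i
    have hQr : b.repr (Q x) i = if ∀ s ∈ S, χ i s = χ₀ s then b.repr x i else 0 := by
      refine LinearMap.congr_fun (f := (b.coord i).comp Q)
        (g := if ∀ s ∈ S, χ i s = χ₀ s then b.coord i else 0) (b.ext fun j => ?_) x |>.trans ?_
      · rw [LinearMap.comp_apply, hQb]
        by_cases hij : j = i
        · subst hij; split_ifs <;> simp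
        · split_ifs <;> simp [hij]
      · split_ifs <;> simp
    rw [hQr]
    split_ifs with h
    · rfl
    push Not at h
    obtain ⟨s, hs, hne⟩ := h
    have hρ : b.repr (r.ρ s x) i = χ i s * b.repr x i := by
      refine LinearMap.congr_fun (f := (b.coord i).comp (r.ρ s)) (g := χ i s • b.coord i) (b.ext fun j => ?_) x
      rw [LinearMap.comp_apply, hb j s (hST hs)]
      by_cases hij : j = i
      · subst hij; simp
      · simp [hij]
    rw [hx s hs, map_smul, Finsupp.smul_apply, smul_eq_mul] at hρ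
    by_contra h0
    exact hne (mul_right_cancel₀ (Ne.symm h0) hρ).symm
  -- the cone meets the kernel of the projection only at the vertex
  have hkerQ : ∀ y ∈ r.cone w, Q (pv y) = 0 → pv (V := W) y = 0 := by
    by_contra hno
    push Not at hno
    obtain ⟨y, hy, hQy, hy0⟩ := hno
    obtain ⟨z, ⟨hz, hzQ⟩, hz0, hzw⟩ := r.exists_weight_in_cone le_top hT.tor.conn hT.tor.isSol
      (Z := r.cone w ∩ {y | pv y ∈ LinearMap.ker Q}) (hC.inter (isClosed_pv_mem _))
      (fun c _ y hy => ⟨r.cone_smul hy.1 c, by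
        show pv (vp (c • pv y)) ∈ LinearMap.ker Q
        rw [pv_vp]; exact Submodule.smul_mem _ _ hy.2⟩)
      (fun t ht y hy => ⟨r.cone_stable trivial hy.1, by
        show pv (vp (r.ρ t (pv y))) ∈ LinearMap.ker Q
        rw [pv_vp, LinearMap.mem_ker, hQT t ht, LinearMap.mem_ker.1 hy.2, map_zero]⟩)
      ⟨y, ⟨hy, LinearMap.mem_ker.2 hQy⟩, hy0⟩
    exact hz0 ((hQfix _ (hwt z hz hzw)).symm.trans (LinearMap.mem_ker.1 hzQ))
  -- the group fixes every line of the orbit
  refine le_neut hS (le_iInf fun B' => ?_)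
  obtain ⟨g, hg⟩ : ∃ g, conjSub g B = B'.1 := by
    obtain ⟨g, -, hg⟩ := hB.exists_conj hKc hK B'.2
    exact ⟨g, hg⟩
  rw [← hg, ← hst]
  intro s hs
  rw [r.mem_conjSub_lineStab]
  refine ⟨χ₀ s, ?_⟩
  set x := r.ρ g w with hxdef
  have hxC : vp (k := k) x ∈ r.cone w := ⟨g, trivial, 1, by rw [pv_vp, one_smul]⟩
  have hQx : Q x ≠ 0 := fun h => r.apply_ne_zero (g := g) trivial hw (by
    have := hkerQ _ hxC (by rwa [pv_vp])
    rwa [pv_vp] at this)
  obtain ⟨F, hF⟩ : ∃ F : W →ₗ[k] k, F (Q x) = 1 := by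
    obtain ⟨φ, hφ⟩ := ComodLib.exists_dual_ne (k := k) hQx
    exact ⟨(φ (Q x))⁻¹ • φ, by rw [LinearMap.smul_apply, smul_eq_mul, inv_mul_cancel₀ hφ]⟩
  let W₀ : Submodule k W := (k ∙ Q x).comap Q
  have hker : ∀ y ∈ r.cone w, pv y ∈ W₀ → (F.comp Q) (pv y) = 0 → pv (V := W) y = 0 := by
    intro y hy hyW h0
    refine hkerQ y hy ?_
    obtain ⟨c, hc⟩ := Submodule.mem_span_singleton.1 hyW
    rw [LinearMap.comp_apply, ← hc, map_smul, hF, smul_eq_mul, _root_.mul_one] at h0
    rw [← hc, h0, zero_smul]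
  let χ' : Pt k A → k := fun t => F (r.ρ t⁻¹ (Q x))
  have hχ' : IsReg χ' := (r.reg F (Q x)).comp IsMor.id.inv
  have hinv : ∀ t ∈ S, χ' t = χ₀ t⁻¹ ∧ χ₀ t⁻¹ * χ₀ t = 1 := fun t ht => by
    refine ⟨?_, smul_left_injective k hw ?_⟩
    · show F (r.ρ t⁻¹ (Q x)) = _
      rw [hQS _ (inv_mem ht), map_smul, hF, smul_eq_mul, _root_.mul_one]
    · show (χ₀ t⁻¹ * χ₀ t) • w = (1 : k) • w
      rw [one_smul, ← smul_smul, ← hχ₀w t ht, ← map_smul, ← hχ₀w _ (inv_mem ht),
        ← r.mul_apply trivial trivial, mul_inv_cancel, r.map_one, Module.End.one_apply]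
  have hmem : ∀ t ∈ S, vp (V := W) (χ' t • r.ρ t x) ∈
      {y : Pt k (VPoly k W) | y ∈ r.cone w ∧ pv y ∈ W₀ ∧ (F.comp Q) (pv y) = 1} := fun t ht => by
    have e : Q (χ' t • r.ρ t x) = Q x := by
      rw [map_smul, hQT t (hST ht), hQS t ht, smul_smul, (hinv t ht).1, (hinv t ht).2, one_smul]
    refine ⟨⟨t * g, trivial, χ' t, ?_⟩, ?_, ?_⟩
    · rw [pv_vp, r.mul_apply trivial trivial]
    · rw [pv_vp]
      show Q _ ∈ k ∙ Q x
      rw [e]
      exact Submodule.mem_span_singleton_self _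
    · rw [pv_vp, LinearMap.comp_apply, e, hF]
  have key : χ' s • r.ρ s x = x := by
    apply (Module.finBasis k W).equivFun.injective
    funext i
    let φ : W →ₗ[k] k := (LinearMap.proj i).comp (Module.finBasis k W).equivFun.toLinearMap
    have hreg : IsReg fun t => χ' t * φ (r.ρ t x) := hχ'.mul (r.reg φ x)
    have := hreg.const_of_finite hS ((finite_slice hC (fun c _ y hy => r.cone_smul hy c) W₀ (F.comp Q) hker i).subset
      (by rintro _ ⟨t, ht, rfl⟩; exact ⟨_, hmem t ht, by simp [vp, φ]⟩)) hs S.one_mem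
    simp only [χ', inv_one, r.map_one, Module.End.one_apply, hF, _root_.one_mul] at this
    rw [map_smul, Pi.smul_apply, smul_eq_mul]
    exact this
  conv_rhs => rw [← key]
  rw [smul_smul, (hinv s hs).1, mul_comm, (hinv s hs).2, one_smul]

/-- Torsion points of a torus are divisible inside it. -/
theorem IsTor.exists_root (hT : IsTor T) {x : Pt k A} (hx : x ∈ T) (hpt : IsPT x) {n : ℕ} (hn : n ≠ 0) :
    ∃ z ∈ T, z ^ n = x := by
  obtain ⟨D, hD⟩ := exists_flag_uni hT.closed hT.conn hT.isSol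
  obtain ⟨r, q, hq, hqker, -⟩ := D.exists_diag hT.closed hT.conn
  have hqi : Function.Injective q := (injective_iff_map_eq_one q).2 fun g hg =>
    Subtype.ext (((hD g).1 ((hqker g).1 hg)).2.eq_one hT g.2)
  obtain ⟨m, hm, hxm⟩ := hpt
  obtain ⟨z', -, hz'⟩ := lr_exists_root (y := q ⟨x, hx⟩)
    ⟨m, hm, by rw [← map_pow, show (⟨x, hx⟩ : T) ^ m = 1 from Subtype.ext hxm, map_one]⟩ hn
  obtain ⟨z, rfl⟩ := hq z'
  rw [← map_pow] at hz'
  exact ⟨z, z.2, congrArg Subtype.val (hqi hz')⟩

/-- A closed normal subgroup containing a maximal torus of a reductive group is everything. -/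
theorem IsRedPts.eq_top_of_torus_le (hconn : _root_.IsPreconnected (Set.univ : Set (Pt k A))) (hred : IsRedPts k A)
    (hT : IsMaxTor ⊤ T) {N : Subgroup (Pt k A)} (hNc : IsClosed (N : Set (Pt k A))) (hn : ∀ g, conjSub g N ≤ N)
    (hTN : T ≤ N) : N = ⊤ := by
  have hKc : IsClosed ((⊤ : Subgroup (Pt k A)) : Set (Pt k A)) := by rw [Subgroup.coe_top]; exact isClosed_univ
  have hK : _root_.IsPreconnected ((⊤ : Subgroup (Pt k A)) : Set (Pt k A)) := by rwa [Subgroup.coe_top]
  obtain ⟨B₀, hB₀, -, -⟩ := IsBor.exists_conj_universal hKc hK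
  obtain ⟨g₀, -, hg₀⟩ := hB₀.exists_conj_le hKc hK le_top hT.tor.conn hT.tor.isSol
  have hB := hB₀.conjSub (a := g₀⁻¹) trivial
  have hTB : T ≤ conjSub g₀⁻¹ B₀ := by
    have := conjSub_mono (a := g₀⁻¹) hg₀
    rwa [conjSub_conjSub, inv_mul_cancel, conjSub_one] at this
  set B := conjSub g₀⁻¹ B₀ with hBdef
  set M := neut (B ⊓ N) with hM
  have hMc : IsClosed (M : Set (Pt k A)) := isClosed_neut (hB.closed.inter hNc)
  have hMmax : IsMaxTor M T := ⟨le_neut hT.tor.conn (le_inf hTB hTN), hT.tor,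
    fun T' _ h hle => hT.maximal T' le_top h hle⟩
  obtain ⟨D, hD⟩ := exists_flag_uni hB.closed hB.conn hB.sol
  have hBN : B ≤ N := by
    intro b hb
    have hTb : conjSub b T ≤ M := le_neut (isPreconnected_conjSub hT.tor.conn) (le_inf
      (conjSub_le hb hTB) ((conjSub_mono hTN).trans (hn b)))
    obtain ⟨m, hm, hle⟩ := hMmax.exists_conj_le hMc (isPreconnected_neut _) hTb (hT.tor.conjSub b)
    rw [conjSub_conjSub] at hle
    have hmb : m * b ∈ B := B.mul_mem (neut_le _ hm).1 hb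
    have hcent : m * b ∈ Subgroup.centralizer (T : Set (Pt k A)) := Subgroup.mem_centralizer_iff.2 fun t ht => by
      have h1 : m * b * t * (m * b)⁻¹ * t⁻¹ ∈ T := T.mul_mem (hle ⟨t, ht, rfl⟩) (inv_mem ht)
      have h2 : IsUni (m * b * t * (m * b)⁻¹ * t⁻¹) := ((hD _).1 (D.commutator_mem_U hmb (hTB ht))).2
      have h3 := h2.eq_one hT.tor h1
      rw [mul_inv_eq_one, mul_inv_eq_iff_eq_mul] at h3
      exact h3.symm
    rw [hred.centralizer_eq hconn hT] at hcent
    have := N.mul_mem (inv_mem (neut_le _ hm).2) (hTN hcent)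
    rwa [inv_mul_cancel_left] at this
  refine top_le_iff.1 fun x _ => ?_
  obtain ⟨a, -, ha⟩ := hB.exists_conj_mem hKc hK (x := x) trivial
  have := hn a ⟨_, hBN ha, rfl⟩
  simpa [_root_.mul_assoc] using this

/-- **No non-trivial quotient of a maximal torus of a semisimple group is fixed by the Weyl group.** -/
theorem IsSSPts.torus_le_of_normalizer (hconn : _root_.IsPreconnected (Set.univ : Set (Pt k A))) (hss : IsSSPts k A)
    (hT : IsMaxTor ⊤ T) {N : Subgroup (Pt k A)} (hNc : IsClosed (N : Set (Pt k A)))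
    (hN : ∀ n : Pt k A, conjSub n T = T → ∀ t ∈ T, n * t * n⁻¹ * t⁻¹ ∈ N) : T ≤ N := by
  classical
  -- the Weyl group, as a finite set of automorphisms of the torus
  let Nor : Subgroup (Pt k A) :=
    { carrier := {n | ∀ t ∈ T, n * t * n⁻¹ ∈ T ∧ n⁻¹ * t * n ∈ T}
      one_mem' := fun t ht => ⟨by simpa using ht, by simpa using ht⟩
      inv_mem' := fun {n} h t ht => ⟨by simpa using (h t ht).2, by simpa using (h t ht).1⟩
      mul_mem' := fun {a c} ha hc t ht => ⟨by simpa [_root_.mul_assoc] using (ha _ (hc t ht).1).1,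
        by simpa [_root_.mul_assoc] using (hc _ (ha t ht).2).2⟩ }
  have hNorc : IsClosed (Nor : Set (Pt k A)) := by
    have e : (Nor : Set (Pt k A)) = ⋂ t ∈ T, (fun n => n * t * n⁻¹) ⁻¹' (T : Set (Pt k A)) ∩
        (fun n => n⁻¹ * t * n) ⁻¹' (T : Set (Pt k A)) := by
      ext n
      simp only [Set.mem_iInter, Set.mem_inter_iff, Set.mem_preimage, SetLike.mem_coe]
      exact Iff.rfl
    rw [e]
    exact isClosed_biInter fun t _ => (hT.tor.closed.preimage
      ((IsMor.id.mul (IsMor.const t)).mul IsMor.id.inv).continuous).inter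
      (hT.tor.closed.preimage ((IsMor.id.inv.mul (IsMor.const t)).mul IsMor.id).continuous)
  obtain ⟨R, hR, hcov⟩ := exists_neut_cosets hNorc
  have hneut : ∀ n ∈ neut Nor, ∀ t ∈ T, n * t = t * n := hT.tor.commute_of_normalizing (isPreconnected_neut _)
    fun n hn' t ht => ((neut_le _ hn') t ht).1
  let act : Pt k A → (↥T → Pt k A) := fun n t => n * (t : Pt k A) * n⁻¹
  let Φ : Finset (↥T → Pt k A) := R.image act
  have hact : ∀ n ∈ Nor, act n ∈ Φ := fun n hn' => by
    obtain ⟨r, hr, hrn⟩ := hcov n hn'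
    refine Finset.mem_image.2 ⟨r, hr, funext fun t => ?_⟩
    have hc := hneut _ hrn t t.2
    show r * (t : Pt k A) * r⁻¹ = n * (t : Pt k A) * n⁻¹
    calc r * (t : Pt k A) * r⁻¹ = r * ((t : Pt k A) * (r⁻¹ * n)) * n⁻¹ := by group
      _ = r * ((r⁻¹ * n) * (t : Pt k A)) * n⁻¹ := by rw [hc]
      _ = n * (t : Pt k A) * n⁻¹ := by group
  have hΦ : ∀ φ ∈ Φ, ∃ r ∈ Nor, act r = φ := fun φ hφ => by
    obtain ⟨r, hr, rfl⟩ := Finset.mem_image.1 hφ
    exact ⟨r, hR r hr, rfl⟩
  -- the elements of the torus fixed by the Weyl group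
  let Z : Subgroup (Pt k A) := T ⊓ Subgroup.centralizer (Nor : Set (Pt k A))
  have hZ : neut Z = ⊥ := by
    refine le_bot_iff.1 ((le_radSub_of_commute_normalizer hconn hT ((neut_le _).trans inf_le_left)
      (isPreconnected_neut _) fun n hn' s hs => ?_).trans (hss.radSub_eq_bot hconn).le)
    refine Subgroup.mem_centralizer_iff.1 ((neut_le _ hs).2) n fun t ht => ⟨?_, ?_⟩
    · exact hn' ▸ (⟨t, ht, rfl⟩ : _ ∈ conjSub n T)
    · exact mem_conjSub.1 (hn'.symm ▸ ht)
  -- the norm
  choose rep hrep hrepφ using fun φ : ↥Φ => hΦ φ φ.2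
  let ν : Pt k A → Pt k A := fun t => ((Φ.attach.toList).map fun φ => rep φ * t * (rep φ)⁻¹).prod
  have conjSub_eq_of_mem : ∀ {n : Pt k A}, n ∈ Nor → conjSub n T = T := fun {n} hn' => by
    refine le_antisymm ?_ fun t ht => mem_conjSub.2 (hn' t ht).2
    rintro _ ⟨t, ht, rfl⟩
    exact (hn' t ht).1
  have hνmor : IsMor ν := by
    show IsMor fun t => ((Φ.attach.toList).map fun φ => rep φ * t * (rep φ)⁻¹).prod
    induction Φ.attach.toList with
    | nil => simpa using IsMor.const 1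
    | cons a l ih => simpa using (((IsMor.const (rep a)).mul IsMor.id).mul (IsMor.const (rep a)⁻¹)).mul ih
  have hνT : ∀ t ∈ T, ν t ∈ T := fun t ht => T.list_prod_mem fun y hy => by
    obtain ⟨φ, -, rfl⟩ := List.mem_map.1 hy
    exact ((hrep φ) t ht).1
  have hνZ : ∀ t ∈ T, ν t ∈ Z := fun t ht => by
    refine ⟨hνT t ht, Subgroup.mem_centralizer_iff.2 fun n hn' => ?_⟩
    -- conjugation by an element of the normaliser permutes the factors
    letI : CommGroup ↥T := { (inferInstance : Group ↥T) with mul_comm := fun a c => Subtype.ext (hT.tor.comm a a.2 c c.2) }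
    let val : (↥T → Pt k A) → ↥T := fun φ => if h : φ ⟨t, ht⟩ ∈ T then ⟨_, h⟩ else 1
    have hval : ∀ φ ∈ Φ, (val φ : Pt k A) = φ ⟨t, ht⟩ := fun φ hφ => by
      obtain ⟨r, hr, rfl⟩ := hΦ φ hφ
      have : act r ⟨t, ht⟩ ∈ T := (hr t ht).1
      simp only [val, dif_pos this]
    have hν : ν t = ((∏ φ ∈ Φ, val φ : ↥T) : Pt k A) := by
      rw [← Finset.prod_attach, ← Finset.prod_map_toList, SubmonoidClass.coe_list_prod, List.map_map]
      refine congrArg List.prod (List.map_congr_left fun φ _ => ?_)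
      show rep φ * t * (rep φ)⁻¹ = (val φ.1 : Pt k A)
      rw [hval _ φ.2, ← hrepφ φ]
    let c : ↥T →* ↥T := MonoidHom.mk' (fun s => ⟨n * s * n⁻¹, (hn' s s.2).1⟩) fun a c => Subtype.ext (by simp)
    let σ : (↥T → Pt k A) → (↥T → Pt k A) := fun φ s => n * φ s * n⁻¹
    have hσ : ∀ φ ∈ Φ, σ φ ∈ Φ := fun φ hφ => by
      obtain ⟨r, hr, rfl⟩ := hΦ φ hφ
      have : σ (act r) = act (n * r) := funext fun s => by simp [σ, act, _root_.mul_assoc]
      rw [this]
      exact hact _ (Nor.mul_mem hn' hr)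
    have e : c (∏ φ ∈ Φ, val φ) = ∏ φ ∈ Φ, val φ := by
      rw [map_prod]
      refine Finset.prod_bij (fun φ _ => σ φ) hσ (fun φ _ ψ _ h => funext fun s => ?_) (fun ψ hψ => ?_)
        fun φ hφ => Subtype.ext ?_
      · exact mul_left_cancel (mul_right_cancel (congrFun h s))
      · obtain ⟨r, hr, rfl⟩ := hΦ ψ hψ
        refine ⟨act (n⁻¹ * r), hact _ (Nor.mul_mem (inv_mem hn') hr), funext fun s => ?_⟩
        simp [σ, act, _root_.mul_assoc]
      · show n * (val φ : Pt k A) * n⁻¹ = (val (σ φ) : Pt k A)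
        rw [hval φ hφ, hval _ (hσ φ hφ)]
    rw [hν]
    exact mul_inv_eq_iff_eq_mul.1 (congrArg Subtype.val e)
  have hν1 : ∀ t ∈ T, ν t = 1 := fun t ht => by
    have hsub : ν '' (T : Set (Pt k A)) ⊆ (neut Z : Set (Pt k A)) := by
      have h1 : (1 : Pt k A) ∈ ν '' (T : Set (Pt k A)) := ⟨1, T.one_mem, by simp [ν]⟩
      exact (hT.tor.conn.image _ hνmor.continuous.continuousOn).subset_connectedComponentIn h1
        (Set.image_subset_iff.2 hνZ)
    exact Subgroup.mem_bot.1 (hZ ▸ hsub ⟨t, ht, rfl⟩)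
  have hlen : Φ.attach.toList.length ≠ 0 := by
    rw [Finset.length_toList, Finset.card_attach]
    exact Finset.card_ne_zero.2 ⟨_, hact 1 Nor.one_mem⟩
  intro x hx
  refine (closure_minimal (t := (N : Set (Pt k A))) ?_ hNc) (hT.tor.dense hx)
  rintro y ⟨hy, hpt⟩
  obtain ⟨z, hz, hzy⟩ := hT.tor.exists_root hy hpt hlen
  -- in the quotient of the torus the norm is a power
  have key : ∀ l : List ↥Φ, ∃ e ∈ N, (l.map fun φ => rep φ * z * (rep φ)⁻¹).prod = e * z ^ l.length ∧ e ∈ T := by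
    intro l
    induction l with
    | nil => exact ⟨1, N.one_mem, by simp, T.one_mem⟩
    | cons φ l ih =>
      obtain ⟨e, he, heq, heT⟩ := ih
      set c := rep φ * z * (rep φ)⁻¹ * z⁻¹ with hc
      have hcT : c ∈ T := T.mul_mem ((hrep φ) z hz).1 (inv_mem hz)
      have hcN : c ∈ N := hN _ (conjSub_eq_of_mem (hrep φ)) z hz
      refine ⟨c * e, N.mul_mem hcN he, ?_, T.mul_mem hcT heT⟩
      rw [List.map_cons, List.prod_cons, heq, List.length_cons, pow_succ', show rep φ * z * (rep φ)⁻¹ = c * z by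
        rw [hc, inv_mul_cancel_right], _root_.mul_assoc c z, ← _root_.mul_assoc z e, hT.tor.comm z hz e heT]
      group
  obtain ⟨e, he, heq, -⟩ := key Φ.attach.toList
  rw [show (Φ.attach.toList.map fun φ => rep φ * z * (rep φ)⁻¹).prod = 1 from hν1 z hz, hzy] at heq
  rw [eq_inv_of_mul_eq_one_right heq.symm]
  exact inv_mem he

/-- **A semisimple group of points is perfect**: a closed subgroup with all commutators is everything. -/
theorem IsSSPts.eq_top_of_commutators (hconn : _root_.IsPreconnected (Set.univ : Set (Pt k A))) (hss : IsSSPts k A)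
    {N : Subgroup (Pt k A)} (hNc : IsClosed (N : Set (Pt k A))) (hN : ∀ a b : Pt k A, ⁅a, b⁆ ∈ N) : N = ⊤ := by
  classical
  have hKc : IsClosed ((⊤ : Subgroup (Pt k A)) : Set (Pt k A)) := by rw [Subgroup.coe_top]; exact isClosed_univ
  have hK : _root_.IsPreconnected ((⊤ : Subgroup (Pt k A)) : Set (Pt k A)) := by rwa [Subgroup.coe_top]
  have hn : ∀ g, conjSub g N ≤ N := by
    rintro g _ ⟨x, hx, rfl⟩
    have := N.mul_mem (hN g x) hx
    simpa [commutatorElement_def] using this
  obtain ⟨T, hT, -⟩ := exists_isMaxTor hKc hK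
  refine hss.isRedPts.eq_top_of_torus_le hconn hT hNc hn (hss.torus_le_of_normalizer hconn hT hNc fun n _ t _ => ?_)
  exact commutatorElement_def n t ▸ hN n t

/-- **A connected normal subgroup of a semisimple group of points is semisimple.** -/
theorem IsSSPts.normal (hconn : _root_.IsPreconnected (Set.univ : Set (Pt k A))) (hss : IsSSPts k A)
    {N : Subgroup (Pt k A)} (hNc : IsClosed (N : Set (Pt k A))) (hN : _root_.IsPreconnected (N : Set (Pt k A)))
    (hn : ∀ g, conjSub g N ≤ N) {J : Subgroup (Pt k A)} (hle : J ≤ N)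
    (hp : _root_.IsPreconnected (J : Set (Pt k A))) (hJn : ∀ g ∈ N, conjSub g J ≤ J) (hs : IsSol J) : J = ⊥ := by
  set I := ⨅ B : {B : Subgroup (Pt k A) // IsBor N B}, (B : Subgroup (Pt k A))
  obtain ⟨B₀, hB₀, -, -⟩ := IsBor.exists_conj_universal hNc hN
  have hJI : J ≤ I := le_iInf fun B => by
    obtain ⟨g, hg, hgJ⟩ := B.2.exists_conj_le hNc hN hle hp hs
    intro x hx
    have := hgJ ⟨g⁻¹ * x * g, hJn g⁻¹ (inv_mem hg) ⟨x, hx, by simp⟩, rfl⟩
    simpa [_root_.mul_assoc] using this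
  have hIn : ∀ g, conjSub g I ≤ I := fun g => le_iInf fun B => by
    have heq : ∀ a, conjSub a N = N := fun a => conjSub_eq_of_le hNc (hn a)
    have hb : IsBor N (BorelLib.conjSub g⁻¹ B.1) :=
      ⟨(conjSub_mono B.2.le).trans (heq _).le, isClosed_conjSub B.2.closed, isPreconnected_conjSub B.2.conn,
        B.2.sol.conjSub _, fun H hHN hHc hHp hHs hBH => by
          have h := B.2.maximal (BorelLib.conjSub g H) ((conjSub_mono hHN).trans (heq g).le) (isClosed_conjSub hHc)
            (isPreconnected_conjSub hHp) (hHs.conjSub _) (by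
              have := conjSub_mono (a := g) hBH
              rwa [conjSub_conjSub, mul_inv_cancel, conjSub_one] at this)
          rw [← h, conjSub_conjSub, inv_mul_cancel, conjSub_one]⟩
    have := conjSub_mono (a := g) (iInf_le_of_le (⟨_, hb⟩ : {B : Subgroup (Pt k A) // IsBor N B}) le_rfl : I ≤ _)
    rwa [conjSub_conjSub, mul_inv_cancel, conjSub_one] at this
  refine le_bot_iff.1 ((le_neut hp hJI).trans ((le_radSub hconn (isPreconnected_neut I) (fun g =>
    le_neut (isPreconnected_conjSub (isPreconnected_neut I)) ((conjSub_mono (neut_le I)).trans (hIn g)))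
    (hB₀.sol.mono ((neut_le I).trans ?_))).trans (hss.radSub_eq_bot hconn).le))
  exact iInf_le_of_le (⟨B₀, hB₀⟩ : {B : Subgroup (Pt k A) // IsBor N B}) le_rfl

/-- A connected normal subgroup of a semisimple group lies in a closed subgroup containing its commutators. -/
theorem IsSSPts.le_of_commutators (hconn : _root_.IsPreconnected (Set.univ : Set (Pt k A))) (hss : IsSSPts k A)
    {M P : Subgroup (Pt k A)} (hMc : IsClosed (M : Set (Pt k A))) (hMp : _root_.IsPreconnected (M : Set (Pt k A)))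
    (hMn : ∀ g, conjSub g M ≤ M) (hP : IsClosed (P : Set (Pt k A))) (hMP : ∀ a ∈ M, ∀ b ∈ M, ⁅a, b⁆ ∈ P) :
    M ≤ P := by
  obtain ⟨R, _, _, f, hft, hred, -, hind, hinj, hrange, -⟩ := exists_frame hMc
  haveI := hft; haveI := hred
  have hfM : ∀ x, f x ∈ M := fun x => hrange ▸ ⟨x, rfl⟩
  have hconn' := isPreconnected_univ_frame hind (hrange.symm ▸ hMp)
  have hssR : IsSSPts k R := fun J hJc hJp hJn hJs => by
    refine Subgroup.map_injective hinj ?_
    rw [Subgroup.map_bot]
    refine hss.normal hconn hMc hMp hMn (hrange ▸ Subgroup.map_le_range f J)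
      (by rw [Subgroup.coe_map]; exact hJp.image _ hind.continuous.continuousOn) ?_ (hJs.map f)
    intro g hg
    obtain ⟨g, rfl⟩ : g ∈ f.range := hrange.symm ▸ hg
    rintro _ ⟨_, ⟨x, hx, rfl⟩, rfl⟩
    exact ⟨g * x * g⁻¹, hJn g ⟨x, hx, rfl⟩, by simp⟩
  have htop := hssR.eq_top_of_commutators hconn' (N := P.comap f) (hP.preimage hind.continuous) fun a b => by
    rw [Subgroup.mem_comap, map_commutatorElement]
    exact hMP _ (hfM a) _ (hfM b)
  intro m hm
  obtain ⟨x, rfl⟩ : m ∈ f.range := hrange.symm ▸ hm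
  exact (htop ▸ Subgroup.mem_top x : x ∈ P.comap f)

variable {A' : Type u} [CommRing A'] [HopfAlgebra k A'] [Algebra.FiniteType k A']

/-- **The image of a semisimple group is semisimple.** -/
theorem IsSSPts.le_ker_of_sol (hconn : _root_.IsPreconnected (Set.univ : Set (Pt k A))) (hss : IsSSPts k A)
    {f : Pt k A →* Pt k A'} (hf : IsMor f) {N : Subgroup (Pt k A')} (hNc : IsClosed (N : Set (Pt k A')))
    (hn : ∀ g, conjSub g N ≤ N) (hs : IsSol N) : neut (N.comap f) ≤ f.ker := by
  set M := neut (N.comap f) with hM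
  have hMc : IsClosed (M : Set (Pt k A)) := isClosed_neut (hNc.preimage hf.continuous)
  have hMn : ∀ g, conjSub g M ≤ M := fun g => le_neut (isPreconnected_conjSub (isPreconnected_neut _))
    ((conjSub_mono (neut_le _)).trans (by
      rintro _ ⟨x, hx, rfl⟩
      exact hn (f g) ⟨f x, hx, by simp⟩))
  have key : ∀ n, M ≤ (clSub (der N n)).comap f := by
    intro n
    induction n with
    | zero => exact (neut_le _).trans (Subgroup.comap_mono (le_clSub _))
    | succ n ih =>
      refine hss.le_of_commutators hconn hMc (isPreconnected_neut _) hMn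
        ((isClosed_clSub _).preimage hf.continuous) fun a ha b hb => ?_
      rw [Subgroup.mem_comap, map_commutatorElement, der_succ]
      exact commutator_clSub_le _ (Subgroup.commutator_mem_commutator (ih ha) (ih hb))
  obtain ⟨n, hn'⟩ := hs
  have h := key n
  rwa [hn', clSub_bot, MonoidHom.comap_bot] at h

end Groth.Agent.BorelLib

end
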