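import Groth.Agent.BorelLib.RedNormal

/-!
# Galois descent of closed subgroups over perfect fields
-/

set_option autoImplicit false
set_option linter.style.haveILetI false
set_option linter.unusedSectionVars false
set_option backward.isDefEq.respectTransparency false
set_option maxHeartbeats 1000000

universe u

open CategoryTheory CategoryTheory.Limits MonoidalCategory CartesianMonoidalCategory AlgebraicGeometry
open scoped MonObj

noncomputable section

attribute [-instance] CategoryTheory.Hom.commGroup

namespace Groth.Agent.BorelLib.Perf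

open FF (ptK img img_comp ptK_comp fst_ptK)

variable {k : Type u} [Field k] [PerfectField k] {K : Type u} [Field K] [Algebra k K] [Algebra.IsAlgebraic k K]
  [IsAlgClosed K] (t : Spec (CommRingCat.of K) ⟶ Spec (CommRingCat.of k))
  (ht : t = Spec.map (CommRingCat.ofHom (algebraMap k K)))
  {G : Over (Spec (CommRingCat.of k))} [GrpObj G]

/-- Every closed point carries a geometric point. -/
theorem exists_img_eq (ht : t = Spec.map (CommRingCat.ofHom (algebraMap k K)))
    {X : Over (Spec (CommRingCat.of k))} [LocallyOfFiniteType X.hom] (z : X.left) (hz : IsClosed {z}) :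
    ∃ a : Over.mk t ⟶ X, img t a = z := by
  subst ht
  exact AVAmpleLib.exists_imgPt (Ω := K) hz

/-- Points with the same closed image are conjugate under an automorphism. -/
theorem exists_aut_eq {X : Over (Spec (CommRingCat.of k))} [LocallyOfFiniteType X.hom] (a b : Over.mk t ⟶ X)
    (hab : img t a = img t b) (hz : IsClosed {img t b}) :
    ∃ τ : K ≃ₐ[k] K, a = FF.autPt t ht τ ≫ b := by
  generalize hz' : img t b = z at hab hz
  obtain ⟨f, hf⟩ := Spec.map_surjective (X.left.fromSpecResidueField z ≫ X.hom)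
  letI : Algebra k (X.left.residueField z) := f.hom.toAlgebra
  haveI : IsClosedImmersion (X.left.fromSpecResidueField z) := by
    rw [IsClosedImmersion.iff_isPreimmersion]
    exact ⟨inferInstance, by rw [Scheme.range_fromSpecResidueField]; exact hz⟩
  haveI hft : Algebra.FiniteType k (X.left.residueField z) := by
    have : LocallyOfFiniteType (Spec.map f) := by rw [hf]; infer_instance
    rw [HasRingHomProperty.Spec_iff (P := @LocallyOfFiniteType)] at this
    exact RingHom.finiteType_algebraMap.1 this
  haveI : Module.Finite k (X.left.residueField z) := finite_of_finite_type_of_isJacobsonRing k _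
  have key : ∀ c : Over.mk t ⟶ X, img t c = z → ∃ ψ : X.left.residueField z →ₐ[k] K,
      Spec.map (CommRingCat.ofHom ψ.toRingHom) ≫ X.left.fromSpecResidueField z = c.left := by
    rintro c rfl
    let ψ₀ := Scheme.descResidueField (Scheme.stalkClosedPointTo c.left)
    have hψ : Spec.map ψ₀ ≫ X.left.fromSpecResidueField (img t c) = c.left :=
      Scheme.descResidueField_stalkClosedPointTo_fromSpecResidueField K X.left c.left
    refine ⟨{ toRingHom := ψ₀.hom, commutes' := fun r => ?_ }, hψ⟩
    have h : f ≫ ψ₀ = CommRingCat.ofHom (algebraMap k K) := by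
      refine Spec.map_injective ?_
      rw [Spec.map_comp, hf, reassoc_of% hψ, ← ht]
      exact Over.w c
    exact congr($h r)
  obtain ⟨φ, hφ⟩ := key a hab
  obtain ⟨ψ, hψ⟩ := key b hz'
  letI : Algebra (X.left.residueField z) K := ψ.toRingHom.toAlgebra
  haveI : IsScalarTower k (X.left.residueField z) K := IsScalarTower.of_algebraMap_eq fun c => (ψ.commutes c).symm
  haveI : IsAlgClosure k K := ⟨inferInstance, inferInstance⟩
  haveI : Normal k K := IsAlgClosure.normal k K
  have hext := fun x => φ.liftNormal_commutes K x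
  refine ⟨AlgEquiv.ofBijective (φ.liftNormal K) (Algebra.IsAlgebraic.algHom_bijective _), Over.OverMorphism.ext ?_⟩
  rw [Over.comp_left, ← hψ, ← hφ, ← Category.assoc]
  show _ = (Spec.map _ ≫ Spec.map _) ≫ _
  rw [← Spec.map_comp, ← CommRingCat.ofHom_comp]
  congr 3
  exact RingHom.ext fun x => (hext x).symm

/-- Geometric points separate closed subschemes. -/
theorem exists_factor (ht : t = Spec.map (CommRingCat.ofHom (algebraMap k K)))
    {X Y G : Over (Spec (CommRingCat.of k))} [LocallyOfFiniteType X.hom]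
    [AlgebraicGeometry.IsReduced X.left] (f : X ⟶ G) (j : Y ⟶ G) [IsClosedImmersion j.left]
    (h : ∀ a : Over.mk t ⟶ X, ∃ b : Over.mk t ⟶ Y, b ≫ j = a ≫ f) : ∃ l : X ⟶ Y, l ≫ j = f := by
  haveI : JacobsonSpace X.left := LocallyOfFiniteType.jacobsonSpace X.hom
  have hr : Set.range f.left ⊆ Set.range j.left := by
    rintro _ ⟨x, rfl⟩
    have hW : IsClosed (f.left ⁻¹' Set.range j.left) :=
      j.left.isClosedEmbedding.isClosed_range.preimage f.left.continuous
    suffices f.left ⁻¹' Set.range j.left = Set.univ from this.ge (Set.mem_univ x)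
    rw [← hW.closure_eq, ← dense_iff_closure_eq]
    refine Dense.mono (fun y hy => ?_) (dense_iff_closure_eq.mpr (closure_closedPoints (X := X.left)))
    obtain ⟨a, rfl⟩ := exists_img_eq t ht y (mem_closedPoints_iff.1 hy)
    obtain ⟨b, hb⟩ := h a
    refine ⟨img t b, ?_⟩
    rw [← img_comp, hb, img_comp]
  obtain ⟨l, hl⟩ := AVAmpleLib.exists_lift_of_reduced j.left f.left hr
  exact ⟨Over.homMk l (by rw [← Over.w f, ← hl, Category.assoc, Over.w j]), Over.OverMorphism.ext hl⟩

/-- A point whose image lies in a closed subscheme lifts to it. -/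
theorem exists_lift (ht : t = Spec.map (CommRingCat.ofHom (algebraMap k K)))
    {X G : Over (Spec (CommRingCat.of k))} [LocallyOfFiniteType X.hom] [LocallyOfFiniteType G.hom] (j : X ⟶ G)
    [IsClosedImmersion j.left] (a : Over.mk t ⟶ G) (hcl : IsClosed {img t a}) (ha : img t a ∈ Set.range j.left) :
    ∃ b : Over.mk t ⟶ X, b ≫ j = a := by
  obtain ⟨y, hy⟩ := ha
  obtain ⟨b, hb⟩ := exists_img_eq t ht y (by
    have := hcl.preimage j.left.continuous
    rw [← hy, ← Set.image_singleton, Set.preimage_image_eq _ j.left.isClosedEmbedding.injective] at this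
    exact this)
  obtain ⟨τ, hτ⟩ := exists_aut_eq t ht a (b ≫ j) (by rw [img_comp t b, hb, hy]) (by
    rw [img_comp t b, hb, hy]; exact hcl)
  exact ⟨FF.autPt t ht τ ≫ b, by rw [hτ, Category.assoc]⟩

/-- A Galois stable closed subgroup of the base change is defined over the perfect field. -/
theorem exists_descent
    (ht : t = Spec.map (CommRingCat.ofHom (algebraMap k K))) [LocallyOfFiniteType G.hom] [QuasiCompact G.hom]
    {H₁ : Over (Spec (CommRingCat.of K))} [GrpObj H₁] (i : H₁ ⟶ Red.bc t G) [IsMonHom i] [IsClosedImmersion i.left]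
    [AlgebraicGeometry.IsReduced H₁.left]
    (hst : ∀ (τ : K ≃ₐ[k] K) (a : Over.mk t ⟶ G), (∃ b, b ≫ i = ptK t G a) → ∃ b, b ≫ i = ptK t G (FF.autPt t ht τ ≫ a)) :
    ∃ (H : Over (Spec (CommRingCat.of k))) (_ : GrpObj H) (j : H ⟶ G), IsMonHom j ∧ IsClosedImmersion j.left ∧
      Smooth H.hom ∧ ∃ e : Red.bc t H ≅ H₁, e.hom ≫ i = (Over.pullback t).map j := by
  haveI : IsIntegralHom t := by
    rw [ht, IsIntegralHom.SpecMap_iff, CommRingCat.hom_ofHom, algebraMap_isIntegral_iff]
    exact Algebra.IsAlgebraic.isIntegral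
  let p := pullback.fst G.hom t
  haveI : IsIntegralHom p := MorphismProperty.pullback_fst (P := @IsIntegralHom) G.hom t inferInstance
  haveI : LocallyOfFiniteType (Red.bc t G).hom := inferInstanceAs (LocallyOfFiniteType (pullback.snd G.hom t))
  haveI : IsSeparated (Red.bc t G).hom := Groth.Agent.GrpField.isSeparated_grp (G := Red.bc t G)
  haveI : LocallyOfFiniteType H₁.hom := by rw [← Over.w i]; infer_instance
  haveI : JacobsonSpace H₁.left := LocallyOfFiniteType.jacobsonSpace H₁.hom
  let C : Set G.left := p '' Set.range i.left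
  have hC : IsClosed C := p.isClosedMap _ i.left.isClosedEmbedding.isClosed_range
  have hpt : ∀ x : RPt (Red.bc t G), IsClosed {x.left (IsLocalRing.closedPoint K)} := fun x => by
    haveI : IsClosedImmersion (x.left ≫ (Red.bc t G).hom) := by
      rw [Over.w x]; exact inferInstanceAs (IsClosedImmersion (𝟙 (Spec (CommRingCat.of K))))
    haveI := IsClosedImmersion.of_comp x.left (Red.bc t G).hom
    have := x.left.isClosedEmbedding.isClosedMap {IsLocalRing.closedPoint K} (IsLocalRing.isClosed_singleton_closedPoint K)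
    rwa [Set.image_singleton] at this
  have hclosed : ∀ a : Over.mk t ⟶ G, IsClosed {img t a} := fun a => by
    rw [← fst_ptK, ← Set.image_singleton]
    exact p.isClosedMap _ (hpt _)
  -- the points in the image are exactly those of the subgroup
  have hmem : ∀ a : Over.mk t ⟶ G, img t a ∈ C ↔ ∃ b : RPt H₁, b ≫ i = ptK t G a := by
    intro a
    constructor
    · intro ha
      have hcl := hclosed a
      obtain ⟨_, ⟨w, rfl⟩, hw⟩ := ha
      obtain ⟨w', hw', hwc⟩ := nonempty_inter_closedPoints (X := H₁.left) (Z := (i.left ≫ p) ⁻¹' {img t a})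
        ⟨w, hw⟩ (hcl.preimage (i.left ≫ p).continuous).isLocallyClosed
      let b : RPt H₁ := Over.homMk (pointOfClosedPoint H₁.hom w' hwc) (pointOfClosedPoint_comp _ _ _)
      obtain ⟨c, hc⟩ := (ptK t G).surjective (b ≫ i)
      have himg : img t a = img t c := by
        rw [← fst_ptK t c, hc]
        show _ = p (i.left (pointOfClosedPoint H₁.hom w' hwc _))
        rw [pointOfClosedPoint_apply]
        exact hw'.symm
      obtain ⟨τ, rfl⟩ := exists_aut_eq t ht a c himg (himg ▸ hcl)
      exact hst τ c ⟨b, hc.symm⟩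
    · rintro ⟨b, hb⟩
      exact ⟨_, ⟨b.left (IsLocalRing.closedPoint K), rfl⟩, by rw [← fst_ptK t a, ← hb]; rfl⟩
  let I := Scheme.IdealSheafData.vanishingIdeal (⟨C, hC⟩ : TopologicalSpace.Closeds G.left)
  haveI : AlgebraicGeometry.IsReduced I.subscheme := DevissLib.isReduced_vanishingIdeal' _
  let H : Over (Spec (CommRingCat.of k)) := Over.mk (I.subschemeι ≫ G.hom)
  let j : H ⟶ G := Over.homMk I.subschemeι rfl
  haveI : IsClosedImmersion j.left := inferInstanceAs (IsClosedImmersion I.subschemeι)
  haveI : AlgebraicGeometry.IsReduced H.left := inferInstanceAs (AlgebraicGeometry.IsReduced I.subscheme)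
  haveI : LocallyOfFiniteType H.hom := inferInstanceAs (LocallyOfFiniteType (I.subschemeι ≫ G.hom))
  have hr : Set.range j.left = C := by
    show Set.range I.subschemeι = C
    rw [Scheme.IdealSheafData.range_subschemeι, Scheme.IdealSheafData.coe_support_vanishingIdeal]
    rfl
  haveI : Mono j := Over.mono_of_mono_left j
  have hjC : ∀ a : Over.mk t ⟶ H, img t (a ≫ j) ∈ C := fun a => hr ▸ ⟨img t a, rfl⟩
  have hfac : ∀ (Z : Over (Spec (CommRingCat.of k))) (h : Z ⟶ G), AlgebraicGeometry.IsReduced Z.left →
      LocallyOfFiniteType Z.hom → (∀ a : Over.mk t ⟶ Z, img t (a ≫ h) ∈ C) → ∃ l : Z ⟶ H, l ≫ j = h := by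
    intro Z h _ _ hz
    refine exists_factor t ht h j fun a => exists_lift t ht j _ (hclosed _) (hr.symm ▸ hz a)
  have hsub : ∀ a b : Over.mk t ⟶ G, img t a ∈ C → img t b ∈ C → img t (a * b⁻¹) ∈ C := by
    intro a b ha hb
    obtain ⟨a', ha'⟩ := (hmem a).1 ha
    obtain ⟨b', hb'⟩ := (hmem b).1 hb
    exact (hmem _).2 ⟨a' * b'⁻¹, by rw [MonObj.mul_comp, GrpObj.inv_comp, ha', hb', map_mul, map_inv]⟩
  have h1 : img t (1 : Over.mk t ⟶ G) ∈ C := (hmem 1).2 ⟨1, by rw [MonObj.one_comp, map_one]⟩
  haveI : GeometricallyReduced H.hom := AVAmpleLib.gr_of_isReduced H.hom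
  haveI : IsLocallyNoetherian H.left := LocallyOfFiniteType.isLocallyNoetherian H.hom
  haveI : AlgebraicGeometry.IsReduced (H ⊗ H).left := inferInstanceAs (AlgebraicGeometry.IsReduced (pullback H.hom H.hom))
  haveI : LocallyOfFiniteType (H ⊗ H).hom :=
    inferInstanceAs (LocallyOfFiniteType (pullback.fst H.hom H.hom ≫ H.hom))
  obtain ⟨_, hj⟩ := Groth.Agent.SubDesc.exists_grpObj_of_mono j
    (hfac (H ⊗ H) _ inferInstance inferInstance fun a => by
      rw [MonObj.comp_mul, ← Category.assoc, ← Category.assoc, ← inv_inv ((a ≫ snd H H) ≫ j)]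
      refine hsub _ _ (hjC _) ?_
      rw [← one_mul ((a ≫ snd H H) ≫ j)⁻¹]
      exact hsub _ _ h1 (hjC _))
    (hfac _ _ (inferInstanceAs (AlgebraicGeometry.IsReduced (Spec (CommRingCat.of k))))
      (inferInstanceAs (LocallyOfFiniteType (𝟙 (Spec (CommRingCat.of k))))) fun a => by
      rw [MonObj.comp_one]; exact h1)
    (hfac H _ inferInstance inferInstance fun a => by
      rw [GrpObj.comp_inv, ← one_mul (a ≫ j)⁻¹]; exact hsub _ _ h1 (hjC _))
  haveI := hj
  haveI : Flat H.hom := Groth.Agent.GrpField.flat_field _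
  haveI : LocallyOfFinitePresentation H.hom :=
    LocallyOfFinitePresentation.iff_locallyOfFiniteType.2 inferInstance
  haveI hsm : Smooth H.hom := Groth.Agent.S7795.result H
  haveI : Smooth (Red.bc t H).hom := MorphismProperty.pullback_snd (P := @Smooth) _ _ inferInstance
  haveI : AlgebraicGeometry.IsReduced (Red.bc t H).left := AlgSpLib.isReduced_of_smooth (Red.bc t H).hom
  haveI : IsClosedImmersion ((Over.pullback t).map j).left := isClosedImmersion_bc t j
  refine ⟨H, inferInstance, j, hj, inferInstance, hsm,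
    NA.exists_iso_of_pts ((Over.pullback t).map j) i fun x => ?_⟩
  obtain ⟨a, rfl⟩ := (ptK t G).surjective x
  rw [← hmem]
  constructor
  · rintro ⟨b, hb⟩
    obtain ⟨b, rfl⟩ := (ptK t H).surjective b
    rw [ptK_comp, EquivLike.apply_eq_iff_eq] at hb
    exact hb ▸ hjC b
  · intro ha
    obtain ⟨b, hb⟩ := exists_lift t ht j a (hclosed a) (hr.symm ▸ ha)
    exact ⟨ptK t H b, by rw [ptK_comp, hb]⟩

end Groth.Agent.BorelLib.Perf

end
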