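import Groth.Agent.BorelLib.RedBridge
import Groth.Agent.BorelLib.SelfNormField
import Groth.Agent.GaGmKerLib.GaPts

/-!
# Geometric points of groups over a field; regular additive functions on reductive groups
-/

set_option autoImplicit false
set_option linter.style.haveILetI false
set_option linter.unusedSectionVars false
set_option backward.isDefEq.respectTransparency false
set_option maxHeartbeats 1000000
set_option synthInstance.maxHeartbeats 400000

universe u

open CategoryTheory CategoryTheory.Limits MonoidalCategory CartesianMonoidalCategory AlgebraicGeometry WithConv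
open scoped MonObj commutatorElement
open CoactBr (sp)

noncomputable section

attribute [-instance] CategoryTheory.Hom.commGroup

namespace Groth.Agent.BorelLib

attribute [local instance] pTop pTopTensor

section pts

variable {k : Type u} [Field k] [IsAlgClosed k] {A : Type u} [CommRing A] [HopfAlgebra k A] [Algebra.FiniteType k A]
  [_root_.IsReduced A]

/-- A reductive group of points has no non-zero additive regular function. -/
theorem IsRedPts.additive_eq_zero (hconn : _root_.IsPreconnected (Set.univ : Set (Pt k A))) (hred : IsRedPts k A)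
    {f : Pt k A → k} (hf : IsReg f) (hadd : ∀ x y, f (x * y) = f x + f y) (x : Pt k A) : f x = 0 := by
  have h1 : f 1 = 0 := by have := hadd 1 1; rwa [one_mul, left_eq_add] at this
  obtain ⟨T, hT, -⟩ := exists_isMaxTor (K := (⊤ : Subgroup (Pt k A)))
    (by rw [Subgroup.coe_top]; exact isClosed_univ) (by rwa [Subgroup.coe_top])
  have hz : IsClosed {y | f y = 0} := hf.isClosed_eq (IsReg.const 0)
  have hpt : ∀ y : Pt k A, IsPT y → f y = 0 := by
    rintro y ⟨m, hm, hy⟩
    have hpow : ∀ n : ℕ, f (y ^ n) = n • f y := fun n => by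
      induction n with
      | zero => rw [pow_zero, h1, zero_smul]
      | succ n ih => rw [pow_succ, hadd, ih, succ_nsmul]
    have := hpow m
    rw [hy, h1, nsmul_eq_mul, eq_comm, mul_eq_zero] at this
    exact this.resolve_left hm
  have hT0 : ∀ y ∈ T, f y = 0 := fun y hy =>
    closure_minimal (fun z hz' => hpt z hz'.2) hz (hT.tor.dense hy)
  have hsub : closure {y | ∃ a : Pt k A, ∃ b ∈ cart ⊤ T, a * b * a⁻¹ = y} ⊆ {y | f y = 0} := by
    refine closure_minimal ?_ hz
    rintro _ ⟨a, b, hb, rfl⟩
    have hbT : b ∈ T := (hred.centralizer_eq hconn hT).le ((neut_le _ hb).2)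
    have hinv : f a + f a⁻¹ = 0 := by rw [← hadd, mul_inv_cancel, h1]
    show f (a * b * a⁻¹) = 0
    rw [hadd, hadd, hT0 b hbT, add_zero, hinv]
  exact hsub (by rw [dense_conj_cart hconn hT]; trivial)

/-- The maximal tori of a reductive group of points are dense. -/
theorem IsRedPts.dense_maxTor (hconn : _root_.IsPreconnected (Set.univ : Set (Pt k A))) (hred : IsRedPts k A) :
    closure {x : Pt k A | ∃ T, IsMaxTor ⊤ T ∧ x ∈ T} = Set.univ := by
  obtain ⟨T, hT, -⟩ := exists_isMaxTor (K := (⊤ : Subgroup (Pt k A)))
    (by rw [Subgroup.coe_top]; exact isClosed_univ) (by rwa [Subgroup.coe_top])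
  refine Set.eq_univ_of_univ_subset ?_
  rw [← dense_conj_cart hconn hT]
  refine closure_mono ?_
  rintro _ ⟨a, b, hb, rfl⟩
  refine ⟨BorelLib.conjSub a T, ⟨le_top, hT.tor.conjSub a, fun T' _ hT' hle => ?_⟩,
    b, (hred.centralizer_eq hconn hT).le ((neut_le _ hb).2), rfl⟩
  have h1 := hT.maximal (BorelLib.conjSub a⁻¹ T') le_top (hT'.conjSub _) (by
    have := conjSub_mono (a := a⁻¹) hle
    rwa [conjSub_conjSub, inv_mul_cancel, conjSub_one] at this)
  rw [← h1, conjSub_conjSub, mul_inv_cancel, conjSub_one]

end pts

section geom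

variable {k : Type u} [Field k] (s : (Spec (CommRingCat.of k) : Scheme.{u}))
  {G Y : Over (Spec (CommRingCat.of k))} [GrpObj G] [GrpObj Y]

/-- Base change to the geometric fibre is faithful. -/
theorem geom_map_injective {X Z : Over (Spec (CommRingCat.of k))} {f f' : X ⟶ Z}
    (h : (Over.pullback (Red.geomPt s)).map f = (Over.pullback (Red.geomPt s)).map f') : f = f' := by
  haveI := flat_geomPt s
  haveI := surjective_geomPt s
  haveI : Flat (pullback.fst X.hom (Red.geomPt s)) := MorphismProperty.pullback_fst (P := @Flat) _ _ inferInstance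
  haveI := surjective_fst s X
  haveI := Flat.epi_of_flat_of_surjective (pullback.fst X.hom (Red.geomPt s))
  ext1
  have h' := congrArg (fun φ => φ.left ≫ pullback.fst Z.hom (Red.geomPt s)) h
  simp only [Over.pullback_map_left, pullback.lift_fst] at h'
  exact (cancel_epi _).1 h'

/-- Maps from a smooth group are determined on geometric points. -/
theorem eq_of_geom_points [Smooth G.hom] [LocallyOfFiniteType Y.hom] {f f' : G ⟶ Y}
    (h : ∀ g : Over.mk (Red.geomPt s) ⟶ G, g ≫ f = g ≫ f') : f = f' := by
  haveI : Smooth (Red.geomFibre s G).hom := MorphismProperty.pullback_snd (P := @Smooth) _ _ inferInstance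
  haveI : AlgebraicGeometry.IsReduced (Red.geomFibre s G).left := AlgSpLib.isReduced_of_smooth (Red.geomFibre s G).hom
  haveI : LocallyOfFiniteType (Red.geomFibre s Y).hom :=
    MorphismProperty.pullback_snd (P := @LocallyOfFiniteType) _ _ inferInstance
  haveI : IsSeparated (Red.geomFibre s Y).hom := Groth.Agent.GrpField.isSeparated_grp (G := Red.geomFibre s Y)
  refine geom_map_injective s (AVAmpleLib.hom_ext_of_points _ _ fun a => ?_)
  obtain ⟨g, rfl⟩ := (FF.ptK (Red.geomPt s) G).surjective a
  rw [FF.ptK_comp, FF.ptK_comp, h]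

variable {A : Type u} [CommRing A] [HopfAlgebra (AlgebraicClosure ((Spec (CommRingCat.of k)).residueField s)) A]
  (v : sp (AlgebraicClosure ((Spec (CommRingCat.of k)).residueField s)) A ≅ Red.geomFibre s G) [IsMonHom v.hom]
  [Algebra.FiniteType (AlgebraicClosure ((Spec (CommRingCat.of k)).residueField s)) A]

/-- A global function gives a regular function on geometric points. -/
theorem exists_reg_of_fn (a : Γ(G.left, ⊤)) : ∃ f : Pt (AlgebraicClosure ((Spec (CommRingCat.of k)).residueField s)) A →
    AlgebraicClosure ((Spec (CommRingCat.of k)).residueField s), IsReg f ∧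
      ∀ g : Over.mk (Red.geomPt s) ⟶ G,
        f (FF.toPt (Red.geomPt s) v g) = (Scheme.ΓSpecIso _).hom (g.left.appTop a) := by
  let w : Spec (CommRingCat.of A) ⟶ G.left := v.hom.left ≫ pullback.fst G.hom (Red.geomPt s)
  obtain ⟨_, -, -⟩ := exists_geomPt_algebra s
  refine ⟨fun x => x.ofConv ((Scheme.ΓSpecIso _).hom (w.appTop a)), ⟨_, fun _ => rfl⟩, fun g => ?_⟩
  set x := FF.toPt (Red.geomPt s) v g with hx
  have e : g.left = Spec.map (CommRingCat.ofHom x.ofConv.toRingHom) ≫ w := by
    rw [← FF.ptK_left_fst (Red.geomPt s) g, ← FF.ptEquiv_toPt (Red.geomPt s) v g, ← hx]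
    show ((Groth.Agent.HopfPoints.exists_unit_hom.some ≫ CoactBr.pt x.ofConv ≫ v.hom).left) ≫ _ = _
    have hu : (Groth.Agent.HopfPoints.exists_unit_hom (k := AlgebraicClosure
        ((Spec (CommRingCat.of k)).residueField s))).some.left = 𝟙 _ := by
      have hw := Over.w (Groth.Agent.HopfPoints.exists_unit_hom (k := AlgebraicClosure
        ((Spec (CommRingCat.of k)).residueField s))).some
      change _ ≫ Spec.map (𝟙 _) = 𝟙 _ at hw
      rwa [Spec.map_id, Category.comp_id] at hw
    rw [Over.comp_left, Over.comp_left, hu, Category.id_comp, Category.assoc]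
    rfl
  rw [e]
  exact (congrArg (fun φ : Γ(Spec (CommRingCat.of A), ⊤) ⟶ CommRingCat.of
      (AlgebraicClosure ((Spec (CommRingCat.of k)).residueField s)) => φ.hom (w.appTop a))
    (Scheme.ΓSpecIso_naturality (CommRingCat.ofHom x.ofConv.toRingHom))).symm

end geom

end Groth.Agent.BorelLib

end
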