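import Mathlib
import Groth.Agent.LieKolchinLib.Basic

/-!
# Rational points of finitely generated algebras: Zariski topology and regular maps
-/

set_option autoImplicit false
set_option linter.style.haveILetI false

noncomputable section

universe u

open WithConv
open scoped TensorProduct

namespace Groth.Agent.BorelLib

/-- The rational points of a `k`-algebra. -/
abbrev Pt (k : Type u) [CommSemiring k] (R : Type u) [Semiring R] [Algebra k R] : Type u := WithConv (R →ₐ[k] k)

variable {k : Type u} [Field k] {R R' R'' : Type u} [CommRing R] [Algebra k R] [CommRing R'] [Algebra k R']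
  [CommRing R''] [Algebra k R'']

/-- The prime of a point. -/
def toP (x : Pt k R) : PrimeSpectrum R :=
  PrimeSpectrum.comap x.ofConv.toRingHom (IsLocalRing.closedPoint k)

lemma toP_asIdeal (x : Pt k R) : (toP x).asIdeal = RingHom.ker x.ofConv.toRingHom := by
  ext a
  simp [toP, IsLocalRing.closedPoint, RingHom.mem_ker]

lemma notMem_toP {x : Pt k R} {a : R} : a ∉ (toP x).asIdeal ↔ x.ofConv a ≠ 0 := by
  rw [toP_asIdeal, RingHom.mem_ker]
  exact Iff.rfl

/-- The Zariski topology on the points. -/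
@[instance_reducible] def pTop : TopologicalSpace (Pt k R) := TopologicalSpace.induced toP inferInstance

/-- The topology on the points of a tensor product (a shortcut for instance search). -/
@[instance_reducible] def pTopTensor [Algebra k R'] : TopologicalSpace (Pt k (R ⊗[k] R')) := pTop

attribute [local instance] pTop pTopTensor

lemma isInducing_toP : Topology.IsInducing (toP : Pt k R → PrimeSpectrum R) := ⟨rfl⟩

/-- The zero locus of a set of functions. -/
def zeros (I : Set R) : Set (Pt k R) := {x | ∀ a ∈ I, x.ofConv a = 0}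

lemma mem_zeros {I : Set R} {x : Pt k R} : x ∈ zeros (k := k) I ↔ ∀ a ∈ I, x.ofConv a = 0 := Iff.rfl

lemma zeros_eq_preimage (I : Set R) : zeros (k := k) I = toP ⁻¹' PrimeSpectrum.zeroLocus I := by
  ext x
  rw [Set.mem_preimage, PrimeSpectrum.mem_zeroLocus, toP_asIdeal]
  exact Iff.rfl

lemma isClosed_zeros (I : Set R) : IsClosed (zeros (k := k) I) := by
  rw [zeros_eq_preimage]
  exact (PrimeSpectrum.isClosed_zeroLocus _).preimage continuous_induced_dom

/-- The ideal of functions vanishing on a set of points. -/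
def vanish (Y : Set (Pt k R)) : Ideal R where
  carrier := {a | ∀ x ∈ Y, x.ofConv a = 0}
  zero_mem' := fun _ _ => map_zero _
  add_mem' := fun {a b} ha hb x hx => by rw [map_add, ha x hx, hb x hx, add_zero]
  smul_mem' := fun c a ha x hx => by rw [smul_eq_mul, map_mul, ha x hx, mul_zero]

lemma mem_vanish {Y : Set (Pt k R)} {a : R} : a ∈ vanish Y ↔ ∀ x ∈ Y, x.ofConv a = 0 := Iff.rfl

lemma subset_zeros_vanish (Y : Set (Pt k R)) : Y ⊆ zeros (vanish Y : Set R) := fun x hx _ ha => ha x hx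

lemma zeros_vanish_of_isClosed {Y : Set (Pt k R)} (hY : IsClosed Y) : zeros (vanish Y : Set R) = Y := by
  refine Set.Subset.antisymm ?_ (subset_zeros_vanish Y)
  obtain ⟨C, hC, rfl⟩ := isClosed_induced_iff.1 hY
  obtain ⟨I, rfl⟩ := (PrimeSpectrum.isClosed_iff_zeroLocus C).1 hC
  rw [← zeros_eq_preimage]
  exact fun x hx a ha => hx a fun y hy => hy a ha

lemma closure_eq_zeros (Y : Set (Pt k R)) : closure Y = zeros (vanish Y : Set R) := by
  refine Set.Subset.antisymm (closure_minimal (subset_zeros_vanish Y) (isClosed_zeros _)) ?_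
  intro x hx
  rw [← zeros_vanish_of_isClosed (isClosed_closure (s := Y))]
  exact fun a ha => hx a fun y hy => ha y (subset_closure hy)

lemma isClosed_iff {Y : Set (Pt k R)} : IsClosed Y ↔ ∀ x, (∀ a, (∀ y ∈ Y, y.ofConv a = 0) → x.ofConv a = 0) → x ∈ Y := by
  rw [← closure_subset_iff_isClosed, closure_eq_zeros]
  exact Iff.rfl

lemma mem_closure_iff_forall {Y : Set (Pt k R)} {x : Pt k R} :
    x ∈ closure Y ↔ ∀ a, (∀ y ∈ Y, y.ofConv a = 0) → x.ofConv a = 0 := by
  rw [closure_eq_zeros]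
  exact Iff.rfl

/-- The locus where a function does not vanish. -/
lemma isOpen_ne (a : R) : IsOpen {x : Pt k R | x.ofConv a ≠ 0} := by
  have h := (isClosed_zeros (k := k) ({a} : Set R)).isOpen_compl
  convert h using 1
  ext x
  simp [zeros]

lemma exists_basic {U : Set (Pt k R)} (hU : IsOpen U) {x : Pt k R} (hx : x ∈ U) :
    ∃ a : R, x.ofConv a ≠ 0 ∧ ∀ y : Pt k R, y.ofConv a ≠ 0 → y ∈ U := by
  by_contra h
  push Not at h
  have hcl : x ∈ closure Uᶜ := mem_closure_iff_forall.2 fun a ha => by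
    by_contra hne
    obtain ⟨y, hy, hyU⟩ := h a hne
    exact hy (ha y hyU)
  rw [hU.isClosed_compl.closure_eq] at hcl
  exact hcl hx

section Jacobson

variable [IsAlgClosed k] [Algebra.FiniteType k R]

/-- A maximal ideal is the kernel of a point. -/
lemma exists_toP_eq (p : PrimeSpectrum R) (hp : p.asIdeal.IsMaximal) : ∃ x : Pt k R, toP x = p := by
  have : IsJacobsonRing R := isJacobsonRing_of_finiteType (A := k)
  let M := p.asIdeal
  letI : Field (R ⧸ M) := Ideal.Quotient.field M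
  haveI : Module.Finite k (R ⧸ M) := finite_of_finite_type_of_isJacobsonRing k (R ⧸ M)
  let e : k ≃ₐ[k] (R ⧸ M) := AlgEquiv.ofBijective (Algebra.ofId k (R ⧸ M))
    (IsAlgClosed.algebraMap_bijective_of_isIntegral (k := k) (K := R ⧸ M))
  refine ⟨toConv (e.symm.toAlgHom.comp (Ideal.Quotient.mkₐ k M)), PrimeSpectrum.ext ?_⟩
  rw [toP_asIdeal]
  ext a
  simp [M, RingHom.mem_ker, Ideal.Quotient.eq_zero_iff_mem]

/-- Non-empty locally closed sets of primes contain points. -/
lemma exists_pt_mem {Z : Set (PrimeSpectrum R)} (hne : Z.Nonempty) (hZ : IsLocallyClosed Z) :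
    ∃ x : Pt k R, toP x ∈ Z := by
  have : IsJacobsonRing R := isJacobsonRing_of_finiteType (A := k)
  obtain ⟨p, hpZ, hp⟩ := nonempty_inter_closedPoints hne hZ
  obtain ⟨x, rfl⟩ := exists_toP_eq (k := k) p ((PrimeSpectrum.isClosed_singleton_iff_isMaximal p).1 hp)
  exact ⟨x, hpZ⟩

lemma exists_pt_ne {a : R} (ha : ¬ IsNilpotent a) : ∃ x : Pt k R, x.ofConv a ≠ 0 := by
  by_contra h
  push Not at h
  exact ha (UnipHopf.isNilpotent_of_forall_point (L := k) fun g => h (toConv g))

lemma eq_zero_of_forall [IsReduced R] {a : R} (h : ∀ x : Pt k R, x.ofConv a = 0) : a = 0 := by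
  by_contra ha
  obtain ⟨x, hx⟩ := exists_pt_ne (k := k) fun hn => ha (isNilpotent_iff_eq_zero.1 hn)
  exact hx (h x)

omit [IsAlgClosed k] in
lemma noetherianSpace : TopologicalSpace.NoetherianSpace (Pt k R) := by
  have : IsNoetherianRing R := Algebra.FiniteType.isNoetherianRing k R
  exact isInducing_toP.noetherianSpace

lemma isIrreducible_univ [IsDomain R] : IsIrreducible (Set.univ : Set (Pt k R)) := by
  obtain ⟨x, -⟩ := exists_pt_ne (k := k) (R := R) (a := 1) (fun h => one_ne_zero (isNilpotent_iff_eq_zero.1 h))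
  have hmeet : ∀ {f g : R}, f * g ≠ 0 → ∃ z : Pt k R, z.ofConv (f * g) ≠ 0 := fun hfg =>
    exists_pt_ne fun h => hfg (isNilpotent_iff_eq_zero.1 h)
  refine ⟨⟨x, trivial⟩, ?_⟩
  rintro U V hU hV ⟨a, -, ha⟩ ⟨b, -, hb⟩
  obtain ⟨f, hf, hfU⟩ := exists_basic hU ha
  obtain ⟨g, hg, hgV⟩ := exists_basic hV hb
  have hfg : f * g ≠ 0 := mul_ne_zero (fun h => hf (by rw [h, map_zero])) (fun h => hg (by rw [h, map_zero]))
  obtain ⟨z, hz⟩ := hmeet hfg
  rw [map_mul] at hz
  exact ⟨z, trivial, hfU z (left_ne_zero_of_mul hz), hgV z (right_ne_zero_of_mul hz)⟩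

end Jacobson

/-- The map of points attached to an algebra map. -/
def pull (φ : R →ₐ[k] R') (x : Pt k R') : Pt k R := toConv (x.ofConv.comp φ)

@[simp] lemma pull_apply (φ : R →ₐ[k] R') (x : Pt k R') (a : R) : (pull φ x).ofConv a = x.ofConv (φ a) := rfl

lemma pull_comp (φ : R →ₐ[k] R') (ψ : R' →ₐ[k] R'') (x : Pt k R'') : pull (ψ.comp φ) x = pull φ (pull ψ x) := rfl

lemma continuous_pull (φ : R →ₐ[k] R') : Continuous (pull φ : Pt k R' → Pt k R) := by
  refine continuous_induced_rng.2 ?_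
  have e : (toP ∘ pull φ : Pt k R' → PrimeSpectrum R) = PrimeSpectrum.comap φ.toRingHom ∘ toP :=
    funext fun x => PrimeSpectrum.ext (by
      simp only [Function.comp_apply, toP_asIdeal, PrimeSpectrum.comap_asIdeal]
      rfl)
  rw [e]
  exact (PrimeSpectrum.continuous_comap _).comp continuous_induced_dom

lemma pull_injective_of_surjective {φ : R →ₐ[k] R'} (hφ : Function.Surjective φ) :
    Function.Injective (pull φ : Pt k R' → Pt k R) := fun x y h => by
  refine WithConv.ext (AlgHom.ext fun b => ?_)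
  obtain ⟨a, rfl⟩ := hφ b
  exact congrArg (fun z : Pt k R => z.ofConv a) h

/-- A map whose target functions are fractions of the source ones gives an embedding on points. -/
lemma isInducing_pull_of_frac (φ : R →ₐ[k] R') (h : ∀ b : R', ∃ (a : R) (u : R'), IsUnit u ∧ φ a = b * u) :
    Topology.IsInducing (pull φ : Pt k R' → Pt k R) := by
  refine ⟨le_antisymm (continuous_iff_le_induced.1 (continuous_pull φ)) ?_⟩
  intro U hU
  rw [isOpen_induced_iff]
  let W : Set (Pt k R) := ⋃ a ∈ {a : R | ∀ y : Pt k R', (pull φ y).ofConv a ≠ 0 → y ∈ U}, {x | x.ofConv a ≠ 0}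
  refine ⟨W, isOpen_biUnion fun a _ => isOpen_ne a, Set.Subset.antisymm ?_ ?_⟩
  · intro y hy
    obtain ⟨a, ha, hy⟩ := Set.mem_iUnion₂.1 hy
    exact ha y hy
  · intro y hy
    obtain ⟨b, hb, hbU⟩ := exists_basic hU hy
    obtain ⟨a, u, hu, hau⟩ := h b
    refine Set.mem_iUnion₂.2 ⟨a, fun z hz => hbU z ?_, ?_⟩
    · rw [pull_apply, hau, map_mul] at hz
      exact left_ne_zero_of_mul hz
    · show (pull φ y).ofConv a ≠ 0
      rw [pull_apply, hau, map_mul]
      exact mul_ne_zero hb (hu.map y.ofConv).ne_zero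

/-! ### Pairs -/

omit [Algebra k R''] in
/-- Tensor products of algebras of finite type are of finite type. -/
lemma finiteType_tensor [Algebra.FiniteType k R] [Algebra.FiniteType k R'] :
    Algebra.FiniteType k (R ⊗[k] R') :=
  Algebra.FiniteType.trans (R := k) (S := R) (A := R ⊗[k] R') inferInstance inferInstance

/-- The point of a tensor product given by two points. -/
def pair (x : Pt k R) (y : Pt k R') : Pt k (R ⊗[k] R') :=
  toConv (Algebra.TensorProduct.lift x.ofConv y.ofConv fun _ _ => mul_comm _ _)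

/-- The first component. -/
def fstP : Pt k (R ⊗[k] R') → Pt k R := pull Algebra.TensorProduct.includeLeft

/-- The second component. -/
def sndP : Pt k (R ⊗[k] R') → Pt k R' := pull Algebra.TensorProduct.includeRight

@[simp] lemma pair_tmul (x : Pt k R) (y : Pt k R') (a : R) (b : R') :
    (pair x y).ofConv (a ⊗ₜ b) = x.ofConv a * y.ofConv b := by
  exact Algebra.TensorProduct.lift_tmul _ _ (fun _ _ => Commute.all _ _) a b

@[simp] lemma fstP_pair (x : Pt k R) (y : Pt k R') : fstP (pair x y) = x :=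
  WithConv.ext (AlgHom.ext fun a => by
    show (pair x y).ofConv (a ⊗ₜ 1) = _
    simp)

@[simp] lemma sndP_pair (x : Pt k R) (y : Pt k R') : sndP (pair x y) = y :=
  WithConv.ext (AlgHom.ext fun b => by
    show (pair x y).ofConv ((1 : R) ⊗ₜ b) = _
    simp)

@[simp] lemma pair_fstP_sndP (z : Pt k (R ⊗[k] R')) : pair (fstP z) (sndP z) = z := by
  refine WithConv.ext (AlgHom.ext fun t => ?_)
  induction t using TensorProduct.induction_on with
  | zero => simp
  | add a b ha hb => simp only [map_add, ha, hb]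
  | tmul a b =>
    rw [pair_tmul]
    show z.ofConv (a ⊗ₜ 1) * z.ofConv ((1 : R) ⊗ₜ b) = _
    rw [← map_mul, Algebra.TensorProduct.tmul_mul_tmul, mul_one, one_mul]

/-- Regular functions. -/
def IsReg (f : Pt k R → k) : Prop := ∃ a : R, ∀ x, f x = x.ofConv a

/-- Regular maps. -/
def IsMor (F : Pt k R' → Pt k R) : Prop := ∃ φ : R →ₐ[k] R', ∀ x, F x = pull φ x

namespace IsMor

lemma continuous {F : Pt k R' → Pt k R} (h : IsMor F) : Continuous F := by
  obtain ⟨φ, hφ⟩ := h
  rw [show F = pull φ from funext hφ]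
  exact continuous_pull φ

lemma pull (φ : R →ₐ[k] R') : IsMor (pull φ : Pt k R' → Pt k R) := ⟨φ, fun _ => rfl⟩

lemma id : IsMor (fun x : Pt k R => x) := ⟨AlgHom.id k R, fun _ => rfl⟩

lemma comp {F : Pt k R' → Pt k R} {F' : Pt k R'' → Pt k R'} (h : IsMor F) (h' : IsMor F') :
    IsMor (fun x => F (F' x)) := by
  obtain ⟨φ, hφ⟩ := h
  obtain ⟨ψ, hψ⟩ := h'
  exact ⟨ψ.comp φ, fun x => by simp only [hψ, hφ]; rfl⟩

lemma const (x₀ : Pt k R) : IsMor (fun _ : Pt k R' => x₀) :=
  ⟨(Algebra.ofId k R').comp x₀.ofConv, fun x => WithConv.ext (AlgHom.ext fun a => by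
    show x₀.ofConv a = x.ofConv (algebraMap k R' (x₀.ofConv a))
    rw [AlgHom.commutes]
    rfl)⟩

lemma prod {S : Type u} [CommRing S] [Algebra k S] {F : Pt k S → Pt k R} {F' : Pt k S → Pt k R'} (h : IsMor F)
    (h' : IsMor F') : IsMor (fun x => pair (F x) (F' x)) := by
  obtain ⟨φ, hφ⟩ := h
  obtain ⟨ψ, hψ⟩ := h'
  refine ⟨Algebra.TensorProduct.lift φ ψ fun _ _ => mul_comm _ _, fun x => WithConv.ext (AlgHom.ext fun t => ?_)⟩
  induction t using TensorProduct.induction_on with
  | zero => simp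
  | add a b ha hb => simp only [map_add, ha, hb]
  | tmul a b =>
    rw [pair_tmul, hφ, hψ]
    exact (congrArg x.ofConv (Algebra.TensorProduct.lift_tmul φ ψ (fun _ _ => Commute.all _ _) a b)).symm.trans (map_mul _ _ _) |>.symm

lemma fstP : IsMor (fstP : Pt k (R ⊗[k] R') → Pt k R) := ⟨_, fun _ => rfl⟩

lemma sndP : IsMor (sndP : Pt k (R ⊗[k] R') → Pt k R') := ⟨_, fun _ => rfl⟩

end IsMor

namespace IsReg

lemma eval (a : R) : IsReg (fun x : Pt k R => x.ofConv a) := ⟨a, fun _ => rfl⟩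

lemma const (c : k) : IsReg (fun _ : Pt k R => c) := ⟨algebraMap k R c, fun x => by simp⟩

lemma add {f g : Pt k R → k} (hf : IsReg f) (hg : IsReg g) : IsReg (fun x => f x + g x) := by
  obtain ⟨a, ha⟩ := hf; obtain ⟨b, hb⟩ := hg
  exact ⟨a + b, fun x => by simp [ha, hb]⟩

lemma sub {f g : Pt k R → k} (hf : IsReg f) (hg : IsReg g) : IsReg (fun x => f x - g x) := by
  obtain ⟨a, ha⟩ := hf; obtain ⟨b, hb⟩ := hg
  exact ⟨a - b, fun x => by simp [ha, hb]⟩

lemma mul {f g : Pt k R → k} (hf : IsReg f) (hg : IsReg g) : IsReg (fun x => f x * g x) := by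
  obtain ⟨a, ha⟩ := hf; obtain ⟨b, hb⟩ := hg
  exact ⟨a * b, fun x => by simp [ha, hb]⟩

lemma sum {ι : Type*} (s : Finset ι) {f : ι → Pt k R → k} (hf : ∀ i ∈ s, IsReg (f i)) :
    IsReg (fun x => ∑ i ∈ s, f i x) := by
  classical
  induction s using Finset.induction_on with
  | empty => simpa using const (0 : k)
  | insert i t hi ih =>
    simp only [Finset.sum_insert hi]
    exact (hf i (Finset.mem_insert_self _ _)).add (ih fun j hj => hf j (Finset.mem_insert_of_mem hj))

lemma prod {ι : Type*} (s : Finset ι) {f : ι → Pt k R → k} (hf : ∀ i ∈ s, IsReg (f i)) :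
    IsReg (fun x => ∏ i ∈ s, f i x) := by
  classical
  induction s using Finset.induction_on with
  | empty => simpa using const (1 : k)
  | insert i t hi ih =>
    simp only [Finset.prod_insert hi]
    exact (hf i (Finset.mem_insert_self _ _)).mul (ih fun j hj => hf j (Finset.mem_insert_of_mem hj))

lemma comp {f : Pt k R → k} {F : Pt k R' → Pt k R} (hf : IsReg f) (hF : IsMor F) : IsReg (fun x => f (F x)) := by
  obtain ⟨a, ha⟩ := hf; obtain ⟨φ, hφ⟩ := hF
  exact ⟨φ a, fun x => by simp [ha, hφ]⟩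

lemma isClosed_eq {f g : Pt k R → k} (hf : IsReg f) (hg : IsReg g) : IsClosed {x : Pt k R | f x = g x} := by
  obtain ⟨a, ha⟩ := hf; obtain ⟨b, hb⟩ := hg
  convert isClosed_zeros (k := k) ({a - b} : Set R) using 1
  ext x
  simp [zeros, ha, hb, sub_eq_zero]

lemma isOpen_ne {f g : Pt k R → k} (hf : IsReg f) (hg : IsReg g) : IsOpen {x : Pt k R | f x ≠ g x} :=
  (hf.isClosed_eq hg).isOpen_compl

/-- A regular function with finitely many values on a connected set is constant. -/
lemma const_of_finite {f : Pt k R → k} (hf : IsReg f) {S : Set (Pt k R)} (hS : IsPreconnected S)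
    (hfin : (f '' S).Finite) {x y : Pt k R} (hx : x ∈ S) (hy : y ∈ S) : f x = f y := by
  by_contra hne
  obtain ⟨z, hzS, hz0, hz1⟩ := isPreconnected_closed_iff.1 hS {z | f z = f x}
    (⋃ c ∈ (f '' S) \ {f x}, {z | f z = c})
    (hf.isClosed_eq (const _))
    ((hfin.subset Set.diff_subset).isClosed_biUnion fun c _ => hf.isClosed_eq (const c))
    (fun z hz => by
      by_cases h : f z = f x
      · exact Or.inl h
      · exact Or.inr (Set.mem_biUnion (⟨Set.mem_image_of_mem f hz, h⟩ : f z ∈ (f '' S) \ {f x}) rfl))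
    ⟨x, hx, rfl⟩
    ⟨y, hy, Set.mem_biUnion (⟨Set.mem_image_of_mem f hy, fun h => hne h.symm⟩ : f y ∈ (f '' S) \ {f x}) rfl⟩
  obtain ⟨c, hc, hzc⟩ := Set.mem_iUnion₂.1 hz1
  exact hc.2 ((hzc : f z = c).symm.trans hz0)

end IsReg

/-! ### Products of irreducible and connected sets -/

lemma isIrreducible_prod {X : Set (Pt k R)} {L : Set (Pt k R')} (hX : IsIrreducible X) (hL : IsIrreducible L) :
    IsIrreducible {z : Pt k (R ⊗[k] R') | fstP z ∈ X ∧ sndP z ∈ L} := by
  have hcl : ∀ x : Pt k R, Continuous fun l : Pt k R' => pair x l := fun x =>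
    ((IsMor.const x).prod IsMor.id).continuous
  have hcr : ∀ l : Pt k R', Continuous fun x : Pt k R => pair x l := fun l =>
    (IsMor.id.prod (IsMor.const l)).continuous
  obtain ⟨x₀, hx₀⟩ := hX.nonempty
  obtain ⟨l₀, hl₀⟩ := hL.nonempty
  refine ⟨⟨pair x₀ l₀, by simp [hx₀, hl₀]⟩, ?_⟩
  intro U V hU hV hUne hVne
  obtain ⟨u, ⟨hu1, hu2⟩, huU⟩ := hUne
  obtain ⟨v, ⟨hv1, hv2⟩, hvV⟩ := hVne
  let UL : Set (Pt k R') := ⋃ x ∈ X, (fun l => pair x l) ⁻¹' U
  let VL : Set (Pt k R') := ⋃ x ∈ X, (fun l => pair x l) ⁻¹' V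
  obtain ⟨l, hl, hlU, hlV⟩ := hL.2 UL VL (isOpen_biUnion fun x _ => hU.preimage (hcl x))
    (isOpen_biUnion fun x _ => hV.preimage (hcl x))
    ⟨sndP u, hu2, Set.mem_biUnion hu1 (by simpa using huU)⟩
    ⟨sndP v, hv2, Set.mem_biUnion hv1 (by simpa using hvV)⟩
  obtain ⟨x₁, hx₁, h₁⟩ := Set.mem_iUnion₂.1 hlU
  obtain ⟨x₂, hx₂, h₂⟩ := Set.mem_iUnion₂.1 hlV
  obtain ⟨x, hx, hxU, hxV⟩ := hX.2 _ _ (hU.preimage (hcr l)) (hV.preimage (hcr l))
    ⟨x₁, hx₁, h₁⟩ ⟨x₂, hx₂, h₂⟩
  exact ⟨pair x l, by simp [hx, hl], hxU, hxV⟩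

end Groth.Agent.BorelLib
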