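import Groth.Agent.BorelLib.Facts
import Groth.Agent.BorelLib.Surj
import Groth.Agent.BorelLib.Image
import Groth.Agent.NRQuotLib.Basic

/-!
# Proper homogeneous spaces are complete at the level of points
-/

set_option autoImplicit false
set_option linter.style.haveILetI false
set_option backward.isDefEq.respectTransparency false

universe u

open CategoryTheory CategoryTheory.Limits MonoidalCategory CartesianMonoidalCategory AlgebraicGeometry WithConv
open scoped MonObj TensorProduct
open CoactBr (sp)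

noncomputable section

attribute [-instance] CategoryTheory.Hom.commGroup

namespace Groth.Agent.BorelLib

attribute [local instance] pTop pTopTensor

attribute [local instance] CoactBr.braidedAlgSpecOf

theorem lft_sp {k : Type u} [Field k] {D : Type u} [CommRing D] [Algebra k D] [Algebra.FiniteType k D] :
    LocallyOfFiniteType (sp k D).hom := by
  show LocallyOfFiniteType (Spec.map (CommRingCat.ofHom (algebraMap k D)))
  rw [HasRingHomProperty.Spec_iff (P := @LocallyOfFiniteType)]
  exact RingHom.finiteType_algebraMap.mpr inferInstance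

/-- Base change of a morphism along a projection. -/
theorem isPullback_whiskerLeft_left {S : Scheme.{u}} (T : Over S) {Y Z : Over S} (g : Y ⟶ Z) :
    IsPullback (T ◁ g).left (pullback.snd T.hom Y.hom) (pullback.snd T.hom Z.hom) g.left := by
  refine IsPullback.of_right ?_ ?_ (IsPullback.of_hasPullback T.hom Z.hom)
  · rw [Over.w g, Over.whiskerLeft_left_fst]
    exact IsPullback.of_hasPullback T.hom Y.hom
  · exact Over.whiskerLeft_left_snd g

variable {k : Type u} [Field k] [IsAlgClosed k] {A : Type u} [CommRing A] [HopfAlgebra k A] [Algebra.FiniteType k A]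
  {G : Over (Spec (CommRingCat.of k))} [GrpObj G] (v : sp k A ≅ G) [IsMonHom v.hom]
  {H : Over (Spec (CommRingCat.of k))} [GrpObj H] {i : H ⟶ G} [IsMonHom i]
  {X : Over (Spec (CommRingCat.of k))} {a : AlgGrp.Action G X} {o : 𝟙_ (Over (Spec (CommRingCat.of k))) ⟶ X}

/-- The rational point of a point of an algebra. -/
def qPt {R : Type u} [CommRing R] [Algebra k R] (x : Pt k R) : 𝟙_ (Over (Spec (CommRingCat.of k))) ⟶ sp k R :=
  Groth.Agent.HopfPoints.exists_unit_hom.some ≫ CoactBr.pt x.ofConv

lemma qPt_pt {R : Type u} [CommRing R] [Algebra k R] (x : Pt k R) : NRQuotLib.pt (qPt x) = toP x := by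
  have : Subsingleton (Spec (CommRingCat.of k) : Scheme.{u}) := inferInstanceAs (Subsingleton (PrimeSpectrum k))
  show (CoactBr.pt x.ofConv).left ((Groth.Agent.HopfPoints.exists_unit_hom.some).left (IsLocalRing.closedPoint k)) = _
  rw [CoactBr.pt_left]
  exact congrArg (PrimeSpectrum.comap x.ofConv.toRingHom) (Subsingleton.elim _ _)

lemma qPt_comp_pt {R R' : Type u} [CommRing R] [Algebra k R] [CommRing R'] [Algebra k R'] (φ : R' →ₐ[k] R)
    (x : Pt k R) : qPt x ≫ CoactBr.pt φ = qPt (pull φ x) := by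
  show _ = _ ≫ CoactBr.pt (x.ofConv.comp φ)
  rw [CoactBr.pt_comp, qPt, Category.assoc]

lemma qPt_ext {Z : Over (Spec (CommRingCat.of k))} [LocallyOfFiniteType Z.hom]
    {p q : 𝟙_ (Over (Spec (CommRingCat.of k))) ⟶ Z} (h : NRQuotLib.pt p = NRQuotLib.pt q) : p = q :=
  Over.OverMorphism.ext (ext_of_apply_closedPoint_eq Z.hom (Over.w _) (Over.w _) h)

lemma lft_tensor {T Z : Over (Spec (CommRingCat.of k))} [LocallyOfFiniteType T.hom] [LocallyOfFiniteType Z.hom] :
    LocallyOfFiniteType (T ⊗ Z).hom := by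
  show LocallyOfFiniteType (pullback.fst _ _ ≫ T.hom)
  infer_instance

section quotMap

variable (a o) (S : Type u) [CommRing S] [Algebra k S]

/-- The map `S × G ⟶ S × G/H`. -/
def quotMap : sp k (S ⊗[k] A) ⟶ sp k S ⊗ X :=
  lift (CoactBr.pt Algebra.TensorProduct.includeLeft)
    (CoactBr.pt Algebra.TensorProduct.includeRight ≫ v.hom ≫ a.orbitMap o)

lemma quotMap_fst (z : Pt k (S ⊗[k] A)) :
    (fst (sp k S) X).left ((quotMap v a o S).left (toP z)) = toP (fstP z) := by
  rw [← Scheme.Hom.comp_apply, ← Over.comp_left,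
    show quotMap v a o S ≫ fst (sp k S) X = CoactBr.pt Algebra.TensorProduct.includeLeft from lift_fst _ _]
  exact (toP_pull (R := S) (R₁ := S ⊗[k] A) Algebra.TensorProduct.includeLeft z).symm

lemma quotMap_qPt (z : Pt k (S ⊗[k] A)) :
    qPt z ≫ quotMap v a o S = lift (qPt (fstP z)) (ptEquiv v (sndP z) ≫ a.orbitMap o) := by
  rw [quotMap, comp_lift, qPt_comp_pt, ← Category.assoc, qPt_comp_pt]
  simp only [qPt, Category.assoc]
  rfl

/-- The quotient map is invariant under the subgroup on points. -/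
lemma quotMap_mul_mem (hw : fst G H ≫ a.orbitMap o = ((G ◁ i) ≫ μ[G]) ≫ a.orbitMap o)
    (y : Pt k (S ⊗[k] A)) {h : Pt k A} (hh : h ∈ ptsSub v i) :
    (quotMap v a o S).left (toP (pair (fstP y) (sndP y * h))) = (quotMap v a o S).left (toP y) := by
  obtain ⟨b, hb⟩ := (mem_ptsSub v).1 hh
  have h1 : ptEquiv v (sndP y * h) ≫ a.orbitMap o = ptEquiv v (sndP y) ≫ a.orbitMap o := by
    have h2 := congrArg (fun m => lift (ptEquiv v (sndP y)) b ≫ m) hw
    simp only [Category.assoc, lift_fst_assoc, lift_whiskerLeft_assoc] at h2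
    rw [map_mul, ← hb, Hom.mul_def, Category.assoc]
    exact h2.symm
  have h3 : qPt (pair (fstP y) (sndP y * h)) ≫ quotMap v a o S = qPt y ≫ quotMap v a o S := by
    rw [quotMap_qPt, quotMap_qPt, fstP_pair, sndP_pair, h1]
  rw [← qPt_pt, ← qPt_pt]
  exact congrArg NRQuotLib.pt h3

variable [IsAffine G.left] [Smooth G.hom] (hX : AGF.IsQuotient i X a o)
include hX

/-- The orbit map is locally of finite presentation. -/
lemma lfp_orbit : LocallyOfFinitePresentation (a.orbitMap o).left := by
  haveI := hX.1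
  haveI : LocallyOfFinitePresentation ((a.orbitMap o).left ≫ X.hom) := by
    rw [Over.w (a.orbitMap o)]; infer_instance
  exact AlgSpLib.lfp_of_comp_lft (a.orbitMap o).left X.hom

lemma quotMap_props : UniversallyOpen (quotMap v a o S).left ∧ Surjective (quotMap v a o S).left := by
  obtain ⟨hXlft, hflat, hsurj, -⟩ := id hX
  haveI := hXlft; haveI := hflat; haveI := hsurj; haveI := lfp_orbit a o hX
  let e : sp k (S ⊗[k] A) ⟶ sp k S ⊗ sp k A :=
    lift (CoactBr.pt Algebra.TensorProduct.includeLeft) (CoactBr.pt Algebra.TensorProduct.includeRight)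
  haveI he : IsIso e := by
    have h1 : e ≫ Functor.LaxMonoidal.μ (algSpec (CommRingCat.of k)) (Opposite.op (.of k S)) (Opposite.op (.of k A)) =
        𝟙 _ := by
      rw [CoactBr.lift_pt_pt]
      rw [show Algebra.TensorProduct.lift (Algebra.TensorProduct.includeLeft : S →ₐ[k] S ⊗[k] A)
        Algebra.TensorProduct.includeRight (fun _ _ => .all _ _) = AlgHom.id k _ from
        Algebra.TensorProduct.ext (by ext; simp) (by ext; simp), CoactBr.pt_id]
    exact IsIso.of_isIso_fac_right h1
  let f : sp k A ⟶ X := v.hom ≫ a.orbitMap o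
  haveI : IsIso v.hom.left := (Over.forget _).map_isIso v.hom
  haveI : IsIso e.left := (Over.forget _).map_isIso e
  haveI : Flat f.left := by rw [Over.comp_left]; infer_instance
  haveI : LocallyOfFinitePresentation f.left := by rw [Over.comp_left]; infer_instance
  haveI : Surjective f.left := by rw [Over.comp_left]; infer_instance
  haveI : Flat (sp k S ◁ f).left :=
    MorphismProperty.of_isPullback (P := @Flat) (isPullback_whiskerLeft_left (sp k S) f).flip inferInstance
  haveI : LocallyOfFinitePresentation (sp k S ◁ f).left :=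
    MorphismProperty.of_isPullback (P := @LocallyOfFinitePresentation)
      (isPullback_whiskerLeft_left (sp k S) f).flip inferInstance
  haveI : Surjective (sp k S ◁ f).left :=
    MorphismProperty.of_isPullback (P := @Surjective) (isPullback_whiskerLeft_left (sp k S) f).flip inferInstance
  have hψ : quotMap v a o S = e ≫ sp k S ◁ f := (lift_whiskerLeft _ _ _).symm
  rw [hψ]
  haveI : Flat (e ≫ sp k S ◁ f).left := by rw [Over.comp_left]; infer_instance
  haveI : LocallyOfFinitePresentation (e ≫ sp k S ◁ f).left := by rw [Over.comp_left]; infer_instance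
  exact ⟨inferInstance, by rw [Over.comp_left]; infer_instance⟩

/-- The fibres of the quotient map on points. -/
lemma quotMap_fib [Algebra.FiniteType k S] {x y : Pt k (S ⊗[k] A)}
    (hxy : (quotMap v a o S).left (toP x) = (quotMap v a o S).left (toP y)) :
    fstP x = fstP y ∧ (sndP x)⁻¹ * sndP y ∈ ptsSub v i := by
  haveI := hX.1
  haveI : LocallyOfFiniteType (sp k S).hom := lft_sp
  haveI : LocallyOfFiniteType (sp k S ⊗ X).hom := lft_tensor
  have hpb := hX.2.2.2
  have hq : qPt x ≫ quotMap v a o S = qPt y ≫ quotMap v a o S := by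
    refine qPt_ext ?_
    show (quotMap v a o S).left (NRQuotLib.pt (qPt x)) = (quotMap v a o S).left (NRQuotLib.pt (qPt y))
    rw [qPt_pt, qPt_pt, hxy]
  rw [quotMap_qPt, quotMap_qPt] at hq
  have h1 := congrArg (fun m => m ≫ fst (sp k S) X) hq
  have h2 := congrArg (fun m => m ≫ snd (sp k S) X) hq
  simp only [lift_fst, lift_snd] at h1 h2
  refine ⟨toP_injective (by rw [← qPt_pt, h1, qPt_pt]), ?_⟩
  obtain ⟨h, hh⟩ : ∃ h : 𝟙_ (Over (Spec (CommRingCat.of k))) ⟶ H, ptEquiv v (sndP y) = ptEquiv v (sndP x) * (h ≫ i) := by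
    refine ⟨hpb.lift (ptEquiv v (sndP x)) (ptEquiv v (sndP y)) h2 ≫ snd G H, ?_⟩
    have e1 := hpb.lift_fst (ptEquiv v (sndP x)) (ptEquiv v (sndP y)) h2
    have e2 := hpb.lift_snd (ptEquiv v (sndP x)) (ptEquiv v (sndP y)) h2
    rw [Category.assoc, ← whiskerLeft_snd, ← Category.assoc, Hom.mul_def]
    nth_rw 1 [← e2]
    rw [← Category.assoc]
    congr 1
    ext
    · rw [lift_fst, Category.assoc, whiskerLeft_fst, e1]
    · rw [lift_snd, Category.assoc]
  exact (mem_ptsSub v).2 ⟨h, by rw [map_mul, map_inv, hh, inv_mul_cancel_left]⟩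

end quotMap

variable [IsAffine G.left] [Smooth G.hom]

/-- **A proper homogeneous space is complete.** -/
theorem complete_of_isProper (hX : AGF.IsQuotient i X a o) (hp : IsProper X.hom) :
    Complete (⊤ : Subgroup (Pt k A)) (ptsSub v i) := by
  haveI := hX.1; haveI := hp
  intro S _ _ _ Y hY _ hYH
  haveI hft : Algebra.FiniteType k (S ⊗[k] A) := finiteType_tensor
  obtain ⟨ho, hs⟩ := quotMap_props v a o S hX
  haveI := ho; haveI := hs
  set ψ := quotMap v a o S with hψ
  haveI : LocallyOfFiniteType (sp k S).hom := lft_sp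
  haveI : LocallyOfFiniteType (sp k S ⊗ X).hom := lft_tensor
  haveI : JacobsonSpace ↥(sp k S ⊗ X).left := LocallyOfFiniteType.jacobsonSpace (sp k S ⊗ X).hom
  let D : Set ↥(sp k (S ⊗[k] A)).left := PrimeSpectrum.zeroLocus (vanish Y : Set (S ⊗[k] A))
  have hD : IsClosed D := PrimeSpectrum.isClosed_zeroLocus _
  have hDY : ∀ x : Pt k (S ⊗[k] A), toP x ∈ D ↔ x ∈ Y := fun x => by
    conv_rhs => rw [← zeros_vanish_of_isClosed hY, zeros_eq_preimage]
    exact Iff.rfl
  let F : Set ↥(sp k S ⊗ X).left := (ψ.left '' Dᶜ)ᶜ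
  have hF : IsClosed F := (ψ.left.isOpenMap _ hD.isOpen_compl).isClosed_compl
  have hpr : IsClosedMap (fst (sp k S) X).left := by
    haveI : UniversallyClosed (fst (sp k S) X).left :=
      MorphismProperty.pullback_fst (P := @UniversallyClosed) _ _ inferInstance
    exact (fst (sp k S) X).left.isClosedMap
  have hfst := quotMap_fst v a o S
  suffices himg : fstP '' Y = (toP : Pt k S → PrimeSpectrum S) ⁻¹' ((fst (sp k S) X).left '' F) by
    rw [himg]
    exact (hpr _ hF).preimage (continuous_induced_dom (f := (toP : Pt k S → PrimeSpectrum S)))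
  ext s
  constructor
  · rintro ⟨y, hy, rfl⟩
    refine ⟨_, ?_, hfst y⟩
    rintro ⟨w, hw, hwy⟩
    have hc : IsClosed ({ψ.left (toP y)} : Set ↥(sp k S ⊗ X).left) := by
      have := NRQuotLib.isClosed_pt (qPt y ≫ ψ)
      rwa [show NRQuotLib.pt (qPt y ≫ ψ) = ψ.left (toP y) by rw [← qPt_pt]; rfl] at this
    obtain ⟨x, hxD, hx⟩ := exists_pt_mem (k := k) (R := S ⊗[k] A) (Z := Dᶜ ∩ ψ.left ⁻¹' {ψ.left (toP y)})
      ⟨w, hw, hwy⟩ (hD.isOpen_compl.isLocallyClosed.inter (hc.preimage ψ.left.continuous).isLocallyClosed)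
    obtain ⟨h1, h2⟩ := quotMap_fib v a o S hX (x := x) (y := y) hx
    refine hxD ((hDY x).2 ?_)
    have h3 := hYH y hy _ (inv_mem h2)
    rwa [mul_inv_rev, inv_inv, mul_inv_cancel_left, ← h1, pair_fstP_sndP] at h3
  · rintro ⟨t, ht, hts⟩
    have hs : IsClosed ({toP s} : Set ↥(sp k S).left) :=
      (PrimeSpectrum.isClosed_singleton_iff_isMaximal _).2 (isClosed_toP s)
    obtain ⟨t', ⟨ht'F, ht's⟩, ht'⟩ := nonempty_inter_closedPoints (Z := F ∩ (fst (sp k S) X).left ⁻¹' {toP s})
      ⟨t, ht, hts⟩ (hF.inter (hs.preimage (fst (sp k S) X).left.continuous)).isLocallyClosed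
    obtain ⟨w, hw⟩ := ψ.left.surjective t'
    obtain ⟨x, hx⟩ := exists_pt_mem (k := k) (R := S ⊗[k] A) (Z := ψ.left ⁻¹' {t'}) ⟨w, hw⟩
      ((ht' : IsClosed {t'}).preimage ψ.left.continuous).isLocallyClosed
    refine ⟨x, (hDY x).1 ?_, toP_injective ?_⟩
    · by_contra hxD
      exact ht'F ⟨toP x, hxD, hx⟩
    · rw [← hfst, show ψ.left (toP x) = t' from hx]
      exact ht's

end Groth.Agent.BorelLib

end
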