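import Groth.Agent.BorelLib.RedPerfect

/-!
# Points of surjective homomorphisms and finite kernels
-/

set_option autoImplicit false
set_option linter.style.haveILetI false
set_option linter.unusedSectionVars false
set_option backward.isDefEq.respectTransparency false
set_option maxHeartbeats 1000000
set_option synthInstance.maxHeartbeats 400000

universe u

open CategoryTheory CategoryTheory.Limits MonoidalCategory CartesianMonoidalCategory AlgebraicGeometry WithConv
open scoped MonObj commutatorElement
open CoactBr (sp)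

noncomputable section

attribute [-instance] CategoryTheory.Hom.commGroup

namespace Groth.Agent.BorelLib

attribute [local instance] pTop pTopTensor

variable {k : Type u} [Field k] (s : (Spec (CommRingCat.of k) : Scheme.{u}))
  {G G' : Over (Spec (CommRingCat.of k))} [GrpObj G] [GrpObj G'] [IsAffine G.left] [Smooth G.hom] [Smooth G'.hom]
  [IsAffine G'.left]
  {A A' : Type u} [CommRing A] [HopfAlgebra (AlgebraicClosure ((Spec (CommRingCat.of k)).residueField s)) A]
  [Algebra.FiniteType (AlgebraicClosure ((Spec (CommRingCat.of k)).residueField s)) A]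
  [CommRing A'] [HopfAlgebra (AlgebraicClosure ((Spec (CommRingCat.of k)).residueField s)) A']
  [Algebra.FiniteType (AlgebraicClosure ((Spec (CommRingCat.of k)).residueField s)) A']
  (v : sp (AlgebraicClosure ((Spec (CommRingCat.of k)).residueField s)) A ≅ Red.geomFibre s G) [IsMonHom v.hom]
  (w : sp (AlgebraicClosure ((Spec (CommRingCat.of k)).residueField s)) A' ≅ Red.geomFibre s G') [IsMonHom w.hom]

include v w in
/-- An isogeny is one on geometric points. -/
theorem exists_isogeny (φ : G' ⟶ G) [IsMonHom φ] [Surjective φ.left]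
    (hker : Finite ↥(pullback φ.left (η[G] : 𝟙_ (Over (Spec (CommRingCat.of k))) ⟶ G).left)) :
    ∃ f : Pt (AlgebraicClosure ((Spec (CommRingCat.of k)).residueField s)) A' →*
        Pt (AlgebraicClosure ((Spec (CommRingCat.of k)).residueField s)) A,
      IsMor f ∧ Function.Surjective f ∧
        (f.ker : Set (Pt (AlgebraicClosure ((Spec (CommRingCat.of k)).residueField s)) A')).Finite := by
  let t := Red.geomPt s
  haveI := DiagRep.isMonHom_bc_map t φ
  obtain ⟨_, -, -⟩ := exists_geomPt_algebra s
  haveI : IsSeparated G.hom := inferInstance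
  haveI : QuasiCompact (Red.bc t G).hom := MorphismProperty.pullback_snd (P := @QuasiCompact) _ _ inferInstance
  obtain ⟨ψ, hψ⟩ := Groth.Agent.DiagRep.exists_pt (A := A) (C := A') (w.hom ≫ (Over.pullback t).map φ ≫ v.inv)
  let f : Pt (AlgebraicClosure ((Spec (CommRingCat.of k)).residueField s)) A' →*
      Pt (AlgebraicClosure ((Spec (CommRingCat.of k)).residueField s)) A :=
    ((ptEquiv v).symm.toMonoidHom.comp (ptHom ((Over.pullback t).map φ))).comp (ptEquiv w).toMonoidHom
  have hfv : ∀ x, ptEquiv v (f x) = ptEquiv w x ≫ (Over.pullback t).map φ := fun x => (ptEquiv v).apply_symm_apply _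
  have hf : ∀ x, f x = pull ψ x := fun x => (ptEquiv v).injective (by
    rw [hfv]
    show (_ ≫ CoactBr.pt x.ofConv ≫ w.hom) ≫ _ = _ ≫ CoactBr.pt (x.ofConv.comp ψ) ≫ v.hom
    rw [CoactBr.pt_comp, ← hψ]
    simp only [Category.assoc, v.inv_hom_id]
    erw [Category.comp_id])
  haveI : Smooth (Red.bc t G).hom := MorphismProperty.pullback_snd (P := @Smooth) _ _ inferInstance
  haveI : LocallyOfFiniteType (Red.bc t G').hom := MorphismProperty.pullback_snd (P := @LocallyOfFiniteType) _ _ inferInstance
  haveI : Surjective ((Over.pullback t).map φ).left :=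
    MorphismProperty.baseChange_map (P := @Surjective) t φ inferInstance
  refine ⟨f, ⟨ψ, hf⟩, fun y => ?_, ?_⟩
  · obtain ⟨b, hb⟩ := NA.exists_pt_of_mem_range ((Over.pullback t).map φ) (ptEquiv v y)
      ((Scheme.Hom.surjective ((Over.pullback t).map φ).left) _)
    exact ⟨(ptEquiv w).symm b, (ptEquiv v).injective (by rw [hfv, (ptEquiv w).apply_symm_apply, hb])⟩
  -- the kernel
  let P : Over (Spec (CommRingCat.of k)) :=
    Over.mk (pullback.fst φ.left (η[G] : 𝟙_ (Over (Spec (CommRingCat.of k))) ⟶ G).left ≫ G'.hom)
  haveI : IsSeparated G.hom := inferInstance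
  haveI : IsClosedImmersion (η[G] : 𝟙_ (Over (Spec (CommRingCat.of k))) ⟶ G).left := by
    haveI : IsClosedImmersion ((η[G] : 𝟙_ (Over (Spec (CommRingCat.of k))) ⟶ G).left ≫ G.hom) := by
      rw [Over.w]; exact inferInstanceAs (IsClosedImmersion (𝟙 _))
    exact IsClosedImmersion.of_comp _ G.hom
  haveI : LocallyOfFiniteType P.hom := inferInstanceAs (LocallyOfFiniteType (_ ≫ G'.hom))
  haveI : QuasiCompact P.hom := inferInstanceAs (QuasiCompact (_ ≫ G'.hom))
  haveI : LocallyQuasiFinite P.hom := LocallyQuasiFinite.of_finite_preimage_singleton _ fun _ => by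
    haveI : Finite ↥P.left := hker
    exact Set.toFinite _
  haveI : LocallyQuasiFinite (Red.bc t P).hom := MorphismProperty.pullback_snd (P := @LocallyQuasiFinite) _ _ inferInstance
  haveI : QuasiCompact (Red.bc t P).hom := MorphismProperty.pullback_snd (P := @QuasiCompact) _ _ inferInstance
  have hPfin : Finite ↥(Red.bc t P).left := by
    haveI : Subsingleton ↥(Spec (CommRingCat.of (AlgebraicClosure ((Spec (CommRingCat.of k)).residueField s)))) :=
      inferInstanceAs (Subsingleton (PrimeSpectrum _))
    refine Set.finite_univ_iff.1 (((Red.bc t P).hom.finite_preimage_singleton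
      (IsLocalRing.closedPoint _)).subset fun x _ => ?_)
    exact Subsingleton.elim _ _
  let i : P ⟶ G' := Over.homMk (pullback.fst φ.left (η[G] : 𝟙_ (Over (Spec (CommRingCat.of k))) ⟶ G).left) rfl
  haveI := hPfin
  let pt' : Pt (AlgebraicClosure ((Spec (CommRingCat.of k)).residueField s)) A' → ↥(Red.bc t G').left :=
    fun x => (ptEquiv w x).left (IsLocalRing.closedPoint _)
  have hinj : Function.Injective pt' := fun x y hxy => (ptEquiv w).injective
    (Over.OverMorphism.ext (ext_of_apply_closedPoint_eq (Red.bc t G').hom (Over.w _) (Over.w _) hxy))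
  refine ((Set.finite_range ((Over.pullback t).map i).left).preimage hinj.injOn).subset fun x hx => ?_
  obtain ⟨a, rfl⟩ := (FF.toPt t w).surjective x
  have hk : a ≫ φ = 1 := by
    have h1 : f (FF.toPt t w a) = 1 := hx
    have h2 : FF.toPt t v (a ≫ φ) = f (FF.toPt t w a) := by
      apply (ptEquiv v).injective
      rw [FF.ptEquiv_toPt, ← FF.ptK_comp, hfv, FF.ptEquiv_toPt]
    rw [h1, ← map_one (FF.toPt t v)] at h2
    exact (FF.toPt t v).injective h2
  let b : Over.mk t ⟶ P := Over.homMk (pullback.lift a.left (toUnit (Over.mk t)).left (by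
    rw [← Over.comp_left, ← Over.comp_left, hk]; rfl)) (by
    show pullback.lift _ _ _ ≫ pullback.fst _ _ ≫ G'.hom = _
    rw [pullback.lift_fst_assoc]
    exact Over.w a)
  have hb : b ≫ i = a := Over.OverMorphism.ext (pullback.lift_fst _ _ _)
  let z : Spec (CommRingCat.of (AlgebraicClosure ((Spec (CommRingCat.of k)).residueField s))) ⟶ (Red.bc t P).left :=
    pullback.lift b.left (𝟙 _) ((Over.w b).trans (Category.id_comp _).symm)
  have hzi : z ≫ ((Over.pullback t).map i).left = (ptEquiv w (FF.toPt t w a)).left := by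
    rw [FF.ptEquiv_toPt]
    refine pullback.hom_ext ?_ ?_
    · rw [Category.assoc, show ((Over.pullback t).map i).left ≫ pullback.fst G'.hom t =
        pullback.fst P.hom t ≫ i.left from pullback.lift_fst _ _ _, ← Category.assoc, pullback.lift_fst,
        FF.ptK_left_fst, ← Over.comp_left, hb]
    · rw [Category.assoc, show ((Over.pullback t).map i).left ≫ pullback.snd G'.hom t = pullback.snd P.hom t from
        pullback.lift_snd _ _ _, pullback.lift_snd]
      exact (Over.w (FF.ptK t G' a)).symm
  refine ⟨z (IsLocalRing.closedPoint _), ?_⟩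
  show _ = (ptEquiv w (FF.toPt t w a)).left _
  rw [← hzi]
  rfl

end Groth.Agent.BorelLib

end
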