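import Groth.Agent.BorelLib.RedGeom
import Groth.Agent.BorelLib.CartanNorm

/-!
# Subgroups over a field seen on geometric points
-/

set_option autoImplicit false
set_option linter.style.haveILetI false
set_option linter.unusedSectionVars false
set_option backward.isDefEq.respectTransparency false
set_option maxHeartbeats 1000000
set_option synthInstance.maxHeartbeats 400000

universe u

open CategoryTheory CategoryTheory.Limits MonoidalCategory CartesianMonoidalCategory AlgebraicGeometry WithConv
open scoped MonObj commutatorElement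
open CoactBr (sp)

noncomputable section

attribute [-instance] CategoryTheory.Hom.commGroup

namespace Groth.Agent.BorelLib

attribute [local instance] pTop pTopTensor

variable {k : Type u} [Field k] (s : (Spec (CommRingCat.of k) : Scheme.{u}))
  {G : Over (Spec (CommRingCat.of k))} [GrpObj G] [IsAffine G.left] [Smooth G.hom]
  {A : Type u} [CommRing A] [HopfAlgebra (AlgebraicClosure ((Spec (CommRingCat.of k)).residueField s)) A]
  [Algebra.FiniteType (AlgebraicClosure ((Spec (CommRingCat.of k)).residueField s)) A]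
  (v : sp (AlgebraicClosure ((Spec (CommRingCat.of k)).residueField s)) A ≅ Red.geomFibre s G) [IsMonHom v.hom]
  {H : Over (Spec (CommRingCat.of k))} [GrpObj H]

/-- The geometric points of a smooth connected closed subgroup. -/
theorem geom_sub_facts (i : H ⟶ G) [IsMonHom i] [IsClosedImmersion i.left] [Smooth H.hom] [ConnectedSpace H.left] :
    haveI := DiagRep.isMonHom_bc_map (Red.geomPt s) i
    IsClosedImmersion ((Over.pullback (Red.geomPt s)).map i).left ∧ Smooth (Red.geomFibre s H).hom ∧
      ConnectedSpace (Red.geomFibre s H).left ∧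
      IsClosed (ptsSub v ((Over.pullback (Red.geomPt s)).map i) : Set (Pt (AlgebraicClosure ((Spec (CommRingCat.of k)).residueField s)) A)) ∧
      _root_.IsPreconnected (ptsSub v ((Over.pullback (Red.geomPt s)).map i) : Set (Pt (AlgebraicClosure ((Spec (CommRingCat.of k)).residueField s)) A)) := by
  haveI := DiagRep.isMonHom_bc_map (Red.geomPt s) i
  haveI : IsAffine H.left := isAffine_of_isAffineHom i.left
  haveI : IsClosedImmersion ((Over.pullback (Red.geomPt s)).map i).left := isClosedImmersion_bc _ i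
  obtain ⟨-, hs, hc⟩ := geom_facts s H
  obtain ⟨-, hsG, -⟩ : True ∧ Smooth (Red.geomFibre s G).hom ∧ True :=
    ⟨trivial, MorphismProperty.pullback_snd (P := @Smooth) _ _ inferInstance, trivial⟩
  haveI := hs; haveI := hc; haveI := hsG
  exact ⟨inferInstance, hs, hc, isClosed_ptsSub v, isPreconnected_ptsSub v⟩

/-- Commutative subgroups have commuting geometric points. -/
theorem geom_comm [IsCommMonObj H] (i : H ⟶ G) [IsMonHom i] :
    haveI := DiagRep.isMonHom_bc_map (Red.geomPt s) i
    IsSol (ptsSub v ((Over.pullback (Red.geomPt s)).map i)) := by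
  haveI := DiagRep.isMonHom_bc_map (Red.geomPt s) i
  refine ⟨1, le_bot_iff.1 (Subgroup.commutator_le.2 fun a ha b hb => ?_)⟩
  rw [Subgroup.mem_bot, commutatorElement_eq_one_iff_mul_comm]
  obtain ⟨a, rfl⟩ := (FF.toPt (Red.geomPt s) v).surjective a
  obtain ⟨b, rfl⟩ := (FF.toPt (Red.geomPt s) v).surjective b
  obtain ⟨_, -, -⟩ := exists_geomPt_algebra s
  obtain ⟨x, rfl⟩ := (FF.mem_ptsSub_bc (Red.geomPt s) v i a).1 ha
  obtain ⟨y, rfl⟩ := (FF.mem_ptsSub_bc (Red.geomPt s) v i b).1 hb
  rw [← map_mul, ← map_mul, ← MonObj.mul_comp, ← MonObj.mul_comp, mul_comm_of_isComm x y]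

/-- Solvable subgroups have solvable groups of geometric points. -/
theorem geom_sol (i : H ⟶ G) [IsMonHom i] (hH : Red.IsSolvableGrp H) :
    haveI := DiagRep.isMonHom_bc_map (Red.geomPt s) i
    IsSol (ptsSub v ((Over.pullback (Red.geomPt s)).map i)) := by
  haveI := DiagRep.isMonHom_bc_map (Red.geomPt s) i
  obtain ⟨_, -, -⟩ := exists_geomPt_algebra s
  let f : (Over.mk (Red.geomPt s) ⟶ H) →* Pt (AlgebraicClosure ((Spec (CommRingCat.of k)).residueField s)) A :=
    (FF.toPt (Red.geomPt s) v).toMonoidHom.comp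
      { toFun := fun x => x ≫ i
        map_one' := MonObj.one_comp i
        map_mul' := fun x y => MonObj.mul_comp x y i }
  have hr : f.range = ptsSub v ((Over.pullback (Red.geomPt s)).map i) := by
    ext z
    obtain ⟨z, rfl⟩ := (FF.toPt (Red.geomPt s) v).surjective z
    rw [FF.mem_ptsSub_bc]
    exact ⟨fun ⟨x, hx⟩ => ⟨x, (FF.toPt (Red.geomPt s) v).injective hx⟩, fun ⟨x, hx⟩ => ⟨x, by rw [← hx]; rfl⟩⟩
  obtain ⟨n, hn⟩ := hH
  refine ⟨n, ?_⟩
  rw [← hr, der_eq_map, ← map_derivedSeries_eq f.rangeRestrict_surjective n, hn, Subgroup.map_bot,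
    Subgroup.map_bot]

/-- The geometric points of a normal subgroup are normal. -/
theorem geom_normal (i : H ⟶ G) [IsMonHom i] (hn : AlgGrp.IsNormalHom i) :
    haveI := DiagRep.isMonHom_bc_map (Red.geomPt s) i
    ∀ g, conjSub g (ptsSub v ((Over.pullback (Red.geomPt s)).map i)) ≤ ptsSub v ((Over.pullback (Red.geomPt s)).map i) :=
  haveI := DiagRep.isMonHom_bc_map (Red.geomPt s) i
  fun g => conjSub_le_of_normal v (isNormalHom_bc (Red.geomPt s) i hn) g

/-- A central subgroup seen on geometric points. -/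
theorem comm_of_geom_central (i : H ⟶ G) [IsMonHom i] [Smooth H.hom]
    (hc : haveI := DiagRep.isMonHom_bc_map (Red.geomPt s) i
      ptsSub v ((Over.pullback (Red.geomPt s)).map i) ≤ Subgroup.center _)
    (X : Over (Spec (CommRingCat.of k))) (t : X ⟶ H) (g : X ⟶ G) : (t ≫ i) * g = g * (t ≫ i) := by
  haveI := DiagRep.isMonHom_bc_map (Red.geomPt s) i
  obtain ⟨_, -, -⟩ := exists_geomPt_algebra s
  haveI : Smooth (H ⊗ G).hom := inferInstanceAs (Smooth (pullback.fst H.hom G.hom ≫ H.hom))
  have key : (fst H G ≫ i) * snd H G = snd H G * (fst H G ≫ i) := by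
    refine eq_of_geom_points s fun p => (FF.toPt (Red.geomPt s) v).injective ?_
    rw [MonObj.comp_mul, MonObj.comp_mul, map_mul, map_mul, ← Category.assoc]
    refine (Subgroup.mem_center_iff.1 (hc ?_) _).symm
    exact (FF.mem_ptsSub_bc (Red.geomPt s) v i _).2 ⟨p ≫ fst H G, rfl⟩
  have := congrArg (fun w => lift t g ≫ w) key
  simp only [MonObj.comp_mul, lift_fst_assoc, lift_snd] at this
  exact this

end Groth.Agent.BorelLib

end
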