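import Groth.Agent.BorelLib.Reductive
import Groth.Agent.BorelLib.FinitePairs
import Groth.Agent.BorelLib.Image

/-!
# Reductive groups of points: normal subgroups, isogenies, automorphisms
-/

set_option autoImplicit false
set_option linter.style.haveILetI false
set_option linter.unusedSectionVars false
set_option backward.isDefEq.respectTransparency false
set_option maxHeartbeats 1000000
set_option synthInstance.maxHeartbeats 400000

universe u

open WithConv
open scoped commutatorElement

noncomputable section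

namespace Groth.Agent.BorelLib

attribute [local instance] pTop pTopTensor

variable {k : Type u} [Field k] [IsAlgClosed k] {A : Type u} [CommRing A] [HopfAlgebra k A] [Algebra.FiniteType k A]

/-- A connected normal subgroup of a reductive group is reductive. -/
theorem IsRedPts.normal_isRedSub (hconn : _root_.IsPreconnected (Set.univ : Set (Pt k A))) (hred : IsRedPts k A)
    {N : Subgroup (Pt k A)} (hNc : IsClosed (N : Set (Pt k A))) (hN : _root_.IsPreconnected (N : Set (Pt k A)))
    (hn : ∀ g, conjSub g N ≤ N) : IsRedSub N := fun J hle hc hp hJn hu => by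
  have hs := isSol_of_uni hc hp hu
  set I := ⨅ B : {B : Subgroup (Pt k A) // IsBor N B}, (B : Subgroup (Pt k A))
  obtain ⟨B₀, hB₀, -, -⟩ := IsBor.exists_conj_universal hNc hN
  have hJI : J ≤ I := le_iInf fun B => by
    obtain ⟨g, hg, hgJ⟩ := B.2.exists_conj_le hNc hN hle hp hs
    intro x hx
    have := hgJ ⟨g⁻¹ * x * g, hJn g⁻¹ (inv_mem hg) ⟨x, hx, by simp⟩, rfl⟩
    simpa [_root_.mul_assoc] using this
  have hIn : ∀ g, conjSub g I ≤ I := fun g => le_iInf fun B => by
    have heq : ∀ a, conjSub a N = N := fun a => conjSub_eq_of_le hNc (hn a)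
    have hb : IsBor N (BorelLib.conjSub g⁻¹ B.1) :=
      ⟨(conjSub_mono B.2.le).trans (heq _).le, isClosed_conjSub B.2.closed, isPreconnected_conjSub B.2.conn,
        B.2.sol.conjSub _, fun H hHN hHc hHp hHs hBH => by
          have h := B.2.maximal (BorelLib.conjSub g H) ((conjSub_mono hHN).trans (heq g).le) (isClosed_conjSub hHc)
            (isPreconnected_conjSub hHp) (hHs.conjSub _) (by
              have := conjSub_mono (a := g) hBH
              rwa [conjSub_conjSub, mul_inv_cancel, conjSub_one] at this)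
          rw [← h, conjSub_conjSub, inv_mul_cancel, conjSub_one]⟩
    have := conjSub_mono (a := g) (iInf_le_of_le (⟨_, hb⟩ : {B : Subgroup (Pt k A) // IsBor N B}) le_rfl : I ≤ _)
    rwa [conjSub_conjSub, mul_inv_cancel, conjSub_one] at this
  refine eq_bot_of_le_radSub hconn hred hp ((le_neut hp hJI).trans ?_) hu
  refine le_radSub hconn (isPreconnected_neut I) (fun g => le_neut (isPreconnected_conjSub (isPreconnected_neut I))
    ((conjSub_mono (neut_le I)).trans (hIn g))) (hB₀.sol.mono ((neut_le I).trans ?_))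
  exact iInf_le_of_le (⟨B₀, hB₀⟩ : {B : Subgroup (Pt k A) // IsBor N B}) le_rfl

/-- The radical is invariant under bicontinuous automorphisms. -/
theorem map_radSub_le (hconn : _root_.IsPreconnected (Set.univ : Set (Pt k A))) (e : Pt k A ≃* Pt k A)
    (he : Continuous e) : (radSub k A).map e.toMonoidHom ≤ radSub k A := by
  obtain ⟨hc, hp, hs, hn, -⟩ := radSub_facts (k := k) (A := A) hconn
  refine le_radSub hconn (isPreconnected_map_auto e he hp) (fun g => ?_) (hs.map _)
  rintro _ ⟨_, ⟨x, hx, rfl⟩, rfl⟩
  refine ⟨e.symm g * x * (e.symm g)⁻¹, hn (e.symm g) ⟨x, hx, rfl⟩, ?_⟩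
  simp

/-- Commutators of a connected solvable group act unipotently. -/
theorem der_one_le_uni {K : Subgroup (Pt k A)} (hc : IsClosed (K : Set (Pt k A)))
    (hp : _root_.IsPreconnected (K : Set (Pt k A))) (hs : IsSol K) :
    ∀ u ∈ clSub (der K 1), IsUni u := by
  obtain ⟨D, hD⟩ := exists_flag_uni hc hp hs
  obtain ⟨r, q, -, hq, -⟩ := D.exists_diag hc hp
  intro u hu
  refine ((hD u).1 (clSub_le (D.isClosed_U hc 1) ?_ hu)).2
  rw [der_succ, der_zero, Subgroup.commutator_le]
  intro a ha b hb
  refine (hq ⁅(⟨a, ha⟩ : K), ⟨b, hb⟩⁆).1 ?_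
  rw [map_commutatorElement, commutatorElement_eq_one_iff_mul_comm]
  exact lr_comm _ _

/-- Stability under bicontinuous automorphisms. -/
def IsStable (S : Subgroup (Pt k A)) : Prop :=
  ∀ e : Pt k A ≃* Pt k A, Continuous e → Continuous e.symm → S.map e.toMonoidHom ≤ S

theorem isStable_radSub (hconn : _root_.IsPreconnected (Set.univ : Set (Pt k A))) : IsStable (radSub k A) :=
  fun e he _ => map_radSub_le hconn e he

theorem IsStable.clSub_der {S : Subgroup (Pt k A)} (h : IsStable S) (n : ℕ) : IsStable (clSub (der S n)) := by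
  rintro e he he' _ ⟨x, hx, rfl⟩
  refine map_mem_closure he hx fun y hy => ?_
  have := der_mono (h e he he') n
  rw [der_map] at this
  exact this ⟨y, hy, rfl⟩

/-- The radical is a torus as soon as every characteristic commutative connected normal subgroup is. -/
theorem radSub_isTor_of_comm (hconn : _root_.IsPreconnected (Set.univ : Set (Pt k A)))
    (h : ∀ D : Subgroup (Pt k A), IsClosed (D : Set (Pt k A)) → _root_.IsPreconnected (D : Set (Pt k A)) →
      (∀ g, conjSub g D ≤ D) → IsStable D → (∀ a ∈ D, ∀ b ∈ D, a * b = b * a) → IsTor D) :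
    IsTor (radSub k A) := by
  obtain ⟨hc, hp, hs, hn, -⟩ := radSub_facts (k := k) (A := A) hconn
  by_cases hbot : radSub k A = ⊥
  · exact h _ hc hp hn (isStable_radSub hconn) fun a ha b hb => by
      rw [hbot, Subgroup.mem_bot] at ha hb
      rw [ha, hb]
  obtain ⟨n, hle, hne, hp', hn', hcomm⟩ := exists_comm_normal hc hp hn hs hbot
  have htor := h _ (isClosed_clSub _) hp' hn' ((isStable_radSub hconn).clSub_der n) hcomm
  rcases n with _ | n
  · have e : clSub (der (radSub k A) 0) = radSub k A := le_antisymm hle (le_clSub _)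
    exact e ▸ htor
  exfalso
  refine hne (eq_bot_of_uni htor fun u hu => der_one_le_uni hc hp hs u ?_)
  refine clSub_le (isClosed_clSub _) (le_trans ?_ (le_clSub _)) hu
  rw [der_succ', show (⁅radSub k A, radSub k A⁆ : Subgroup (Pt k A)) = der (radSub k A) 1 from rfl]
  exact der_le _ _

variable {A' : Type u} [CommRing A'] [HopfAlgebra k A'] [Algebra.FiniteType k A'] (f : Pt k A' →* Pt k A)

/-- Images of unipotent elements are unipotent. -/
theorem IsUni.map (hf : IsMor f) {u : Pt k A'} (hu : IsUni u) : IsUni (f u) := by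
  intro W _ _ _ r
  exact hu W
    { ρ := fun x => r.ρ (f x)
      map_one := by simp [r.map_one]
      map_mul := fun a _ b _ => by rw [map_mul]; exact r.map_mul _ trivial _ trivial
      reg := fun φ w => (r.reg φ w).comp hf }

/-- The image of a connected normal solvable subgroup lies in the radical. -/
theorem map_le_radSub (hconn : _root_.IsPreconnected (Set.univ : Set (Pt k A))) (hf : IsMor f)
    (hsur : Function.Surjective f) {N : Subgroup (Pt k A')} (hp : _root_.IsPreconnected (N : Set (Pt k A')))
    (hn : ∀ g, conjSub g N ≤ N) (hs : IsSol N) : N.map f ≤ radSub k A := by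
  refine le_radSub hconn ?_ (fun g => ?_) (hs.map f)
  · rw [Subgroup.coe_map]
    exact hp.image _ hf.continuous.continuousOn
  · rintro _ ⟨_, ⟨x, hx, rfl⟩, rfl⟩
    obtain ⟨a, rfl⟩ := hsur g
    exact ⟨a * x * a⁻¹, hn a ⟨x, hx, rfl⟩, by simp⟩

/-- A connected subgroup inside a finite kernel is trivial. -/
theorem eq_bot_of_map (hfin : (f.ker : Set (Pt k A')).Finite) {N : Subgroup (Pt k A')}
    (hp : _root_.IsPreconnected (N : Set (Pt k A'))) (h : N.map f = ⊥) : N = ⊥ := by
  refine le_bot_iff.1 fun u hu => Subgroup.mem_bot.2 (WithConv.ext (AlgHom.ext fun a => ?_))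
  have hreg : IsReg fun y : Pt k A' => y.ofConv a := ⟨a, fun _ => rfl⟩
  refine hreg.const_of_finite hp ((hfin.image fun y => y.ofConv a).subset ?_) hu N.one_mem
  rintro _ ⟨y, hy, rfl⟩
  exact ⟨y, Subgroup.mem_bot.1 (h ▸ ⟨y, hy, rfl⟩ : f y ∈ (⊥ : Subgroup (Pt k A))), rfl⟩

/-- Reductivity passes to isogenous groups. -/
theorem IsRedPts.of_isogeny (hconn : _root_.IsPreconnected (Set.univ : Set (Pt k A))) (hred : IsRedPts k A)
    (hf : IsMor f) (hsur : Function.Surjective f) (hfin : (f.ker : Set (Pt k A')).Finite) : IsRedPts k A' :=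
  fun N hc hp hn hu => by
    refine eq_bot_of_map f hfin hp (eq_bot_of_le_radSub hconn hred ?_
      (map_le_radSub f hconn hf hsur hp hn (isSol_of_uni hc hp hu)) ?_)
    · rw [Subgroup.coe_map]
      exact hp.image _ hf.continuous.continuousOn
    · rintro _ ⟨u, hu', rfl⟩
      exact (hu u hu').map f hf

/-- Semisimplicity passes to isogenous groups. -/
theorem IsSSPts.of_isogeny (hconn : _root_.IsPreconnected (Set.univ : Set (Pt k A))) (hss : IsSSPts k A)
    (hf : IsMor f) (hsur : Function.Surjective f) (hfin : (f.ker : Set (Pt k A')).Finite) : IsSSPts k A' :=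
  fun N _ hp hn hs => eq_bot_of_map f hfin hp
    (le_bot_iff.1 ((map_le_radSub f hconn hf hsur hp hn hs).trans (hss.radSub_eq_bot hconn).le))

end Groth.Agent.BorelLib

end
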