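import Groth.Agent.BorelLib.PerfectDescent
import Groth.Agent.BorelLib.RedPtsMore

/-!
# Characteristic subgroups over perfect fields
-/

set_option autoImplicit false
set_option linter.style.haveILetI false
set_option linter.unusedSectionVars false
set_option backward.isDefEq.respectTransparency false
set_option maxHeartbeats 1000000
set_option synthInstance.maxHeartbeats 400000

universe u

open CategoryTheory CategoryTheory.Limits MonoidalCategory CartesianMonoidalCategory AlgebraicGeometry WithConv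
open scoped MonObj commutatorElement
open CoactBr (sp)

noncomputable section

attribute [-instance] CategoryTheory.Hom.commGroup

namespace Groth.Agent.BorelLib

attribute [local instance] pTop pTopTensor

variable {k : Type u} [Field k] (s : (Spec (CommRingCat.of k) : Scheme.{u}))
  {G : Over (Spec (CommRingCat.of k))} [GrpObj G] [IsAffine G.left] [Smooth G.hom]
  {A : Type u} [CommRing A] [HopfAlgebra (AlgebraicClosure ((Spec (CommRingCat.of k)).residueField s)) A]
  [Algebra.FiniteType (AlgebraicClosure ((Spec (CommRingCat.of k)).residueField s)) A]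
  (v : sp (AlgebraicClosure ((Spec (CommRingCat.of k)).residueField s)) A ≅ Red.geomFibre s G) [IsMonHom v.hom]

omit [IsAffine G.left] [Smooth G.hom] in
/-- A smooth group is solvable as soon as its geometric points are. -/
theorem isSolvableGrp_of_geom {H : Over (Spec (CommRingCat.of k))} [GrpObj H] [Smooth H.hom] {n : ℕ}
    (h : derivedSeries (Over.mk (Red.geomPt s) ⟶ H) n = ⊥) : Red.IsSolvableGrp H := by
  have key : ∀ n : ℕ, ∃ (P : Over (Spec (CommRingCat.of k))) (_ : GrpObj P) (w : P ⟶ H), Smooth P.hom ∧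
      (∀ (X : Over (Spec (CommRingCat.of k))), ∀ g ∈ wordSet (H := H) X n, ∃ f : X ⟶ P, f ≫ w = g) ∧
      ∀ (X : Over (Spec (CommRingCat.of k))) (f : X ⟶ P), f ≫ w ∈ derivedSeries (X ⟶ H) n := by
    intro n
    induction n with
    | zero => exact ⟨H, inferInstance, 𝟙 H, inferInstance, fun _ g _ => ⟨g, Category.comp_id g⟩, fun _ _ => trivial⟩
    | succ n ih =>
      obtain ⟨P, _, w, hP, hw, hpt⟩ := ih
      haveI := hP
      refine ⟨P ⊗ P, inferInstance, ⁅fst P P ≫ w, snd P P ≫ w⁆,
        inferInstanceAs (Smooth (pullback.fst P.hom P.hom ≫ P.hom)), fun X g hg => ?_, fun X f => ?_⟩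
      · obtain ⟨a, ha, b, hb, rfl⟩ := hg
        obtain ⟨fa, rfl⟩ := hw X a ha
        obtain ⟨fb, rfl⟩ := hw X b hb
        exact ⟨lift fa fb, by simp [commutatorElement_def, MonObj.comp_mul, GrpObj.comp_inv]⟩
      · rw [derivedSeries_succ,
          show f ≫ ⁅fst P P ≫ w, snd P P ≫ w⁆ = ⁅(f ≫ fst P P) ≫ w, (f ≫ snd P P) ≫ w⁆ by
            simp [commutatorElement_def, MonObj.comp_mul, GrpObj.comp_inv]]
        exact Subgroup.commutator_mem_commutator (hpt X _) (hpt X _)
  obtain ⟨P, _, w, hP, hw, hpt⟩ := key n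
  haveI := hP
  have hw1 : w = 1 := eq_of_geom_points s fun g => by
    have := hpt _ g
    rw [h, Subgroup.mem_bot] at this
    rw [this, MonObj.comp_one]
  refine ⟨n, fun X => le_bot_iff.1 ((derivedSeries_le_wordSet X n).trans ((Subgroup.closure_le _).2 fun g hg => ?_))⟩
  obtain ⟨f, rfl⟩ := hw X g hg
  rw [SetLike.mem_coe, Subgroup.mem_bot, hw1, MonObj.comp_one]

/-- A Galois stable connected normal subgroup is defined over a perfect field. -/
theorem exists_descended_normal [PerfectField k]
    {S : Subgroup (Pt (AlgebraicClosure ((Spec (CommRingCat.of k)).residueField s)) A)}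
    (hc : IsClosed (S : Set (Pt (AlgebraicClosure ((Spec (CommRingCat.of k)).residueField s)) A)))
    (hp : _root_.IsPreconnected (S : Set (Pt (AlgebraicClosure ((Spec (CommRingCat.of k)).residueField s)) A)))
    (hn : ∀ g, conjSub g S ≤ S)
    (hst : ∀ e : Pt (AlgebraicClosure ((Spec (CommRingCat.of k)).residueField s)) A ≃*
      Pt (AlgebraicClosure ((Spec (CommRingCat.of k)).residueField s)) A,
      Continuous e → Continuous e.symm → S.map e.toMonoidHom ≤ S) :
    ∃ (H : Over (Spec (CommRingCat.of k))) (_ : GrpObj H) (i : H ⟶ G) (_ : IsMonHom i),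
      IsClosedImmersion i.left ∧ Smooth H.hom ∧ ConnectedSpace H.left ∧ AlgGrp.IsNormalHom i ∧
      (haveI := DiagRep.isMonHom_bc_map (Red.geomPt s) i
       ptsSub v ((Over.pullback (Red.geomPt s)).map i) = S) ∧
      ((∀ a ∈ S, ∀ b ∈ S, a * b = b * a) → IsCommMonObj H) ∧ (IsSol S → Red.IsSolvableGrp H) := by
  obtain ⟨_, hal, ht⟩ := exists_geomPt_algebra s
  let t := Red.geomPt s
  haveI : IsAffineHom (Red.bc t G).hom := MorphismProperty.pullback_snd (P := @IsAffineHom) _ _ inferInstance
  haveI : IsAffine (Red.bc t G).left := isAffine_of_isAffineHom (Red.bc t G).hom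
  haveI : QuasiCompact (Red.bc t G).hom := inferInstance
  haveI : Smooth (Red.bc t G).hom := MorphismProperty.pullback_snd (P := @Smooth) _ _ inferInstance
  obtain ⟨H₁, _, i₁, hi, hic, hsm, hpts, hH₁c, -⟩ := exists_scheme_sub v hc
  haveI := hi; haveI := hic; haveI := hsm
  haveI := hH₁c hp
  haveI : AlgebraicGeometry.IsReduced H₁.left := AlgSpLib.isReduced_of_smooth H₁.hom
  have hmem : ∀ a, (∃ b, b ≫ i₁ = FF.ptK t G a) ↔ FF.toPt t v a ∈ S := fun a => by
    rw [← hpts, mem_ptsSub, FF.ptEquiv_toPt]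
  obtain ⟨H, _, j, hj, hjc, hjs, e, he⟩ := Perf.exists_descent t ht i₁ fun τ a ha => (hmem _).2 (by
    refine hst (FF.galPt t ht v τ) (FF.continuous_galPt t ht v τ) (FF.continuous_galPt_symm t ht v τ)
      ⟨FF.toPt t v a, (hmem a).1 ha, ?_⟩
    exact FF.galPt_toPt t ht v τ a)
  haveI := hj; haveI := hjc; haveI := hjs
  haveI := DiagRep.isMonHom_bc_map t j
  have hS : ptsSub v ((Over.pullback t).map j) = S := by
    rw [← hpts]
    exact le_antisymm (ptsSub_le_of_factor v he)
      (ptsSub_le_of_factor v (f := e.inv) (by rw [← he, e.inv_hom_id_assoc]))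
  have hconnH : ConnectedSpace H.left := by
    haveI := isClosedImmersion_bc t j
    exact connectedSpace_of_geom s H (connectedSpace_of_pts v (i := (Over.pullback t).map j) (hS.symm ▸ hp))
  haveI : Smooth (G ⊗ H).hom := inferInstanceAs (Smooth (pullback.fst G.hom H.hom ≫ G.hom))
  haveI : AlgebraicGeometry.IsReduced (G ⊗ H).left := AlgSpLib.isReduced_of_smooth (G ⊗ H).hom
  haveI : Mono j := DiagRep.mono_of_isClosedImmersion j inferInstance
  refine ⟨H, inferInstance, j, hj, hjc, hjs, hconnH, ?_, hS, fun hcomm => ?_, fun hsol => ?_⟩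
  · obtain ⟨f, hf⟩ := Perf.exists_factor t ht (fst G H * (snd G H ≫ j) * (fst G H)⁻¹) j fun p => by
      refine (FF.mem_ptsSub_bc t v j _).1 ?_
      rw [hS, MonObj.comp_mul, MonObj.comp_mul, GrpObj.comp_inv, map_mul, map_mul, map_inv]
      refine hn _ ⟨_, ?_, rfl⟩
      rw [← hS]
      exact (FF.mem_ptsSub_bc t v j _).2 ⟨p ≫ snd G H, Category.assoc _ _ _⟩
    intro T g n
    refine ⟨lift g n ≫ f, ?_⟩
    rw [Category.assoc, hf, MonObj.comp_mul, MonObj.comp_mul, GrpObj.comp_inv, lift_fst, ← Category.assoc, lift_snd]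
  · haveI : Smooth (H ⊗ H).hom := inferInstanceAs (Smooth (pullback.fst H.hom H.hom ≫ H.hom))
    have e' : fst H H * snd H H = snd H H * fst H H := (cancel_mono j).1 (eq_of_geom_points s fun p => by
      apply (FF.toPt t v).injective
      rw [MonObj.mul_comp, MonObj.mul_comp, MonObj.comp_mul, MonObj.comp_mul, map_mul, map_mul]
      refine hcomm _ ?_ _ ?_ <;> rw [← hS]
      · exact (FF.mem_ptsSub_bc t v j _).2 ⟨p ≫ fst H H, Category.assoc _ _ _⟩
      · exact (FF.mem_ptsSub_bc t v j _).2 ⟨p ≫ snd H H, Category.assoc _ _ _⟩)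
    have hb : (β_ H H).hom = lift (snd H H) (fst H H) := by apply CartesianMonoidalCategory.hom_ext <;> simp
    constructor
    rw [Hom.mul_def, Hom.mul_def, lift_fst_snd, Category.id_comp] at e'
    rw [hb]
    exact e'.symm
  · obtain ⟨n, hn'⟩ := hsol
    refine isSolvableGrp_of_geom s (n := n) (le_bot_iff.1 fun x hx => Subgroup.mem_bot.2 ?_)
    let f : (Over.mk t ⟶ H) →* Pt (AlgebraicClosure ((Spec (CommRingCat.of k)).residueField s)) A :=
      (FF.toPt t v).toMonoidHom.comp
        { toFun := fun x => x ≫ j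
          map_one' := MonObj.one_comp j
          map_mul' := fun x y => MonObj.mul_comp x y j }
    have hinj : Function.Injective f := fun a b hab =>
      (cancel_mono j).1 ((FF.toPt t v).injective hab)
    have hle : f.range ≤ S := by
      rintro _ ⟨a, rfl⟩
      rw [← hS]
      exact (FF.mem_ptsSub_bc t v j _).2 ⟨a, rfl⟩
    have h1 : f x ∈ der f.range n := by
      rw [der_eq_map, ← map_derivedSeries_eq f.rangeRestrict_surjective n]
      exact ⟨_, ⟨x, hx, rfl⟩, rfl⟩
    have h2 := der_mono hle n h1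
    rw [hn', Subgroup.mem_bot] at h2
    exact hinj (h2.trans (map_one f).symm)

end Groth.Agent.BorelLib

end
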