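import Groth.Agent.BorelLib.RedPtsMore
import Groth.Agent.BorelLib.RedGeom
import Groth.Agent.BorelLib.Frame
import Groth.Agent.BorelLib.Image

/-!
# Quotients of reductive groups of points
-/

set_option autoImplicit false
set_option linter.style.haveILetI false
set_option linter.unusedSectionVars false
set_option backward.isDefEq.respectTransparency false
set_option maxHeartbeats 1000000
set_option synthInstance.maxHeartbeats 400000

universe u

open CategoryTheory CategoryTheory.Limits MonoidalCategory CartesianMonoidalCategory AlgebraicGeometry WithConv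
open scoped MonObj commutatorElement
open CoactBr (sp)

noncomputable section

attribute [-instance] CategoryTheory.Hom.commGroup

namespace Groth.Agent.BorelLib

attribute [local instance] pTop pTopTensor

variable {k : Type u} [Field k] [IsAlgClosed k] {A A' : Type u} [CommRing A] [HopfAlgebra k A]
  [Algebra.FiniteType k A] [CommRing A'] [HopfAlgebra k A'] [Algebra.FiniteType k A'] [_root_.IsReduced A']
  {f : Pt k A →* Pt k A'}

/-- A finite connected subgroup is trivial. -/
lemma eq_bot_of_finite {N : Subgroup (Pt k A')} (hN : _root_.IsPreconnected (N : Set (Pt k A')))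
    (hfin : (N : Set (Pt k A')).Finite) : N = ⊥ := by
  refine (Subgroup.eq_bot_iff_forall _).2 fun x hx => WithConv.ext (AlgHom.ext fun a => ?_)
  exact LieKolchinLib.const_of_finite_values hN a (hfin.image fun y => y.ofConv a)
    (fun y hy => ⟨y, hy, rfl⟩) N.one_mem hx

/-- The image of a reductive group of points is reductive. -/
theorem IsRedPts.map (hconn : _root_.IsPreconnected (Set.univ : Set (Pt k A))) (hred : IsRedPts k A)
    (hf : IsMor f) (hsur : Function.Surjective f) : IsRedPts k A' := by
  intro N hc hp hn hu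
  set M := neut (N.comap f)
  have hcc : IsClosed (N.comap f : Set (Pt k A)) := hc.preimage hf.continuous
  have hMc : IsClosed (M : Set (Pt k A)) := isClosed_neut hcc
  have hMp : _root_.IsPreconnected (M : Set (Pt k A)) := isPreconnected_neut _
  have hMn : ∀ g, conjSub g M ≤ M := fun g => le_neut (isPreconnected_conjSub hMp)
    ((conjSub_mono (neut_le _)).trans (by
      rintro _ ⟨x, hx, rfl⟩
      exact hn (f g) ⟨f x, hx, by simp⟩))
  have hMr := hred.normal_isRedSub hconn hMc hMp hMn
  obtain ⟨B, _, _, j, hB, hB', hj, hjind, hjinj, hjr, -⟩ := exists_frame hMc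
  haveI := hB; haveI := hB'
  have hjimg : j '' (Set.univ : Set (Pt k B)) = (M : Set (Pt k A)) := by
    rw [Set.image_univ, ← MonoidHom.coe_range, hjr]
  have hBconn : _root_.IsPreconnected (Set.univ : Set (Pt k B)) := hjind.isPreconnected_image.1 (hjimg.symm ▸ hMp)
  have hBred : IsRedPts k B := fun J hJc hJp hJn hJu => by
    have h := hMr (J.map j) (by rintro _ ⟨x, -, rfl⟩; exact hjr ▸ ⟨x, rfl⟩) (isClosed_map hj hJc hJp).1
      (isClosed_map hj hJc hJp).2 (fun g hg => by
        rw [← hjr] at hg
        obtain ⟨y, rfl⟩ := hg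
        rw [← map_conjSub]
        exact Subgroup.map_mono (hJn y))
      (by rintro _ ⟨x, hx, rfl⟩; exact (hJu x hx).map j hj)
    exact (Subgroup.map_eq_bot_iff_of_injective _ hjinj).1 h
  have hfj : IsMor (f.comp j) := hf.comp hj
  have hker : ∀ x : Pt k B, f (j x) = 1 := by
    have hcl : IsClosed {x : Pt k B | f.comp j x = 1} :=
      (show IsClosed ({1} : Set (Pt k A')) by
        rw [← Subgroup.coe_bot, ← clSub_bot]; exact isClosed_clSub _).preimage hfj.continuous
    have hsub : {x : Pt k B | ∃ T, IsMaxTor ⊤ T ∧ x ∈ T} ⊆ {x : Pt k B | f.comp j x = 1} := by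
      rintro x ⟨T, hT, hx⟩
      have hb : T.map (f.comp j) = ⊥ := eq_bot_of_uni (hT.tor.map hfj) (by
        rintro _ ⟨y, -, rfl⟩
        exact hu _ ((neut_le _ (hjr ▸ ⟨y, rfl⟩ : j y ∈ M)) : j y ∈ N.comap f))
      exact Subgroup.mem_bot.1 (hb ▸ Subgroup.mem_map_of_mem _ hx)
    intro x
    exact closure_minimal hsub hcl (by rw [hBred.dense_maxTor hBconn]; trivial)
  obtain ⟨F, -, hF⟩ := exists_neut_cosets hcc
  refine eq_bot_of_finite hp (((F.finite_toSet).image f).subset fun y hy => ?_)
  obtain ⟨x, rfl⟩ := hsur y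
  obtain ⟨r, hr, hrx⟩ := hF x hy
  obtain ⟨z, hz⟩ : r⁻¹ * x ∈ j.range := hjr ▸ hrx
  refine ⟨r, hr, ?_⟩
  have := hker z
  rw [hz, map_mul, map_inv, inv_mul_eq_one] at this
  exact this

end Groth.Agent.BorelLib

end
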