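import Groth.Agent.BorelLib.RedNormal

/-!
# Tori over a field and their centralisers
-/

set_option autoImplicit false
set_option linter.style.haveILetI false
set_option linter.unusedSectionVars false
set_option backward.isDefEq.respectTransparency false
set_option maxHeartbeats 1000000
set_option synthInstance.maxHeartbeats 400000

universe u

open CategoryTheory CategoryTheory.Limits MonoidalCategory CartesianMonoidalCategory AlgebraicGeometry WithConv
open scoped MonObj commutatorElement
open CoactBr (sp)

noncomputable section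

attribute [-instance] CategoryTheory.Hom.commGroup

namespace Groth.Agent.BorelLib

attribute [local instance] pTop pTopTensor

variable {k : Type u} [Field k] (s : (Spec (CommRingCat.of k) : Scheme.{u}))
  {G : Over (Spec (CommRingCat.of k))} [GrpObj G] [IsAffine G.left] [Smooth G.hom]

include s in
/-- Subtori of affine groups are smooth, connected and closed. -/
theorem subtorus_facts {T : Over (Spec (CommRingCat.of k))} [GrpObj T] (iT : T ⟶ G) [IsMonHom iT] [Mono iT]
    (hT : Red.IsTorus T) :
    IsClosedImmersion iT.left ∧ Smooth T.hom ∧ ConnectedSpace T.left ∧ LocallyOfFiniteType T.hom := by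
  have hMT : SGA3x.IsMultTypeFT T := by
    obtain ⟨S', f, hflat, hsurj, hcov, hloc⟩ := hT
    refine ⟨S', f, hflat, hsurj, hcov, fun x => ?_⟩
    obtain ⟨U, hU, r, hr⟩ := hloc x
    exact ⟨U, hU, (Fin r → ℤ), inferInstance, inferInstance, hr⟩
  haveI := Groth.Agent.MultEq.isAffineHom_of_isMultTypeFT hMT
  haveI := Groth.Agent.MultEq.lfp_of_isMultTypeFT hMT
  haveI : IsAffine T.left := isAffine_of_isAffineHom T.hom
  haveI : LocallyOfFiniteType T.hom := inferInstance
  obtain ⟨hs, hc⟩ := AlbLib.smooth_connected_of_isTorus hT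
  exact ⟨GrpHom.isClosedImmersion_of_mono iT, hs, hc, inferInstance⟩

include s in
/-- The points of a subtorus commute. -/
theorem subtorus_comm {T : Over (Spec (CommRingCat.of k))} [GrpObj T] (iT : T ⟶ G) [IsMonHom iT] [Mono iT]
    (hT : Red.IsTorus T) {X : Over (Spec (CommRingCat.of k))} (a b : X ⟶ T) : a * b = b * a := by
  obtain ⟨_, hTs, -, hTl⟩ := subtorus_facts s iT hT
  haveI := hTs; haveI := hTl
  haveI : IsAffineHom (Red.geomFibre s G).hom := MorphismProperty.pullback_snd (P := @IsAffineHom) _ _ inferInstance
  haveI : IsAffine (Red.geomFibre s G).left := isAffine_of_isAffineHom (Red.geomFibre s G).hom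
  haveI : Smooth (Red.geomFibre s G).hom := MorphismProperty.pullback_snd (P := @Smooth) _ _ inferInstance
  obtain ⟨A, _, _, v, hv, hA, -⟩ := exists_setup (Red.geomFibre s G)
  haveI := hv; haveI := hA
  obtain ⟨_, -, -⟩ := exists_geomPt_algebra s
  haveI := DiagRep.isMonHom_bc_map (Red.geomPt s) iT
  haveI := mono_bc (Red.geomPt s) iT
  have htor := isTor_ptsSub v ((Over.pullback (Red.geomPt s)).map iT) (RedRank.isTorus_bc hT _)
  haveI : Smooth (T ⊗ T).hom := inferInstanceAs (Smooth (pullback.fst T.hom T.hom ≫ T.hom))
  have key : fst T T * snd T T = snd T T * fst T T := (cancel_mono iT).1 (eq_of_geom_points s fun p => by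
    apply (FF.toPt (Red.geomPt s) v).injective
    rw [MonObj.mul_comp, MonObj.mul_comp, MonObj.comp_mul, MonObj.comp_mul, map_mul, map_mul]
    exact htor.comm _ ((FF.mem_ptsSub_bc _ v iT _).2 ⟨p ≫ fst T T, Category.assoc _ _ _⟩) _
      ((FF.mem_ptsSub_bc _ v iT _).2 ⟨p ≫ snd T T, Category.assoc _ _ _⟩))
  have := congrArg (fun w => lift a b ≫ w) key
  simpa [MonObj.comp_mul] using this

include s in
/-- Isomorphisms descend from the geometric fibre. -/
theorem isIso_of_geom {X Y : Over (Spec (CommRingCat.of k))} (f : X ⟶ Y)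
    (h : IsIso ((Over.pullback (Red.geomPt s)).map f)) : IsIso f := by
  let t := Red.geomPt s
  haveI := flat_geomPt s
  haveI := surjective_geomPt s
  haveI : Flat (pullback.fst Y.hom t) := MorphismProperty.pullback_fst (P := @Flat) _ _ inferInstance
  haveI : QuasiCompact (pullback.fst Y.hom t) := MorphismProperty.pullback_fst (P := @QuasiCompact) _ _ inferInstance
  haveI := surjective_fst s Y
  have sq : IsPullback (pullback.fst X.hom t) ((Over.pullback t).map f).left f.left (pullback.fst Y.hom t) :=
    IsPullback.of_bot (by simpa using (IsPullback.of_hasPullback X.hom t)) (pullback.lift_fst _ _ _).symm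
      (IsPullback.of_hasPullback Y.hom t)
  haveI : IsIso ((Over.pullback t).map f).left := (Over.forget _).map_isIso ((Over.pullback t).map f)
  haveI : IsIso ((Over.forget (Spec (CommRingCat.of k))).map f) :=
    MorphismProperty.of_isPullback_of_descendsAlong (P := MorphismProperty.isomorphisms Scheme.{u})
      (Q := @Surjective ⊓ @Flat ⊓ @QuasiCompact) sq.flip ⟨⟨inferInstance, inferInstance⟩, inferInstance⟩
      (inferInstanceAs (IsIso ((Over.pullback t).map f).left))
  exact isIso_of_reflects_iso f (Over.forget _)

include s in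
/-- A maximal torus of a reductive group is its own centraliser. -/
theorem isIso_centralizer_maxTorus (hG : Red.IsReductive G) {T C : Over (Spec (CommRingCat.of k))} [GrpObj T]
    [GrpObj C] {iT : T ⟶ G} [IsMonHom iT] [Mono iT] (hT : Red.IsMaximalTorus iT) {c : C ⟶ G}
    (hc : Red.IsCentralizerOf iT c) (a : T ⟶ C) (ha : a ≫ c = iT) : IsIso a := by
  obtain ⟨haff, hsm, hcon, A, _, _, v, hv, hA, hAr, hred⟩ := reductive_data s hG
  haveI := hsm; haveI := hcon; haveI := hv; haveI := hA; haveI := hAr
  obtain ⟨haff', hsm', hcon'⟩ := geom_facts s G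
  haveI := haff'; haveI := hsm'; haveI := hcon'
  let t := Red.geomPt s
  haveI := hc.1; haveI := hc.2.1
  haveI := DiagRep.isMonHom_bc_map t iT
  haveI := DiagRep.isMonHom_bc_map t c
  haveI := mono_bc t iT
  haveI := mono_bc t c
  obtain ⟨hTc, hTs, -, -⟩ := subtorus_facts s iT hT.2.2.1
  obtain ⟨hCs, hCc, hp⟩ := centralizer_facts v ((Over.pullback t).map iT) (RedRank.isTorus_bc hT.2.2.1 _)
    (isCentralizerOf_bc t hc)
  haveI := hCs; haveI := hCc; haveI := hTc; haveI := hTs
  haveI : IsClosedImmersion ((Over.pullback t).map iT).left := isClosedImmersion_bc t iT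
  haveI : Smooth (Red.bc t T).hom := MorphismProperty.pullback_snd (P := @Smooth) _ _ inferInstance
  haveI : AlgebraicGeometry.IsReduced (Red.bc t T).left := AlgSpLib.isReduced_of_smooth (Red.bc t T).hom
  haveI : AlgebraicGeometry.IsReduced (Red.bc t C).left := AlgSpLib.isReduced_of_smooth (Red.bc t C).hom
  have hpts : ptsSub v ((Over.pullback t).map c) = ptsSub v ((Over.pullback t).map iT) := by
    rw [hp]
    exact hred.centralizer_eq (isPreconnected_univ_of_connected v) (isMaxTor_ptsSub v (isMaxTorus_geom s hT))
  obtain ⟨e, he⟩ := NA.exists_iso_of_pts ((Over.pullback t).map iT) ((Over.pullback t).map c) fun x => by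
    have h := SetLike.ext_iff.1 hpts ((ptEquiv v).symm x)
    rw [mem_ptsSub, mem_ptsSub, (ptEquiv v).apply_symm_apply] at h
    exact h.symm
  have hae : (Over.pullback t).map a = e.hom :=
    (cancel_mono ((Over.pullback t).map c)).1 (by rw [← Functor.map_comp, ha, he])
  exact isIso_of_geom s a (hae ▸ inferInstance)

end Groth.Agent.BorelLib

end
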