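import Groth.Agent.BorelLib.RedNormal

/-!
# Unipotent radicals over an algebraically closed field
-/

set_option autoImplicit false
set_option linter.style.haveILetI false
set_option linter.unusedSectionVars false
set_option backward.isDefEq.respectTransparency false
set_option maxHeartbeats 1000000
set_option synthInstance.maxHeartbeats 400000

universe u

open CategoryTheory CategoryTheory.Limits MonoidalCategory CartesianMonoidalCategory AlgebraicGeometry WithConv
open scoped MonObj commutatorElement
open CoactBr (sp)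

noncomputable section

attribute [-instance] CategoryTheory.Hom.commGroup

namespace Groth.Agent.BorelLib

attribute [local instance] pTop pTopTensor

/-- Having no subtorus over a field follows from having none geometrically. -/
theorem hasNoSubtorus_of_geom {k : Type u} [Field k] (s : (Spec (CommRingCat.of k) : Scheme.{u}))
    {U : Over (Spec (CommRingCat.of k))} [GrpObj U]
    (h : Red.HasNoSubtorus (AlgebraicClosure ((Spec (CommRingCat.of k)).residueField s)) (Red.geomFibre s U)) :
    Red.HasNoSubtorus k U := fun T _ j _ _ hT => by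
  haveI := DiagRep.isMonHom_bc_map (Red.geomPt s) j
  haveI := mono_bc (Red.geomPt s) j
  exact isTrivialGrp_of_geom s (h _ ((Over.pullback (Red.geomPt s)).map j) (RedRank.isTorus_bc hT _))

variable {k : Type u} [Field k] [IsAlgClosed k]

/-- Having no subtorus over an algebraically closed field gives none geometrically. -/
theorem hasNoSubtorus_geom (s : (Spec (CommRingCat.of k) : Scheme.{u}))
    {U : Over (Spec (CommRingCat.of k))} [GrpObj U] (h : Red.HasNoSubtorus k U) :
    Red.HasNoSubtorus (AlgebraicClosure ((Spec (CommRingCat.of k)).residueField s)) (Red.geomFibre s U) := by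
  intro T₀ _ j₀ _ _ hT₀
  haveI := isIso_geomPt s
  let t := Red.geomPt s
  let q := CategoryTheory.inv t
  have hq : q ≫ t = 𝟙 _ := IsIso.inv_hom_id t
  haveI := DiagRep.isMonHom_bc_map q j₀
  haveI := mono_bc q j₀
  haveI : IsIso ((ActBC.bcCompIso q t U hq).hom ≫ bcIdHom U) := inferInstance
  let j' : Red.bc q T₀ ⟶ U := (Over.pullback q).map j₀ ≫ (ActBC.bcCompIso q t U hq).hom ≫ bcIdHom U
  haveI : IsMonHom j' := by
    show IsMonHom ((Over.pullback q).map j₀ ≫ (ActBC.bcCompIso q t U hq).hom ≫ bcIdHom U)
    infer_instance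
  haveI : Mono j' := mono_comp _ _
  have h1 : IsIso (Red.bc q T₀).hom := h _ j' (RedRank.isTorus_bc hT₀ q)
  haveI : IsIso q := inferInstanceAs (IsIso (CategoryTheory.inv t))
  haveI : IsIso (pullback.snd T₀.hom q) := h1
  show IsIso T₀.hom
  haveI : IsIso (pullback.fst T₀.hom q ≫ T₀.hom) := by rw [pullback.condition]; infer_instance
  exact IsIso.of_isIso_comp_left (pullback.fst T₀.hom q) T₀.hom

variable {A : Type u} [CommRing A] [HopfAlgebra k A] [Algebra.FiniteType k A]
  {G : Over (Spec (CommRingCat.of k))} [GrpObj G] (v : sp k A ≅ G) [IsMonHom v.hom] [IsAffine G.left] [Smooth G.hom]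
  {U : Over (Spec (CommRingCat.of k))} [GrpObj U] (i : U ⟶ G) [IsMonHom i] [IsClosedImmersion i.left]
  [Smooth U.hom]

/-- A connected subgroup without subtorus consists of unipotent elements. -/
theorem uni_of_hasNoSubtorus [ConnectedSpace U.left] (hno : Red.HasNoSubtorus k U) :
    ∀ x ∈ ptsSub v i, IsUni x := by
  haveI : Mono i := DiagRep.mono_of_isClosedImmersion i inferInstance
  refine (uni_of_noTor (isClosed_ptsSub v) (isPreconnected_ptsSub v) fun S hS hT => ?_).2
  obtain ⟨T, _, iT, hi, hm, hcl, hTT, hi', hpts⟩ := exists_torus_sub v hT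
  haveI := hi; haveI := hm; haveI := hcl
  obtain ⟨-, hTr⟩ := facts_torus v (iT := iT) inferInstance hTT
  haveI := hTr
  haveI : LocallyOfFiniteType T.hom := by rw [← Over.w iT]; infer_instance
  obtain ⟨f, hf⟩ := NA.exists_factor_of_pts iT i fun a => by
    obtain ⟨b, hb⟩ := (hS (hpts ▸ ⟨a, ((ptEquiv v).apply_symm_apply _).symm⟩) :
      (ptEquiv v).symm (a ≫ iT) ∈ ptsSub v i)
    exact ⟨b, hb.trans ((ptEquiv v).apply_symm_apply _)⟩
  haveI : Mono f := mono_of_mono_fac hf
  haveI : IsMonHom f :=
    { one_hom := (cancel_mono i).1 (by rw [Category.assoc, hf, IsMonHom.one_hom, IsMonHom.one_hom])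
      mul_hom := (cancel_mono i).1 (by
        rw [Category.assoc, hf, Category.assoc, IsMonHom.mul_hom, IsMonHom.mul_hom (f := i), ← Category.assoc,
          tensorHom_comp_tensorHom, hf]) }
  rw [← hpts]
  exact ptsSub_of_trivial v (hno T f hTT)

/-- A subgroup of unipotent elements has no subtorus. -/
theorem hasNoSubtorus_of_uni (hu : ∀ x ∈ ptsSub v i, IsUni x) : Red.HasNoSubtorus k U := fun T _ j _ _ hT => by
  haveI : Mono i := DiagRep.mono_of_isClosedImmersion i inferInstance
  haveI := isClosedImmersion_of_torus v (j ≫ i) hT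
  haveI : LocallyOfFiniteType T.hom := by rw [← Over.w (j ≫ i)]; infer_instance
  haveI : Smooth T.hom := (AlbLib.smooth_connected_of_isTorus hT).1
  refine ptsSub_eq_bot v (i := j ≫ i) (eq_bot_of_uni (isTor_ptsSub v (j ≫ i) hT) fun u hu' => hu u ?_)
  exact ptsSub_le_of_factor v (f := j) rfl hu'

include v in
/-- The unipotent radical exists, and contains the unipotent connected subgroups of the radical. -/
theorem exists_unipotentRadical [ConnectedSpace G.left] :
    ∃ (N : Over (Spec (CommRingCat.of k))) (_ : GrpObj N) (n : N ⟶ G) (_ : IsMonHom n),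
      Par.IsUnipotentRadical n ∧ ∀ J : Subgroup (Pt k A), _root_.IsPreconnected (J : Set (Pt k A)) →
        J ≤ radSub k A → (∀ x ∈ J, IsUni x) → J ≤ ptsSub v n := by
  have hconn := isPreconnected_univ_of_connected v
  obtain ⟨hc, hp, hs, hn, -⟩ := radSub_facts (k := k) (A := A) hconn
  obtain ⟨D, hD⟩ := exists_flag_uni hc hp hs
  set R := neut (D.U 1) with hR
  have hRn : ∀ g, conjSub g R ≤ R := fun g =>
    le_neut (isPreconnected_conjSub (isPreconnected_neut _)) ((conjSub_mono (neut_le _)).trans (by
      rintro _ ⟨x, hx, rfl⟩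
      exact (hD _).2 ⟨hn g ⟨x, ((hD x).1 hx).1, rfl⟩, ((hD x).1 hx).2.conj g⟩))
  haveI : QuasiCompact G.hom := inferInstance
  obtain ⟨N, _, n, hin, hic, hsm, hpts, hNc, -⟩ := exists_scheme_sub v (isClosed_neut (D.isClosed_U hc 1) (P := D.U 1))
  haveI := hin; haveI := hic; haveI := hsm
  haveI := hNc (isPreconnected_neut _)
  haveI : IsAffine N.left := isAffine_of_isAffineHom n.left
  have hno : Red.HasNoSubtorus k N := hasNoSubtorus_of_uni v n fun x hx => by
    rw [hpts] at hx
    exact ((hD x).1 (neut_le _ hx)).2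
  refine ⟨N, inferInstance, n, hin, ⟨hin, hic, isNormalHom_of_pts v (hpts.symm ▸ hRn), hsm, inferInstance,
    fun s => ⟨(geom_facts s N).2.2, hasNoSubtorus_geom s hno⟩, fun U' _ u' _ hc' hn' hs' hq' hU' => ?_⟩,
    fun J hJ hJr hJu => hpts ▸ le_neut hJ fun x hx => (hD x).2 ⟨hJr hx, hJu x hx⟩⟩
  haveI := hc'; haveI := hs'
  let s : ↥(Spec (CommRingCat.of k)) := IsLocalRing.closedPoint k
  haveI := connectedSpace_of_geom s U' (hU' s).1
  have hu := uni_of_hasNoSubtorus v u' (hasNoSubtorus_of_geom s (hU' s).2)
  haveI : AlgebraicGeometry.IsReduced U'.left := AlgSpLib.isReduced_of_smooth U'.hom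
  have hle : ptsSub v u' ≤ ptsSub v n := by
    rw [hpts]
    refine le_neut (isPreconnected_ptsSub v) fun x hx => (hD x).2 ⟨?_, hu x hx⟩
    exact le_radSub hconn (isPreconnected_ptsSub v) (conjSub_le_of_normal v hn')
      (isSol_of_uni (isClosed_ptsSub v) (isPreconnected_ptsSub v) hu) hx
  exact exists_factor_of_le v hle

end Groth.Agent.BorelLib

end
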