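import Groth.Agent.BorelLib.RedUnip
import Groth.Agent.BorelLib.CommBorel

/-!
# Maximal connected unipotent subgroups
-/

set_option autoImplicit false
set_option linter.style.haveILetI false
set_option linter.unusedSectionVars false
set_option backward.isDefEq.respectTransparency false
set_option maxHeartbeats 1000000
set_option synthInstance.maxHeartbeats 400000

universe u

open CategoryTheory CategoryTheory.Limits MonoidalCategory CartesianMonoidalCategory AlgebraicGeometry WithConv
open scoped MonObj commutatorElement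
open CoactBr (sp)

noncomputable section

attribute [-instance] CategoryTheory.Hom.commGroup

namespace Groth.Agent.BorelLib

attribute [local instance] pTop pTopTensor

variable {k : Type u} [Field k] [IsAlgClosed k] {A : Type u} [CommRing A] [HopfAlgebra k A] [Algebra.FiniteType k A]

/-- A connected solvable group without connected unipotent subgroup is a torus. -/
theorem isTor_of_no_uni {K : Subgroup (Pt k A)} (hc : IsClosed (K : Set (Pt k A)))
    (hp : _root_.IsPreconnected (K : Set (Pt k A))) (hs : IsSol K)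
    (h : ∀ J : Subgroup (Pt k A), J ≤ K → IsClosed (J : Set (Pt k A)) → _root_.IsPreconnected (J : Set (Pt k A)) →
      (∀ u ∈ J, IsUni u) → J = ⊥) : IsTor K := by
  obtain ⟨D, hD⟩ := exists_flag_uni hc hp hs
  obtain ⟨S, hSK, hS, -, hdec, -⟩ := D.exists_torus_decomp hc hp
  obtain ⟨R, hR, hcov⟩ := exists_neut_cosets (D.isClosed_U hc 1)
  have hJ := h (neut (D.U 1)) ((neut_le _).trans (D.U_le 1)) (isClosed_neut (D.isClosed_U hc 1))
    (isPreconnected_neut _) fun u hu' => ((hD u).1 (neut_le _ hu')).2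
  have hfin : (D.U 1 : Set (Pt k A)).Finite := R.finite_toSet.subset fun u hu => by
    obtain ⟨r, hr, hru⟩ := hcov u hu
    rw [hJ, Subgroup.mem_bot, inv_mul_eq_one] at hru
    exact hru ▸ hr
  have hle : K ≤ S := by
    intro x hx
    refine subset_of_cosets hS.closed hp K.one_mem (R := R) (fun m hm => ?_) hx
    obtain ⟨s, hs', hsU⟩ := hdec m hm
    obtain ⟨r, hr, hrU⟩ := hcov _ hsU
    change r⁻¹ * (s⁻¹ * m) ∈ neut (D.U 1) at hrU
    rw [hJ, Subgroup.mem_bot, inv_mul_eq_one] at hrU
    refine ⟨r, hr, ?_⟩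
    have hcomm : r * s = s * r :=
      (conj_eq_of_finite hp hfin (fun g hg => D.conj_mem_U hg (hR r hr)) (hSK hs')).symm
    rw [show r⁻¹ * m = r⁻¹ * (s * r) by rw [hrU]; group, ← hcomm, inv_mul_cancel_left]
    exact hs'
  exact (le_antisymm hle hSK) ▸ hS

/-- A maximal connected unipotent subgroup is the connected unipotent part of a Borel subgroup. -/
theorem exists_bor_of_max_uni (hconn : _root_.IsPreconnected (Set.univ : Set (Pt k A))) {U : Subgroup (Pt k A)}
    (hc : IsClosed (U : Set (Pt k A))) (hp : _root_.IsPreconnected (U : Set (Pt k A))) (hu : ∀ u ∈ U, IsUni u)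
    (hmax : ∀ V : Subgroup (Pt k A), IsClosed (V : Set (Pt k A)) → _root_.IsPreconnected (V : Set (Pt k A)) →
      (∀ u ∈ V, IsUni u) → U ≤ V → V = U) :
    ∃ B, IsBor ⊤ B ∧ U ≤ B ∧ (∀ g ∈ B, conjSub g U ≤ U) ∧
      ∀ J : Subgroup (Pt k A), J ≤ B → _root_.IsPreconnected (J : Set (Pt k A)) → (∀ u ∈ J, IsUni u) → J ≤ U := by
  have hKc : IsClosed ((⊤ : Subgroup (Pt k A)) : Set (Pt k A)) := by rw [Subgroup.coe_top]; exact isClosed_univ
  have hK : _root_.IsPreconnected ((⊤ : Subgroup (Pt k A)) : Set (Pt k A)) := by rwa [Subgroup.coe_top]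
  obtain ⟨B₀, hB₀, -, huniv⟩ := IsBor.exists_conj_universal hKc hK
  obtain ⟨g, -, hg⟩ := hB₀.exists_conj_le hKc hK le_top hp (isSol_of_uni hc hp hu)
  set B := BorelLib.conjSub g⁻¹ B₀
  have hB : IsBor ⊤ B := hB₀.conjSub (a := g⁻¹) trivial
  have hUB : U ≤ B := by
    have := conjSub_mono (a := g⁻¹) hg
    rwa [conjSub_conjSub, inv_mul_cancel, conjSub_one] at this
  obtain ⟨D, hD⟩ := exists_flag_uni hB.closed hB.conn hB.sol
  have e : neut (D.U 1) = U := hmax _ (isClosed_neut (D.isClosed_U hB.closed 1)) (isPreconnected_neut _)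
    (fun u hu' => ((hD u).1 (neut_le _ hu')).2) (le_neut hp fun u hu' => (hD u).2 ⟨hUB hu', hu u hu'⟩)
  refine ⟨B, hB, hUB, fun a ha => ?_, fun J hJB hJp hJu => e ▸ le_neut hJp fun u hu' => (hD u).2 ⟨hJB hu', hJu u hu'⟩⟩
  rw [← e]
  refine le_neut (isPreconnected_conjSub (isPreconnected_neut _)) ((conjSub_mono (neut_le _)).trans ?_)
  rintro _ ⟨x, hx, rfl⟩
  exact D.conj_mem_U ha hx

variable {G : Over (Spec (CommRingCat.of k))} [GrpObj G] (v : sp k A ≅ G) [IsMonHom v.hom] [IsAffine G.left]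
  [Smooth G.hom]

/-- Maximality of a subgroup scheme without subtorus, on points. -/
theorem max_uni_pts {U : Over (Spec (CommRingCat.of k))} [GrpObj U] {i : U ⟶ G} [IsMonHom i]
    [IsClosedImmersion i.left] [Smooth U.hom]
    (hmax : ∀ (V : Over (Spec (CommRingCat.of k))) [GrpObj V] (j : V ⟶ G) [IsMonHom j] (f : U ⟶ V), IsClosedImmersion j.left →
      Smooth V.hom → ConnectedSpace V.left → Red.HasNoSubtorus k V → f ≫ j = i → IsIso f)
    (V : Subgroup (Pt k A)) (hc : IsClosed (V : Set (Pt k A))) (hp : _root_.IsPreconnected (V : Set (Pt k A)))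
    (hu : ∀ u ∈ V, IsUni u) (hle : ptsSub v i ≤ V) : V = ptsSub v i := by
  haveI : QuasiCompact G.hom := inferInstance
  obtain ⟨W, _, j, hj, hjc, hjs, hpts, hWc, -⟩ := exists_scheme_sub v hc
  haveI := hj; haveI := hjc; haveI := hjs
  haveI := hWc hp
  haveI : AlgebraicGeometry.IsReduced U.left := AlgSpLib.isReduced_of_smooth U.hom
  obtain ⟨f, hf⟩ := exists_factor_of_le v (hpts.symm ▸ hle : ptsSub v i ≤ ptsSub v j)
  haveI := hmax W j f hjc hjs inferInstance (hasNoSubtorus_of_uni v j (hpts.symm ▸ hu)) hf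
  refine le_antisymm ?_ hle
  rw [← hpts]
  exact ptsSub_le_of_factor v (f := inv f) (by rw [IsIso.inv_comp_eq, hf])

end Groth.Agent.BorelLib

end
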