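import Groth.Agent.BorelLib.Chevalley
import Groth.Agent.BorelLib.MaxTorGeom

/-!
# Reductive groups: Cartan subgroups are maximal tori
-/

set_option autoImplicit false
set_option linter.style.haveILetI false
set_option linter.unusedSectionVars false
set_option backward.isDefEq.respectTransparency false
set_option maxHeartbeats 1000000
set_option synthInstance.maxHeartbeats 400000

universe u

open CategoryTheory CategoryTheory.Limits MonoidalCategory CartesianMonoidalCategory AlgebraicGeometry WithConv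
open scoped MonObj commutatorElement
open CoactBr (sp)

noncomputable section

attribute [-instance] CategoryTheory.Hom.commGroup

namespace Groth.Agent.BorelLib

attribute [local instance] pTop pTopTensor

variable {k : Type u} [Field k] [IsAlgClosed k] {A : Type u} [CommRing A] [HopfAlgebra k A] [Algebra.FiniteType k A]

/-- An element acting unipotently in every representation. -/
def IsUni (u : Pt k A) : Prop :=
  ∀ (W : Type u) [AddCommGroup W] [Module k W] [FiniteDimensional k W] (r : RegRep (⊤ : Subgroup (Pt k A)) W),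
    ∃ N : ℕ, (r.ρ u - 1) ^ N = 0

lemma IsUni.eq_one {u : Pt k A} (hu : IsUni u) {T : Subgroup (Pt k A)} (hT : IsTor T) (huT : u ∈ T) : u = 1 := by
  obtain ⟨V, _, _, _, r, hr⟩ := exists_faithful (k := k) (A := A)
  obtain ⟨N, hN⟩ := hu V r
  exact hT.eq_one_of_unip r hr huT hN

lemma IsUni.conj {u : Pt k A} (hu : IsUni u) (g : Pt k A) : IsUni (g * u * g⁻¹) := by
  intro W _ _ _ r
  obtain ⟨N, hN⟩ := hu W r
  have hm : ∀ a b : Pt k A, r.ρ (a * b) = r.ρ a * r.ρ b := fun a b => r.map_mul a trivial b trivial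
  have e : r.ρ (g * u * g⁻¹) - 1 = r.ρ g * (r.ρ u - 1) * r.ρ g⁻¹ := by
    rw [mul_sub, mul_one, sub_mul, ← hm, ← hm, ← hm, mul_inv_cancel, r.map_one]
  refine ⟨N, ?_⟩
  rw [e]
  have hinv : r.ρ g⁻¹ * r.ρ g = 1 := by rw [← hm, inv_mul_cancel, r.map_one]
  have : ∀ n : ℕ, (r.ρ g * (r.ρ u - 1) * r.ρ g⁻¹) ^ n = r.ρ g * (r.ρ u - 1) ^ n * r.ρ g⁻¹ := by
    intro n
    induction n with
    | zero => rw [pow_zero, pow_zero, mul_one, ← hm, mul_inv_cancel, r.map_one]
    | succ n ih =>
      rw [pow_succ, ih, pow_succ (r.ρ u - 1)]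
      simp only [_root_.mul_assoc]
      rw [← _root_.mul_assoc (r.ρ g⁻¹) (r.ρ g), hinv, one_mul]
  rw [this, hN, mul_zero, zero_mul]

variable {K : Subgroup (Pt k A)}

/-- An element of a solvable group unipotent in the defining representation lies in the unipotent part. -/
lemma FlagRep.mem_U_one_of_nilpotent (D : FlagRep K) {u : Pt k A} (hu : u ∈ K) {N : ℕ}
    (hN : (D.r.ρ u - 1) ^ N = 0) : u ∈ D.U 1 := by
  refine ⟨hu, fun j v hv => ?_⟩
  rcases j with _ | j
  · rw [D.F_zero, Submodule.mem_bot] at hv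
    rw [hv, map_zero]
    exact zero_mem _
  rw [show j + 1 - 1 = j from rfl]
  obtain ⟨c, hc⟩ := D.scalar u hu j
  have hstab : ∀ w ∈ D.F j, (D.r.ρ u - 1) w ∈ D.F j := fun w hw => by
    rw [LinearMap.sub_apply, Module.End.one_apply]
    exact (D.F j).sub_mem (D.stable hu hw) hw
  have h1 : ∀ w ∈ D.F (j + 1), (D.r.ρ u - 1) w - (c - 1) • w ∈ D.F j := fun w hw => by
    convert hc w hw using 1
    rw [LinearMap.sub_apply, Module.End.one_apply, sub_smul, one_smul]
    abel
  by_cases hc1 : c = 1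
  · have := h1 v hv
    rwa [hc1, sub_self, zero_smul, sub_zero] at this
  have hpow : ∀ n : ℕ, ((D.r.ρ u - 1) ^ n) v - (c - 1) ^ n • v ∈ D.F j := by
    intro n
    induction n with
    | zero => simp
    | succ n ih =>
      have h2 := (D.F j).add_mem (hstab _ ih) ((D.F j).smul_mem ((c - 1) ^ n) (h1 v hv))
      convert h2 using 1
      rw [pow_succ', Module.End.mul_apply, map_sub, map_smul, smul_sub, smul_smul, ← pow_succ]
      abel
  have h3 := hpow N
  rw [hN, LinearMap.zero_apply, zero_sub, neg_mem_iff, (D.F j).smul_mem_iff (pow_ne_zero _ (sub_ne_zero.2 hc1))] at h3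
  exact hstab v h3

/-- The flag whose unipotent part consists of the unipotent elements. -/
theorem exists_flag_uni (hKc : IsClosed (K : Set (Pt k A))) (hK : _root_.IsPreconnected (K : Set (Pt k A)))
    (hs : IsSol K) : ∃ D : FlagRep K, ∀ u, u ∈ D.U 1 ↔ u ∈ K ∧ IsUni u := by
  obtain ⟨V, _, _, _, r₀, -⟩ := exists_faithful (k := k) (A := A)
  obtain ⟨D, -, hDT⟩ := exists_flag_unip hK hs r₀
  have hown : ∀ u ∈ K, (∃ N : ℕ, (D.r.ρ u - 1) ^ N = 0) → u ∈ D.U 1 := fun u hu ⟨N, hN⟩ =>
    D.mem_U_one_of_nilpotent hu hN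
  refine ⟨D, fun u => ⟨fun hu => ⟨hu.1, fun W _ _ _ r => ?_⟩, fun hu => hown u hu.1 (hu.2 _ D.r)⟩⟩
  obtain ⟨D', hD', -⟩ := exists_flag_unip hK hs (r.prod D.r)
  obtain ⟨S, -, hS, -, hdec, -⟩ := D'.exists_torus_decomp hKc hK
  obtain ⟨s, hsS, hsU⟩ := hdec u hu.1
  have hw : s⁻¹ * u ∈ D.U 1 := hown _ hsU.1 (by
    obtain ⟨N, hN⟩ := hD' _ hsU
    refine ⟨N, LinearMap.ext fun z => ?_⟩
    have hpr : ∀ (m : ℕ) (y : W × D.V), ((((r.prod D.r).ρ (s⁻¹ * u) - 1) ^ m) y).2 =
        ((D.r.ρ (s⁻¹ * u) - 1) ^ m) y.2 := by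
      intro m
      induction m with
      | zero => intro y; simp
      | succ m ih =>
        intro y
        rw [pow_succ, pow_succ, Module.End.mul_apply, Module.End.mul_apply, ih]
        rfl
    have := hpr N (0, z)
    rw [hN] at this
    exact this.symm)
  have hs1 : s = 1 := hDT S hS s hsS (by
    have := (D.U 1).mul_mem hu ((D.U 1).inv_mem hw)
    rwa [_root_.mul_inv_rev, inv_inv, mul_inv_cancel_left] at this)
  obtain ⟨N, hN⟩ := hD' _ hsU
  rw [hs1, inv_one, one_mul] at hN
  refine ⟨N, LinearMap.ext fun z => ?_⟩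
  have hpr : ∀ (m : ℕ) (y : W × D.V), ((((r.prod D.r).ρ u - 1) ^ m) y).1 = ((r.ρ u - 1) ^ m) y.1 := by
    intro m
    induction m with
    | zero => intro y; simp
    | succ m ih =>
      intro y
      rw [pow_succ, pow_succ, Module.End.mul_apply, Module.End.mul_apply, ih]
      rfl
  have := hpr N (z, 0)
  rw [hN] at this
  exact this.symm

/-- A connected group without torus is unipotent and solvable. -/
theorem uni_of_noTor (hKc : IsClosed (K : Set (Pt k A))) (hK : _root_.IsPreconnected (K : Set (Pt k A)))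
    (h : ∀ T : Subgroup (Pt k A), T ≤ K → IsTor T → T = ⊥) : IsSol K ∧ ∀ u ∈ K, IsUni u := by
  obtain ⟨T₀, hT₀, -⟩ := exists_isMaxTor hKc hK
  have hb := h T₀ hT₀.le hT₀.tor
  have hcart : cart K T₀ = K := le_antisymm cart_le (le_neut hK fun x hx => ⟨hx, by
    rw [hb]
    refine Subgroup.mem_centralizer_iff.2 fun y hy => ?_
    rw [Subgroup.mem_bot.1 hy, one_mul, mul_one]⟩)
  have hs : IsSol K := hcart ▸ hT₀.isSol_cart hKc
  obtain ⟨D, hD⟩ := exists_flag_uni hKc hK hs
  obtain ⟨S, hSK, hS, -, hdec, -⟩ := D.exists_torus_decomp hKc hK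
  refine ⟨hs, fun u hu => ?_⟩
  obtain ⟨s, hsS, hsU⟩ := hdec u hu
  have hs1 : s = 1 := Subgroup.mem_bot.1 (show s ∈ (⊥ : Subgroup (Pt k A)) from h S hSK hS ▸ hsS)
  rw [hs1, inv_one, one_mul] at hsU
  exact ((hD u).1 hsU).2

variable (k A) in
/-- The group of points has no non-trivial connected normal unipotent subgroup. -/
def IsRedPts : Prop :=
  ∀ N : Subgroup (Pt k A), IsClosed (N : Set (Pt k A)) → _root_.IsPreconnected (N : Set (Pt k A)) →
    (∀ g, conjSub g N ≤ N) → (∀ u ∈ N, IsUni u) → N = ⊥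

variable (k A) in
/-- The neutral component of the intersection of the Borel subgroups. -/
def radSub : Subgroup (Pt k A) := neut (⨅ B : {B : Subgroup (Pt k A) // IsBor ⊤ B}, (B : Subgroup (Pt k A)))

lemma radSub_facts (hconn : _root_.IsPreconnected (Set.univ : Set (Pt k A))) :
    IsClosed (radSub k A : Set (Pt k A)) ∧ _root_.IsPreconnected (radSub k A : Set (Pt k A)) ∧ IsSol (radSub k A) ∧
      (∀ g, conjSub g (radSub k A) ≤ radSub k A) ∧ ∀ B, IsBor ⊤ B → radSub k A ≤ B := by
  set I := ⨅ B : {B : Subgroup (Pt k A) // IsBor ⊤ B}, (B : Subgroup (Pt k A)) with hI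
  have hle : ∀ B, IsBor ⊤ B → I ≤ B := fun B hB => iInf_le_of_le ⟨B, hB⟩ le_rfl
  have hIc : IsClosed (I : Set (Pt k A)) := by
    rw [hI, Subgroup.coe_iInf]
    exact isClosed_iInter fun B => B.2.closed
  have hIn : ∀ g, conjSub g I ≤ I := fun g => le_iInf fun B => by
    have := conjSub_mono (a := g) (hle _ (B.2.conjSub (a := g⁻¹) trivial))
    rwa [conjSub_conjSub, mul_inv_cancel, conjSub_one] at this
  obtain ⟨B₀, hB₀, -, -⟩ := IsBor.exists_conj_universal (K := (⊤ : Subgroup (Pt k A)))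
    (by rw [Subgroup.coe_top]; exact isClosed_univ) (by rwa [Subgroup.coe_top])
  refine ⟨isClosed_neut hIc, isPreconnected_neut _, hB₀.sol.mono ((neut_le _).trans (hle _ hB₀)), fun g => ?_,
    fun B hB => (neut_le _).trans (hle B hB)⟩
  exact le_neut (isPreconnected_conjSub (isPreconnected_neut I)) ((conjSub_mono (neut_le I)).trans (hIn g))

/-- In a reductive group the intersection of the Borel subgroups has no unipotent elements in its connected part. -/
lemma eq_bot_of_le_radSub (hconn : _root_.IsPreconnected (Set.univ : Set (Pt k A))) (hred : IsRedPts k A)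
    {J : Subgroup (Pt k A)} (hJ : _root_.IsPreconnected (J : Set (Pt k A))) (hle : J ≤ radSub k A)
    (hu : ∀ u ∈ J, IsUni u) : J = ⊥ := by
  obtain ⟨hc, hp, hs, hn, -⟩ := radSub_facts (k := k) (A := A) hconn
  obtain ⟨D, hD⟩ := exists_flag_uni hc hp hs
  have hN := hred (neut (D.U 1)) (isClosed_neut (D.isClosed_U hc 1)) (isPreconnected_neut _)
    (fun g => le_neut (isPreconnected_conjSub (isPreconnected_neut _)) ((conjSub_mono (neut_le _)).trans (by
      rintro _ ⟨u, hu, rfl⟩
      exact (hD _).2 ⟨hn g ⟨u, ((hD u).1 hu).1, rfl⟩, ((hD u).1 hu).2.conj g⟩)))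
    fun u hu' => ((hD u).1 (neut_le _ hu')).2
  rw [eq_bot_iff, ← hN]
  exact le_neut hJ fun u hu' => (hD u).2 ⟨hle hu', hu u hu'⟩

variable {T : Subgroup (Pt k A)}

/-- The centraliser of a maximal torus lies in every Borel subgroup containing the torus. -/
theorem IsMaxTor.centralizer_le_bor (hconn : _root_.IsPreconnected (Set.univ : Set (Pt k A))) (hT : IsMaxTor ⊤ T)
    {B : Subgroup (Pt k A)} (hB : IsBor ⊤ B) (hTB : T ≤ B) :
    Subgroup.centralizer (T : Set (Pt k A)) ≤ B := by
  have hKc : IsClosed ((⊤ : Subgroup (Pt k A)) : Set (Pt k A)) := by rw [Subgroup.coe_top]; exact isClosed_univ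
  have hK : _root_.IsPreconnected ((⊤ : Subgroup (Pt k A)) : Set (Pt k A)) := by rwa [Subgroup.coe_top]
  have hb := hB.inf_centralizer hKc hK hT.tor hTB
  have hZc : _root_.IsPreconnected ((⊤ ⊓ Subgroup.centralizer (T : Set (Pt k A)) : Subgroup (Pt k A)) : Set (Pt k A)) :=
    isPreconnected_centralizer_tor hKc hK hT.tor le_top
  have hcart : cart ⊤ T = ⊤ ⊓ Subgroup.centralizer (T : Set (Pt k A)) :=
    le_antisymm (neut_le _) (le_neut hZc le_rfl)
  have e := hb.maximal _ le_rfl (hKc.inter (isClosed_centralizer T)) hZc (hcart ▸ hT.isSol_cart hKc) hb.le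
  intro x hx
  have hx' : x ∈ ⊤ ⊓ Subgroup.centralizer (T : Set (Pt k A)) := ⟨trivial, hx⟩
  rw [e] at hx'
  exact hx'.1

/-- **In a reductive group a maximal torus is its own centraliser.** -/
theorem IsRedPts.centralizer_eq (hconn : _root_.IsPreconnected (Set.univ : Set (Pt k A))) (hred : IsRedPts k A)
    (hT : IsMaxTor ⊤ T) : Subgroup.centralizer (T : Set (Pt k A)) = T := by
  have hKc : IsClosed ((⊤ : Subgroup (Pt k A)) : Set (Pt k A)) := by rw [Subgroup.coe_top]; exact isClosed_univ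
  have hK : _root_.IsPreconnected ((⊤ : Subgroup (Pt k A)) : Set (Pt k A)) := by rwa [Subgroup.coe_top]
  set C := cart ⊤ T with hCdef
  have hCeq : Subgroup.centralizer (T : Set (Pt k A)) ≤ C := le_neut
    (by simpa using isPreconnected_centralizer_tor hKc hK hT.tor le_top) fun x hx => ⟨trivial, hx⟩
  have hCc : IsClosed (C : Set (Pt k A)) := isClosed_cart hKc T
  have hCconn : _root_.IsPreconnected (C : Set (Pt k A)) := isPreconnected_neut _
  obtain ⟨D, hD⟩ := exists_flag_uni hCc hCconn (hT.isSol_cart hKc)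
  obtain ⟨S, hSC, hS, hu, hdec, -⟩ := D.exists_torus_decomp hCc hCconn
  obtain ⟨g, hg, hgT⟩ := hu T hT.le_cart hT.tor
  have hTS : T ≤ S := fun s hs => hgT ⟨s, hs, by
    show g * s * g⁻¹ = s
    rw [← commute_of_mem_cart hg hs, mul_inv_cancel_right]⟩
  have hST : S = T := hT.maximal S le_top hS hTS
  set J := neut (D.U 1)
  have hJC : J ≤ C := (neut_le _).trans (D.U_le 1)
  have hJ : J = ⊥ := by
    refine eq_bot_of_le_radSub hconn hred (isPreconnected_neut _) ?_ fun u hu' => ((hD u).1 (neut_le _ hu')).2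
    refine le_neut (isPreconnected_neut _) (le_iInf fun B => ?_)
    exact le_of_le_borels hconn hT (isPreconnected_neut _) ((hT.isSol_cart hKc).mono hJC)
      (fun B hB hTB => hJC.trans (((neut_le _).trans inf_le_right).trans (hT.centralizer_le_bor hconn hB hTB)))
      (fun W _ _ _ r u hu' => ((hD u).1 (neut_le _ hu')).2 W r) B.2
  obtain ⟨R, hR, hcov⟩ := exists_neut_cosets (D.isClosed_U hCc 1)
  have hCT : (C : Set (Pt k A)) ⊆ T := subset_of_cosets hT.tor.closed hCconn C.one_mem (R := R) fun m hm => by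
    obtain ⟨s, hs, hsU⟩ := hdec m hm
    rw [hST] at hs
    obtain ⟨r, hr, hrU⟩ := hcov _ hsU
    change r⁻¹ * (s⁻¹ * m) ∈ J at hrU
    rw [hJ, Subgroup.mem_bot, inv_mul_eq_one] at hrU
    refine ⟨r, hr, ?_⟩
    rw [show r⁻¹ * m = r⁻¹ * s * r by rw [hrU]; group]
    have hcomm := commute_of_mem_cart (T := T) (D.U_le 1 (hR r hr)) hs
    rwa [_root_.mul_assoc, hcomm, inv_mul_cancel_left]
  exact le_antisymm (hCeq.trans fun x hx => hCT hx) (le_centralizer_self hT.tor)

/-- A connected group normalising a finite set of points fixes it. -/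
lemma conj_eq_of_finite {H : Subgroup (Pt k A)} (hH : _root_.IsPreconnected (H : Set (Pt k A))) {u : Pt k A}
    {F : Set (Pt k A)} (hF : F.Finite) (hn : ∀ g ∈ H, g * u * g⁻¹ ∈ F) {g : Pt k A} (hg : g ∈ H) : g * u = u * g := by
  have : g * u * g⁻¹ = u := by
    refine WithConv.ext (AlgHom.ext fun a => ?_)
    have hf : IsReg fun y : Pt k A => (y * u * y⁻¹).ofConv a :=
      (show IsReg fun y : Pt k A => y.ofConv a from ⟨a, fun _ => rfl⟩).comp
        ((IsMor.id.mul (IsMor.const u)).mul IsMor.id.inv)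
    have := hf.const_of_finite hH ((hF.image fun y => y.ofConv a).subset (by
      rintro _ ⟨y, hy, rfl⟩
      exact ⟨_, hn y hy, rfl⟩)) hg H.one_mem
    simpa using this
  rwa [mul_inv_eq_iff_eq_mul] at this

/-- The radical of a reductive group of points is a central torus. -/
theorem IsRedPts.radSub_central (hconn : _root_.IsPreconnected (Set.univ : Set (Pt k A))) (hred : IsRedPts k A) :
    IsTor (radSub k A) ∧ radSub k A ≤ Subgroup.center (Pt k A) := by
  obtain ⟨hc, hp, hs, hn, hle⟩ := radSub_facts (k := k) (A := A) hconn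
  obtain ⟨D, hD⟩ := exists_flag_uni hc hp hs
  obtain ⟨S, hSK, hS, -, hdec, -⟩ := D.exists_torus_decomp hc hp
  obtain ⟨R, hR, hcov⟩ := exists_neut_cosets (D.isClosed_U hc 1)
  have hJ := eq_bot_of_le_radSub hconn hred (isPreconnected_neut (D.U 1)) ((neut_le _).trans (D.U_le 1))
    fun u hu' => ((hD u).1 (neut_le _ hu')).2
  have hfin : (D.U 1 : Set (Pt k A)).Finite := R.finite_toSet.subset fun u hu => by
    obtain ⟨r, hr, hru⟩ := hcov u hu
    rw [hJ, Subgroup.mem_bot, inv_mul_eq_one] at hru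
    exact hru ▸ hr
  have hle' : radSub k A ≤ S := by
    intro x hx
    refine subset_of_cosets hS.closed hp (radSub k A).one_mem (R := R) (fun m hm => ?_) hx
    obtain ⟨s, hs', hsU⟩ := hdec m hm
    obtain ⟨r, hr, hrU⟩ := hcov _ hsU
    change r⁻¹ * (s⁻¹ * m) ∈ neut (D.U 1) at hrU
    rw [hJ, Subgroup.mem_bot, inv_mul_eq_one] at hrU
    refine ⟨r, hr, ?_⟩
    have hcomm : r * s = s * r :=
      (conj_eq_of_finite hp hfin (fun g hg => D.conj_mem_U hg (hR r hr)) (hSK hs')).symm
    rw [show r⁻¹ * m = r⁻¹ * (s * r) by rw [hrU]; group, ← hcomm, inv_mul_cancel_left]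
    exact hs'
  have e : radSub k A = S := le_antisymm hle' hSK
  refine ⟨e ▸ hS, fun x hx => Subgroup.mem_center_iff.2 fun g => ?_⟩
  exact (e ▸ hS : IsTor (radSub k A)).commute_of_normalizing (H := ⊤) (by rwa [Subgroup.coe_top])
    (fun h _ s hs => hn h ⟨s, hs, rfl⟩) g trivial x hx

variable (k A) in
/-- The group of points has no non-trivial connected normal solvable subgroup. -/
def IsSSPts : Prop :=
  ∀ N : Subgroup (Pt k A), IsClosed (N : Set (Pt k A)) → _root_.IsPreconnected (N : Set (Pt k A)) →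
    (∀ g, conjSub g N ≤ N) → IsSol N → N = ⊥

/-- A connected normal solvable subgroup lies in every Borel subgroup. -/
theorem le_radSub (hconn : _root_.IsPreconnected (Set.univ : Set (Pt k A))) {N : Subgroup (Pt k A)}
    (hN : _root_.IsPreconnected (N : Set (Pt k A))) (hn : ∀ g, conjSub g N ≤ N) (hs : IsSol N) :
    N ≤ radSub k A := by
  refine le_neut hN (le_iInf fun B => ?_)
  obtain ⟨g, -, hg⟩ := B.2.exists_conj_le (by rw [Subgroup.coe_top]; exact isClosed_univ)
    (by rwa [Subgroup.coe_top]) le_top hN hs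
  intro x hx
  have := hg ⟨g⁻¹ * x * g, hn g⁻¹ ⟨x, hx, by simp⟩, rfl⟩
  simpa [_root_.mul_assoc] using this

/-- A torus made of unipotent elements is trivial. -/
lemma eq_bot_of_uni {T : Subgroup (Pt k A)} (hT : IsTor T) (hu : ∀ u ∈ T, IsUni u) : T = ⊥ :=
  le_bot_iff.1 fun u hu' => Subgroup.mem_bot.2 ((hu u hu').eq_one hT hu')

/-- A connected group of unipotent elements is solvable. -/
lemma isSol_of_uni (hKc : IsClosed (K : Set (Pt k A))) (hK : _root_.IsPreconnected (K : Set (Pt k A)))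
    (hu : ∀ u ∈ K, IsUni u) : IsSol K :=
  (uni_of_noTor hKc hK fun _ hle hT => eq_bot_of_uni hT fun u hu' => hu u (hle hu')).1

/-- A group of points is reductive as soon as its radical is a torus. -/
theorem isRedPts_of_radSub (hconn : _root_.IsPreconnected (Set.univ : Set (Pt k A))) (h : IsTor (radSub k A)) :
    IsRedPts k A := fun N hc hp hn hu => le_bot_iff.1 fun u hu' =>
  Subgroup.mem_bot.2 ((hu u hu').eq_one h (le_radSub hconn hp hn (isSol_of_uni hc hp hu) hu'))

/-- A group of points is semisimple as soon as its radical is trivial. -/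
theorem isSSPts_of_radSub (hconn : _root_.IsPreconnected (Set.univ : Set (Pt k A))) (h : radSub k A = ⊥) :
    IsSSPts k A := fun _ _ hp hn hs => le_bot_iff.1 ((le_radSub hconn hp hn hs).trans h.le)

theorem IsSSPts.radSub_eq_bot (hconn : _root_.IsPreconnected (Set.univ : Set (Pt k A))) (h : IsSSPts k A) :
    radSub k A = ⊥ := by
  obtain ⟨hc, hp, hs, hn, -⟩ := radSub_facts (k := k) (A := A) hconn
  exact h _ hc hp hn hs

theorem IsSSPts.isRedPts (h : IsSSPts k A) : IsRedPts k A := fun N hc hp hn hu =>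
  h N hc hp hn (isSol_of_uni hc hp hu)

/-- A non-trivial solvable connected normal subgroup contains a non-trivial commutative one. -/
theorem exists_comm_normal {N : Subgroup (Pt k A)} (hc : IsClosed (N : Set (Pt k A)))
    (hp : _root_.IsPreconnected (N : Set (Pt k A))) (hn : ∀ g, conjSub g N ≤ N) (hs : IsSol N) (hne : N ≠ ⊥) :
    ∃ n, clSub (der N n) ≤ N ∧ clSub (der N n) ≠ ⊥ ∧
      _root_.IsPreconnected (clSub (der N n) : Set (Pt k A)) ∧ (∀ g, conjSub g (clSub (der N n)) ≤ clSub (der N n)) ∧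
      ∀ a ∈ clSub (der N n), ∀ b ∈ clSub (der N n), a * b = b * a := by
  classical
  have hex : ∃ n, der N n = ⊥ := hs
  set m := Nat.find hex
  have hm : der N m = ⊥ := Nat.find_spec hex
  obtain ⟨n, hn'⟩ : ∃ n, m = n + 1 := by
    rcases h : m with _ | n
    · exact absurd (by rw [h] at hm; exact hm) hne
    · exact ⟨n, rfl⟩
  have hne' : der N n ≠ ⊥ := Nat.find_min hex (by omega)
  refine ⟨n, clSub_le hc (der_le N n), fun h => hne' (le_bot_iff.1 (h ▸ le_clSub _)),
    (isPreconnected_der hp n).closure, fun g => ?_, fun a ha b hb => ?_⟩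
  · have h1 : conjSub g (der N n) ≤ der N n := by
      have := der_map (MulAut.conj g).toMonoidHom N n
      rw [show conjSub g (der N n) = der (conjSub g N) n from this.symm]
      exact der_mono (hn g) n
    rintro _ ⟨x, hx, rfl⟩
    exact map_mem_closure (continuous_conjBy g) hx fun y hy => h1 ⟨y, hy, rfl⟩
  · have h1 := commutator_clSub_le (der N n) (Subgroup.commutator_mem_commutator ha hb)
    rw [← der_succ, ← hn', hm, clSub_bot, Subgroup.mem_bot, commutatorElement_eq_one_iff_mul_comm] at h1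
    exact h1

/-- Reductive when every connected commutative normal unipotent subgroup is trivial. -/
theorem isRedPts_of_comm (h : ∀ D : Subgroup (Pt k A), IsClosed (D : Set (Pt k A)) →
    _root_.IsPreconnected (D : Set (Pt k A)) → (∀ g, conjSub g D ≤ D) → (∀ a ∈ D, ∀ b ∈ D, a * b = b * a) →
    (∀ u ∈ D, IsUni u) → D = ⊥) : IsRedPts k A := fun N hc hp hn hu => by
  by_contra hne
  obtain ⟨n, hle, hne', hp', hn', hcomm⟩ := exists_comm_normal hc hp hn (isSol_of_uni hc hp hu) hne
  exact hne' (h _ (isClosed_clSub _) hp' hn' hcomm fun u hu' => hu u (hle hu'))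

/-- A reductive subgroup. -/
def IsRedSub (K : Subgroup (Pt k A)) : Prop :=
  ∀ N : Subgroup (Pt k A), N ≤ K → IsClosed (N : Set (Pt k A)) → _root_.IsPreconnected (N : Set (Pt k A)) →
    (∀ g ∈ K, conjSub g N ≤ N) → (∀ u ∈ N, IsUni u) → N = ⊥

/-- Every torus lies in a maximal torus. -/
theorem IsTor.exists_le_isMaxTor (hconn : _root_.IsPreconnected (Set.univ : Set (Pt k A)))
    {S : Subgroup (Pt k A)} (hS : IsTor S) : ∃ T, IsMaxTor ⊤ T ∧ S ≤ T := by
  obtain ⟨T, hT, hu⟩ := exists_isMaxTor (K := (⊤ : Subgroup (Pt k A)))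
    (by rw [Subgroup.coe_top]; exact isClosed_univ) (by rwa [Subgroup.coe_top])
  obtain ⟨g, -, hg⟩ := hu S le_top hS
  refine ⟨BorelLib.conjSub g⁻¹ T, ⟨le_top, hT.tor.conjSub _, fun T' _ hT' hle => ?_⟩, ?_⟩
  · have h1 := hT.maximal (BorelLib.conjSub g T') le_top (hT'.conjSub _) (by
      have := conjSub_mono (a := g) hle
      rwa [conjSub_conjSub, mul_inv_cancel, conjSub_one] at this)
    rw [← h1, conjSub_conjSub, inv_mul_cancel, conjSub_one]
  · have := conjSub_mono (a := g⁻¹) hg
    rwa [conjSub_conjSub, inv_mul_cancel, conjSub_one] at this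

/-- **The centraliser of a torus in a reductive group is reductive.** -/
theorem IsRedPts.centralizer_isRedSub (hconn : _root_.IsPreconnected (Set.univ : Set (Pt k A)))
    (hred : IsRedPts k A) {S : Subgroup (Pt k A)} (hS : IsTor S) :
    IsRedSub (Subgroup.centralizer (S : Set (Pt k A))) := fun N hle hc hp hn hu => by
  have hKc : IsClosed ((⊤ : Subgroup (Pt k A)) : Set (Pt k A)) := by rw [Subgroup.coe_top]; exact isClosed_univ
  have hK : _root_.IsPreconnected ((⊤ : Subgroup (Pt k A)) : Set (Pt k A)) := by rwa [Subgroup.coe_top]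
  obtain ⟨T, hT, hST⟩ := hS.exists_le_isMaxTor hconn
  have hs := isSol_of_uni hc hp hu
  refine eq_bot_of_le_radSub hconn hred hp (le_neut hp (le_iInf fun B => ?_)) hu
  refine le_of_le_borels hconn hT hp hs (fun B hB hTB => ?_) (fun W _ _ _ r u hu' => hu u hu' W r) B.2
  have hb := hB.inf_centralizer hKc hK hS (hST.trans hTB)
  obtain ⟨g, hg, hgN⟩ := hb.exists_conj_le (hKc.inter (isClosed_centralizer S))
    (isPreconnected_centralizer_tor hKc hK hS le_top) (fun x hx => ⟨trivial, hle hx⟩) hp hs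
  intro x hx
  have h1 : g⁻¹ * x * g ∈ N := hn g⁻¹ (inv_mem hg.2) ⟨x, hx, by simp⟩
  have := hgN ⟨g⁻¹ * x * g, h1, rfl⟩
  simpa [_root_.mul_assoc] using this.1

end Groth.Agent.BorelLib

end
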