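import Groth.Agent.BorelLib.Group

/-!
# Solvable subgroups, regular representations and the Lie–Kolchin theorem
-/

set_option autoImplicit false

noncomputable section

universe u v

open WithConv
open scoped TensorProduct commutatorElement

namespace Groth.Agent.BorelLib

attribute [local instance] pTop pTopTensor

variable {k : Type u} [Field k] {A : Type u} [CommRing A] [HopfAlgebra k A]

/-- The derived series of a subgroup. -/
def der (H : Subgroup (Pt k A)) : ℕ → Subgroup (Pt k A)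
  | 0 => H
  | n + 1 => ⁅der H n, der H n⁆

@[simp] lemma der_zero (H : Subgroup (Pt k A)) : der H 0 = H := rfl

lemma der_succ (H : Subgroup (Pt k A)) (n : ℕ) : der H (n + 1) = ⁅der H n, der H n⁆ := rfl

lemma der_succ' (H : Subgroup (Pt k A)) : ∀ n, der H (n + 1) = der ⁅H, H⁆ n
  | 0 => rfl
  | n + 1 => by rw [der_succ, der_succ' H n]; rfl

lemma der_le (H : Subgroup (Pt k A)) : ∀ n, der H n ≤ H
  | 0 => le_rfl
  | n + 1 => (Subgroup.commutator_mono (der_le H n) (der_le H n)).trans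
      (Subgroup.commutator_le.2 fun a ha b hb =>
        H.mul_mem (H.mul_mem (H.mul_mem ha hb) (H.inv_mem ha)) (H.inv_mem hb))

lemma der_mono {H H' : Subgroup (Pt k A)} (h : H ≤ H') : ∀ n, der H n ≤ der H' n
  | 0 => h
  | n + 1 => Subgroup.commutator_mono (der_mono h n) (der_mono h n)

/-- Solvability of a subgroup. -/
def IsSol (H : Subgroup (Pt k A)) : Prop := ∃ n, der H n = ⊥

lemma IsSol.mono {H H' : Subgroup (Pt k A)} (hs : IsSol H') (h : H ≤ H') : IsSol H :=
  hs.imp fun n hn => le_bot_iff.1 ((der_mono h n).trans hn.le)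

lemma der_map {A' : Type u} [CommRing A'] [HopfAlgebra k A'] (f : Pt k A →* Pt k A') (H : Subgroup (Pt k A)) :
    ∀ n, der (H.map f) n = (der H n).map f
  | 0 => rfl
  | n + 1 => by rw [der_succ, der_succ, der_map f H n, Subgroup.map_commutator]

lemma IsSol.map {A' : Type u} [CommRing A'] [HopfAlgebra k A'] {H : Subgroup (Pt k A)} (hs : IsSol H)
    (f : Pt k A →* Pt k A') : IsSol (H.map f) :=
  hs.imp fun n hn => by rw [der_map, hn, Subgroup.map_bot]

lemma IsSol.conjSub {H : Subgroup (Pt k A)} (hs : IsSol H) (a : Pt k A) : IsSol (conjSub a H) := hs.map _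

/-- The closure of a subgroup. -/
def clSub (H : Subgroup (Pt k A)) : Subgroup (Pt k A) where
  carrier := closure (H : Set (Pt k A))
  one_mem' := subset_closure H.one_mem
  inv_mem' {a} ha := map_mem_closure continuous_inv ha fun x hx => H.inv_mem hx
  mul_mem' {a b} ha hb := by
    have h1 : ∀ h ∈ H, ∀ z ∈ closure (H : Set (Pt k A)), h * z ∈ closure (H : Set (Pt k A)) := fun h hh z hz =>
      map_mem_closure (continuous_const_mul h) hz fun x hx => H.mul_mem hh hx
    have h2 := map_mem_closure (continuous_mul_const b) ha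
      (fun x hx => h1 x hx b hb : Set.MapsTo (fun g => g * b) (H : Set (Pt k A)) (closure (H : Set (Pt k A))))
    rwa [closure_closure] at h2

lemma coe_clSub (H : Subgroup (Pt k A)) : (clSub H : Set (Pt k A)) = closure (H : Set (Pt k A)) := rfl

lemma le_clSub (H : Subgroup (Pt k A)) : H ≤ clSub H := fun _ hx => subset_closure hx

lemma isClosed_clSub (H : Subgroup (Pt k A)) : IsClosed (clSub H : Set (Pt k A)) := isClosed_closure

lemma clSub_le {H K : Subgroup (Pt k A)} (hK : IsClosed (K : Set (Pt k A))) (h : H ≤ K) : clSub H ≤ K :=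
  closure_minimal h hK

lemma commutator_clSub_le (H : Subgroup (Pt k A)) : ⁅clSub H, clSub H⁆ ≤ clSub ⁅H, H⁆ := by
  refine Subgroup.commutator_le.2 fun a ha b hb => ?_
  have hc : ∀ x : Pt k A, Continuous fun y => ⁅x, y⁆ := fun x =>
    ((((IsMor.const x).mul IsMor.id).mul (IsMor.const x⁻¹)).mul IsMor.id.inv).continuous
  have hc' : ∀ y : Pt k A, Continuous fun x => ⁅x, y⁆ := fun y =>
    (((IsMor.id.mul (IsMor.const y)).mul IsMor.id.inv).mul (IsMor.const y⁻¹)).continuous
  have h1 : ∀ x ∈ H, ⁅x, b⁆ ∈ clSub ⁅H, H⁆ := fun x hx =>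
    map_mem_closure (hc x) hb fun y hy => Subgroup.commutator_mem_commutator hx hy
  have h2 := map_mem_closure (hc' b) ha
    (fun x hx => h1 x hx : Set.MapsTo (fun x => ⁅x, b⁆) (H : Set (Pt k A)) (closure (⁅H, H⁆ : Subgroup (Pt k A))))
  rw [coe_clSub, closure_closure] at h2
  exact h2

lemma der_clSub_le (H : Subgroup (Pt k A)) : ∀ n, der (clSub H) n ≤ clSub (der H n)
  | 0 => le_rfl
  | n + 1 => (Subgroup.commutator_mono (der_clSub_le H n) (der_clSub_le H n)).trans (commutator_clSub_le _)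

lemma clSub_bot [Algebra.FiniteType k A] : clSub (⊥ : Subgroup (Pt k A)) = ⊥ := by
  refine le_bot_iff.1 fun g hg => ?_
  refine Subgroup.mem_bot.2 (WithConv.ext (AlgHom.ext fun a => ?_))
  have h := mem_closure_iff_forall.1 hg (a - algebraMap k A ((1 : Pt k A).ofConv a)) (fun y hy => by
    rw [SetLike.mem_coe, Subgroup.mem_bot] at hy
    subst hy
    rw [map_sub, AlgHom.commutes, Algebra.algebraMap_self, RingHom.id_apply, sub_self])
  rwa [map_sub, AlgHom.commutes, Algebra.algebraMap_self, RingHom.id_apply, sub_eq_zero] at h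

lemma IsSol.clSub [Algebra.FiniteType k A] {H : Subgroup (Pt k A)} (hs : IsSol H) : IsSol (clSub H) :=
  hs.imp fun n hn => le_bot_iff.1 ((der_clSub_le H n).trans (by rw [hn, clSub_bot]))

/-- The commutator subgroup of a connected subgroup is connected. -/
lemma isPreconnected_commutator {H H' : Subgroup (Pt k A)} (hH' : IsPreconnected (H' : Set (Pt k A))) :
    IsPreconnected ((⁅H, H'⁆ : Subgroup (Pt k A)) : Set (Pt k A)) := by
  refine isPreconnected_of_forall 1 fun g hg => ?_
  rw [SetLike.mem_coe, Subgroup.commutator_def] at hg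
  induction hg using Subgroup.closure_induction with
  | mem g hg =>
    obtain ⟨x, hx, y, hy, rfl⟩ := hg
    refine ⟨(fun z => ⁅x, z⁆) '' (H' : Set (Pt k A)), ?_, ⟨1, one_mem _, commutatorElement_one_right _⟩,
      ⟨y, hy, rfl⟩, hH'.image _ ((((IsMor.const x).mul IsMor.id).mul (IsMor.const x⁻¹)).mul
        IsMor.id.inv).continuous.continuousOn⟩
    rintro _ ⟨z, hz, rfl⟩
    exact Subgroup.commutator_mem_commutator hx hz
  | one => exact ⟨{1}, by simp [one_mem], rfl, rfl, isPreconnected_singleton⟩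
  | mul g h _ _ hg hh =>
    obtain ⟨T, hT, h1, hgT, hTc⟩ := hg
    obtain ⟨T', hT', h1', hhT, hTc'⟩ := hh
    refine ⟨T ∪ (fun z => g * z) '' T', ?_, Or.inl h1, Or.inr ⟨h, hhT, rfl⟩, ?_⟩
    · rintro z (hz | ⟨z, hz, rfl⟩)
      · exact hT hz
      · exact Subgroup.mul_mem _ (hT hgT) (hT' hz)
    · exact hTc.union g hgT ⟨1, h1', mul_one g⟩ (hTc'.image _ (continuous_const_mul g).continuousOn)
  | inv g _ hg =>
    obtain ⟨T, hT, h1, hgT, hTc⟩ := hg
    refine ⟨(fun z => g⁻¹ * z) '' T, ?_, ⟨g, hgT, inv_mul_cancel g⟩, ⟨1, h1, mul_one _⟩,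
      hTc.image _ (continuous_const_mul g⁻¹).continuousOn⟩
    rintro _ ⟨z, hz, rfl⟩
    exact Subgroup.mul_mem _ (Subgroup.inv_mem _ (hT hgT)) (hT hz)

lemma isPreconnected_der {H : Subgroup (Pt k A)} (hH : IsPreconnected (H : Set (Pt k A))) :
    ∀ n, IsPreconnected (der H n : Set (Pt k A))
  | 0 => hH
  | n + 1 => isPreconnected_commutator (isPreconnected_der hH n)

/-- A map on all points with regular coefficients, multiplicative on a subgroup. -/
structure RegRep (K : Subgroup (Pt k A)) (V : Type v) [AddCommGroup V] [Module k V] where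
  /-- the map -/
  ρ : Pt k A → Module.End k V
  map_one : ρ 1 = 1
  map_mul : ∀ g ∈ K, ∀ h ∈ K, ρ (g * h) = ρ g * ρ h
  reg : ∀ (φ : V →ₗ[k] k) (v : V), IsReg fun g => φ (ρ g v)

namespace RegRep

variable {K : Subgroup (Pt k A)} {V : Type v} [AddCommGroup V] [Module k V] (r : RegRep K V)

/-- Restriction to a smaller subgroup. -/
def mono {K' : Subgroup (Pt k A)} (h : K' ≤ K) : RegRep K' V :=
  ⟨r.ρ, r.map_one, fun g hg x hx => r.map_mul g (h hg) x (h hx), r.reg⟩

lemma inv_apply {g : Pt k A} (hg : g ∈ K) (v : V) : r.ρ g⁻¹ (r.ρ g v) = v := by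
  rw [← Module.End.mul_apply, ← r.map_mul _ (inv_mem hg) _ hg, inv_mul_cancel, r.map_one, Module.End.one_apply]

lemma apply_ne_zero {g : Pt k A} (hg : g ∈ K) {v : V} (hv : v ≠ 0) : r.ρ g v ≠ 0 := fun h =>
  hv (by rw [← r.inv_apply hg v, h, map_zero])

lemma mul_apply {g h : Pt k A} (hg : g ∈ K) (hh : h ∈ K) (v : V) : r.ρ (g * h) v = r.ρ g (r.ρ h v) := by
  rw [r.map_mul g hg h hh]; rfl

/-- A subspace stable under a subgroup. -/
def Stable (H : Subgroup (Pt k A)) (W : Submodule k V) : Prop := ∀ h ∈ H, ∀ w ∈ W, r.ρ h w ∈ W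

/-- The representation on a stable subspace, through a retraction. -/
def sub {W : Submodule k V} (p : V →ₗ[k] W) (hp : ∀ w : W, p w = w) (hW : r.Stable K W) : RegRep K W where
  ρ g := p ∘ₗ r.ρ g ∘ₗ W.subtype
  map_one := LinearMap.ext fun w => by simp [r.map_one, hp]
  map_mul g hg h hh := LinearMap.ext fun w => by
    have e : (p (r.ρ h w) : V) = r.ρ h w := congrArg Subtype.val (hp ⟨_, hW h hh w w.2⟩)
    simp only [LinearMap.coe_comp, Function.comp_apply, Submodule.coe_subtype, Module.End.mul_apply, e,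
      r.mul_apply hg hh]
  reg φ v := r.reg (φ ∘ₗ p) v

lemma coe_sub_apply {W : Submodule k V} (p : V →ₗ[k] W) (hp : ∀ w : W, p w = w) (hW : r.Stable K W)
    {g : Pt k A} (hg : g ∈ K) (w : W) : ((r.sub p hp hW).ρ g w : V) = r.ρ g w :=
  congrArg Subtype.val (hp ⟨_, hW g hg w w.2⟩)

/-- The representation on the quotient by a stable subspace, through a section. -/
def quot {W : Submodule k V} (s : V ⧸ W →ₗ[k] V) (hs : ∀ q, W.mkQ (s q) = q) (hW : r.Stable K W) :
    RegRep K (V ⧸ W) where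
  ρ g := W.mkQ ∘ₗ r.ρ g ∘ₗ s
  map_one := LinearMap.ext fun q => by simp only [LinearMap.coe_comp, Function.comp_apply, r.map_one, Module.End.one_apply, hs]
  map_mul g hg h hh := LinearMap.ext fun q => by
    have e : s (W.mkQ (r.ρ h (s q))) - r.ρ h (s q) ∈ W := by
      rw [← Submodule.Quotient.mk_eq_zero, ← Submodule.mkQ_apply, map_sub, hs, sub_self]
    have e' := hW g hg _ e
    rw [map_sub] at e'
    simp only [LinearMap.coe_comp, Function.comp_apply, Module.End.mul_apply, r.mul_apply hg hh,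
      Submodule.mkQ_apply] at e' ⊢
    exact ((Submodule.Quotient.eq W).2 e').symm
  reg φ v := r.reg (φ ∘ₗ W.mkQ) (s v)

lemma quot_mkQ {W : Submodule k V} (s : V ⧸ W →ₗ[k] V) (hs : ∀ q, W.mkQ (s q) = q) (hW : r.Stable K W)
    {g : Pt k A} (hg : g ∈ K) (v : V) : (r.quot s hs hW).ρ g (W.mkQ v) = W.mkQ (r.ρ g v) := by
  have e : s (W.mkQ v) - v ∈ W := by
    rw [← Submodule.Quotient.mk_eq_zero, ← Submodule.mkQ_apply, map_sub, hs, sub_self]
  have e' := hW g hg _ e
  rw [map_sub] at e'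
  exact (Submodule.Quotient.eq W).2 e'

lemma exists_sub {W : Submodule k V} (hW : r.Stable K W) :
    ∃ r' : RegRep K W, ∀ g ∈ K, ∀ w : W, (r'.ρ g w : V) = r.ρ g w := by
  obtain ⟨p, hp⟩ := W.subtype.exists_leftInverse_of_injective W.ker_subtype
  exact ⟨r.sub p (fun w => LinearMap.congr_fun hp w) hW, fun g hg w => r.coe_sub_apply _ _ hW hg w⟩

lemma exists_quot {W : Submodule k V} (hW : r.Stable K W) :
    ∃ r' : RegRep K (V ⧸ W), ∀ g ∈ K, ∀ v : V, r'.ρ g (W.mkQ v) = W.mkQ (r.ρ g v) := by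
  obtain ⟨s, hs⟩ := W.mkQ.exists_rightInverse_of_surjective W.range_mkQ
  exact ⟨r.quot s (fun q => LinearMap.congr_fun hs q) hW, fun g hg v => r.quot_mkQ _ _ hW hg v⟩

/-- Weight vectors. -/
def IsWeight (H : Subgroup (Pt k A)) (w : V) : Prop := ∀ h ∈ H, ∃ c : k, r.ρ h w = c • w

/-- The weight of a weight vector is a regular function. -/
lemma exists_reg_weight {H : Subgroup (Pt k A)} {w : V} (hw0 : w ≠ 0) (hw : r.IsWeight H w) :
    ∃ χ : Pt k A → k, IsReg χ ∧ ∀ h ∈ H, r.ρ h w = χ h • w := by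
  obtain ⟨φ, hφ⟩ := ComodLib.exists_dual_ne (k := k) hw0
  refine ⟨fun h => ((φ w)⁻¹ • φ) (r.ρ h w), r.reg _ w, fun h hh => ?_⟩
  obtain ⟨c, hc⟩ := hw h hh
  rw [hc]
  congr 1
  simp [hc, hφ]

/-- The Lie–Kolchin theorem. -/
theorem exists_weight [IsAlgClosed k] [FiniteDimensional k V] :
    ∀ (n : ℕ) {H : Subgroup (Pt k A)}, H ≤ K → IsPreconnected (H : Set (Pt k A)) → der H n = ⊥ →
      ∀ {W : Submodule k V}, W ≠ ⊥ → r.Stable H W → ∃ w ∈ W, w ≠ 0 ∧ r.IsWeight H w := by
  intro n
  induction n with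
  | zero =>
    intro H _ _ hn W hW _
    obtain ⟨w, hw, hw0⟩ := (Submodule.ne_bot_iff W).1 hW
    refine ⟨w, hw, hw0, fun h hh => ⟨1, ?_⟩⟩
    rw [der_zero] at hn
    rw [hn, Subgroup.mem_bot] at hh
    rw [hh, r.map_one, one_smul, Module.End.one_apply]
  | succ n ih =>
    intro H hHK hH hn W hW hWs
    rw [der_succ'] at hn
    set D := ⁅H, H⁆ with hD
    have hDH : D ≤ H := der_le H 1
    obtain ⟨w, hwW, hw0, hw⟩ := ih (hDH.trans hHK) (isPreconnected_commutator hH) hn hW
      fun h hh => hWs h (hDH hh)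
    obtain ⟨χ, hχ, hχw⟩ := r.exists_reg_weight hw0 hw
    let E : Submodule k V :=
      { carrier := {v | v ∈ W ∧ ∀ d ∈ D, r.ρ d v = χ d • v}
        zero_mem' := ⟨W.zero_mem, fun d _ => by simp⟩
        add_mem' := fun {a b} ha hb => ⟨W.add_mem ha.1 hb.1, fun d hd => by
          rw [map_add, ha.2 d hd, hb.2 d hd, smul_add]⟩
        smul_mem' := fun c a ha => ⟨W.smul_mem c ha.1, fun d hd => by
          rw [map_smul, ha.2 d hd, smul_comm]⟩ }
    have hwE : w ∈ E := ⟨hwW, hχw⟩
    have hmem : ∀ h ∈ H, ∀ d ∈ D, h⁻¹ * d * h ∈ D := fun h hh d hd => by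
      have : D.map (MulAut.conj h⁻¹).toMonoidHom = D := by
        rw [hD, Subgroup.map_commutator]
        have : H.map (MulAut.conj h⁻¹).toMonoidHom = H := conjSub_eq_self (inv_mem hh)
        rw [this]
      rw [← this]
      exact ⟨d, hd, by simp⟩
    -- the weights are constant along the conjugation orbit
    have hconst : ∀ d ∈ D, ∀ h ∈ H, χ (h⁻¹ * d * h) = χ d := by
      intro d hd h hh
      have hfin : ((fun h => χ (h⁻¹ * d * h)) '' (H : Set (Pt k A))).Finite :=
        (r.ρ d).finite_hasEigenvalue.subset (by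
          rintro _ ⟨x, hx, rfl⟩
          refine Module.End.hasEigenvalue_of_hasEigenvector
            ⟨Module.End.mem_eigenspace_iff.2 ?_, r.apply_ne_zero (hHK hx) hw0⟩
          rw [← r.mul_apply (hHK (hDH hd)) (hHK hx), show d * x = x * (x⁻¹ * d * x) by group,
            r.mul_apply (hHK hx) (hHK (hDH (hmem x hx d hd))), hχw _ (hmem x hx d hd), map_smul])
      have := (hχ.comp ((IsMor.id.inv.mul (IsMor.const d)).mul IsMor.id)).const_of_finite hH hfin hh H.one_mem
      simpa using this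
    have hEs : r.Stable H E := fun h hh v hv => ⟨hWs h hh v hv.1, fun d hd => by
      rw [← r.mul_apply (hHK (hDH hd)) (hHK hh), show d * h = h * (h⁻¹ * d * h) by group,
        r.mul_apply (hHK hh) (hHK (hDH (hmem h hh d hd))), hv.2 _ (hmem h hh d hd), map_smul, hconst d hd h hh]⟩
    -- commutators have determinant one on the weight space
    obtain ⟨r', hr'⟩ := (r.mono hHK).exists_sub hEs
    let T : H →* Module.End k E :=
      { toFun := fun g => r'.ρ g
        map_one' := r'.map_one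
        map_mul' := fun g g' => r'.map_mul g g.2 g' g'.2 }
    have hdet : ∀ d ∈ D, χ d ^ Module.finrank k E = 1 := by
      intro d hd
      have hscal : r'.ρ d = χ d • (1 : Module.End k E) := LinearMap.ext fun v => Subtype.ext (by
        rw [hr' d (hDH hd) v]
        exact v.2.2 d hd)
      have h1 : LinearMap.det (r'.ρ d) = 1 := by
        have hker : D ≤ (LinearMap.det.comp T).toHomUnits.ker.map H.subtype := by
          refine Subgroup.commutator_le.2 fun a ha b hb => ⟨⁅(⟨a, ha⟩ : H), ⟨b, hb⟩⁆, ?_, rfl⟩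
          rw [SetLike.mem_coe, MonoidHom.mem_ker, map_commutatorElement, commutatorElement_eq_one_iff_mul_comm]
          exact mul_comm _ _
        obtain ⟨x, hx, rfl⟩ := hker hd
        exact congrArg Units.val hx
      rw [hscal, LinearMap.det_smul, LinearMap.det.map_one, mul_one] at h1
      exact h1
    have hpos : 0 < Module.finrank k E := Module.finrank_pos_iff_exists_ne_zero.2
      ⟨⟨w, hwE⟩, fun h => hw0 (congrArg Subtype.val h)⟩
    have hone : ∀ d ∈ D, χ d = 1 := by
      intro d hd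
      have h1 : χ 1 = 1 := by
        have := hχw 1 D.one_mem
        rw [r.map_one, Module.End.one_apply] at this
        exact (smul_left_injective k hw0 (a₁ := 1) (a₂ := χ 1) (by simpa using this)).symm
      rw [← h1]
      refine hχ.const_of_finite (isPreconnected_commutator hH) ?_ hd D.one_mem
      refine (Polynomial.finite_setOf_isRoot (Polynomial.X_pow_sub_C_ne_zero hpos (1 : k))).subset ?_
      rintro _ ⟨x, hx, rfl⟩
      simp [Polynomial.IsRoot, hdet x hx]
    have hcomm : ∀ a ∈ H, ∀ b ∈ H, ∀ v ∈ E, r.ρ a (r.ρ b v) = r.ρ b (r.ρ a v) := by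
      intro a ha b hb v hv
      have hd : ⁅a, b⁆ ∈ D := Subgroup.commutator_mem_commutator ha hb
      have hfix : ∀ u ∈ E, r.ρ ⁅a, b⁆ u = u := fun u hu => by rw [hu.2 _ hd, hone _ hd, one_smul]
      have := hfix _ (hEs b hb _ (hEs a ha v hv))
      rw [← r.mul_apply (hHK hb) (hHK ha), ← r.mul_apply (hHK (hDH hd)) (hHK (H.mul_mem hb ha)),
        show ⁅a, b⁆ * (b * a) = a * b by rw [commutatorElement_def]; group] at this
      rw [← r.mul_apply (hHK ha) (hHK hb), ← r.mul_apply (hHK hb) (hHK ha)]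
      exact this
    -- a minimal stable subspace
    obtain ⟨W', ⟨hW'0, hW'E, hW's⟩, hmin⟩ := wellFounded_lt.has_min
      {U : Submodule k V | U ≠ ⊥ ∧ U ≤ E ∧ r.Stable H U}
      ⟨E, (Submodule.ne_bot_iff E).2 ⟨w, hwE, hw0⟩, le_rfl, hEs⟩
    obtain ⟨v, hv, hv0⟩ := (Submodule.ne_bot_iff W').1 hW'0
    refine ⟨v, (hW'E hv).1, hv0, fun h hh => ?_⟩
    let f : Module.End k W' := (r.ρ h).restrict fun u hu => hW's h hh u hu
    have : Nontrivial W' := ⟨⟨⟨v, hv⟩, 0, fun e => hv0 (congrArg Subtype.val e)⟩⟩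
    obtain ⟨c, hc⟩ := f.exists_eigenvalue
    refine ⟨c, ?_⟩
    obtain ⟨u, hu, hu0⟩ := hc.exists_hasEigenvector
    let U := W' ⊓ (r.ρ h).eigenspace c
    have huU : (u : V) ∈ U := ⟨u.2, Module.End.mem_eigenspace_iff.2
      (congrArg Subtype.val (Module.End.mem_eigenspace_iff.1 hu))⟩
    have hUW : U = W' := by
      by_contra hne
      refine hmin U ⟨(Submodule.ne_bot_iff _).2 ⟨u, huU, fun e => hu0 (Subtype.ext e)⟩,
        inf_le_left.trans hW'E, fun y hy z hz => ⟨hW's y hy z hz.1, Module.End.mem_eigenspace_iff.2 ?_⟩⟩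
        (lt_of_le_of_ne inf_le_left hne)
      rw [hcomm h hh y hy z (hW'E hz.1), Module.End.mem_eigenspace_iff.1 hz.2, map_smul]
    exact Module.End.mem_eigenspace_iff.1 (hUW.symm ▸ hv : v ∈ U).2

theorem exists_weight_of_isSol [IsAlgClosed k] [FiniteDimensional k V] {H : Subgroup (Pt k A)} (hHK : H ≤ K)
    (hH : IsPreconnected (H : Set (Pt k A))) (hs : IsSol H) {W : Submodule k V} (hW : W ≠ ⊥) (hWs : r.Stable H W) :
    ∃ w ∈ W, w ≠ 0 ∧ r.IsWeight H w :=
  let ⟨n, hn⟩ := hs
  r.exists_weight n hHK hH hn hW hWs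

/-- Commuting values kill the commutator subgroup. -/
lemma eq_one_of_comm {H : Subgroup (Pt k A)} (hHK : H ≤ K)
    (hc : ∀ a ∈ H, ∀ b ∈ H, r.ρ a * r.ρ b = r.ρ b * r.ρ a) : ∀ g ∈ ⁅H, H⁆, r.ρ g = 1 := by
  let T : H →* Module.End k V :=
    { toFun := fun g => r.ρ g
      map_one' := r.map_one
      map_mul' := fun g g' => r.map_mul g (hHK g.2) g' (hHK g'.2) }
  have hker : ⁅H, H⁆ ≤ T.toHomUnits.ker.map H.subtype := by
    refine Subgroup.commutator_le.2 fun a ha b hb => ⟨⁅(⟨a, ha⟩ : H), ⟨b, hb⟩⁆, ?_, rfl⟩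
    rw [SetLike.mem_coe, MonoidHom.mem_ker, map_commutatorElement, commutatorElement_eq_one_iff_mul_comm]
    exact Units.ext (hc a ha b hb)
  intro g hg
  obtain ⟨x, hx, rfl⟩ := hker hg
  exact congrArg Units.val hx

/-- Irreducibility under the ambient subgroup. -/
def Irred : Prop := ∀ W : Submodule k V, r.Stable K W → W = ⊥ ∨ W = ⊤

end RegRep

/-- Either some irreducible subquotient has dimension at least two, or a term of the derived series acts trivially. -/
theorem exists_irred_or_der {K : Subgroup (Pt k A)} : ∀ (d : ℕ) (V : Type u) [AddCommGroup V] [Module k V]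
    [FiniteDimensional k V] (r : RegRep K V), Module.finrank k V ≤ d →
      (∃ (U : Type u) (_ : AddCommGroup U) (_ : Module k U) (_ : FiniteDimensional k U) (r' : RegRep K U),
        2 ≤ Module.finrank k U ∧ r'.Irred) ∨
      ∃ n, ∀ g ∈ der K n, r.ρ g = 1 := by
  intro d
  induction d with
  | zero =>
    intro V _ _ _ r hd
    have : Subsingleton V := Module.finrank_zero_iff.1 (Nat.le_zero.1 hd)
    exact Or.inr ⟨0, fun g _ => LinearMap.ext fun v => Subsingleton.elim _ _⟩
  | succ d ih =>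
    intro V _ _ _ r hd
    rcases subsingleton_or_nontrivial V with hV | hV
    · exact Or.inr ⟨0, fun g _ => LinearMap.ext fun v => Subsingleton.elim _ _⟩
    obtain ⟨W, ⟨hW0, hWs⟩, hmin⟩ := wellFounded_lt.has_min
      {U : Submodule k V | U ≠ ⊥ ∧ r.Stable K U} ⟨⊤, top_ne_bot, fun _ _ _ _ => trivial⟩
    obtain ⟨r₁, hr₁⟩ := r.exists_sub hWs
    by_cases h2 : 2 ≤ Module.finrank k W
    · refine Or.inl ⟨W, _, _, inferInstance, r₁, h2, fun U hU => ?_⟩
      by_cases hU0 : U = ⊥
      · exact Or.inl hU0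
      refine Or.inr (Submodule.map_injective_of_injective W.subtype_injective ?_)
      rw [Submodule.map_subtype_top]
      by_contra hne
      refine hmin (U.map W.subtype) ⟨fun h => hU0 ?_, ?_⟩ (lt_of_le_of_ne (W.map_subtype_le U) hne)
      · exact Submodule.map_injective_of_injective W.subtype_injective (h.trans (Submodule.map_bot _).symm)
      · rintro g hg _ ⟨u, hu, rfl⟩
        exact ⟨_, hU g hg u hu, hr₁ g hg u⟩
    obtain ⟨r₂, hr₂⟩ := r.exists_quot hWs
    have hWpos : 0 < Module.finrank k W := by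
      obtain ⟨w, hw, hw0⟩ := (Submodule.ne_bot_iff W).1 hW0
      exact Module.finrank_pos_iff_exists_ne_zero.2 ⟨⟨w, hw⟩, fun e => hw0 (congrArg Subtype.val e)⟩
    rcases ih (V ⧸ W) r₂ (by have := W.finrank_quotient_add_finrank; omega) with h | ⟨n, hn⟩
    · exact Or.inl h
    refine Or.inr ⟨max n 1 + 1, ?_⟩
    set D := der K (max n 1)
    have hDK : D ≤ K := der_le K _
    have hanti : ∀ {a b : ℕ}, a ≤ b → der K b ≤ der K a := fun {a b} hab => by
      induction hab with
      | refl => rfl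
      | @step m _ ih => exact (der_le (der K m) 1).trans ih
    have h1 : Module.finrank k W = 1 := by omega
    obtain ⟨w, -, hspan⟩ := finrank_eq_one_iff'.1 h1
    have hcomm₁ : ∀ a ∈ K, ∀ b ∈ K, r₁.ρ a * r₁.ρ b = r₁.ρ b * r₁.ρ a := fun a _ b _ => LinearMap.ext fun u => by
      obtain ⟨c, rfl⟩ := hspan u
      obtain ⟨x, hx⟩ := hspan (r₁.ρ a w)
      obtain ⟨y, hy⟩ := hspan (r₁.ρ b w)
      simp only [Module.End.mul_apply, map_smul, ← hx, ← hy, smul_smul]
      congr 1
      ring
    have hfixW : ∀ g ∈ D, ∀ u ∈ W, r.ρ g u = u := fun g hg u hu => by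
      have := hr₁ g (hDK hg) ⟨u, hu⟩
      rw [r₁.eq_one_of_comm le_rfl hcomm₁ g (hanti (le_max_right n 1) hg)] at this
      exact this.symm
    have hmove : ∀ g ∈ D, ∀ v, r.ρ g v - v ∈ W := fun g hg v => by
      have := hn g (hanti (le_max_left n 1) hg)
      have h' := hr₂ g (hDK hg) v
      rw [this, Module.End.one_apply] at h'
      rw [← Submodule.Quotient.mk_eq_zero, ← Submodule.mkQ_apply, map_sub, ← h', sub_self]
    refine r.eq_one_of_comm hDK fun a ha b hb => LinearMap.ext fun v => ?_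
    have hb' := hfixW b hb _ (hmove a ha v)
    have ha' := hfixW a ha _ (hmove b hb v)
    rw [map_sub] at hb' ha'
    rw [Module.End.mul_apply, Module.End.mul_apply, sub_eq_iff_eq_add.1 hb', sub_eq_iff_eq_add.1 ha']
    abel

end Groth.Agent.BorelLib
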