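import Groth.Agent.BorelLib.Tori
import Groth.Agent.DiagRepLib.Coords

/-!
# Coordinate rings of tori of points
-/

set_option autoImplicit false
set_option linter.style.haveILetI false

noncomputable section

universe u

open WithConv
open scoped TensorProduct

namespace Groth.Agent.BorelLib

attribute [local instance] pTop pTopTensor

variable {k : Type u} [Field k] [IsAlgClosed k]

section split

/-- Laurent polynomials. -/
abbrev Lr (k : Type u) [Field k] (r : ℕ) : Type u := MonoidAlgebra k (Multiplicative (Fin r → ℤ))

omit [IsAlgClosed k] in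
lemma lr_ext {r : ℕ} {x y : Pt k (Lr k r)}
    (h : ∀ m, x.ofConv (MonoidAlgebra.single m 1) = y.ofConv (MonoidAlgebra.single m 1)) : x = y :=
  WithConv.ext (MonoidAlgebra.algHom_ext h (AlgHom.ext fun c => (AlgHom.commutes _ c).trans (AlgHom.commutes _ c).symm))

omit [IsAlgClosed k] in
lemma lr_comm {r : ℕ} (x y : Pt k (Lr k r)) : x * y = y * x := by
  refine lr_ext fun m => ?_
  rw [AlgHom.convMul_apply, AlgHom.convMul_apply]
  simp [mul_comm]

/-- A point of a split torus attached to a character. -/
def chPt {r : ℕ} (f : Multiplicative (Fin r → ℤ) →* k) : Pt k (Lr k r) :=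
  toConv (MonoidAlgebra.lift k k (Multiplicative (Fin r → ℤ)) f)

omit [IsAlgClosed k] in
@[simp] lemma chPt_single {r : ℕ} (f : Multiplicative (Fin r → ℤ) →* k) (m : Multiplicative (Fin r → ℤ)) :
    (chPt f).ofConv (MonoidAlgebra.single m 1) = f m := by
  simp [chPt]

omit [IsAlgClosed k] in
/-- Evaluation of a point on a monomial, multiplicative in the point. -/
def lrEv {r : ℕ} (m : Multiplicative (Fin r → ℤ)) : Pt k (Lr k r) →* k where
  toFun x := x.ofConv (MonoidAlgebra.single m 1)
  map_one' := by rw [AlgHom.convOne_apply]; simp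
  map_mul' x y := by rw [AlgHom.convMul_apply]; simp

/-- Torsion prime to the characteristic is dense in a split torus. -/
theorem lr_dense {r : ℕ} : (Set.univ : Set (Pt k (Lr k r))) ⊆ closure {x | IsPT x} := by
  intro x _
  refine mem_closure_iff_forall.2 fun f hf => ?_
  -- the monoid of torsion points
  let D : Submonoid (Pt k (Lr k r)) :=
    { carrier := {x | IsPT x}
      one_mem' := IsPT.one
      mul_mem' := fun {a b} ha hb => ha.mul hb (lr_comm a b) }
  let χ : Multiplicative (Fin r → ℤ) → (D →* k) := fun m => (lrEv m).comp D.subtype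
  have hχ : Function.Injective χ := by
    intro m m' h
    by_contra hne
    obtain ⟨i, hi⟩ : ∃ i, Multiplicative.toAdd m i ≠ Multiplicative.toAdd m' i := by
      by_contra hall
      push Not at hall
      exact hne (Multiplicative.toAdd.injective (funext hall))
    obtain ⟨ℓ, hℓ, hpr⟩ := Nat.exists_infinite_primes
      ((Multiplicative.toAdd m i - Multiplicative.toAdd m' i).natAbs + ringChar k + 1)
    have hℓk : (ℓ : k) ≠ 0 := fun h0 => by
      have hd : ringChar k ∣ ℓ := ringChar.dvd h0
      rcases hpr.eq_one_or_self_of_dvd _ hd with h1 | h1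
      · exact CharP.ringChar_ne_one h1
      · omega
    haveI : NeZero (ℓ : k) := ⟨hℓk⟩
    obtain ⟨ζ, hζ⟩ := HasEnoughRootsOfUnity.exists_primitiveRoot k ℓ
    have hζ0 : ζ ≠ 0 := hζ.ne_zero hpr.ne_zero
    let f : Multiplicative (Fin r → ℤ) →* k :=
      { toFun := fun n => ζ ^ (Multiplicative.toAdd n i)
        map_one' := by simp
        map_mul' := fun a b => by simp [zpow_add₀ hζ0] }
    have hd : chPt f ∈ D := by
      refine ⟨ℓ, hℓk, lr_ext fun n => ?_⟩
      change lrEv n (chPt f ^ ℓ) = lrEv n 1
      rw [map_pow, map_one]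
      show ((chPt f).ofConv (MonoidAlgebra.single n 1)) ^ ℓ = 1
      rw [chPt_single]
      show (ζ ^ (Multiplicative.toAdd n i)) ^ ℓ = 1
      rw [← zpow_natCast, ← zpow_mul, mul_comm, zpow_mul, zpow_natCast, hζ.pow_eq_one, one_zpow]
    have he : ζ ^ (Multiplicative.toAdd m i) = ζ ^ (Multiplicative.toAdd m' i) := by
      have := DFunLike.congr_fun h ⟨chPt f, hd⟩
      change (chPt f).ofConv (MonoidAlgebra.single m 1) = (chPt f).ofConv (MonoidAlgebra.single m' 1) at this
      rw [chPt_single, chPt_single] at this
      exact this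
    have h1 : ζ ^ (Multiplicative.toAdd m i - Multiplicative.toAdd m' i) = 1 := by
      rw [zpow_sub₀ hζ0, he, div_self (zpow_ne_zero _ hζ0)]
    have hdvd : (ℓ : ℤ) ∣ Multiplicative.toAdd m i - Multiplicative.toAdd m' i :=
      (hζ.zpow_eq_one_iff_dvd _).1 h1
    have := Nat.le_of_dvd (by omega) (Int.natCast_dvd.1 hdvd)
    omega
  have hli := (linearIndependent_monoidHom D k).comp χ hχ
  have h0 : f.coeff = 0 := by
    refine linearIndependent_iff.1 hli f.coeff ?_
    funext d
    rw [Finsupp.linearCombination_apply, Finsupp.sum, Finset.sum_apply, Pi.zero_apply]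
    conv_rhs => rw [← hf d.1 d.2]
    conv_rhs => rw [← MonoidAlgebra.sum_coeff_single f, Finsupp.sum, map_sum]
    refine Finset.sum_congr rfl fun m _ => ?_
    have e : MonoidAlgebra.single m (f.coeff m) = f.coeff m • MonoidAlgebra.single m (1 : k) := by simp
    rw [e, map_smul]
    rfl
  have : f = 0 := by ext m; simp [h0]
  rw [this, map_zero]

end split

section grouplike

variable {B : Type u} [CommRing B] [HopfAlgebra k B] [IsReduced B] [Algebra.FiniteType k B]

/-- A tensor killed by all pairs of points vanishes. -/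
lemma eq_zero_of_pair {t : B ⊗[k] B} (h : ∀ x y : Pt k B, (pair x y).ofConv t = 0) : t = 0 := by
  let b := Module.Free.chooseBasis k B
  obtain ⟨c, rfl⟩ := TensorProduct.eq_repr_basis_right b t
  have hc : ∀ i, c i = 0 := fun i => eq_zero_of_forall (k := k) fun x => by
    by_contra hne
    have he : c.sum (fun i a => x.ofConv a • b i) = 0 := eq_zero_of_forall (k := k) fun y => by
      rw [← h x y]
      simp [Finsupp.sum, map_sum]
    have := congrArg (fun z => b.repr z i) he
    simp [Finsupp.sum, map_sum, Finsupp.single_apply, hne] at this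
    exact hne (by rw [this, map_zero])
  simp [Finsupp.sum, hc]

variable (k) in
/-- The translation of functions by a point. -/
def trl (g : Pt k B) : Module.End k B :=
  ComodLib.slice g.ofConv.toLinearMap ∘ₗ CoalgebraStruct.comul (R := k) (A := B)

omit [IsAlgClosed k] [IsReduced B] [Algebra.FiniteType k B] in
lemma apply_trl (x g : Pt k B) (b : B) : x.ofConv (trl k g b) = (x * g).ofConv b := by
  rw [AlgHom.convMul_apply]
  show x.ofConv (ComodLib.slice g.ofConv.toLinearMap (CoalgebraStruct.comul (R := k) b)) = _
  generalize CoalgebraStruct.comul (R := k) b = t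
  induction t using TensorProduct.induction_on with
  | zero => simp
  | add a c ha hc => simp only [map_add, ha, hc]
  | tmul a c => simp [mul_comm]

lemma trl_mul (g h : Pt k B) : trl k g * trl k h = trl k (g * h) :=
  LinearMap.ext fun b => eq_of_sub_eq_zero (eq_zero_of_forall (k := k) fun x => by
    rw [map_sub, Module.End.mul_apply, apply_trl, apply_trl, apply_trl, mul_assoc, sub_self])

lemma trl_one : trl k (1 : Pt k B) = 1 :=
  LinearMap.ext fun b => eq_of_sub_eq_zero (eq_zero_of_forall (k := k) fun x => by
    rw [map_sub, Module.End.one_apply, apply_trl, mul_one, sub_self])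

/-- A simultaneous eigenfunction of a dense set of translations is a multiple of a group-like element. -/
lemma exists_smul_of_eigen {D : Set (Pt k B)} (hD : (Set.univ : Set (Pt k B)) ⊆ closure D) {b : B} {c : Pt k B → k}
    (hb : ∀ d ∈ D, ∀ x : Pt k B, (x * d).ofConv b = c d * x.ofConv b) :
    ∃ (t : k) (e : B), IsGroupLikeElem k e ∧ b = t • e ∨ b = 0 := by
  have key : ∀ x y g : Pt k B, (x * g).ofConv b * y.ofConv b = (y * g).ofConv b * x.ofConv b := by
    intro x y g
    have hcl : IsClosed {g : Pt k B | (x * g).ofConv b * y.ofConv b = (y * g).ofConv b * x.ofConv b} :=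
      (((IsReg.eval b).comp ((IsMor.const x).mul IsMor.id)).mul (IsReg.const _)).isClosed_eq
        (((IsReg.eval b).comp ((IsMor.const y).mul IsMor.id)).mul (IsReg.const _))
    refine hcl.closure_subset_iff.2 (fun d hd => ?_) (hD (Set.mem_univ g))
    show _ * _ = _ * _
    rw [hb d hd, hb d hd]; ring
  by_cases h1 : (1 : Pt k B).ofConv b = 0
  · refine ⟨0, 1, Or.inr (eq_zero_of_forall (k := k) fun x => ?_)⟩
    have := key x 1 x
    rw [h1, one_mul, mul_zero] at this
    exact mul_self_eq_zero.1 this.symm
  refine ⟨(1 : Pt k B).ofConv b, ((1 : Pt k B).ofConv b)⁻¹ • b, Or.inl ⟨⟨?_, ?_⟩, ?_⟩⟩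
  · rw [map_smul, smul_eq_mul]
    have e : CoalgebraStruct.counit (R := k) b = (1 : Pt k B).ofConv b := by simp [AlgHom.convOne_apply]
    rw [e, inv_mul_cancel₀ h1]
  · refine sub_eq_zero.1 (eq_zero_of_pair fun x y => ?_)
    rw [map_sub, map_smul, map_smul, pair_tmul, map_smul, map_smul]
    have e : (pair x y).ofConv (CoalgebraStruct.comul (R := k) b) = (x * y).ofConv b := by
      rw [AlgHom.convMul_apply]
      generalize CoalgebraStruct.comul (R := k) b = t
      induction t using TensorProduct.induction_on with
      | zero => simp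
      | add a c ha hc => simp only [map_add, ha, hc]
      | tmul a c => simp
    have h := key x 1 y
    rw [one_mul] at h
    rw [e, smul_eq_mul, smul_eq_mul, smul_eq_mul]
    field_simp
    linear_combination h
  · rw [smul_smul, mul_inv_cancel₀ h1, one_smul]

/-- Group-like elements span when torsion points are dense. -/
theorem span_groupLike (hc : ∀ x y : Pt k B, x * y = y * x)
    (hD : (Set.univ : Set (Pt k B)) ⊆ closure {x | IsPT x}) :
    Submodule.span k {e : B | IsGroupLikeElem k e} = ⊤ := by
  classical
  refine eq_top_iff.2 fun a _ => ?_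
  obtain ⟨W, hW, haW, hsub⟩ := HopfFF.exists_finite_subcomod (k := k) ({a} : Finset B)
  have hs : ∀ g : Pt k B, ∀ w ∈ W, trl k g w ∈ W := fun g w hw => by
    obtain ⟨t, ht⟩ := hsub w hw
    show ComodLib.slice g.ofConv.toLinearMap (CoalgebraStruct.comul (R := k) w) ∈ W
    rw [← ht]
    clear ht
    induction t using TensorProduct.induction_on with
    | zero => simp
    | add a b ha hb => rw [map_add, map_add]; exact W.add_mem ha hb
    | tmul a b => simpa using W.smul_mem _ a.2
  let f : {x : Pt k B // IsPT x} → Module.End k W := fun d => (trl k d.1).restrict (hs d.1)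
  have hcomm : Pairwise fun i j => Commute (f i) (f j) := fun i j _ => LinearMap.ext fun w => Subtype.ext (by
    show trl k i.1 (trl k j.1 w) = trl k j.1 (trl k i.1 w)
    rw [← Module.End.mul_apply, ← Module.End.mul_apply, trl_mul, trl_mul, hc i.1 j.1])
  have hss : ∀ d, (f d).IsSemisimple := by
    intro d
    obtain ⟨m, hm, hdm⟩ := d.2
    refine Module.End.isSemisimple_of_squarefree_aeval_eq_zero (p := Polynomial.X ^ m - 1)
      (Polynomial.X_pow_sub_one_separable_iff.2 hm).squarefree ?_
    have hpow : ∀ n : ℕ, ∀ w : W, (((f d) ^ n) w : B) = trl k (d.1 ^ n) w := by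
      intro n
      induction n with
      | zero => intro w; simp [trl_one]
      | succ n ih =>
        intro w
        rw [pow_succ, Module.End.mul_apply, ih]
        show trl k _ (trl k d.1 w) = _
        rw [← Module.End.mul_apply, trl_mul, ← pow_succ]
    refine LinearMap.ext fun w => Subtype.ext ?_
    simp [hpow, hdm, trl_one]
  have htop := Module.End.iSup_iInf_maxGenEigenspace_eq_top_of_iSup_maxGenEigenspace_eq_top_of_commute f hcomm
    (fun d => Module.End.iSup_maxGenEigenspace_eq_top (f d))
  have hle : (⊤ : Submodule k W) ≤ (Submodule.span k {e : B | IsGroupLikeElem k e}).comap W.subtype := by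
    rw [← htop]
    refine iSup_le fun χ => ?_
    intro w hw
    rw [Submodule.mem_iInf] at hw
    show (w : B) ∈ Submodule.span k {e : B | IsGroupLikeElem k e}
    let c : Pt k B → k := fun g => if h : IsPT g then χ ⟨g, h⟩ else 0
    obtain ⟨t, e, ⟨he, hte⟩ | h0⟩ := exists_smul_of_eigen hD (b := (w : B)) (c := c) (fun d hd x => by
      have h := hw ⟨d, hd⟩
      rw [(Module.End.isFinitelySemisimple_iff_isSemisimple.2 (hss ⟨d, hd⟩)).maxGenEigenspace_eq_eigenspace,
        Module.End.mem_eigenspace_iff] at h
      have h' : trl k d w = χ ⟨d, hd⟩ • (w : B) := congrArg Subtype.val h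
      rw [← apply_trl, h', map_smul, smul_eq_mul]
      simp [c, dif_pos (show IsPT d from hd)])
    · rw [hte]; exact Submodule.smul_mem _ t (Submodule.subset_span he)
    · rw [h0]; exact zero_mem _
  exact hle (Submodule.mem_top (x := (⟨a, haW a (Finset.mem_singleton_self a)⟩ : W)))

/-- A group-like element of finite order is one on a connected group. -/
lemma groupLike_eq_one (hconn : IsPreconnected (Set.univ : Set (Pt k B))) {e : B} (he : IsGroupLikeElem k e)
    {n : ℕ} (hn : n ≠ 0) (hen : e ^ n = 1) : e = 1 := by
  classical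
  refine sub_eq_zero.1 (eq_zero_of_forall (k := k) fun x => ?_)
  have h1 : (1 : Pt k B).ofConv e = 1 := by simp [AlgHom.convOne_apply, he.counit_eq_one]
  have hfin : ((fun g : Pt k B => g.ofConv e) '' Set.univ).Finite :=
    ((Polynomial.nthRootsFinset n (1 : k)).finite_toSet).subset (by
      rintro _ ⟨g, -, rfl⟩
      rw [Finset.mem_coe, Polynomial.mem_nthRootsFinset (Nat.pos_of_ne_zero hn), ← map_pow, hen, map_one])
  have hxe : x.ofConv e = 1 :=
    ((IsReg.eval e).const_of_finite hconn hfin (Set.mem_univ x) (Set.mem_univ 1)).trans h1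
  rw [map_sub, hxe, map_one, sub_self]

/-- The coordinate ring of a torus of points has a group-like basis. -/
theorem exists_glBasis (hc : ∀ x y : Pt k B, x * y = y * x) (hconn : IsPreconnected (Set.univ : Set (Pt k B)))
    (hD : (Set.univ : Set (Pt k B)) ⊆ closure {x | IsPT x}) :
    ∃ r : ℕ, Nonempty (DiagRep.GLBasis k (Fin r → ℤ) B) := by
  classical
  have hsp := span_groupLike hc hD
  have hrange : Set.range (GroupLike.val : GroupLike k B → B) = {e : B | IsGroupLikeElem k e} :=
    Set.ext fun e => ⟨by rintro ⟨a, rfl⟩; exact a.2, fun h => ⟨⟨e, h⟩, rfl⟩⟩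
  have hli : LinearIndependent k (GroupLike.val : GroupLike k B → B) :=
    (linearIndepOn_id_range_iff GroupLike.val_injective).1 (hrange ▸ linearIndepOn_isGroupLikeElem)
  let E : Module.Basis (GroupLike k B) k B := Module.Basis.mk hli (by rw [hrange, hsp])
  have hE : ∀ a, E a = a.val := fun a => Module.Basis.mk_apply _ _ a
  haveI : Nontrivial B := ⟨⟨0, 1, fun h => by
    simpa using congrArg (fun b => (1 : Pt k B).ofConv b) h⟩⟩
  -- finite generation
  obtain ⟨F, hF⟩ := Algebra.FiniteType.out (R := k) (A := B)
  let T : Finset (GroupLike k B) := F.biUnion fun a => (E.repr a).support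
  let M : Submonoid (GroupLike k B) := Submonoid.closure (T : Set (GroupLike k B))
  have hspanM : Submodule.span k (GroupLike.val '' (M : Set (GroupLike k B))) = ⊤ := by
    let S : Subalgebra k B := (Submodule.span k (GroupLike.val '' (M : Set (GroupLike k B)))).toSubalgebra
      (Submodule.subset_span ⟨1, M.one_mem, rfl⟩) (by
        intro x y hx hy
        induction hx using Submodule.span_induction with
        | mem x hx =>
          induction hy using Submodule.span_induction with
          | mem y hy =>
            obtain ⟨a, ha, rfl⟩ := hx; obtain ⟨b, hb, rfl⟩ := hy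
            exact Submodule.subset_span ⟨a * b, M.mul_mem ha hb, rfl⟩
          | zero => simp
          | add y z _ _ hy hz => rw [mul_add]; exact Submodule.add_mem _ hy hz
          | smul c y _ hy => rw [mul_smul_comm]; exact Submodule.smul_mem _ c hy
        | zero => simp
        | add x z _ _ hx hz => rw [add_mul]; exact Submodule.add_mem _ hx hz
        | smul c x _ hx => rw [smul_mul_assoc]; exact Submodule.smul_mem _ c hx)
    have hS : S = ⊤ := top_le_iff.1 (hF ▸ Algebra.adjoin_le fun a ha => by
      show a ∈ Submodule.span k _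
      rw [← E.linearCombination_repr a, Finsupp.linearCombination_apply]
      exact Submodule.sum_mem _ fun g hg => Submodule.smul_mem _ _ (Submodule.subset_span
        ⟨g, Submonoid.subset_closure (Finset.mem_biUnion.2 ⟨a, ha, hg⟩), (hE g).symm⟩))
    rw [← Algebra.top_toSubmodule, ← hS]
    exact (Submodule.toSubalgebra_toSubmodule _ _ _).symm
  have hM : M = ⊤ := by
    refine eq_top_iff.2 fun g _ => ?_
    by_contra hg
    refine hli.notMem_span_image hg ?_
    rw [hspanM]; exact Submodule.mem_top
  haveI : Monoid.FG (GroupLike k B) := ⟨⟨T, hM⟩⟩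
  let Γ := Additive (GroupLike k B)
  haveI : AddGroup.FG Γ := GroupFG.iff_add_fg.1 (Group.fg_iff_monoid_fg.2 inferInstance)
  haveI : Module.Finite ℤ Γ := Module.Finite.iff_addGroup_fg.2 inferInstance
  haveI : Module.IsTorsionFree ℤ Γ := by
    haveI : IsAddTorsionFree Γ := IsAddTorsionFree.of_not_isOfFinAddOrder fun a ha h => ha (by
      obtain ⟨n, hn, hna⟩ := isOfFinAddOrder_iff_nsmul_eq_zero.1 h
      have h' : (Additive.toMul a).val ^ n = 1 := congrArg (fun z : Γ => (Additive.toMul z).val) hna
      exact Additive.toMul.injective (GroupLike.val_injective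
        (groupLike_eq_one hconn (Additive.toMul a).2 hn.ne' h')))
    infer_instance
  haveI : Module.Free ℤ Γ := Module.free_of_finite_type_torsion_free'
  let e : Γ ≃ₗ[ℤ] (Fin (Module.finrank ℤ Γ) → ℤ) := (Module.finBasis ℤ Γ).equivFun
  refine ⟨Module.finrank ℤ Γ, ⟨?_⟩⟩
  exact
    { e := E.reindex (Additive.ofMul.trans e.toEquiv)
      e_zero := by simp [hE]
      e_mul := fun a b => by simp [hE]
      comul_e := fun a => by simp [hE]
      counit_e := fun a => by simp [hE] }

end grouplike

end Groth.Agent.BorelLib
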