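import Groth.Agent.BorelLib.Frame
import Groth.Agent.BorelLib.TorAlg

/-!
# Structure of connected solvable groups of points: `K = S · U`
-/

set_option autoImplicit false
set_option linter.style.haveILetI false

noncomputable section

universe u

open WithConv
open scoped TensorProduct

namespace Groth.Agent.BorelLib

attribute [local instance] pTop pTopTensor

variable {k : Type u} [Field k] [IsAlgClosed k]

/-- A point killed by some power is torsion prime to the characteristic as soon as its values are roots. -/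
lemma lr_isPT {r : ℕ} {z : Pt k (Lr k r)} {n : ℕ} (hn : n ≠ 0) (hz : z ^ n = 1) : IsPT z := by
  obtain ⟨a, l, hl, rfl⟩ : ∃ a l : ℕ, (l : k) ≠ 0 ∧ n = ringExpChar k ^ a * l := by
    obtain ⟨q, hq⟩ := ExpChar.exists k
    haveI := hq
    rw [ringExpChar.eq k q]
    cases hq with
    | zero => exact ⟨0, n, Nat.cast_ne_zero.2 hn, by rw [pow_zero, one_mul]⟩
    | prime hp =>
      obtain ⟨a, l, hl, e⟩ := Nat.exists_eq_pow_mul_and_not_dvd hn q hp.ne_one
      exact ⟨a, l, fun h0 => hl ((CharP.cast_eq_zero_iff k q l).1 h0), e⟩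
  refine ⟨l, hl, lr_ext fun m => ?_⟩
  haveI := ringExpChar.expChar k
  apply iterateFrobenius_inj k (ringExpChar k) a
  rw [iterateFrobenius_def, iterateFrobenius_def]
  have h := congrArg (lrEv m) hz
  rw [map_pow, map_one] at h
  show (lrEv m (z ^ l)) ^ ringExpChar k ^ a = (lrEv m 1) ^ ringExpChar k ^ a
  rw [map_pow, map_one, one_pow, ← pow_mul, mul_comm, h]

/-- Torsion points of a split torus are divisible. -/
lemma lr_exists_root {r : ℕ} {y : Pt k (Lr k r)} (hy : IsPT y) {n : ℕ} (hn : n ≠ 0) :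
    ∃ z : Pt k (Lr k r), IsPT z ∧ z ^ n = y := by
  obtain ⟨m, hm, hym⟩ := hy
  let e : Fin r → Multiplicative (Fin r → ℤ) := fun i => Multiplicative.ofAdd (Pi.single i 1)
  choose w hw using fun i => IsAlgClosed.exists_pow_nat_eq (lrEv (e i) y) (Nat.pos_of_ne_zero hn)
  have hy0 : ∀ i, lrEv (e i) y ≠ 0 := fun i h => by
    have := congrArg (lrEv (e i)) hym
    rw [map_pow, map_one, h, zero_pow (fun h0 => hm (by rw [h0, Nat.cast_zero]))] at this
    exact zero_ne_one this
  have hw0 : ∀ i, w i ≠ 0 := fun i h => hy0 i (by rw [← hw i, h, zero_pow hn])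
  let χ : Multiplicative (Fin r → ℤ) →* k :=
    { toFun := fun x => ∏ i, w i ^ (Multiplicative.toAdd x i)
      map_one' := by simp
      map_mul' := fun a b => by simp [zpow_add₀ (hw0 _), Finset.prod_mul_distrib] }
  have hzy : chPt χ ^ n = y := by
    refine lr_ext fun x => ?_
    show lrEv x (chPt χ ^ n) = lrEv x y
    rw [map_pow]
    show ((chPt χ).ofConv (MonoidAlgebra.single x 1)) ^ n = _
    rw [chPt_single]
    show (∏ i, w i ^ (Multiplicative.toAdd x i)) ^ n = _
    rw [← Finset.prod_pow]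
    let ev : Multiplicative (Fin r → ℤ) →* k :=
      { toFun := fun x => lrEv x y
        map_one' := by
          show y.ofConv (MonoidAlgebra.single 1 1) = 1
          rw [← MonoidAlgebra.one_def, map_one]
        map_mul' := fun a b => by
          show y.ofConv _ = y.ofConv _ * y.ofConv _
          rw [← map_mul, MonoidAlgebra.single_mul_single, one_mul] }
    have hx : x = ∏ i, e i ^ (Multiplicative.toAdd x i) := by
      apply Multiplicative.toAdd.injective
      funext j
      simp [e, toAdd_prod, Finset.sum_apply, Pi.single_apply]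
    show _ = ev x
    conv_rhs => rw [hx, map_prod]
    refine Finset.prod_congr rfl fun i _ => ?_
    rw [map_zpow' ev (fun a => ?_), ← zpow_natCast, ← zpow_mul, mul_comm, zpow_mul, zpow_natCast, hw i]
    · rfl
    · exact eq_inv_of_mul_eq_one_left (by rw [← map_mul, inv_mul_cancel, map_one])
  refine ⟨chPt χ, lr_isPT (n := n * m) (Nat.mul_ne_zero hn fun h0 => hm (by rw [h0, Nat.cast_zero])) ?_, hzy⟩
  rw [pow_mul, hzy, hym]

variable {A : Type u} [CommRing A] [HopfAlgebra k A] [Algebra.FiniteType k A]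

/-- A regular multiplicative function on a frame is group-like. -/
lemma isGroupLikeElem_of_mult {B : Type u} [CommRing B] [HopfAlgebra k B] [IsReduced B] [Algebra.FiniteType k B]
    {a : B} (h1 : (1 : Pt k B).ofConv a = 1) (hmul : ∀ x y : Pt k B, (x * y).ofConv a = x.ofConv a * y.ofConv a) :
    IsGroupLikeElem k a := by
  refine ⟨by simpa [AlgHom.convOne_apply] using h1, sub_eq_zero.1 (eq_zero_of_forall_pair fun x y => ?_)⟩
  rw [map_sub, pair_tmul, ← mul_ofConv, hmul, sub_self]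

namespace FlagRep

variable {K : Subgroup (Pt k A)} (D : FlagRep K)

/-- The diagonal characters give a surjection onto a split torus with kernel the unipotent part. -/
theorem exists_diag (hK : IsClosed (K : Set (Pt k A))) (hKconn : IsPreconnected (K : Set (Pt k A))) :
    ∃ (r : ℕ) (q : K →* Pt k (Lr k r)), Function.Surjective q ∧ (∀ g : K, q g = 1 ↔ (g : Pt k A) ∈ D.U 1) ∧
      ∀ S : Subgroup (Pt k A), ∀ hSK : S ≤ K, IsClosed (S : Set (Pt k A)) → IsPreconnected (S : Set (Pt k A)) →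
        (Set.univ : Set (Pt k (Lr k r))) ⊆ closure {y | ∃ s : K, (s : Pt k A) ∈ S ∧ q s = y} →
        ∀ y, ∃ s : K, (s : Pt k A) ∈ S ∧ q s = y := by
  classical
  obtain ⟨B, _, _, f, hft, hred, hfm, hind, hinj, hrange, -⟩ := exists_frame hK
  haveI := hft; haveI := hred
  have hfK : ∀ x, f x ∈ K := fun x => hrange ▸ ⟨x, rfl⟩
  have hconn : IsPreconnected (Set.univ : Set (Pt k B)) := isPreconnected_univ_frame hind (hrange.symm ▸ hKconn)
  obtain ⟨N, hN⟩ := D.Ftop
  -- the diagonal functions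
  have hex : ∀ j, ∃ a : B, IsGroupLikeElem k a ∧ (D.F (j + 1) ≤ D.F j → a = 1) ∧
      ∀ x, ∀ v ∈ D.F (j + 1), D.r.ρ (f x) v - x.ofConv a • v ∈ D.F j := by
    intro j
    by_cases hj : D.F (j + 1) ≤ D.F j
    · refine ⟨1, ⟨by simp, by simp [Algebra.TensorProduct.one_def]⟩, fun _ => rfl, fun x v hv => ?_⟩
      exact (D.F j).sub_mem (D.stable (hfK x) (hj hv)) ((D.F j).smul_mem _ (hj hv))
    obtain ⟨v₀, hv₀, hv₀'⟩ := SetLike.not_le_iff_exists.1 hj
    obtain ⟨φ, hφv, hφ⟩ := Submodule.exists_dual_map_eq_bot_of_notMem hv₀' inferInstance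
    have hφ' : ∀ w ∈ D.F j, φ w = 0 := fun w hw => by
      have : φ w ∈ (D.F j).map φ := Submodule.mem_map_of_mem hw
      rwa [hφ, Submodule.mem_bot] at this
    obtain ⟨a, ha⟩ := ((IsReg.const (φ v₀)⁻¹).mul ((D.r.reg φ v₀).comp hfm) : IsReg fun x => _)
    have hval : ∀ x, ∀ v ∈ D.F (j + 1), D.r.ρ (f x) v - x.ofConv a • v ∈ D.F j := by
      intro x v hv
      obtain ⟨c, hc⟩ := D.scalar (f x) (hfK x) j
      have : x.ofConv a = c := by
        rw [← ha x]
        have h0 := hφ' _ (hc v₀ hv₀)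
        rw [map_sub, map_smul, sub_eq_zero, smul_eq_mul] at h0
        show (φ v₀)⁻¹ * φ (D.r.ρ (f x) v₀) = c
        rw [h0, mul_comm c, inv_mul_cancel_left₀ hφv]
      rw [this]; exact hc v hv
    have hφval : ∀ x, φ (D.r.ρ (f x) v₀) = x.ofConv a * φ v₀ := fun x => by
      have h0 := hφ' _ (hval x v₀ hv₀)
      rwa [map_sub, map_smul, sub_eq_zero, smul_eq_mul] at h0
    refine ⟨a, isGroupLikeElem_of_mult ?_ fun x y => mul_right_cancel₀ hφv ?_, fun h => absurd h hj, hval⟩
    · refine mul_right_cancel₀ hφv ?_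
      rw [← hφval, map_one, D.r.map_one, Module.End.one_apply, one_mul]
    · have h0 := hφ' _ (D.stable (hfK x) (hval y v₀ hv₀))
      rw [map_sub, map_smul, map_sub, map_smul, sub_eq_zero, smul_eq_mul, hφval x] at h0
      rw [← hφval, map_mul, D.r.mul_apply trivial trivial, h0]
      ring
  choose a hagl ha1 ha using hex
  let Γ₀ : Subgroup (GroupLike k B) := Subgroup.closure ((fun j => (⟨a j, hagl j⟩ : GroupLike k B)) '' (Finset.range N : Set ℕ))
  haveI : Group.FG Γ₀ := (Group.fg_iff_subgroup_fg _).2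
    ⟨(Finset.range N).image fun j => (⟨a j, hagl j⟩ : GroupLike k B), by rw [Finset.coe_image]⟩
  let Γ := Additive Γ₀
  haveI : AddGroup.FG Γ := GroupFG.iff_add_fg.1 inferInstance
  haveI : Module.Finite ℤ Γ := Module.Finite.iff_addGroup_fg.2 inferInstance
  haveI : Nontrivial B := ⟨⟨0, 1, fun h => by
    simpa using congrArg (fun b => (1 : Pt k B).ofConv b) h⟩⟩
  haveI : Module.IsTorsionFree ℤ Γ := by
    haveI : IsAddTorsionFree Γ := IsAddTorsionFree.of_not_isOfFinAddOrder fun x hx h => hx (by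
      obtain ⟨n, hn, hna⟩ := isOfFinAddOrder_iff_nsmul_eq_zero.1 h
      have h' : ((Additive.toMul x : Γ₀) : GroupLike k B).val ^ n = 1 :=
        congrArg (fun z : Γ => ((Additive.toMul z : Γ₀) : GroupLike k B).val) hna
      exact Additive.toMul.injective (Subtype.ext (GroupLike.val_injective
        (groupLike_eq_one hconn (Additive.toMul x : Γ₀).1.2 hn.ne' h'))))
    infer_instance
  haveI : Module.Free ℤ Γ := Module.free_of_finite_type_torsion_free'
  set r := Module.finrank ℤ Γ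
  let e : Γ ≃ₗ[ℤ] (Fin r → ℤ) := (Module.finBasis ℤ Γ).equivFun
  let g₀ : Multiplicative (Fin r → ℤ) →* B :=
    { toFun := fun m => ((Additive.toMul (e.symm (Multiplicative.toAdd m)) : Γ₀) : GroupLike k B).val
      map_one' := by simp
      map_mul' := fun m m' => by rw [toAdd_mul, map_add, toMul_add, Subgroup.coe_mul]; rfl }
  have hg₀ : Function.Injective g₀ := fun m m' h =>
    Multiplicative.toAdd.injective (e.symm.injective (Additive.toMul.injective (Subtype.ext (GroupLike.val_injective h))))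
  let ψ : Lr k r →ₐ[k] B := MonoidAlgebra.lift k B (Multiplicative (Fin r → ℤ)) g₀
  have hψs : ∀ m, ψ (MonoidAlgebra.single m 1) = g₀ m := fun m => by simp [ψ]
  have hψ : Function.Injective ψ := by
    have hli : LinearIndependent k g₀ := by
      have := (linearIndepOn_id_range_iff hg₀).1
        ((linearIndepOn_isGroupLikeElem (R := k) (A := B)).mono (fun x hx => by
          obtain ⟨m, rfl⟩ := hx
          exact ((Additive.toMul (e.symm (Multiplicative.toAdd m)) : Γ₀) : GroupLike k B).2))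
      exact this
    refine (injective_iff_map_eq_zero ψ).2 fun t ht => ?_
    have : t.coeff = 0 := linearIndependent_iff.1 hli t.coeff (by
      rw [← ht]
      simp [ψ, MonoidAlgebra.lift_apply, Finsupp.linearCombination_apply])
    ext m; simp [this]
  let P : Pt k B →* Pt k (Lr k r) := MonoidHom.mk' (pull ψ) fun x y => lr_ext fun m => by
    show (x * y).ofConv (ψ (MonoidAlgebra.single m 1)) = lrEv m (pull ψ x * pull ψ y)
    rw [map_mul, hψs, mul_ofConv]
    show _ = x.ofConv (ψ (MonoidAlgebra.single m 1)) * y.ofConv (ψ (MonoidAlgebra.single m 1))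
    rw [hψs, show g₀ m = ((Additive.toMul (e.symm (Multiplicative.toAdd m)) : Γ₀) : GroupLike k B).val from rfl,
      ((Additive.toMul (e.symm (Multiplicative.toAdd m)) : Γ₀) : GroupLike k B).2.comul_eq_tmul_self, pair_tmul]
  -- surjectivity
  haveI : IsDomain (Lr k r) := NoZeroDivisors.to_isDomain _
  have himg : ∀ X : Subgroup (Pt k B), IsClosed (X : Set (Pt k B)) → IsPreconnected (X : Set (Pt k B)) →
      (Set.univ : Set (Pt k (Lr k r))) ⊆ closure (P '' (X : Set (Pt k B))) → ∀ y, ∃ x ∈ X, P x = y := by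
    intro X hXc hX hd y
    obtain ⟨W, hWo, ⟨w₀, hw₀, -⟩, hWsub, -⟩ := exists_open_saturated ψ hXc (isIrreducible_of_connected hXc hX)
    have hW : ∀ w ∈ W, ∃ x ∈ X, P x = w := fun w hw => hWsub ⟨hw, hd (Set.mem_univ w)⟩
    obtain ⟨z, -, hz, hz'⟩ := (isIrreducible_univ (k := k) (R := Lr k r)).2 W ((fun z => y * z) ⁻¹' W) hWo
      (hWo.preimage (continuous_const_mul y)) ⟨w₀, trivial, hw₀⟩
      ⟨y⁻¹ * w₀, trivial, by show y * (y⁻¹ * w₀) ∈ W; have e := mul_inv_cancel_left y w₀; exact (congrArg (· ∈ W) e).mpr hw₀⟩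
    obtain ⟨x, hx, hxz⟩ := hW z hz
    obtain ⟨x', hx', hxz'⟩ := hW _ hz'
    exact ⟨x' * x⁻¹, X.mul_mem hx' (X.inv_mem hx), by rw [map_mul, map_inv, hxz, hxz']; exact mul_inv_cancel_right y z⟩
  have hPsurj : Function.Surjective P := fun y => by
    obtain ⟨x, -, hx⟩ := himg ⊤ (by rw [Subgroup.coe_top]; exact isClosed_univ) (by rwa [Subgroup.coe_top]) (fun y _ => by
      refine mem_closure_iff_forall.2 fun t ht => ?_
      have : t = 0 := hψ (by
        rw [map_zero]
        exact eq_zero_of_forall (k := k) fun x => ht (P x) ⟨x, trivial, rfl⟩)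
      rw [this, map_zero]) y
    exact ⟨x, hx⟩
  -- the kernel
  have hker : ∀ x, P x = 1 ↔ f x ∈ D.U 1 := by
    intro x
    constructor
    · intro hx
      have hval : ∀ j < N, x.ofConv (a j) = 1 := by
        intro j hj
        let γ : Γ₀ := ⟨⟨a j, hagl j⟩, Subgroup.subset_closure ⟨j, Finset.mem_range.2 hj, rfl⟩⟩
        have hm : g₀ (Multiplicative.ofAdd (e (Additive.ofMul γ))) = a j := by simp [g₀, γ]
        have := congrArg (lrEv (Multiplicative.ofAdd (e (Additive.ofMul γ)))) hx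
        rw [map_one] at this
        change x.ofConv (ψ _) = 1 at this
        rwa [hψs, hm] at this
      refine ⟨hfK x, fun j v hv => ?_⟩
      rcases j with _ | j
      · rw [D.F_zero, Submodule.mem_bot] at hv
        simp [hv]
      rw [Nat.add_sub_cancel, LinearMap.sub_apply, Module.End.one_apply]
      by_cases hj : j < N
      · have h := ha j x v hv
        rwa [hval j hj, one_smul] at h
      · have hFj : D.F j = ⊤ := top_le_iff.1 (hN ▸ D.Fmono (Nat.le_of_not_lt hj))
        rw [hFj]; exact Submodule.mem_top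
    · intro hx
      refine lr_ext fun m => ?_
      show x.ofConv (ψ (MonoidAlgebra.single m 1)) = lrEv m 1
      rw [map_one, hψs]
      let evx : GroupLike k B →* k :=
        { toFun := fun γ => x.ofConv γ.val
          map_one' := by simp
          map_mul' := fun γ γ' => by simp }
      have hle : ∀ γ ∈ Γ₀, evx γ = 1 := by
        intro γ hγ
        refine (Subgroup.closure_le (K := evx.ker)).2 ?_ hγ
        rintro _ ⟨j, -, rfl⟩
        show x.ofConv (a j) = 1
        by_cases hj : D.F (j + 1) ≤ D.F j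
        · rw [ha1 j hj, map_one]
        obtain ⟨v₀, hv₀, hv₀'⟩ := SetLike.not_le_iff_exists.1 hj
        by_contra hne
        have h1 := hx.2 (j + 1) v₀ hv₀
        rw [Nat.add_sub_cancel, LinearMap.sub_apply, Module.End.one_apply] at h1
        have h2 := (D.F j).sub_mem h1 (ha j x v₀ hv₀)
        rw [sub_sub_sub_cancel_left] at h2
        have h3 : (x.ofConv (a j) - 1) • v₀ ∈ D.F j := by rwa [sub_smul, one_smul]
        exact hv₀' ((Submodule.smul_mem_iff _ (sub_ne_zero.2 hne)).1 h3)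
      exact hle _ (Additive.toMul (e.symm (Multiplicative.toAdd m)) : Γ₀).2
  let φ : Pt k B ≃* K := (MonoidHom.ofInjective hinj).trans (MulEquiv.subgroupCongr hrange)
  have hφ : ∀ x, (φ x : Pt k A) = f x := fun x => rfl
  refine ⟨r, P.comp φ.symm.toMonoidHom, fun y => ?_, fun g => ?_, fun S hSK hSc hS hd y => ?_⟩
  · obtain ⟨x, hx⟩ := hPsurj y
    exact ⟨φ x, by simp [hx]⟩
  · obtain ⟨x, rfl⟩ := φ.surjective g
    rw [MonoidHom.comp_apply, MulEquiv.coe_toMonoidHom, φ.symm_apply_apply, hφ]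
    exact hker x
  · have e' : f '' (S.comap f : Set (Pt k B)) = S := by
      rw [Subgroup.coe_comap, Set.image_preimage_eq_iff, ← MonoidHom.coe_range, hrange]
      exact hSK
    obtain ⟨x, hx, hxy⟩ := himg (S.comap f) (hSc.preimage hind.continuous) (hind.isPreconnected_image.1 (e'.symm ▸ hS))
      (hd.trans (closure_mono (by
        rintro z ⟨s, hs, rfl⟩
        obtain ⟨x, rfl⟩ := φ.surjective s
        exact ⟨x, by simpa [hφ] using hs, by simp⟩))) y
    exact ⟨φ x, hx, by simpa using hxy⟩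

/-- **`K = S · U`** and every torsion element is conjugate into `S`. -/
theorem exists_torus_decomp (hK : IsClosed (K : Set (Pt k A))) (hKconn : IsPreconnected (K : Set (Pt k A))) :
    ∃ S : Subgroup (Pt k A), S ≤ K ∧ IsTor S ∧
      (∀ T : Subgroup (Pt k A), T ≤ K → IsTor T → ∃ g ∈ K, conjSub g T ≤ S) ∧
      (∀ g ∈ K, ∃ s ∈ S, s⁻¹ * g ∈ D.U 1) ∧
      (∀ t ∈ K, IsPT t → ∃ u ∈ K, u ∈ D.U 1 ∧ u * t * u⁻¹ ∈ S) := by
  classical
  obtain ⟨E, hEK, hEpt, hEcomm, hclass, hS, hu⟩ := D.exists_universal_tor hK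
  set S := neut (clSub E)
  have hSK : S ≤ K := (neut_le _).trans hEK
  obtain ⟨r, q, hq, hker, himg⟩ := D.exists_diag hK hKconn
  have hqU : ∀ g h : K, q g = q h ↔ (h : Pt k A)⁻¹ * g ∈ D.U 1 := fun g h => by
    rw [show (h : Pt k A)⁻¹ * g = ((h⁻¹ * g : K) : Pt k A) from rfl, ← hker, map_mul, map_inv, inv_mul_eq_one]
    exact eq_comm
  obtain ⟨R, hR, hcov⟩ := exists_neut_cosets (isClosed_clSub E)
  set n := R.card.factorial
  have hn : n ≠ 0 := Nat.factorial_ne_zero _
  have hpow : ∀ e ∈ clSub E, e ^ n ∈ S := by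
    intro e he
    have hc : ∀ i : ℕ, ∃ c ∈ R, c⁻¹ * e ^ i ∈ S := fun i => hcov _ ((clSub E).pow_mem he i)
    choose c hc hc' using hc
    obtain ⟨i, hi, j, hj, hij, he'⟩ := Finset.exists_ne_map_eq_of_card_lt_of_maps_to
      (s := Finset.range (R.card + 1)) (t := R) (by simp) (fun i _ => hc i)
    wlog hlt : i < j generalizing i j with H
    · exact H j hj i hi hij.symm he'.symm (lt_of_le_of_ne (not_lt.1 hlt) hij.symm)
    have h' := S.mul_mem (S.inv_mem (hc' i)) (hc' j)
    rw [he', mul_inv_rev, inv_inv, mul_assoc, mul_inv_cancel_left] at h'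
    rw [Finset.mem_range] at hj
    obtain ⟨l, hl⟩ : (j - i) ∣ n := Nat.dvd_factorial (by omega) (by omega)
    rw [hl, pow_mul, pow_sub e hlt.le, ((Commute.pow_pow_self e j i).inv_right).eq]
    exact S.pow_mem h' l
  have hsurjS : ∀ y, ∃ s : K, (s : Pt k A) ∈ S ∧ q s = y := by
    refine himg S hSK (isClosed_neut (isClosed_clSub E)) (isPreconnected_neut _) fun y _ => ?_
    refine closure_mono ?_ (lr_dense (Set.mem_univ y))
    intro y hy
    obtain ⟨z, hzt, rfl⟩ := lr_exists_root hy hn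
    obtain ⟨g, rfl⟩ := hq z
    obtain ⟨m, hm, hzm⟩ := hzt
    rw [← map_pow, hker, SubmonoidClass.coe_pow] at hzm
    obtain ⟨v, hv, hv'⟩ := (D.isLayered hK le_rfl hK hm).exists_lift (x := g) hzm
    obtain ⟨d, hd, hdU⟩ := hclass ((g * v : K) : Pt k A) (g * v).2 ⟨m, hm, congrArg Subtype.val hv'⟩
    have hdS : d ^ n ∈ S := hpow d (le_clSub E hd)
    refine ⟨⟨d ^ n, hSK hdS⟩, hdS, ?_⟩
    have hd' : d ∈ K := hEK (le_clSub E hd)
    rw [show (⟨d ^ n, hSK hdS⟩ : K) = (⟨d, hd'⟩ : K) ^ n from rfl, map_pow]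
    congr 1
    have h1 : q v = 1 := (hker v).2 hv
    have h2 : q ((⟨d, hd'⟩ : K) * (g * v)⁻¹) = 1 := (hker _).2 hdU
    rwa [map_mul, map_inv, mul_inv_eq_one, map_mul, h1, mul_one] at h2
  refine ⟨S, hSK, hS, hu, fun g hg => ?_, fun t ht htt => ?_⟩
  · obtain ⟨s, hs, hqs⟩ := hsurjS (q ⟨g, hg⟩)
    exact ⟨s, hs, (hqU ⟨g, hg⟩ s).1 hqs.symm⟩
  · obtain ⟨m, hm, htm⟩ := htt
    obtain ⟨s, hs, hqs⟩ := hsurjS (q ⟨t, ht⟩)
    have hsm : (s : Pt k A) ^ m ∈ D.U 1 := by
      rw [← SubmonoidClass.coe_pow, ← hker, map_pow, hqs, ← map_pow,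
        show (⟨t, ht⟩ : K) ^ m = 1 from Subtype.ext htm, map_one]
    obtain ⟨v, hv, hv'⟩ := (D.isLayered hK hSK hS.closed hm).exists_lift (x := ⟨(s : Pt k A), hs⟩) hsm
    have hsv : (s : Pt k A) * v ∈ S := S.mul_mem hs v.2
    obtain ⟨u, huK, huU, hu'⟩ := D.exists_conj_one hK le_rfl hK ht (hSK hsv)
      ⟨m, hm, htm⟩ ⟨m, hm, congrArg Subtype.val hv'⟩ (by
        rw [show (s : Pt k A) * v * t⁻¹ = ((s * ⟨v, hSK v.2⟩ * (⟨t, ht⟩ : K)⁻¹ : K) : Pt k A) from rfl, ← hker,
          map_mul, map_mul, map_inv, hqs, (hker ⟨v, hSK v.2⟩).2 hv, mul_one, mul_inv_cancel])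
    exact ⟨u, huK, huU, hu' ▸ hsv⟩

end FlagRep

end Groth.Agent.BorelLib
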