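import Groth.Agent.BorelLib.TorAlg
import Groth.Agent.BorelLib.Fun
import Groth.Agent.RedRankLib.Tori
import Groth.Agent.RedCharZeroLib.TorusSplit
import Groth.Agent.GrpHomLib.Field
import Groth.Agent.TorusFieldLib.Scheme

/-!
# Tori as schemes and as groups of points
-/

set_option autoImplicit false
set_option linter.style.haveILetI false
set_option backward.isDefEq.respectTransparency false

universe u

open CategoryTheory CategoryTheory.Limits MonoidalCategory CartesianMonoidalCategory AlgebraicGeometry WithConv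
open scoped MonObj
open CoactBr (sp)

noncomputable section

attribute [-instance] CategoryTheory.Hom.commGroup

namespace Groth.Agent.BorelLib

attribute [local instance] pTop pTopTensor

variable {k : Type u} [Field k] [IsAlgClosed k]

/-- The points of a homomorphism. -/
theorem exists_hom_pull {A A' : Type u} [CommRing A] [HopfAlgebra k A] [CommRing A'] [HopfAlgebra k A']
    {G H : Over (Spec (CommRingCat.of k))} [GrpObj G] [GrpObj H] (v : sp k A ≅ G) [IsMonHom v.hom]
    (w : sp k A' ≅ H) [IsMonHom w.hom] (i : H ⟶ G) [IsMonHom i] :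
    ∃ (ψ : A →ₐ[k] A') (f : Pt k A' →* Pt k A), (∀ x, f x = pull ψ x) ∧ (f.range = ptsSub v i) ∧
      (IsClosedImmersion i.left → Function.Surjective ψ) := by
  obtain ⟨ψ, hψ⟩ := Groth.Agent.DiagRep.exists_pt (R := k) (A := A) (C := A') (w.hom ≫ i ≫ v.inv)
  let f : Pt k A' →* Pt k A := ((ptEquiv v).symm.toMonoidHom.comp (ptHom i)).comp (ptEquiv w).toMonoidHom
  refine ⟨ψ, f, fun x => (ptEquiv v).injective ?_, ?_, fun hic => ?_⟩
  · show ptEquiv v ((ptEquiv v).symm (ptEquiv w x ≫ i)) = _
    rw [(ptEquiv v).apply_symm_apply]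
    show (_ ≫ CoactBr.pt x.ofConv ≫ w.hom) ≫ i = _ ≫ CoactBr.pt (x.ofConv.comp ψ) ≫ v.hom
    rw [CoactBr.pt_comp, ← hψ]
    simp only [Category.assoc, v.inv_hom_id, Category.comp_id]
  · ext y
    rw [mem_ptsSub]
    constructor
    · rintro ⟨x, rfl⟩
      exact ⟨ptEquiv w x, ((ptEquiv v).apply_symm_apply _).symm⟩
    · rintro ⟨b, hb⟩
      refine ⟨(ptEquiv w).symm b, ?_⟩
      show (ptEquiv v).symm (ptEquiv w ((ptEquiv w).symm b) ≫ i) = y
      rw [(ptEquiv w).apply_symm_apply, hb]
      exact (ptEquiv v).symm_apply_apply y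
  · haveI := hic
    refine DiagRep.surjective_of_isClosedImmersion ψ ?_
    rw [← hψ]
    haveI : IsIso w.hom.left := (Over.forget _).map_isIso w.hom
    haveI : IsIso v.inv.left := (Over.forget _).map_isIso v.inv
    rw [Over.comp_left, Over.comp_left]
    infer_instance

variable {A : Type u} [CommRing A] [HopfAlgebra k A] [Algebra.FiniteType k A]
  {G : Over (Spec (CommRingCat.of k))} [GrpObj G] [LocallyOfFiniteType G.hom] (v : sp k A ≅ G) [IsMonHom v.hom]

omit [IsAlgClosed k] [Algebra.FiniteType k A] [GrpObj G] [IsMonHom v.hom] in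
lemma isAffine_left (v : sp k A ≅ G) : IsAffine G.left := by
  haveI : IsIso v.inv.left := (Over.forget _).map_isIso v.inv
  haveI : IsAffine (sp k A).left := inferInstanceAs (IsAffine (Spec (CommRingCat.of A)))
  exact IsAffine.of_isIso v.inv.left

omit [Algebra.FiniteType k A] [LocallyOfFiniteType G.hom] in
/-- A torus is a reduced connected scheme of finite type. -/
lemma torus_facts {T : Over (Spec (CommRingCat.of k))} [GrpObj T] (hT : Red.IsTorus T) :
    ∃ (r : ℕ) (w : sp k (Lr k r) ≅ T), IsMonHom w.hom ∧ Algebra.FiniteType k (Lr k r) ∧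
      AlgebraicGeometry.IsReduced T.left ∧ IrreducibleSpace T.left ∧ LocallyOfFiniteType T.hom ∧ IsAffine T.left := by
  obtain ⟨r, w, hw, -⟩ := RedCharZeroLib.exists_laurent_iso hT
  haveI : IsDomain (Lr k r) := NoZeroDivisors.to_isDomain _
  haveI hft : Algebra.FiniteType k (Lr k r) := inferInstance
  haveI : IsIso w.inv.left := (Over.forget _).map_isIso w.inv
  haveI : IsIntegral (Spec (CommRingCat.of (Lr k r))) := inferInstance
  haveI : IsIntegral (sp k (Lr k r)).left := inferInstanceAs (IsIntegral (Spec (CommRingCat.of (Lr k r))))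
  haveI : IsAffine (sp k (Lr k r)).left := inferInstanceAs (IsAffine (Spec (CommRingCat.of (Lr k r))))
  haveI : Nonempty T.left := ⟨w.hom.left (⊥ : PrimeSpectrum (Lr k r))⟩
  haveI : IsIntegral T.left := isIntegral_of_isOpenImmersion w.inv.left
  haveI hl : LocallyOfFiniteType (sp k (Lr k r)).hom := by
    show LocallyOfFiniteType (Spec.map (CommRingCat.ofHom (algebraMap k (Lr k r))))
    rw [HasRingHomProperty.Spec_iff (P := @LocallyOfFiniteType), CommRingCat.hom_ofHom,
      RingHom.finiteType_algebraMap]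
    exact hft
  exact ⟨r, w, hw, hft, inferInstance, inferInstance, by rw [← Over.w w.inv]; infer_instance,
    IsAffine.of_isIso w.inv.left⟩

omit [Algebra.FiniteType k A] in
include v in
/-- Monomorphisms from tori are closed immersions. -/
lemma isClosedImmersion_of_torus {T : Over (Spec (CommRingCat.of k))} [GrpObj T] (iT : T ⟶ G) [IsMonHom iT]
    [Mono iT] (hT : Red.IsTorus T) : IsClosedImmersion iT.left := by
  obtain ⟨r, w, -, -, -, -, hl, ha⟩ := torus_facts hT
  haveI := hl; haveI := ha; haveI := isAffine_left v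
  exact GrpHom.isClosedImmersion_of_mono iT

/-- The points of a subtorus form a torus of points. -/
theorem isTor_ptsSub {T : Over (Spec (CommRingCat.of k))} [GrpObj T] (iT : T ⟶ G) [IsMonHom iT]
    [Mono iT] (hT : Red.IsTorus T) : IsTor (ptsSub v iT) := by
  haveI := isClosedImmersion_of_torus v iT hT
  obtain ⟨r, w, hw, hft, hred, hirr, hl, ha⟩ := torus_facts hT
  haveI := hw; haveI := hirr
  obtain ⟨ψ, f, hf, hrange, -⟩ := exists_hom_pull v w iT
  have hc : Continuous f := by
    rw [show (f : Pt k (Lr k r) → Pt k A) = pull ψ from funext hf]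
    exact continuous_pull ψ
  refine ⟨isClosed_ptsSub v, isPreconnected_ptsSub v, ?_, ?_⟩
  · rw [← hrange]
    rintro _ ⟨a, rfl⟩ _ ⟨b, rfl⟩
    rw [← map_mul, lr_comm, map_mul]
  · rw [← hrange]
    rintro _ ⟨a, rfl⟩
    exact map_mem_closure hc (lr_dense (Set.mem_univ a)) fun x ⟨m, hm, hxm⟩ =>
      ⟨⟨x, rfl⟩, m, hm, by rw [← map_pow, hxm, map_one]⟩

/-- A smooth closed subgroup whose points form a torus is a torus. -/
theorem isTorus_of_isTor [IsAffine G.left] {H : Over (Spec (CommRingCat.of k))} [GrpObj H] (i : H ⟶ G) [IsMonHom i]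
    [IsClosedImmersion i.left] [Smooth H.hom] (h : IsTor (ptsSub v i)) : Red.IsTorus H := by
  haveI : IsAffine H.left := isAffine_of_isAffineHom i.left
  obtain ⟨B, _, _, w, hw, hft, hred⟩ := exists_setup H
  haveI := hw; haveI := hft; haveI := hred
  obtain ⟨ψ, f, hf, hrange, hsur⟩ := exists_hom_pull v w i
  have hs := hsur inferInstance
  have hinj : Function.Injective f := by
    rw [show (f : Pt k B → Pt k A) = pull ψ from funext hf]
    exact pull_injective_of_surjective hs
  have hind : Topology.IsInducing f := by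
    rw [show (f : Pt k B → Pt k A) = pull ψ from funext hf]
    exact isInducing_pull_of_frac ψ fun b => (hs b).elim fun a ha => ⟨a, 1, isUnit_one, by rw [ha, mul_one]⟩
  have hfu : f '' Set.univ = (ptsSub v i : Set (Pt k A)) := by
    rw [Set.image_univ, ← MonoidHom.coe_range, hrange]
  have hc : ∀ x y : Pt k B, x * y = y * x := fun x y => hinj (by
    rw [map_mul, map_mul]
    exact h.comm _ (hrange ▸ ⟨x, rfl⟩) _ (hrange ▸ ⟨y, rfl⟩))
  have hconn : _root_.IsPreconnected (Set.univ : Set (Pt k B)) :=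
    hind.isPreconnected_image.1 (hfu.symm ▸ h.conn)
  have hD : (Set.univ : Set (Pt k B)) ⊆ closure {x | IsPT x} := fun x _ => by
    rw [hind.closure_eq_preimage_closure_image]
    refine closure_mono ?_ (h.dense (hrange ▸ ⟨x, rfl⟩ : f x ∈ ptsSub v i))
    rintro y ⟨hy, m, hm, hym⟩
    rw [← hrange] at hy
    obtain ⟨z, rfl⟩ := hy
    exact ⟨z, ⟨m, hm, hinj (by rw [map_pow, hym, map_one])⟩, rfl⟩
  obtain ⟨r, ⟨E⟩⟩ := exists_glBasis hc hconn hD
  obtain ⟨u, hu, -⟩ := TorusField.exists_iso_of_basis E (DiagRep.monoidAlgebraBasis k (Fin r → ℤ))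
  obtain ⟨d, hd, hd'⟩ := TorusField.exists_DS_iso k (Fin r → ℤ)
  haveI := hu; haveI := hd; haveI := hd'
  haveI : IsMonHom u.inv := inferInstance
  haveI : IsMonHom w.inv := inferInstance
  haveI : IsMonHom (w.symm ≪≫ u.symm ≪≫ d).hom := by dsimp only [Iso.trans_hom, Iso.symm_hom]; infer_instance
  exact RedRank.isTorus_of_iso (w.symm ≪≫ u.symm ≪≫ d) (RedRank.isTorus_DS _ r)

/-- Closed subgroup schemes attached to tori of points. -/
theorem exists_torus_sub [Smooth G.hom] [IsAffine G.left] {S : Subgroup (Pt k A)} (hS : IsTor S) :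
    ∃ (T : Over (Spec (CommRingCat.of k))) (_ : GrpObj T) (iT : T ⟶ G),
      IsMonHom iT ∧ Mono iT ∧ IsClosedImmersion iT.left ∧ Red.IsTorus T ∧ ∃ _ : IsMonHom iT, ptsSub v iT = S := by
  haveI : QuasiCompact G.hom := inferInstance
  obtain ⟨T, _, iT, hi, hic, hsm, hpts, -, -⟩ := exists_scheme_sub v hS.closed
  haveI := hi; haveI := hic; haveI := hsm
  exact ⟨T, inferInstance, iT, hi, DiagRep.mono_of_isClosedImmersion iT hic, hic,
    isTorus_of_isTor v iT (hpts.symm ▸ hS), hi, hpts⟩

end Groth.Agent.BorelLib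

end
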