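import Groth.Agent.BorelLib.Flag

/-!
# Tori in connected solvable groups of points and their conjugacy
-/

set_option autoImplicit false

noncomputable section

universe u

open WithConv
open scoped TensorProduct commutatorElement

namespace Groth.Agent.BorelLib

attribute [local instance] pTop pTopTensor

variable {k : Type u} [Field k] {A : Type u} [CommRing A] [HopfAlgebra k A]

/-- Torsion prime to the characteristic. -/
def IsPT (x : Pt k A) : Prop := ∃ m : ℕ, (m : k) ≠ 0 ∧ x ^ m = 1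

lemma IsPT.one : IsPT (1 : Pt k A) := ⟨1, by simp, one_pow _⟩

lemma IsPT.mul {x y : Pt k A} (hx : IsPT x) (hy : IsPT y) (hc : Commute x y) : IsPT (x * y) := by
  obtain ⟨m, hm, hxm⟩ := hx
  obtain ⟨n, hn, hyn⟩ := hy
  exact ⟨m * n, by rw [Nat.cast_mul]; exact mul_ne_zero hm hn,
    by rw [hc.mul_pow, pow_mul, hxm, one_pow, one_mul, mul_comm m n, pow_mul, hyn, one_pow]⟩

lemma IsPT.inv {x : Pt k A} (hx : IsPT x) : IsPT x⁻¹ :=
  hx.imp fun m ⟨hm, hxm⟩ => ⟨hm, by rw [inv_pow, hxm, inv_one]⟩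

lemma IsPT.conj {x : Pt k A} (hx : IsPT x) (g : Pt k A) : IsPT (g * x * g⁻¹) :=
  hx.imp fun m ⟨hm, hxm⟩ => ⟨hm, by rw [conj_pow, hxm, mul_one, mul_inv_cancel]⟩

/-- A torus of points: connected, closed, commutative, with dense torsion prime to the characteristic. -/
structure IsTor (T : Subgroup (Pt k A)) : Prop where
  closed : IsClosed (T : Set (Pt k A))
  conn : IsPreconnected (T : Set (Pt k A))
  comm : ∀ a ∈ T, ∀ b ∈ T, a * b = b * a
  dense : (T : Set (Pt k A)) ⊆ closure {x | x ∈ T ∧ IsPT x}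

lemma IsTor.isSol {T : Subgroup (Pt k A)} (h : IsTor T) : IsSol T :=
  ⟨1, le_bot_iff.1 (Subgroup.commutator_le.2 fun a ha b hb => by
    rw [Subgroup.mem_bot, commutatorElement_eq_one_iff_mul_comm]
    exact h.comm a ha b hb)⟩

lemma IsTor.conjSub {T : Subgroup (Pt k A)} (h : IsTor T) (g : Pt k A) : IsTor (conjSub g T) := by
  refine ⟨isClosed_conjSub h.closed, isPreconnected_conjSub h.conn, ?_, ?_⟩
  · rintro _ ⟨a, ha, rfl⟩ _ ⟨b, hb, rfl⟩
    rw [← map_mul, ← map_mul, h.comm a ha b hb]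
  · rintro _ ⟨t, ht, rfl⟩
    exact map_mem_closure (continuous_conjBy g) (h.dense ht) fun x hx => ⟨⟨x, hx.1, rfl⟩, hx.2.conj g⟩

/-- The centraliser of a finite set inside a subgroup. -/
def centIn (K : Subgroup (Pt k A)) (s : Finset (Pt k A)) : Subgroup (Pt k A) :=
  K ⊓ Subgroup.centralizer (s : Set (Pt k A))

lemma centIn_anti {K : Subgroup (Pt k A)} {s t : Finset (Pt k A)} (h : s ⊆ t) : centIn K t ≤ centIn K s :=
  inf_le_inf_left _ (Subgroup.centralizer_le (Finset.coe_subset.2 h))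

lemma isClosed_commuting [Algebra.FiniteType k A] (y : Pt k A) : IsClosed {g : Pt k A | y * g = g * y} := by
  have e : {g : Pt k A | y * g = g * y} = ⋂ a : A, {g | (y * g).ofConv a = (g * y).ofConv a} := by
    ext g
    simp only [Set.mem_ofPred_eq, Set.mem_iInter]
    exact ⟨fun h a => by rw [h], fun h => WithConv.ext (AlgHom.ext h)⟩
  rw [e]
  exact isClosed_iInter fun a => ((IsReg.eval a).comp ((IsMor.const y).mul IsMor.id)).isClosed_eq
    ((IsReg.eval a).comp (IsMor.id.mul (IsMor.const y)))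

lemma isClosed_centIn [Algebra.FiniteType k A] {K : Subgroup (Pt k A)} (hK : IsClosed (K : Set (Pt k A)))
    (s : Finset (Pt k A)) : IsClosed (centIn K s : Set (Pt k A)) := by
  have e : (centIn K s : Set (Pt k A)) = (K : Set (Pt k A)) ∩ ⋂ y ∈ s, {g | y * g = g * y} := by
    ext g
    simp [centIn, Subgroup.mem_centralizer_iff]
  rw [e]
  exact hK.inter (isClosed_biInter fun y _ => isClosed_commuting y)

variable [IsAlgClosed k] [Algebra.FiniteType k A]

/-- The closed image of a subgroup under a regular additive map to a vector space is divisible in characteristic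
zero. -/
lemma exists_div_of_charZero [CharZero k] {P : Subgroup (Pt k A)} (hP : IsClosed (P : Set (Pt k A)))
    {V : Type u} [AddCommGroup V] [Module k V] [FiniteDimensional k V] (q : Pt k A → V)
    (hq : ∀ φ : V →ₗ[k] k, IsReg fun g => φ (q g)) (hadd : ∀ a ∈ P, ∀ b ∈ P, q (a * b) = q a + q b)
    {a : Pt k A} (ha : a ∈ P) {m : ℕ} (hm : (m : k) ≠ 0) : ∃ w ∈ P, (m : k) • q w = q a := by
  classical
  obtain ⟨φ, hφ⟩ := isMor_vp hq
  have hP0c := isClosed_neut hP
  obtain ⟨W, hWo, hWne, hWsub, -⟩ := exists_open_saturated φ hP0c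
    (isIrreducible_of_connected hP0c (isPreconnected_neut P))
  set Q := pull φ '' (neut P : Set (Pt k A)) with hQ
  have hQirr : IsIrreducible (closure Q) :=
    ((isIrreducible_of_connected hP0c (isPreconnected_neut P)).image _ (continuous_pull φ).continuousOn).closure
  have h1 : q 1 = 0 := by
    have := hadd 1 P.one_mem 1 P.one_mem
    rw [one_mul] at this
    simpa using this
  have hφ' : ∀ g, pull φ g = vp (k := k) (q g) := fun g => (hφ g).symm
  have hQadd : ∀ y ∈ Q, ∀ y' ∈ Q, vp (k := k) (pv (V := V) y + pv y') ∈ Q := by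
    rintro _ ⟨g, hg, rfl⟩ _ ⟨g', hg', rfl⟩
    exact ⟨g * g', (neut P).mul_mem hg hg', by
      rw [hφ', hφ', hφ', pv_vp, pv_vp, hadd _ (neut_le P hg) _ (neut_le P hg')]⟩
  have hQneg : ∀ y ∈ Q, vp (k := k) (-pv (V := V) y) ∈ Q := by
    rintro _ ⟨g, hg, rfl⟩
    refine ⟨g⁻¹, inv_mem hg, ?_⟩
    have := hadd _ (neut_le P hg) _ (inv_mem (neut_le P hg))
    rw [mul_inv_cancel, h1] at this
    rw [hφ', hφ', pv_vp, eq_neg_of_add_eq_zero_right this.symm]
  have htr : ∀ x : V, Continuous fun y : Pt k (VPoly k V) => vp (k := k) (x - pv y) := fun x =>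
    (isMor_vp fun ψ => by
      simp only [map_sub]
      exact (IsReg.const _).sub (isReg_pv ψ)).continuous
  have hcsub : ∀ y ∈ closure Q, ∀ z ∈ closure Q, vp (k := k) (pv (V := V) y - pv z) ∈ closure Q := by
    have h0 : ∀ y ∈ Q, ∀ z ∈ closure Q, vp (k := k) (pv (V := V) y - pv z) ∈ closure Q := fun y hy z hz =>
      map_mem_closure (f := fun w => vp (k := k) (pv (V := V) y - pv w)) (htr _) hz fun w hw => by
        have := hQadd y hy _ (hQneg w hw)
        rwa [pv_vp, ← sub_eq_add_neg] at this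
    intro y hy z hz
    have hc : Continuous fun y' : Pt k (VPoly k V) => vp (k := k) (pv (V := V) y' - pv z) :=
      (isMor_vp fun ψ => by
        simp only [map_sub]
        exact (isReg_pv ψ).sub (IsReg.const _)).continuous
    have := map_mem_closure (f := fun y' => vp (k := k) (pv (V := V) y' - pv z)) (t := closure Q) hc hy
      fun w hw => h0 w hw z hz
    rwa [closure_closure] at this
  have hclosed : closure Q ⊆ Q := by
    intro y hy
    obtain ⟨w₀, hw₀W, hw₀⟩ := hWne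
    obtain ⟨z, hz, hzW, hz'⟩ := hQirr.2 W ((fun z => vp (k := k) (pv (V := V) y - pv z)) ⁻¹' W) hWo
      (hWo.preimage (htr _)) ⟨w₀, hw₀, hw₀W⟩
      ⟨vp (pv (V := V) y - pv w₀), hcsub y hy w₀ hw₀, by simpa using hw₀W⟩
    have h2 := hQadd z (hWsub ⟨hzW, hz⟩) _ (hWsub ⟨hz', hcsub y hy z hz⟩)
    rwa [pv_vp, add_sub_cancel, vp_pv] at h2
  have hQc : IsClosed Q := closure_subset_iff_isClosed.1 hclosed
  -- Q is a linear subspace
  have hline : ∀ y ∈ Q, ∀ t : k, vp (k := k) (t • pv (V := V) y) ∈ Q := by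
    intro y hy t
    let L : Set (Pt k (Polynomial k)) := (fun s => vp (k := k) (lineCoord s • pv (V := V) y)) ⁻¹' Q
    have hL : IsClosed L := hQc.preimage (isMor_vp fun ψ => by
      simp only [map_smul, smul_eq_mul]
      exact isReg_lineCoord.mul (IsReg.const _)).continuous
    have hnat : ∀ n : ℕ, linePt (n : k) ∈ L := by
      intro n
      induction n with
      | zero =>
        show vp _ ∈ Q
        rw [lineCoord_linePt, Nat.cast_zero, zero_smul]
        have := hQadd y hy _ (hQneg y hy)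
        rwa [pv_vp, add_neg_cancel] at this
      | succ n ih =>
        show vp _ ∈ Q
        rw [lineCoord_linePt, Nat.cast_succ, add_smul, one_smul]
        have ih' : vp (k := k) ((n : k) • pv (V := V) y) ∈ Q := by simpa [L] using ih
        have := hQadd _ ih' y hy
        rwa [pv_vp] at this
    by_contra hne
    have hfin := finite_lineCoord hL (x := linePt t) fun hmem => hne (by simpa [L] using hmem)
    exact (Set.infinite_range_of_injective (f := fun n : ℕ => (n : k)) Nat.cast_injective).mono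
      (by rintro _ ⟨n, rfl⟩; exact ⟨_, hnat n, lineCoord_linePt _⟩) hfin
  -- a power lies in the neutral component
  obtain ⟨F, -, hcov⟩ := exists_neut_cosets hP
  obtain ⟨N, hN, hNmem⟩ : ∃ N : ℕ, N ≠ 0 ∧ a ^ N ∈ neut P := by
    have hc : ∀ n : ℕ, ∃ r : F, (r : Pt k A)⁻¹ * a ^ n ∈ neut P := fun n => by
      obtain ⟨r, hr, h⟩ := hcov _ (P.pow_mem ha n)
      exact ⟨⟨r, hr⟩, h⟩
    choose r hr using hc
    obtain ⟨i, j, hij, he⟩ := Finite.exists_ne_map_eq_of_infinite r
    wlog hlt : i < j generalizing i j with H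
    · exact H j i hij.symm he.symm (lt_of_le_of_ne (not_lt.1 hlt) hij.symm)
    refine ⟨j - i, (Nat.sub_pos_of_lt hlt).ne', ?_⟩
    have h' := (neut P).mul_mem ((neut P).inv_mem (hr i)) (hr j)
    rw [he, mul_inv_rev, inv_inv, mul_assoc, mul_inv_cancel_left] at h'
    rwa [pow_sub a hlt.le, ((Commute.pow_pow_self a j i).inv_right).eq]
  have hpow : ∀ n : ℕ, q (a ^ n) = (n : k) • q a := by
    intro n
    induction n with
    | zero => simp [h1]
    | succ n ih => rw [pow_succ, hadd _ (P.pow_mem ha n) _ ha, ih, Nat.cast_succ, add_smul, one_smul]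
  obtain ⟨w, hw, hwe⟩ := hline _ ⟨a ^ N, hNmem, hφ' _⟩ ((N : k)⁻¹ * (m : k)⁻¹)
  refine ⟨w, neut_le P hw, ?_⟩
  have h' := congrArg (pv (V := V)) hwe
  rw [hφ', pv_vp, pv_vp, pv_vp, hpow, smul_smul] at h'
  rw [h', smul_smul]
  have hN' : (N : k) ≠ 0 := Nat.cast_ne_zero.2 hN
  rw [show (m : k) * ((N : k)⁻¹ * (m : k)⁻¹ * (N : k)) = 1 by field_simp, one_smul]

namespace FlagRep

variable {K : Subgroup (Pt k A)} (D : FlagRep K)

/-- The filtration inside a closed subgroup has uniquely divisible layers. -/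
theorem isLayered (hK : IsClosed (K : Set (Pt k A))) {Z : Subgroup (Pt k A)} (hZK : Z ≤ K)
    (hZ : IsClosed (Z : Set (Pt k A))) {m : ℕ} (hm : (m : k) ≠ 0) :
    IsLayered (fun i => (D.U (i + 1)).subgroupOf Z) m where
  normal i := ⟨fun a ha g => D.conj_mem_U (hZK g.2) ha⟩
  anti i := fun a ha => D.U_anti (Nat.le_succ _) ha
  comm i a ha b hb := D.commutator_mem_succ (Nat.succ_pos i) ha hb
  tf i a ha h := D.tf_U (Nat.succ_pos i) hm ha h
  top := by
    obtain ⟨N, hN⟩ := D.exists_U_bot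
    refine ⟨N, le_bot_iff.1 fun a ha => ?_⟩
    have := D.U_anti (Nat.le_succ N) (ha : (a : Pt k A) ∈ D.U (N + 1))
    rw [hN, Subgroup.mem_bot] at this
    exact Subgroup.mem_bot.2 (Subtype.ext this)
  div i a ha := by
    rcases Nat.eq_zero_or_pos (ringChar k) with h0 | hpos
    · haveI : CharP k 0 := h0 ▸ ringChar.charP k
      haveI : CharZero k := CharP.charP_to_charZero k
      obtain ⟨w, hw, hwe⟩ := exists_div_of_charZero (P := D.U (i + 1) ⊓ Z) ((D.isClosed_U hK (i + 1)).inter hZ)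
        (fun g => (D.low (i + 1 + 1)).mkQ (D.r.ρ g - 1))
        (fun ψ => by
          let ψ' : Module.End k D.V →ₗ[k] k := ψ ∘ₗ (D.low (i + 1 + 1)).mkQ
          have e : (fun g => ψ ((D.low (i + 1 + 1)).mkQ (D.r.ρ g - 1))) = fun g => ψ' (D.r.ρ g) - ψ' 1 :=
            funext fun g => map_sub ψ' _ _
          rw [e]
          refine IsReg.sub ?_ (IsReg.const _)
          let bV := Module.finBasis k D.V
          have e2 : (fun g => ψ' (D.r.ρ g)) =
              fun g => ∑ p, ∑ q, bV.coord p (D.r.ρ g (bV q)) * ψ' (LinearMap.toMatrix bV bV |>.symm (Matrix.single p q 1)) := by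
            funext g
            conv_lhs => rw [← (LinearMap.toMatrix bV bV).symm_apply_apply (D.r.ρ g),
              Matrix.matrix_eq_sum_single (LinearMap.toMatrix bV bV (D.r.ρ g))]
            simp only [map_sum]
            refine Finset.sum_congr rfl fun p _ => Finset.sum_congr rfl fun q _ => ?_
            rw [LinearMap.toMatrix_apply, Module.Basis.coord_apply,
              show ∀ c : k, Matrix.single p q c = c • Matrix.single p q (1 : k) from fun c => by
                rw [Matrix.smul_single, smul_eq_mul, mul_one], map_smul, map_smul, smul_eq_mul]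
          rw [e2]
          exact IsReg.sum _ fun p _ => IsReg.sum _ fun q _ => (D.r.reg _ _).mul (IsReg.const _))
        (fun x hx y hy => by
          rw [← map_add, ← sub_eq_zero, ← map_sub, Submodule.mkQ_apply, Submodule.Quotient.mk_eq_zero,
            D.ρ_mul, show D.r.ρ x * D.r.ρ y - 1 - (D.r.ρ x - 1 + (D.r.ρ y - 1)) = (D.r.ρ x - 1) * (D.r.ρ y - 1) by
              simp only [mul_sub, sub_mul, one_mul, mul_one]; abel]
          exact D.low_anti (by omega) (D.low_mul hx.1.2 hy.1.2))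
        (a := (a : Pt k A)) ⟨ha, a.2⟩ hm
      refine ⟨⟨w, hw.2⟩, hw.1, ?_⟩
      have hw' := D.pow_sub_nsmul_mem (Nat.succ_pos i) hw.1 m
      rw [← sub_eq_zero, ← map_smul, ← map_sub, Submodule.mkQ_apply, Submodule.Quotient.mk_eq_zero] at hwe
      refine ⟨K.mul_mem (inv_mem (D.U_le _ ha)) (K.pow_mem (D.U_le _ hw.1) m), ?_⟩
      show D.r.ρ ((a : Pt k A)⁻¹ * w ^ m) - 1 ∈ D.low (i + 1 + 1)
      rw [show D.r.ρ ((a : Pt k A)⁻¹ * w ^ m) - 1 = D.r.ρ (a : Pt k A)⁻¹ * (D.r.ρ (w ^ m) - D.r.ρ (a : Pt k A)) by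
        rw [mul_sub, ← D.ρ_mul, ← D.ρ_mul, inv_mul_cancel, D.r.map_one]]
      have h := (D.low (i + 1 + 1)).add_mem hw' hwe
      rw [show D.r.ρ (w ^ m) - 1 - (m : k) • (D.r.ρ w - 1) + ((m : k) • (D.r.ρ w - 1) - (D.r.ρ (a : Pt k A) - 1)) =
        D.r.ρ (w ^ m) - D.r.ρ (a : Pt k A) by abel] at h
      simpa using D.low_mul (D.ρ_mem_low (inv_mem (D.U_le _ ha))) h
    · set p := ringChar k
      haveI : Fact p.Prime := ⟨(CharP.char_is_prime_or_zero k p).resolve_right hpos.ne'⟩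
      obtain ⟨m', hm'⟩ : ∃ m' : ℕ, ((m * m' : ℕ) : k) = 1 := by
        have hcop : Nat.Coprime m p := by
          rw [Nat.coprime_comm, (Fact.out : p.Prime).coprime_iff_not_dvd]
          exact fun h => hm ((CharP.cast_eq_zero_iff k p m).2 h)
        obtain ⟨m', -, hm'⟩ := Nat.exists_mul_mod_eq_one_of_coprime hcop (Fact.out : p.Prime).one_lt
        refine ⟨m', ?_⟩
        rw [← Nat.mod_add_div (m * m') p, hm', Nat.cast_add, Nat.cast_mul p, CharP.cast_eq_zero k p, zero_mul,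
          Nat.cast_one, add_zero]
      refine ⟨a ^ m', Subgroup.pow_mem _ ha m', ?_⟩
      show ((a⁻¹ * (a ^ m') ^ m : Z) : Pt k A) ∈ D.U (i + 1 + 1)
      rw [Subgroup.coe_mul, Subgroup.coe_inv, Subgroup.coe_pow, Subgroup.coe_pow, ← pow_mul]
      refine ⟨K.mul_mem (inv_mem (D.U_le _ ha)) (K.pow_mem (D.U_le _ ha) _), ?_⟩
      rw [show D.r.ρ ((a : Pt k A)⁻¹ * (a : Pt k A) ^ (m' * m)) - 1 =
        D.r.ρ (a : Pt k A)⁻¹ * (D.r.ρ ((a : Pt k A) ^ (m' * m)) - D.r.ρ (a : Pt k A)) by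
        rw [mul_sub, ← D.ρ_mul, ← D.ρ_mul, inv_mul_cancel, D.r.map_one]]
      have h := D.pow_sub_nsmul_mem (Nat.succ_pos i) (ha : (a : Pt k A) ∈ D.U (i + 1)) (m' * m)
      rw [mul_comm m' m, hm', one_smul, sub_sub_sub_cancel_right] at h
      rw [mul_comm m' m]
      simpa using D.low_mul (D.ρ_mem_low (inv_mem (D.U_le _ ha))) h

lemma exists_conj_one (hK : IsClosed (K : Set (Pt k A))) {Z : Subgroup (Pt k A)} (hZK : Z ≤ K)
    (hZ : IsClosed (Z : Set (Pt k A))) {x y : Pt k A} (hx : x ∈ Z) (hy : y ∈ Z) (hxt : IsPT x) (hyt : IsPT y)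
    (h : y * x⁻¹ ∈ D.U 1) : ∃ u ∈ Z, u ∈ D.U 1 ∧ u * x * u⁻¹ = y := by
  obtain ⟨m, hm, hxm⟩ := hxt
  obtain ⟨n, hn, hyn⟩ := hyt
  obtain ⟨u, hu, hu'⟩ := (D.isLayered hK hZK hZ (m := m * n) (by rw [Nat.cast_mul]; exact mul_ne_zero hm hn)).exists_conj
    (x := ⟨x, hx⟩) (x' := ⟨y, hy⟩) (Subtype.ext (by show x ^ (m * n) = 1; rw [pow_mul, hxm, one_pow]))
    (Subtype.ext (by show y ^ (m * n) = 1; rw [mul_comm, pow_mul, hyn, one_pow])) h
  exact ⟨u, u.2, hu, congrArg Subtype.val hu'⟩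

omit [IsAlgClosed k] [Algebra.FiniteType k A] in
lemma commute_mod {a g : Pt k A} (ha : a ∈ K) (hg : g ∈ K) : g * a * g⁻¹ * a⁻¹ ∈ D.U 1 := by
  have := D.commutator_mem_U hg ha
  rwa [commutatorElement_def] at this

/-- Finite commuting families of torsion elements congruent modulo the unipotent part are conjugate. -/
lemma exists_conj_list (hK : IsClosed (K : Set (Pt k A))) :
    ∀ (l : List (Pt k A × Pt k A)) {Z : Subgroup (Pt k A)}, Z ≤ K → IsClosed (Z : Set (Pt k A)) →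
      (∀ p ∈ l, p.1 ∈ Z ∧ p.2 ∈ Z ∧ IsPT p.1 ∧ IsPT p.2 ∧ p.2 * p.1⁻¹ ∈ D.U 1) →
      (∀ p ∈ l, ∀ q ∈ l, Commute p.1 q.1 ∧ Commute p.2 q.2) →
      ∃ u ∈ Z, u ∈ D.U 1 ∧ ∀ p ∈ l, u * p.1 * u⁻¹ = p.2
  | [], Z, _, _, _, _ => ⟨1, Z.one_mem, (D.U 1).one_mem, fun p hp => absurd hp List.not_mem_nil⟩
  | (x, y) :: l, Z, hZK, hZ, hmem, hcomm => by
    obtain ⟨hxZ, hyZ, hxt, hyt, hxy⟩ := hmem (x, y) List.mem_cons_self
    obtain ⟨u, huZ, huU, hu⟩ := D.exists_conj_one hK hZK hZ hxZ hyZ hxt hyt hxy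
    simp only at hu hxZ hyZ hxt hyt hxy
    let Z' := centIn Z {y}
    have hZ'c := isClosed_centIn hZ {y}
    obtain ⟨w, hwZ, hwU, hw⟩ := exists_conj_list hK (l.map fun p => (u * p.1 * u⁻¹, p.2))
      (Z := Z') (inf_le_left.trans hZK) hZ'c (by
        simp only [List.mem_map, forall_exists_index, and_imp]
        rintro _ p hp rfl
        obtain ⟨h1, h2, h3, h4, h5⟩ := hmem p (List.mem_cons_of_mem _ hp)
        obtain ⟨hc1, hc2⟩ := hcomm (x, y) List.mem_cons_self p (List.mem_cons_of_mem _ hp)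
        refine ⟨⟨Z.mul_mem (Z.mul_mem huZ h1) (Z.inv_mem huZ), Subgroup.mem_centralizer_iff.2 ?_⟩,
          ⟨h2, Subgroup.mem_centralizer_iff.2 ?_⟩, h3.conj u, h4, ?_⟩
        · intro z hz
          rw [Finset.coe_singleton, Set.mem_singleton_iff] at hz
          rw [hz, ← hu]
          exact ((Commute.conj_iff u).2 hc1).eq
        · intro z hz
          rw [Finset.coe_singleton, Set.mem_singleton_iff] at hz
          rw [hz]
          exact hc2.eq
        · rw [show p.2 * (u * p.1 * u⁻¹)⁻¹ = (p.2 * p.1⁻¹) * (u * p.1 * u⁻¹ * p.1⁻¹)⁻¹ by group]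
          exact (D.U 1).mul_mem h5 ((D.U 1).inv_mem (D.commute_mod (hZK h1) (hZK huZ))))
      (by
        simp only [List.mem_map, forall_exists_index, and_imp]
        rintro _ p hp rfl _ q hq rfl
        obtain ⟨h1, h2⟩ := hcomm p (List.mem_cons_of_mem _ hp) q (List.mem_cons_of_mem _ hq)
        exact ⟨(Commute.conj_iff u).2 h1, h2⟩)
    refine ⟨w * u, Z.mul_mem hwZ.1 huZ, (D.U 1).mul_mem hwU huU, fun p hp => ?_⟩
    rcases List.mem_cons.1 hp with rfl | hp
    · have hc : y * w = w * y := Subgroup.mem_centralizer_iff.1 hwZ.2 y (by simp)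
      rw [show w * u * x * (w * u)⁻¹ = w * (u * x * u⁻¹) * w⁻¹ by group, hu, ← hc, mul_inv_cancel_right]
    · rw [show w * u * p.1 * (w * u)⁻¹ = w * (u * p.1 * u⁻¹) * w⁻¹ by group]
      exact hw (u * p.1 * u⁻¹, p.2) (List.mem_map.2 ⟨p, hp, rfl⟩)
termination_by l => l.length
decreasing_by simp

end FlagRep

/-- **Maximal tori of a connected solvable group**: the neutral component of the closure of a suitable
commutative group of torsion elements contains conjugates of all tori; the group meets every torsion class. -/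
theorem FlagRep.exists_universal_tor {K : Subgroup (Pt k A)} (D : FlagRep K) (hK : IsClosed (K : Set (Pt k A))) :
    ∃ E : Subgroup (Pt k A), clSub E ≤ K ∧ (∀ e ∈ E, IsPT e) ∧ (∀ a ∈ clSub E, ∀ b ∈ clSub E, a * b = b * a) ∧
      (∀ t ∈ K, IsPT t → ∃ d ∈ E, d * t⁻¹ ∈ D.U 1) ∧ IsTor (neut (clSub E)) ∧
      ∀ T : Subgroup (Pt k A), T ≤ K → IsTor T → ∃ g ∈ K, conjSub g T ≤ neut (clSub E) := by
  classical
  have := noetherianSpace (k := k) (R := A)
  -- a commuting family of torsion elements with smallest centraliser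
  obtain ⟨C, ⟨F, ⟨hFK, hFc⟩, rfl⟩, hmin⟩ := wellFounded_lt.has_min
    {C : TopologicalSpace.Closeds (Pt k A) | ∃ F : Finset (Pt k A), ((∀ f ∈ F, f ∈ K ∧ IsPT f) ∧
      ∀ f ∈ F, ∀ g ∈ F, Commute f g) ∧ C = ⟨_, isClosed_centIn hK F⟩}
    ⟨_, ∅, ⟨by simp, by simp⟩, rfl⟩
  set Z := centIn K F with hZdef
  have hZK : Z ≤ K := inf_le_left
  have hZc : IsClosed (Z : Set (Pt k A)) := isClosed_centIn hK F
  have hcentral : ∀ y ∈ Z, IsPT y → ∀ z ∈ Z, y * z = z * y := by
    intro y hy hyt z hz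
    have hle : centIn K (insert y F) ≤ Z := centIn_anti (Finset.subset_insert _ _)
    have hyF : ∀ f ∈ F, Commute f y := fun f hf => Subgroup.mem_centralizer_iff.1 hy.2 f hf
    have heq : centIn K (insert y F) = Z := by
      by_contra hne
      refine hmin ⟨_, isClosed_centIn hK (insert y F)⟩ ⟨insert y F, ⟨?_, ?_⟩, rfl⟩
        (lt_of_le_of_ne hle fun e => hne (SetLike.ext' (congrArg (fun C : TopologicalSpace.Closeds (Pt k A) => (C : Set (Pt k A))) e)))
      · intro f hf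
        rcases Finset.mem_insert.1 hf with rfl | hf
        · exact ⟨hy.1, hyt⟩
        · exact hFK f hf
      · intro f hf g hg
        rcases Finset.mem_insert.1 hf with hf | hf <;> rcases Finset.mem_insert.1 hg with hg | hg
        · rw [hf, hg]
        · rw [hf]; exact (hyF g hg).symm
        · rw [hg]; exact hyF f hf
        · exact hFc f hf g hg
    have hz' : z ∈ centIn K (insert y F) := heq.symm ▸ hz
    exact Subgroup.mem_centralizer_iff.1 hz'.2 y (by simp)
  let E : Subgroup (Pt k A) :=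
    { carrier := {x | x ∈ Z ∧ IsPT x}
      one_mem' := ⟨Z.one_mem, IsPT.one⟩
      mul_mem' := fun {a b} ha hb => ⟨Z.mul_mem ha.1 hb.1, ha.2.mul hb.2 (hcentral a ha.1 ha.2 b hb.1)⟩
      inv_mem' := fun {a} ha => ⟨Z.inv_mem ha.1, ha.2.inv⟩ }
  -- every torsion class meets E
  have hclass : ∀ t ∈ K, IsPT t → ∃ d ∈ E, d * t⁻¹ ∈ D.U 1 := by
    intro t ht htt
    obtain ⟨u, huK, huU, hu⟩ := D.exists_conj_list hK (F.toList.map fun f => (f, t * f * t⁻¹)) le_rfl hK
      (by
        simp only [List.mem_map, Finset.mem_toList, forall_exists_index, and_imp]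
        rintro _ f hf rfl
        exact ⟨(hFK f hf).1, K.mul_mem (K.mul_mem ht (hFK f hf).1) (inv_mem ht), (hFK f hf).2, (hFK f hf).2.conj t,
          D.commute_mod (hFK f hf).1 ht⟩)
      (by
        simp only [List.mem_map, Finset.mem_toList, forall_exists_index, and_imp]
        rintro _ f hf rfl _ g hg rfl
        exact ⟨hFc f hf g hg, (Commute.conj_iff t).2 (hFc f hf g hg)⟩)
    have hx : u⁻¹ * t ∈ Z := by
      refine ⟨K.mul_mem (inv_mem huK) ht, Subgroup.mem_centralizer_iff.2 fun f hf => ?_⟩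
      have h := hu (f, t * f * t⁻¹) (List.mem_map.2 ⟨f, Finset.mem_toList.2 hf, rfl⟩)
      calc f * (u⁻¹ * t) = u⁻¹ * (u * f * u⁻¹) * t := by group
        _ = u⁻¹ * (t * f * t⁻¹) * t := by rw [h]
        _ = u⁻¹ * t * f := by group
    obtain ⟨m, hm, htm⟩ := htt
    have hxt : u⁻¹ * t * t⁻¹ ∈ D.U 1 := by rw [mul_inv_cancel_right]; exact (D.U 1).inv_mem huU
    have hpow : (u⁻¹ * t) ^ m ∈ D.U 1 := by
      suffices ∀ n : ℕ, (u⁻¹ * t) ^ n * (t ^ n)⁻¹ ∈ D.U 1 by simpa [htm] using this m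
      intro n
      induction n with
      | zero => simpa using (D.U 1).one_mem
      | succ n ih =>
        rw [show (u⁻¹ * t) ^ (n + 1) * (t ^ (n + 1))⁻¹ =
            u⁻¹ * (t * ((u⁻¹ * t) ^ n * (t ^ n)⁻¹) * t⁻¹) by rw [pow_succ', pow_succ']; group]
        exact (D.U 1).mul_mem ((D.U 1).inv_mem huU) (D.conj_mem_U ht ih)
    obtain ⟨v, hv, hv'⟩ := (D.isLayered hK hZK hZc hm).exists_lift (x := ⟨_, hx⟩) hpow
    refine ⟨u⁻¹ * t * v, ⟨Z.mul_mem hx v.2, m, hm, congrArg Subtype.val hv'⟩, ?_⟩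
    rw [show u⁻¹ * t * (v : Pt k A) * t⁻¹ = u⁻¹ * (t * v * t⁻¹) by group]
    exact (D.U 1).mul_mem ((D.U 1).inv_mem huU) (D.conj_mem_U ht hv)
  have hEcomm : ∀ a ∈ E, ∀ b ∈ E, Commute a b := fun a ha b hb => hcentral a ha.1 ha.2 b hb.1
  have hEK : clSub E ≤ K := clSub_le hK fun x hx => hZK hx.1
  have hScomm : ∀ a ∈ clSub E, ∀ b ∈ clSub E, a * b = b * a := by
    have h1 : ∀ a ∈ E, ∀ b ∈ clSub E, a * b = b * a := fun a ha =>
      closure_minimal (fun b hb => hEcomm a ha b hb) (isClosed_commuting a)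
    intro a ha b hb
    exact (closure_minimal (fun a' ha' => (h1 a' ha' b hb).symm) (isClosed_commuting b) ha).symm
  refine ⟨E, hEK, fun e he => he.2, hScomm, hclass, ⟨isClosed_neut (isClosed_clSub E), isPreconnected_neut _,
    fun a ha b hb => hScomm a (neut_le _ ha) b (neut_le _ hb), ?_⟩, ?_⟩
  · -- density of the torsion
    obtain ⟨R, hR, hcov⟩ := exists_neut_cosets (isClosed_clSub E)
    intro s hs'
    by_contra hns
    let O : Set (Pt k A) := (closure {x | x ∈ neut (clSub E) ∧ IsPT x})ᶜ ∩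
      (⋃ r ∈ R.filter (fun r => r ∉ neut (clSub E)), (fun g => r⁻¹ * g) ⁻¹' (neut (clSub E) : Set (Pt k A)))ᶜ
    have hO : IsOpen O := isClosed_closure.isOpen_compl.inter
      ((Finset.finite_toSet _).isClosed_biUnion fun r _ =>
        (isClosed_neut (isClosed_clSub E)).preimage (continuous_const_mul r⁻¹)).isOpen_compl
    have hsO : s ∈ O := by
      refine ⟨hns, fun h => ?_⟩
      obtain ⟨r, hr, hrs⟩ := Set.mem_iUnion₂.1 h
      rw [Finset.mem_filter] at hr
      apply hr.2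
      have := (neut (clSub E)).mul_mem hs' ((neut (clSub E)).inv_mem hrs)
      rwa [mul_inv_rev, inv_inv, mul_inv_cancel_left] at this
    obtain ⟨e, ⟨he1, he2⟩, heE⟩ := mem_closure_iff.1 (neut_le _ hs') O hO hsO
    apply he1
    obtain ⟨r, hr, hre⟩ := hcov e (le_clSub E heE)
    refine subset_closure ⟨?_, heE.2⟩
    by_contra hne
    refine he2 (Set.mem_iUnion₂.2 ⟨r, Finset.mem_filter.2 ⟨hr, fun hrn => hne ?_⟩, hre⟩)
    simpa using (neut (clSub E)).mul_mem hrn hre
  · intro T hTK hT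
    have hd : ∀ t : {x // x ∈ T ∧ IsPT x}, ∃ d ∈ E, d * (t : Pt k A)⁻¹ ∈ D.U 1 := fun t =>
      hclass t (hTK t.2.1) t.2.2
    choose d hdE hdU using hd
    let Cs : Finset {x // x ∈ T ∧ IsPT x} → TopologicalSpace.Closeds (Pt k A) := fun s =>
      ⟨(D.U 1 : Set (Pt k A)) ∩ ⋂ t ∈ s, (fun u => u * (t : Pt k A) * u⁻¹) ⁻¹' (clSub E : Set (Pt k A)),
        (D.isClosed_U hK 1).inter (isClosed_biInter fun t _ => (isClosed_clSub E).preimage
          ((IsMor.id.mul (IsMor.const (t : Pt k A))).mul IsMor.id.inv).continuous)⟩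
    have hex : ∀ s, ∃ u, u ∈ Cs s := fun s => by
      obtain ⟨u, -, huU, hu⟩ := D.exists_conj_list hK (s.toList.map fun t : {x // x ∈ T ∧ IsPT x} => (t.1, d t)) le_rfl hK
        (by
          simp only [List.mem_map, Finset.mem_toList, forall_exists_index, and_imp]
          rintro _ t - rfl
          exact ⟨hTK t.2.1, hEK (le_clSub E (hdE t)), t.2.2, (hdE t).2, hdU t⟩)
        (by
          simp only [List.mem_map, Finset.mem_toList, forall_exists_index, and_imp]
          rintro _ t - rfl _ t' - rfl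
          exact ⟨hT.comm _ t.2.1 _ t'.2.1, hEcomm _ (hdE t) _ (hdE t')⟩)
      refine ⟨u, huU, Set.mem_iInter₂.2 fun t ht => le_clSub E ?_⟩
      have := hu (t.1, d t) (List.mem_map.2 ⟨t, Finset.mem_toList.2 ht, rfl⟩)
      show u * t.1 * u⁻¹ ∈ E
      rw [show u * t.1 * u⁻¹ = d t from this]
      exact hdE t
    obtain ⟨C₀, ⟨s₀, rfl⟩, hmin₀⟩ := wellFounded_lt.has_min (Set.range Cs) (Set.range_nonempty _)
    obtain ⟨u, hu⟩ := hex s₀
    have hall : ∀ t : {x // x ∈ T ∧ IsPT x}, u * (t : Pt k A) * u⁻¹ ∈ clSub E := by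
      intro t
      have hle : Cs (insert t s₀) ≤ Cs s₀ := fun x hx => ⟨hx.1, Set.mem_iInter₂.2 fun t' ht' =>
        Set.mem_iInter₂.1 hx.2 t' (Finset.mem_insert_of_mem ht')⟩
      have he : Cs (insert t s₀) = Cs s₀ := by
        by_contra hne
        exact hmin₀ _ ⟨_, rfl⟩ (lt_of_le_of_ne hle hne)
      have hu' : u ∈ Cs (insert t s₀) := he.symm ▸ hu
      exact Set.mem_iInter₂.1 hu'.2 t (Finset.mem_insert_self _ _)
    refine ⟨u, D.U_le 1 hu.1, le_neut (isPreconnected_conjSub hT.conn) ?_⟩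
    rintro _ ⟨x, hx, rfl⟩
    have := map_mem_closure (t := (clSub E : Set (Pt k A))) (continuous_conjBy u) (hT.dense hx)
      fun y hy => hall ⟨y, hy⟩
    rwa [(isClosed_clSub E).closure_eq] at this

theorem exists_universal_tor {K : Subgroup (Pt k A)} (hK : IsClosed (K : Set (Pt k A)))
    (hKconn : IsPreconnected (K : Set (Pt k A))) (hs : IsSol K) :
    ∃ S : Subgroup (Pt k A), S ≤ K ∧ IsTor S ∧ ∀ T : Subgroup (Pt k A), T ≤ K → IsTor T →
      ∃ g ∈ K, conjSub g T ≤ S := by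
  obtain ⟨D⟩ := exists_flagRep hKconn hs
  obtain ⟨E, hE, -, -, -, hS, hu⟩ := D.exists_universal_tor hK
  exact ⟨_, (neut_le _).trans hE, hS, hu⟩

/-- **Tori are conjugate into one torus.** -/
theorem exists_universal_tor_group {K : Subgroup (Pt k A)} (hK : IsClosed (K : Set (Pt k A)))
    (hKconn : IsPreconnected (K : Set (Pt k A))) :
    ∃ S : Subgroup (Pt k A), S ≤ K ∧ IsTor S ∧ ∀ T : Subgroup (Pt k A), T ≤ K → IsTor T →
      ∃ g ∈ K, conjSub g T ≤ S := by
  obtain ⟨B, hB, -, hconj⟩ := IsBor.exists_conj_universal hK hKconn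
  obtain ⟨S, hSB, hS, hu⟩ := exists_universal_tor hB.closed hB.conn hB.sol
  refine ⟨S, hSB.trans hB.le, hS, fun T hTK hT => ?_⟩
  obtain ⟨g, hg, hle⟩ := hconj T hTK hT.conn hT.isSol
  obtain ⟨h, hh, hle'⟩ := hu _ hle (hT.conjSub _)
  exact ⟨h * g⁻¹, K.mul_mem (hB.le hh) (inv_mem hg), by rwa [← conjSub_conjSub]⟩

end Groth.Agent.BorelLib
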