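import Groth.Agent.BorelLib.Elim
import Groth.Agent.BorelLib.Rep

/-!
# Finite-dimensional spaces as affine spaces; fixed lines in stable cones
-/

set_option autoImplicit false

noncomputable section

universe u v

open WithConv
open scoped TensorProduct

namespace Groth.Agent.BorelLib

attribute [local instance] pTop pTopTensor

variable {k : Type u} [Field k]

/-- The point of the affine line. -/
def linePt (c : k) : Pt k (Polynomial k) := toConv (Polynomial.aeval c)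

/-- The coordinate on the affine line. -/
def lineCoord (x : Pt k (Polynomial k)) : k := x.ofConv Polynomial.X

@[simp] lemma lineCoord_linePt (c : k) : lineCoord (linePt c) = c := by simp [lineCoord, linePt]

@[simp] lemma linePt_lineCoord (x : Pt k (Polynomial k)) : linePt (lineCoord x) = x :=
  WithConv.ext (Polynomial.algHom_ext (by simp [lineCoord, linePt]))

lemma isReg_lineCoord : IsReg (lineCoord : Pt k (Polynomial k) → k) := IsReg.eval _

lemma isMor_linePt {R : Type u} [CommRing R] [Algebra k R] {f : Pt k R → k} (hf : IsReg f) :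
    IsMor fun x => linePt (f x) := by
  obtain ⟨a, ha⟩ := hf
  exact ⟨Polynomial.aeval a, fun x => WithConv.ext (Polynomial.algHom_ext (by simp [linePt, ha x]))⟩

/-- A closed set of the line missing a point is finite. -/
lemma finite_lineCoord {Y : Set (Pt k (Polynomial k))} (hY : IsClosed Y) {x : Pt k (Polynomial k)} (hx : x ∉ Y) :
    (lineCoord '' Y).Finite := by
  obtain ⟨p, hp, hpx⟩ : ∃ p : Polynomial k, (∀ y ∈ Y, y.ofConv p = 0) ∧ x.ofConv p ≠ 0 := by
    by_contra h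
    push Not at h
    exact hx (isClosed_iff.1 hY x h)
  have hp0 : p ≠ 0 := fun h => hpx (by rw [h, map_zero])
  refine (Polynomial.finite_setOfPred_isRoot hp0).subset ?_
  rintro _ ⟨y, hy, rfl⟩
  show p.eval (lineCoord y) = 0
  rw [← hp y hy]
  conv_rhs => rw [← linePt_lineCoord y]
  simp [linePt, Polynomial.coe_aeval_eq_eval]

variable {V : Type v} [AddCommGroup V] [Module k V] [FiniteDimensional k V]

/-- The coordinate ring of a vector space. -/
abbrev VPoly (k : Type u) [Field k] (V : Type v) [AddCommGroup V] [Module k V] : Type u :=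
  MvPolynomial (Fin (Module.finrank k V)) k

/-- A vector as a point. -/
def vp (v : V) : Pt k (VPoly k V) := ofVec ((Module.finBasis k V).equivFun v)

/-- A point as a vector. -/
def pv (y : Pt k (VPoly k V)) : V := (Module.finBasis k V).equivFun.symm (vec y)

@[simp] lemma pv_vp (v : V) : pv (k := k) (vp v) = v := by simp [pv, vp]

@[simp] lemma vp_pv (y : Pt k (VPoly k V)) : vp (pv (V := V) y) = y := by
  rw [pv, vp, LinearEquiv.apply_symm_apply, ofVec_vec]

lemma pv_eq_zero_iff (y : Pt k (VPoly k V)) : pv (V := V) y = 0 ↔ vec y = 0 := by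
  rw [pv, LinearEquiv.map_eq_zero_iff]

lemma vec_smul_eq (c : k) (y : Pt k (VPoly k V)) : ofVec (c • vec y) = vp (V := V) (c • pv y) := by
  rw [pv, vp, map_smul, LinearEquiv.apply_symm_apply]

lemma isMor_vp {R : Type u} [CommRing R] [Algebra k R] {F : Pt k R → V}
    (h : ∀ φ : V →ₗ[k] k, IsReg fun x => φ (F x)) : IsMor fun x => vp (k := k) (F x) :=
  isMor_ofVec fun i => h ((LinearMap.proj i).comp (Module.finBasis k V).equivFun.toLinearMap)

lemma isReg_pv (φ : V →ₗ[k] k) : IsReg fun y : Pt k (VPoly k V) => φ (pv y) := by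
  have e : (fun y : Pt k (VPoly k V) => φ (pv y)) = fun y => ∑ i, vec y i * φ (Module.finBasis k V i) := by
    funext y
    rw [pv, Module.Basis.equivFun_symm_apply, map_sum]
    exact Finset.sum_congr rfl fun i _ => by rw [map_smul, smul_eq_mul]
  rw [e]
  exact IsReg.sum _ fun i _ => (isReg_vec i).mul (IsReg.const _)

lemma isClosed_pv_mem (W : Submodule k V) : IsClosed {y : Pt k (VPoly k V) | pv y ∈ W} := by
  have e : {y : Pt k (VPoly k V) | pv y ∈ W} = ⋂ φ ∈ W.dualAnnihilator, {y | φ (pv y) = 0} := by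
    ext y
    simp only [Set.mem_ofPred_eq, Set.mem_iInter]
    conv_lhs => rw [← Subspace.dualAnnihilator_dualCoannihilator_eq (W := W), Submodule.mem_dualCoannihilator]
  rw [e]
  exact isClosed_biInter fun φ _ => (isReg_pv φ).isClosed_eq (IsReg.const 0)

lemma isClosed_pv_eq_zero : IsClosed {y : Pt k (VPoly k V) | pv (V := V) y = 0} := by
  simpa using isClosed_pv_mem (k := k) (⊥ : Submodule k V)

variable {A : Type u} [CommRing A] [HopfAlgebra k A] {K : Subgroup (Pt k A)}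

/-- The contragredient representation. -/
def RegRep.dual (r : RegRep K V) : RegRep K (Module.Dual k V) where
  ρ g := (r.ρ g⁻¹).dualMap
  map_one := by rw [inv_one, r.map_one]; rfl
  map_mul g hg h hh := by
    rw [mul_inv_rev, r.map_mul _ (inv_mem hh) _ (inv_mem hg)]
    rfl
  reg Φ f := by
    obtain ⟨v, rfl⟩ := (Module.evalEquiv k V).surjective Φ
    exact (r.reg f v).comp IsMor.id.inv

variable [IsAlgClosed k]

/-- **Fixed lines**: a connected solvable subgroup fixes a line in every non-zero closed stable cone. -/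
theorem RegRep.exists_weight_in_cone (r : RegRep K V) {H : Subgroup (Pt k A)} (hHK : H ≤ K)
    (hH : IsPreconnected (H : Set (Pt k A))) (hs : IsSol H) {Z : Set (Pt k (VPoly k V))} (hZc : IsClosed Z)
    (hcone : ∀ c : k, c ≠ 0 → ∀ y ∈ Z, vp (V := V) (c • pv y) ∈ Z)
    (hstab : ∀ h ∈ H, ∀ y ∈ Z, vp (r.ρ h (pv y)) ∈ Z) (hne : ∃ y ∈ Z, pv (V := V) y ≠ 0) :
    ∃ y ∈ Z, pv (V := V) y ≠ 0 ∧ r.IsWeight H (pv y) := by
  classical
  obtain ⟨W, ⟨hWs, ⟨y₀, hy₀, hy₀W, hy₀ne⟩⟩, hmin⟩ := wellFounded_lt.has_min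
    {W : Submodule k V | r.Stable H W ∧ ∃ y ∈ Z, pv y ∈ W ∧ pv (V := V) y ≠ 0}
    (let ⟨y, hy, hy'⟩ := hne; ⟨⊤, fun _ _ _ _ => trivial, y, hy, trivial, hy'⟩)
  obtain ⟨r₁, hr₁⟩ := (r.mono hHK).exists_sub hWs
  have : Nontrivial W := ⟨⟨⟨_, hy₀W⟩, 0, fun e => hy₀ne (congrArg Subtype.val e)⟩⟩
  obtain ⟨f, -, hf0, hf⟩ := r₁.dual.exists_weight_of_isSol le_rfl hH hs (W := ⊤) top_ne_bot
    fun _ _ _ _ => trivial
  obtain ⟨F, hF⟩ : ∃ F : V →ₗ[k] k, ∀ w : W, F w = f w := by
    obtain ⟨p, hp⟩ := W.subtype.exists_leftInverse_of_injective W.ker_subtype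
    exact ⟨f.comp p, fun w => congrArg f (LinearMap.congr_fun hp w)⟩
  -- the functional is an eigenfunctional
  have hwt : ∀ h ∈ H, ∃ c : k, ∀ u ∈ W, F (r.ρ h u) = c * F u := by
    intro h hh
    obtain ⟨c, hc⟩ := hf h⁻¹ (inv_mem hh)
    refine ⟨c, fun u hu => ?_⟩
    have h' := LinearMap.congr_fun hc ⟨u, hu⟩
    simp only [RegRep.dual, inv_inv, LinearMap.dualMap_apply, LinearMap.smul_apply, smul_eq_mul] at h'
    rw [← hF, ← hF, hr₁ h hh] at h'
    exact h'
  have hker : ∀ y ∈ Z, pv y ∈ W → F (pv y) = 0 → pv (V := V) y = 0 := by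
    intro y hy hyW hFy
    by_contra hne'
    refine hmin (W ⊓ LinearMap.ker F) ⟨fun h hh u hu => ⟨hWs h hh u hu.1, ?_⟩, y, hy, ⟨hyW, hFy⟩, hne'⟩
      (lt_of_le_of_ne inf_le_left fun e => hf0 (LinearMap.ext fun w => ?_))
    · obtain ⟨c, hc⟩ := hwt h hh
      rw [SetLike.mem_coe, LinearMap.mem_ker, hc u hu.1, LinearMap.mem_ker.1 hu.2, mul_zero]
    · rw [← hF, LinearMap.zero_apply]
      exact LinearMap.mem_ker.1 (e.symm ▸ w.2 : (w : V) ∈ W ⊓ LinearMap.ker F).2
  -- finiteness of the slice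
  let Y₀ : Set (Pt k (VPoly k V)) := {y | y ∈ Z ∧ pv y ∈ W ∧ F (pv y) = 1}
  have hfin : ∀ i, ((fun y => vec y i) '' Y₀).Finite := by
    intro i
    let E : Set (Pt k (Polynomial k ⊗[k] VPoly k V)) :=
      {z | (sndP z ∈ Z ∧ pv (sndP z) ∈ W) ∧ lineCoord (fstP z) * vec (sndP z) i = F (pv (sndP z))}
    have hEc : IsClosed E := ((hZc.preimage IsMor.sndP.continuous).inter
      ((isClosed_pv_mem W).preimage IsMor.sndP.continuous)).inter
      (((isReg_lineCoord.comp IsMor.fstP).mul ((isReg_vec i).comp IsMor.sndP)).isClosed_eq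
        ((isReg_pv F).comp IsMor.sndP))
    have hEcone : IsConical E := by
      rintro c z hc ⟨⟨h1, h2⟩, h3⟩
      refine ⟨⟨?_, ?_⟩, ?_⟩ <;> simp only [fstP_pair, sndP_pair, vec_smul_eq, pv_vp]
      · exact hcone c hc _ h1
      · exact W.smul_mem c h2
      · rw [← vec_smul_eq, vec_ofVec, map_smul, Pi.smul_apply, smul_eq_mul, smul_eq_mul, ← h3]
        ring
    have hproj := isClosed_image_cone hEc hEcone
    have h0 : linePt (0 : k) ∉ fstP '' {z | z ∈ E ∧ vec (sndP z) ≠ 0} := by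
      rintro ⟨z, ⟨⟨⟨h1, h2⟩, h3⟩, h4⟩, hz⟩
      rw [hz, lineCoord_linePt, zero_mul] at h3
      exact h4 ((pv_eq_zero_iff _).1 (hker _ h1 h2 h3.symm))
    refine (((finite_lineCoord hproj h0).image fun u => u⁻¹).insert 0).subset ?_
    rintro _ ⟨y, ⟨hy, hyW, hy1⟩, rfl⟩
    by_cases hyi : vec y i = 0
    · exact Or.inl hyi
    refine Or.inr ⟨(vec y i)⁻¹, ⟨linePt (vec y i)⁻¹, ⟨pair (linePt (vec y i)⁻¹) y, ⟨⟨⟨?_, ?_⟩, ?_⟩, ?_⟩, ?_⟩, ?_⟩,
      inv_inv _⟩
    · simpa using hy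
    · simpa using hyW
    · simp [hy1, hyi]
    · simp only [sndP_pair]
      exact fun e => hyi (congrFun e i)
    · simp
    · simp
  -- a point of the slice is fixed
  have hFy₀ : F (pv y₀) ≠ 0 := fun h => hy₀ne (hker y₀ hy₀ hy₀W h)
  set z₀ := (F (pv y₀))⁻¹ • pv (V := V) y₀ with hz₀
  have hz₀Z : vp z₀ ∈ Z := hcone _ (inv_ne_zero hFy₀) _ hy₀
  have hz₀W : z₀ ∈ W := W.smul_mem _ hy₀W
  have hz₀1 : F z₀ = 1 := by rw [hz₀, map_smul, smul_eq_mul, inv_mul_cancel₀ hFy₀]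
  have hz₀ne : z₀ ≠ 0 := fun e => by rw [e, map_zero] at hz₀1; exact zero_ne_one hz₀1
  refine ⟨vp z₀, hz₀Z, by rwa [pv_vp], ?_⟩
  rw [pv_vp]
  let χ : Pt k A → k := fun h => F (r.ρ h⁻¹ z₀)
  have hχ : IsReg χ := (r.reg F z₀).comp IsMor.id.inv
  have hχinv : ∀ h ∈ H, χ h * F (r.ρ h z₀) = 1 := by
    intro h hh
    obtain ⟨c, hc⟩ := hwt h⁻¹ (inv_mem hh)
    show F (r.ρ h⁻¹ z₀) * _ = 1
    rw [hc z₀ hz₀W, hz₀1, mul_one, ← hc _ (hWs h hh z₀ hz₀W), r.inv_apply (hHK hh), hz₀1]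
  have hmem : ∀ h ∈ H, vp (V := V) (χ h • r.ρ h z₀) ∈ Y₀ := fun h hh => by
    refine ⟨?_, ?_, ?_⟩
    · have := hcone (χ h) (left_ne_zero_of_mul_eq_one (hχinv h hh)) _ (hstab h hh _ hz₀Z)
      rwa [pv_vp, pv_vp] at this
    · rw [pv_vp]
      exact W.smul_mem _ (hWs h hh z₀ hz₀W)
    · rw [pv_vp, map_smul, smul_eq_mul, hχinv h hh]
  intro h hh
  refine ⟨F (r.ρ h z₀), ?_⟩
  have key : χ h • r.ρ h z₀ = z₀ := by
    apply (Module.finBasis k V).equivFun.injective
    funext i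
    let φ : V →ₗ[k] k := (LinearMap.proj i).comp (Module.finBasis k V).equivFun.toLinearMap
    have hreg : IsReg fun x => χ x * φ (r.ρ x z₀) := hχ.mul (r.reg φ z₀)
    have := hreg.const_of_finite hH ((hfin i).subset ?_) hh H.one_mem
    · simp only [χ, inv_one, r.map_one, Module.End.one_apply, hz₀1, one_mul] at this
      rw [map_smul, Pi.smul_apply, smul_eq_mul]
      exact this
    · rintro _ ⟨x, hx, rfl⟩
      exact ⟨_, hmem x hx, by simp [vp, φ]⟩
  rw [show F (r.ρ h z₀) • z₀ = F (r.ρ h z₀) • (χ h • r.ρ h z₀) by rw [key], smul_smul, mul_comm, hχinv h hh,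
    one_smul]

end Groth.Agent.BorelLib
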